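import Mathlib
import Cfsg.Agent.Isaacs.BInd
import Cfsg.Agent.Char.Indicator

/-! Lemmas around Brauer's theorem: parts of elements, permutation characters. -/

set_option autoImplicit false

open scoped ComplexConjugate

namespace Cfsg.Agent.Isaacs

open Cfsg Cfsg.Agent.Char Subgroup

/-- `x ↦ x ^ k` extracts the part of order coprime to `m`. -/
structure PartExp (G : Type*) [Group G] (m n k : ℕ) : Prop where
  cop : m.Coprime n
  kill : ∀ u : G, (orderOf u).Coprime n → u ^ k = 1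
  fix : ∀ v : G, (orderOf v).Coprime m → v ^ k = v
  left : ∀ x : G, orderOf (x * (x ^ k)⁻¹) ∣ m
  right : ∀ x : G, orderOf (x ^ k) ∣ n

variable {G : Type*} [Group G] {m n k : ℕ}

theorem exists_partExp (h : Nat.card G ∣ m * n) (hc : m.Coprime n) : ∃ k, PartExp G m n k := by
  obtain ⟨k, h1, h2⟩ := Nat.chineseRemainder hc 0 1
  have h0 : ∀ x : G, orderOf x ∣ m * n := fun x => (orderOf_dvd_natCard x).trans h
  have h3 : m ∣ k := (Nat.modEq_zero_iff_dvd).mp h1
  refine ⟨k, hc, fun u hu => orderOf_dvd_iff_pow_eq_one.mp ((hu.dvd_of_dvd_mul_right (h0 u)).trans h3),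
    fun v hv => ?_, fun x => orderOf_dvd_iff_pow_eq_one.mpr ?_,
    fun x => orderOf_dvd_iff_pow_eq_one.mpr ?_⟩
  · conv_rhs => rw [← pow_one v]
    exact pow_eq_pow_iff_modEq.mpr (h2.of_dvd (hv.dvd_of_dvd_mul_left (h0 v)))
  · rw [((Commute.refl x).pow_right k).inv_right.mul_pow, inv_pow, mul_inv_eq_one, ← pow_mul,
      pow_eq_pow_iff_modEq]
    have := (h2.mul_right' m).symm
    rw [one_mul, mul_comm n] at this
    exact this.of_dvd (h0 x)
  · rw [← pow_mul]
    exact orderOf_dvd_iff_pow_eq_one.mp ((h0 x).trans (Nat.mul_dvd_mul_right h3 n))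

theorem PartExp.mul_eq (h : PartExp G m n k) {u v : G} (hc : Commute u v)
    (hu : (orderOf u).Coprime n) (hv : (orderOf v).Coprime m) : (u * v) ^ k = v := by
  rw [hc.mul_pow, h.kill u hu, h.fix v hv, one_mul]

theorem PartExp.of_inj {H : Type*} [Group H] (h : PartExp G m n k) (f : H →* G)
    (hf : Function.Injective f) : PartExp H m n k where
  cop := h.cop
  kill u hu := hf (by rw [map_pow, h.kill _ (by rwa [orderOf_injective f hf]), map_one])
  fix u hu := hf (by rw [map_pow, h.fix _ (by rwa [orderOf_injective f hf])])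
  left x := by simpa [← orderOf_injective f hf] using h.left (f x)
  right x := by simpa [← orderOf_injective f hf] using h.right (f x)

theorem PartExp.mul_pow [Finite G] (h : PartExp G m n k) (hG : Group.IsNilpotent G) (a b : G) :
    (a * b) ^ k = a ^ k * b ^ k := by
  have h1 : ∀ x : G, ∃ u ∈ piCore {q | ¬ q ∣ n} G, ∃ v ∈ piCore {q | ¬ q ∣ n}ᶜ G, x = u * v := fun x => by
    refine (Core.mem_sup_of_le_normalizer norm_top).mp (((Core.le_iSup_pCore_of_nilpotent ⊤
      inferInstance).trans (iSup_le fun p => ?_)) (mem_top x))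
    have := Fact.mk p.2
    by_cases hp : (p : ℕ) ∈ {q | ¬ q ∣ n}
    · exact (Core.pCore_le_piCore hp).trans le_sup_left
    · exact (Core.pCore_le_piCore hp).trans le_sup_right
  have h2 : ∀ u ∈ piCore {q | ¬ q ∣ n} G, ∀ v ∈ piCore {q | ¬ q ∣ n}ᶜ G, Commute u v :=
    fun u hu v hv => (Core.piCore_le_centralizer disjoint_compl_right hu v hv).symm
  have h3 : ∀ u ∈ piCore {q | ¬ q ∣ n} G, ∀ v ∈ piCore {q | ¬ q ∣ n}ᶜ G, (u * v) ^ k = v :=
    fun u hu v hv => h.mul_eq (h2 u hu v hv) (Nat.coprime_of_dvd fun q hq =>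
      Core.isPiSubgroup_iff_orderOf.mp (Core.piCore_isPiSubgroup _) u hu q hq)
      (Nat.coprime_of_dvd fun q hq e e' => hq.one_lt.ne' (Nat.eq_one_of_dvd_coprimes h.cop e' (not_not.mp
        (Core.isPiSubgroup_iff_orderOf.mp (Core.piCore_isPiSubgroup _) v hv q hq e))))
  obtain ⟨u, hu, v, hv, rfl⟩ := h1 a
  obtain ⟨u', hu', v', hv', rfl⟩ := h1 b
  rw [h3 u hu v hv, h3 u' hu' v' hv', mul_assoc, ← mul_assoc v, ← (h2 u' hu' v hv).eq, mul_assoc,
    ← mul_assoc u, h3 _ (mul_mem hu hu') _ (mul_mem hv hv')]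

/-- A permutation character is a sum of transitive ones. -/
theorem perm_eq_sum [Fintype G] (X : Type*) [MulAction G X] [Finite X] (P : Subgroup G → Prop)
    (h : ∀ x : X, ∃ g : G, P (MulAction.stabilizer G (g • x))) :
    ∃ a : Subgroup G → ℕ, (∀ U, a U ≠ 0 → P U) ∧
      (fun g : G => (Nat.card (MulAction.fixedBy X g) : ℂ)) =
        ∑ U : Subgroup G, (a U : ℂ) • indFun U fun _ => 1 := by
  classical
  have := Fintype.ofFinite X
  choose s hs using h
  let r : MulAction.orbitRel.Quotient G X → X := fun ω => s ω.out • ω.out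
  have hr : ∀ ω, Quotient.mk'' (r ω) = ω := fun ω =>
    (Quotient.sound' (MulAction.mem_orbit _ _)).trans ω.out_eq'
  refine ⟨fun U => (Finset.univ.filter fun ω => MulAction.stabilizer G (r ω) = U).card, fun U hU => ?_, ?_⟩
  · obtain ⟨ω, hω⟩ := Finset.card_ne_zero.mp hU
    exact (Finset.mem_filter.mp hω).2 ▸ hs _
  simp only [Nat.cast_smul_eq_nsmul]
  rw [← Finset.sum_comp (fun U : Subgroup G => indFun U fun _ => 1)
    (fun ω => MulAction.stabilizer G (r ω)) |>.trans (Finset.sum_subset (Finset.subset_univ _)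
      fun U _ hU => by
        rw [Finset.filter_eq_empty_iff.mpr fun ω _ e => hU (Finset.mem_image.mpr ⟨ω, by simp, e⟩)]
        simp)]
  funext g
  rw [Finset.sum_apply, ← Nat.card_congr (Equiv.sigmaFiberEquiv fun x : MulAction.fixedBy X g =>
    (Quotient.mk'' x.1 : MulAction.orbitRel.Quotient G X)), Nat.card_sigma, Nat.cast_sum]
  refine Finset.sum_congr rfl fun ω _ => ?_
  have := IndTI.card_fixedBy_eq_indFun (MulAction.orbit G (r ω)) ⟨r ω, MulAction.mem_orbit_self _⟩ g
  rw [show MulAction.stabilizer G (⟨r ω, MulAction.mem_orbit_self _⟩ : MulAction.orbit G (r ω)) =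
    MulAction.stabilizer G (r ω) from by ext; simp [Subtype.ext_iff]] at this
  rw [← this]
  congr 1
  exact Nat.card_congr
    { toFun := fun x => ⟨⟨x.1.1, Quotient.exact' (x.2.trans (hr ω).symm)⟩, Subtype.ext x.1.2⟩
      invFun := fun x => ⟨⟨x.1.1, congrArg Subtype.val x.2⟩, (Quotient.sound' x.1.2).trans (hr ω)⟩
      left_inv := fun _ => rfl
      right_inv := fun _ => rfl }

theorem ind_one_mul_ind_one [Fintype G] (H K : Subgroup G) : ∃ a : Subgroup G → ℕ,
    (∀ U, a U ≠ 0 → U ≤ H) ∧ indFun H (fun _ => 1) * indFun K (fun _ => 1) =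
      ∑ U : Subgroup G, (a U : ℂ) • indFun U (fun _ => 1) := by
  obtain ⟨a, h1, h2⟩ := perm_eq_sum (G := G) ((G ⧸ H) × (G ⧸ K)) (· ≤ H) fun x => ⟨x.1.out⁻¹, fun g hg => by
    have := congrArg Prod.fst (MulAction.mem_stabilizer_iff.mp hg)
    have h1 : x.1.out⁻¹ • x.1 = ((1 : G) : G ⧸ H) := by
      rw [inv_smul_eq_iff, MulAction.Quotient.smul_mk, smul_eq_mul, mul_one, QuotientGroup.out_eq']
    rw [Prod.smul_fst, Prod.smul_fst, h1, MulAction.Quotient.smul_mk, eq_comm, QuotientGroup.eq] at this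
    simpa using this⟩
  refine ⟨a, h1, h2 ▸ funext fun g => ?_⟩
  rw [card_fixedBy_prod, Pi.mul_apply, IndTI.indFun_one_eq_card_fixedBy,
    IndTI.indFun_one_eq_card_fixedBy, Nat.cast_mul]

theorem exists_const_mem {X : Type*} [Finite X] (R : NonUnitalSubring (X → ℤ)) {p : ℕ} (hp : p.Prime)
    (h : ∀ x, ∃ f ∈ R, ¬ (p : ℤ) ∣ f x) : ∃ m : ℤ, ¬ (p : ℤ) ∣ m ∧ (fun _ => m) ∈ R := by
  classical
  have := Fintype.ofFinite X
  have hp' := Nat.prime_iff_prime_int.mp hp
  choose f h1 h2 using h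
  have h3 : ∀ (s : Finset X) (a : X → X → ℤ) (c : X → ℤ), (∀ x, a x ∈ R) →
      ∏ x ∈ s, ((fun _ => c x) - a x) - (fun _ => ∏ x ∈ s, c x) ∈ R := fun s a c ha => by
    induction s using Finset.induction_on with
    | empty => simp [show (fun _ : X => (1 : ℤ)) = 1 from rfl]
    | insert x s hx ih =>
      have := R.sub_mem (R.sub_mem (zsmul_mem ih (c x)) (R.mul_mem (ha x) ih))
        (zsmul_mem (ha x) (∏ x ∈ s, c x))
      convert this using 1
      funext y
      simp only [Finset.prod_insert hx, Pi.sub_apply, Pi.mul_apply, Pi.smul_apply, smul_eq_mul]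
      ring
  have h4 : ∀ x k, f x ^ (k + 1) ∈ R := fun x k => by
    induction k with
    | zero => simpa using h1 x
    | succ k ih => rw [pow_succ]; exact R.mul_mem ih (h1 x)
  have h5 := h3 Finset.univ (fun x => f x ^ (p - 2 + 1)) (fun _ => 1) fun x => h4 x _
  set F := ∏ x, ((fun _ => (1 : ℤ)) - f x ^ (p - 2 + 1)) - fun _ => ∏ _x : X, (1 : ℤ) with hF
  have h6 : ∀ y, ¬ (p : ℤ) ∣ F y := fun y e => by
    have : (p : ℤ) ∣ (∏ x, ((fun _ => (1 : ℤ)) - f x ^ (p - 2 + 1)) : X → ℤ) y := by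
      rw [Finset.prod_apply]
      refine Dvd.dvd.trans ?_ (Finset.dvd_prod_of_mem _ (Finset.mem_univ y))
      rw [show p - 2 + 1 = p - 1 by have := hp.two_le; omega]
      exact (Int.ModEq.pow_card_sub_one_eq_one hp
        (hp'.irreducible.coprime_iff_not_dvd.mpr (h2 y)).symm).dvd
    exact hp'.not_dvd_one (by simpa [hF] using dvd_sub this e)
  have h7 := R.neg_mem (h3 Finset.univ (fun _ => F) F fun _ => h5)
  refine ⟨∏ x, F x, fun e => ?_, ?_⟩
  · obtain ⟨y, -, hy⟩ := hp'.exists_mem_finset_dvd e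
    exact h6 y hy
  · convert h7 using 1
    funext y
    rw [Pi.neg_apply, Pi.sub_apply, Finset.prod_apply, Finset.prod_eq_zero (f := fun x => ((fun _ => F x) - F : X → ℤ) y) (Finset.mem_univ y) (sub_self _)]
    simp

end Cfsg.Agent.Isaacs
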