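import Mathlib
import Cfsg.Agent.Isaacs.Canon
import Cfsg.Agent.Isaacs.Ch8

/-! The Glauberman correspondence for a cyclic operator group. -/

set_option autoImplicit false

open scoped ComplexConjugate commutatorElement

namespace Cfsg.Agent.Isaacs

open Cfsg Cfsg.Agent.Char Subgroup

variable {G : Type*} [Group G] {A B C H K L M N S T : Subgroup G} {θ φ ψ χ η β : G → ℂ}
  {s : G} {p : ℕ}

theorem comm_zpowers {x : G} (h : Commute x s) : ∀ t ∈ zpowers s, Commute x t := by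
  rintro _ ⟨k, rfl⟩; exact h.zpow_right k

theorem commutator_sup_zpowers (hs : s ∈ normalizer (K : Set G)) :
    ⁅K ⊔ zpowers s, K ⊔ zpowers s⁆ ≤ K := by
  have hn := zpowers_le.mpr hs
  refine commutator_le.mpr fun a ha b hb => ?_
  obtain ⟨x, hx, u, hu, rfl⟩ := (Core.mem_sup_of_le_normalizer hn).mp ha
  obtain ⟨y, hy, v, hv, rfl⟩ := (Core.mem_sup_of_le_normalizer hn).mp hb
  have hc : Commute u v := by obtain ⟨k, rfl⟩ := hu; exact comm_zpowers (Commute.zpow_left rfl k) v hv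
  have := K.mul_mem (K.mul_mem (K.mul_mem hx (conj_mem hn hu hy)) (conj_mem hn hv (K.inv_mem hx)))
    (K.inv_mem hy)
  convert this using 1
  rw [commutatorElement_def, show x * u * (y * v) * (x * u)⁻¹ * (y * v)⁻¹ =
    x * (u * y) * (v * u⁻¹) * x⁻¹ * v⁻¹ * y⁻¹ by group, ← hc.inv_left.eq]
  group

/-- `s` acts coprimely on `K` with fixed points `C`. -/
structure Cyc (K C : Subgroup G) (s : G) : Prop where
  norm : s ∈ normalizer (K : Set G)
  cop : (Nat.card K).Coprime (orderOf s)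
  mem : ∀ x, x ∈ C ↔ x ∈ K ∧ Commute x s

theorem Cyc.le (c : Cyc K C s) : C ≤ K := fun x hx => ((c.mem x).mp hx).1
theorem Cyc.comm (c : Cyc K C s) : ∀ x ∈ C, ∀ t ∈ zpowers s, Commute x t := fun x hx =>
  comm_zpowers ((c.mem x).mp hx).2
theorem Cyc.hn (c : Cyc K C s) : K ⊔ zpowers s ≤ normalizer (K : Set G) :=
  sup_le le_normalizer (zpowers_le.mpr c.norm)
theorem Cyc.hc (c : Cyc K C s) : (Nat.card K).Coprime (K.relIndex (K ⊔ zpowers s)) := by
  rw [Core.relIndex_sup_of_le_normalizer (zpowers_le.mpr c.norm)]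
  exact c.cop.coprime_dvd_right (Nat.card_zpowers s ▸ Core.relIndex_dvd_card' _ _)

theorem Cyc.conj (c : Cyc K C s) {z a b : G} (ha : a ∈ C) (hb : b ∈ C)
    (e : z * (a * s) * z⁻¹ = b * s) : Commute z s := by
  obtain ⟨j, h1, h2⟩ := Nat.chineseRemainder c.cop 0 1
  have h : ∀ a ∈ C, (a * s) ^ j = s := fun a ha => by
    rw [((c.mem a).mp ha).2.mul_pow, orderOf_dvd_iff_pow_eq_one.mp
      ((K.orderOf_dvd_natCard (c.le ha)).trans ((Nat.modEq_zero_iff_dvd).mp h1)), one_mul,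
      pow_eq_pow_iff_modEq.mpr h2, pow_one]
  have := congrArg (· ^ j) e
  simp only [conj_pow, h a ha, h b hb] at this
  exact mul_inv_eq_iff_eq_mul.mp this

variable [Finite G]

theorem Cyc.inn_sh (c : Cyc K C s) (hl : K ≤ M) (hs : s ∈ M) (h : Inv K M θ) (h' : Inv K M φ) :
    inn K (sh s θ) (sh s φ) = inn C (sh s θ) (sh s φ) :=
  inn_sh_eq c.le c.norm (fun z hz _ ha _ hb e => (c.mem z).mpr ⟨hz, c.conj ha hb e⟩)
    (fun z hz _ ha => h z hz _ (M.mul_mem (hl ha) hs)) fun z hz _ ha => h' z hz _ (M.mul_mem (hl ha) hs)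

theorem Cyc.slice (c : Cyc K C s) (hl : K ≤ M) (hs : s ∈ M) (h : Chr M χ) (hβ : Chr C β) :
    Chr (zpowers s) fun t => inn C (sh t χ) β :=
  h.slice (c.le.trans hl) (zpowers_le.mpr hs) c.comm hβ

theorem Cyc.under (c : Cyc K C s) (hl : K ≤ M) (hs : s ∈ M) (h : Chr M χ) (hβ : Chr C β)
    (e : inn C (sh s χ) β ≠ 0) : inn C χ β ≠ 0 := fun h0 =>
  e ((c.slice hl hs h hβ).eqv_zero (by rw [sh_one]; exact h0) s (mem_zpowers s))

theorem Cyc.inj (c : Cyc K C s) (hn : M ≤ normalizer (K : Set G)) (hl : K ≤ M) (hs : s ∈ M)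
    (h : Chr M χ) (h' : Chr M ψ) (hK : Irr K χ) (hK' : Irr K ψ)
    (e : inn C (sh s χ) (sh s ψ) ≠ 0) : Eqv K χ ψ :=
  hK.eqv hK' fun h0 => e (by
    rw [← c.inn_sh hl hs (h.inv.mono hl le_rfl) (h'.inv.mono hl le_rfl), h.inn_sh_eq_zero hn hl h' h0 hs])

theorem Cyc.exists_corr (c : Cyc K C s) (hn : M ≤ normalizer (K : Set G)) (hl : K ≤ M)
    (hc : (Nat.card K).Coprime (K.relIndex M)) (hs : s ∈ M) (h : Canon K M χ) :
    ∃ (β : G → ℂ) (ε : ℤ), Irr C β ∧ (ε = 1 ∨ ε = -1) ∧ Eqv C (sh s χ) ((ε : ℂ) • β) := by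
  have h1 : Gen C (sh s χ) := Inv.gen_of (fun a ha x hx => by
    rw [sh, sh, ← h.chr.inv a (hl (c.le ha)) _ (M.mul_mem (hl (c.le hx)) hs), mul_assoc _ _ s,
      ((c.mem a).mp ha).2.inv_left.eq]
    simp only [mul_assoc]) fun β hβ =>
      Galois.exists_int_of_forall_pow (c.slice hl hs h.chr hβ.chr).gen (g := ⟨s, mem_zpowers s⟩)
        fun k hk => Eqv.inn_left fun x hx => h.apply_pow hn hl hc (c.le hx) hs ((c.mem x).mp hx).2 c.cop
          (by rwa [← orderOf_coe] at hk)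
  rcases h1.irr_or (by
    rw [← c.inn_sh hl hs (h.chr.inv.mono hl le_rfl) (h.chr.inv.mono hl le_rfl),
      h.chr.inn_sh_self hn hl h.res hs]) with e | e
  · exact ⟨_, 1, e, Or.inl rfl, fun x _ => by simp⟩
  · exact ⟨_, -1, e, Or.inr rfl, fun x _ => by simp⟩

theorem exists_inn_sh_ne (hC : C ≤ M) (hs : s ∈ M) (h1 : β 1 ≠ 0)
    (h : ∀ c ∈ C, ∀ z, z * s * z⁻¹ = c * s → c = 1) : ∃ ψ, Irr M ψ ∧ inn C (sh s ψ) β ≠ 0 := by
  classical
  have := Fintype.ofFinite C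
  by_contra! hc
  have h2 : ∑ ψ : IrrCharacter M, conj (ez M ψ s) * (Nat.card C * inn C (sh s (ez M ψ)) β) = 0 :=
    Finset.sum_eq_zero fun ψ _ => by rw [hc _ (irr_ez.mpr ψ.2), mul_zero, mul_zero]
  simp only [card_mul_inn, Finset.mul_sum] at h2
  rw [Finset.sum_comm, Finset.sum_eq_single 1 (fun c _ hc1 => ?_) (by simp)] at h2
  · have := sum_irr_mul_conj_of_isConj (IsConj.refl (⟨s, hs⟩ : M))
    refine mul_ne_zero (this ▸ card_ne_zero) ((map_ne_zero conj).mpr h1)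
      ((Finset.sum_mul _ _ _).trans (Eq.trans (Finset.sum_congr rfl fun ψ _ => ?_) h2))
    rw [sh, coe_one, one_mul, ez_mem _ hs]
    ring
  · have := sum_irr_mul_conj_of_not_isConj (g := ⟨_, M.mul_mem (hC c.2) hs⟩) (h := (⟨s, hs⟩ : M))
      fun e => by
        obtain ⟨z, hz⟩ := isConj_iff.mp e.symm
        exact hc1 (Subtype.ext (h c c.2 z (congrArg Subtype.val hz)))
    refine Eq.trans (Finset.sum_congr rfl fun ψ _ => ?_) ((Finset.sum_mul _ _ (conj (β c))).symm.trans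
      (mul_eq_zero_of_left this _))
    rw [sh, ez_mem _ hs, ez_mem _ (M.mul_mem (hC c.2) hs)]
    ring

theorem Irr.inv_of_ne (hn : M ≤ normalizer (K : Set G)) (hl : K ≤ M) (hab : ⁅M, M⁆ ≤ K)
    (h : Irr M ψ) (hθ : Irr K θ) (e : inn K ψ θ ≠ 0) {x : G} (hx : ψ x ≠ 0) (hxM : x ∈ M) :
    x ∈ stab K θ := by
  have h1 : K ≤ stab K θ ⊓ M := le_inf hθ.inv.le_stab hl
  obtain ⟨η, -, -, h2⟩ := hθ.exists_ind_of_stab hn h1 inf_le_right le_rfl h e
  by_contra hc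
  exact hx ((h2 x hxM).symm.trans (ind_eq_zero_of_normal
    (norm_of_comm_le inf_le_right (hab.trans h1)) fun e => hc e.1))

theorem Cyc.surj (c : Cyc K C s) (hβ : Irr C β) :
    ∃ χ, Canon K (K ⊔ zpowers s) χ ∧ inn C (sh s χ) β ≠ 0 := by
  have hs : s ∈ K ⊔ zpowers s := mem_sup_right (mem_zpowers s)
  obtain ⟨ψ, h1, h2⟩ := exists_inn_sh_ne (c.le.trans le_sup_left) hs hβ.one_ne fun a ha z e => by
    have := c.conj (z := z) C.one_mem ha (by rw [one_mul, e])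
    rwa [this.eq, mul_inv_cancel_right, right_eq_mul] at e
  obtain ⟨θ, h3, h4⟩ := h1.exists_under le_sup_left
  obtain ⟨x, hx, h5⟩ : ∃ x ∈ C, ψ (x * s) ≠ 0 := by
    by_contra! hc
    exact h2 ((Eqv.inn_left (φ := 0) hc).trans inn_zero_left)
  have h6 := h1.inv_of_ne c.hn le_sup_left (commutator_sup_zpowers c.norm) h3 h4 h5
    (mul_mem (mem_sup_left (c.le hx)) hs)
  rw [mul_mem_cancel_left (h3.inv.le_stab (c.le hx))] at h6
  obtain ⟨χ, h7, h8⟩ := h3.exists_canon c.hn le_sup_left c.hc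
    ((le_stab c.hn).mp (sup_le h3.inv.le_stab (zpowers_le.mpr h6)))
  obtain ⟨lam, h9, h10, h11⟩ := h1.exists_mul c.hn le_sup_left h7.chr h7.res (by rwa [h8.inn_right])
  refine ⟨χ, h7, fun e => h2 ?_⟩
  rw [Eqv.inn_left (φ := lam s • sh s χ) fun y hy => by
    rw [sh, h11 _ (mul_mem (mem_sup_left (c.le hy)) hs), Pi.mul_apply,
      h9.chr.mul_of_eq (mem_sup_left (c.le hy)) (h10 y (c.le hy)) hs]; rfl, inn_smul_left, e, mul_zero]

theorem Gen.dvd_sub (h : Gen H θ) (hp : p.Prime) {x y : G} (hx : x ∈ H) (hy : y ∈ H)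
    (ho : ∃ k, orderOf x = p ^ k) (hc : Commute x y) {n : ℤ} (e : θ (x * y) - θ y = n) :
    (p : ℤ) ∣ n := by
  obtain ⟨M, hM⟩ := Block.exists_isPModular hp
  rw [← Block.val_intCast_lt_one_iff hM, ← e]
  exact Block.val_mul_sub_lt_one_of_mem_VC hM (Block.isGenChar_mem_VC h) (x := ⟨x, hx⟩) (y := ⟨y, hy⟩)
    (by rwa [← orderOf_coe]) (Subtype.ext hc)

/-- Congruence of generalized characters. -/
def Cong (p : ℕ) (C : Subgroup G) (θ φ : G → ℂ) : Prop :=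
  ∃ Δ, Gen C Δ ∧ Eqv C θ (φ + (p : ℂ) • Δ)

omit [Finite G] in
theorem Eqv.cong (e : Eqv C θ φ) : Cong p C θ φ := ⟨0, gen_zero, fun x hx => by simp [e x hx]⟩
omit [Finite G] in
theorem Cong.trans (h : Cong p C θ φ) (h' : Cong p C φ ψ) : Cong p C θ ψ := by
  obtain ⟨a, h1, h2⟩ := h
  obtain ⟨b, h3, h4⟩ := h'
  exact ⟨b + a, h3.add h1, fun x hx => by simp [h2 x hx, h4 x hx, mul_add, add_assoc]⟩
omit [Finite G] in
theorem Cong.res (h : Cong p C θ φ) (hl : B ≤ C) : Cong p B θ φ :=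
  h.imp fun _ h => ⟨h.1.res hl, h.2.mono hl⟩
omit [Finite G] in
theorem Cong.smul (h : Cong p C θ φ) (n : ℤ) : Cong p C ((n : ℂ) • θ) ((n : ℂ) • φ) := by
  obtain ⟨a, h1, h2⟩ := h
  exact ⟨_, h1.smul n, fun x hx => by simp [h2 x hx, mul_add, mul_left_comm]⟩
omit [Finite G] in
theorem Cong.cjg (h : Cong p C θ φ) {g : G} (hg : g ∈ normalizer (C : Set G)) :
    Cong p C (cj g θ) (cj g φ) := by
  obtain ⟨a, h1, h2⟩ := h
  exact ⟨_, h1.cjg hg, h2.cjg hg⟩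
theorem Cong.inn (h : Cong p C θ φ) (hη : Gen C η) : ∃ n : ℤ, inn C θ η = inn C φ η + p * n := by
  obtain ⟨a, h1, h2⟩ := h
  obtain ⟨n, hn⟩ := h1.inn_int hη
  exact ⟨n, by rw [h2.inn_left, inn_add_left, inn_smul_left, hn]⟩
theorem cong_of_inn (hp : p ≠ 0) (h : Inv C C θ) (h' : Inv C C φ)
    (e : ∀ η, Irr C η → ∃ n : ℤ, inn C θ η = inn C φ η + p * n) : Cong p C θ φ := by
  have h0 : (p : ℂ) ≠ 0 := Nat.cast_ne_zero.mpr hp
  refine ⟨(p : ℂ)⁻¹ • (θ - φ), ((h.sub h').smul _).gen_of fun η hη => (e η hη).imp fun n hn => ?_,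
    fun x _ => by simp [h0]⟩
  rw [inn_smul_left, inn_sub_left, hn, add_sub_cancel_left, inv_mul_cancel_left₀ h0]

theorem Cyc.cong (c : Cyc K C s) (hp : p.Prime) (ho : ∃ k, orderOf s = p ^ k) (hl : K ≤ M) (hs : s ∈ M)
    (h : Chr M χ) (h' : Gen C (sh s χ)) : Cong p C χ (sh s χ) :=
  cong_of_inn hp.ne_zero (h.res (c.le.trans hl)).inv h'.inv fun η hη => by
    obtain ⟨a, ha⟩ := (h.res (c.le.trans hl)).gen.inn_int hη.gen
    obtain ⟨b, hb⟩ := h'.inn_int hη.gen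
    obtain ⟨n, hn⟩ := (c.slice hl hs h hη.chr).gen.dvd_sub hp (mem_zpowers s) (one_mem _) ho
      (Commute.one_right s) (n := b - a) (by rw [mul_one, sh_one, ha, hb, Int.cast_sub])
    exact ⟨-n, by rw [ha, hb, ← Int.cast_natCast, ← Int.cast_mul, ← Int.cast_add, mul_neg, ← hn]; simp⟩

end Cfsg.Agent.Isaacs
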