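import Mathlib
import Cfsg.Agent.Isaacs.GlCyc
import Cfsg.Agent.Core.SylowOf
import Cfsg.Agent.Core.Coprime2

/-! The Glauberman correspondence for `p`-groups and solvable operator groups. -/

set_option autoImplicit false

open scoped ComplexConjugate commutatorElement

namespace Cfsg.Agent.Isaacs

open Cfsg Cfsg.Agent.Char Subgroup

variable {G : Type*} [Group G] {A B C D H K L M N P S T U : Subgroup G} {θ φ ψ χ η β ξ : G → ℂ}
  {s : G} {p : ℕ}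

/-- `χ` restricted to `C` is `±β` modulo `p`. -/
def GlP (p : ℕ) (C : Subgroup G) (χ β : G → ℂ) : Prop :=
  ∃ ε : ℤ, (ε = 1 ∨ ε = -1) ∧ Cong p C χ ((ε : ℂ) • β)

theorem GlP.trans (h : GlP p B χ ξ) (hl : C ≤ B) (h' : GlP p C ξ β) : GlP p C χ β := by
  obtain ⟨a, h1, h2⟩ := h
  obtain ⟨b, h3, h4⟩ := h'
  refine ⟨a * b, by rcases h1 with rfl | rfl <;> rcases h3 with rfl | rfl <;> simp,
    (h2.res hl).trans ?_⟩
  rw [Int.cast_mul, mul_smul]
  exact h4.smul a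

theorem GlP.congr (h : GlP p C χ β) (e : Eqv C ψ χ) (e' : Eqv C β η) : GlP p C ψ η :=
  h.imp fun _ h => ⟨h.1, (e.cong.trans h.2).trans (Eqv.cong fun x hx => by simp [e' x hx])⟩

theorem GlP.cjg (h : GlP p C χ β) {g : G} (hg : g ∈ normalizer (C : Set G)) :
    GlP p C (cj g χ) (cj g β) := h.imp fun _ h => ⟨h.1, h.2.cjg hg⟩

theorem Inv.cj_norm (h : Inv T K χ) {a : G} (ha : a ∈ normalizer (T : Set G))
    (hK : a ∈ normalizer (K : Set G)) : Inv T K (cj a χ) := fun t ht x hx => by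
  rw [cj, cj, ← h _ (conj_mem le_rfl ha ht) _ (conj_mem le_rfl hK hx)]
  congr 1; group

theorem inv_of_centralizer (h : A ≤ centralizer (K : Set G)) : Inv A K θ := fun a ha x hx => by
  rw [← h ha x hx, mul_inv_cancel_right]

theorem Inv.sup (h : Inv A K θ) (h' : Inv B K θ) (hA : A ≤ normalizer (K : Set G))
    (hB : B ≤ normalizer (K : Set G)) : Inv (A ⊔ B) K θ :=
  (Isaacs.le_stab (sup_le hA hB)).mp (sup_le ((Isaacs.le_stab hA).mpr h) ((Isaacs.le_stab hB).mpr h'))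

variable [Finite G]

theorem GlP.inn_self (h : GlP p C χ β) (hβ : Irr C β) :
    ∃ ε n : ℤ, (ε = 1 ∨ ε = -1) ∧ inn C χ β = (ε + p * n : ℤ) := by
  obtain ⟨ε, h1, h2⟩ := h
  obtain ⟨n, hn⟩ := h2.inn hβ.gen
  exact ⟨ε, n, h1, by rw [hn, inn_smul_left, hβ.inn_self]; simp⟩

theorem GlP.not_dvd (h : GlP p C χ β) (hp : p.Prime) (hβ : Irr C β) {m : ℤ} (e : inn C χ β = m) :
    ¬ (p : ℤ) ∣ m := by
  obtain ⟨ε, n, h1, h2⟩ := h.inn_self hβ
  rw [h2, Int.cast_inj] at e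
  rw [← e, dvd_add_left (dvd_mul_right _ _)]
  rcases h1 with rfl | rfl <;> simpa using (Nat.prime_iff_prime_int.mp hp).not_dvd_one

theorem GlP.dvd (h : GlP p C χ β) (hβ : Irr C β) (hη : Irr C η) (e : ¬ Eqv C β η) :
    ∃ n : ℤ, inn C χ η = p * n := by
  obtain ⟨ε, -, h2⟩ := h
  obtain ⟨n, hn⟩ := h2.inn hη.gen
  exact ⟨n, by rw [hn, inn_smul_left, hβ.inn_eq_zero hη e]; simp⟩

theorem GlP.eqv (h : GlP p C χ β) (hβ : Irr C β) (hη : Irr C η) {m : ℤ} (e : inn C χ η = m)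
    (hm : ¬ (p : ℤ) ∣ m) : Eqv C β η := by
  by_contra hc
  obtain ⟨n, hn⟩ := h.dvd hβ hη hc
  rw [hn, ← Int.cast_natCast, ← Int.cast_mul, Int.cast_inj] at e
  exact hm ⟨n, e.symm⟩

theorem GlP.unique (h : GlP p C χ β) (h' : GlP p C χ η) (hp : p.Prime) (hβ : Irr C β) (hη : Irr C η) :
    Eqv C β η := by
  obtain ⟨ε, n, -, h2⟩ := h'.inn_self hη
  exact h.eqv hβ hη h2 (h'.not_dvd hp hη h2)

theorem GlP.ne (h : GlP p C χ β) (hp : p.Prime) (hβ : Irr C β) : inn C χ β ≠ 0 := fun e =>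
  h.not_dvd hp hβ (m := 0) (by rw [e, Int.cast_zero]) (dvd_zero _)

/-- The relation `GlP` is a bijection between the `S`-invariant irreducible characters of `K` and
the `A`-invariant irreducible characters of `C`. -/
structure GlData (p : ℕ) (K C S A : Subgroup G) : Prop where
  ex : ∀ χ, Irr K χ → Inv S K χ → ∃ β, Irr C β ∧ Inv A C β ∧ GlP p C χ β
  inj : ∀ χ ψ β, Irr K χ → Inv S K χ → Irr K ψ → Inv S K ψ → Irr C β → GlP p C χ β →
    GlP p C ψ β → Eqv K χ ψ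
  surj : ∀ β, Irr C β → Inv A C β → ∃ χ, Irr K χ ∧ Inv S K χ ∧ GlP p C χ β

theorem GlData.up (h : GlData p K C T T) (hp : p.Prime) (hCK : C ≤ K) (hl : T ≤ S)
    (hT : S ≤ normalizer (T : Set G)) (hK : S ≤ normalizer (K : Set G))
    (hC : S ≤ normalizer (C : Set G)) : GlData p K C S S where
  ex χ h1 h2 := by
    obtain ⟨β, h3, -, h4⟩ := h.ex χ h1 (h2.mono hl le_rfl)
    refine ⟨β, h3, inv_iff_eqv.mpr fun a ha => ?_, h4⟩
    exact ((h4.cjg (hC ha)).congr ((inv_iff_eqv.mp h2 a ha).symm.mono hCK) (.refl _ _)).unique h4 hp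
      (h3.cjg (hC ha)) h3
  inj χ ψ β h1 h2 h3 h4 := h.inj χ ψ β h1 (h2.mono hl le_rfl) h3 (h4.mono hl le_rfl)
  surj β h1 h2 := by
    obtain ⟨χ, h3, h4, h5⟩ := h.surj β h1 (h2.mono hl le_rfl)
    exact ⟨χ, h3, inv_iff_eqv.mpr fun a ha => h.inj _ _ β (h3.cjg (hK ha)) (h4.cj_norm (hT ha) (hK ha))
      h3 h4 h1 ((h5.cjg (hC ha)).congr (.refl _ _) (inv_iff_eqv.mp h2 a ha)) h5, h5⟩

omit [Finite G] in
theorem GlData.congr {S' A' : Subgroup G} (h : GlData p K C S A)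
    (h1 : ∀ χ, Inv S K χ ↔ Inv S' K χ) (h2 : ∀ χ, Inv A C χ ↔ Inv A' C χ) : GlData p K C S' A' := by
  obtain ⟨a, b, c⟩ := h
  simp only [h1, h2] at a b c
  exact ⟨a, b, c⟩

theorem GlData.trans (h : GlData p K B S A) (h' : GlData p B C A T) (hp : p.Prime) (hl : C ≤ B) :
    GlData p K C S T where
  ex χ h1 h2 := by
    obtain ⟨ξ, h3, h4, h5⟩ := h.ex χ h1 h2
    obtain ⟨β, h6, h7, h8⟩ := h'.ex ξ h3 h4
    exact ⟨β, h6, h7, h5.trans hl h8⟩
  inj χ ψ β h1 h2 h3 h4 h5 h6 h7 := by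
    obtain ⟨ξ, a1, a2, a3⟩ := h.ex χ h1 h2
    obtain ⟨γ, a4, -, a5⟩ := h'.ex ξ a1 a2
    obtain ⟨ξ', b1, b2, b3⟩ := h.ex ψ h3 h4
    obtain ⟨γ', b4, -, b5⟩ := h'.ex ξ' b1 b2
    have e := h'.inj ξ ξ' β a1 a2 b1 b2 h5
      (a5.congr (.refl _ _) ((a3.trans hl a5).unique h6 hp a4 h5))
      (b5.congr (.refl _ _) ((b3.trans hl b5).unique h7 hp b4 h5))
    exact h.inj χ ψ ξ' h1 h2 h3 h4 b1 (a3.congr (.refl _ _) e) b3
  surj β h1 h2 := by
    obtain ⟨ξ, h3, h4, h5⟩ := h'.surj β h1 h2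
    obtain ⟨χ, h6, h7, h8⟩ := h.surj ξ h3 h4
    exact ⟨χ, h6, h7, h8.trans hl h5⟩

theorem Cyc.glData (c : Cyc K C s) (hp : p.Prime) (ho : ∃ k, orderOf s = p ^ k) :
    GlData p K C (zpowers s) ⊥ := by
  have hs : s ∈ K ⊔ zpowers s := mem_sup_right (mem_zpowers s)
  have key : ∀ χ, Canon K (K ⊔ zpowers s) χ → ∃ (β : G → ℂ) (ε : ℤ), Irr C β ∧ (ε = 1 ∨ ε = -1) ∧
      Eqv C (sh s χ) ((ε : ℂ) • β) ∧ GlP p C χ β := fun χ h => by
    obtain ⟨β, ε, h1, h2, h3⟩ := c.exists_corr c.hn le_sup_left c.hc hs h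
    exact ⟨β, ε, h1, h2, h3, ε, h2,
      (c.cong hp ho le_sup_left hs h.chr ((h1.gen.smul ε).congr h3.symm)).trans h3.cong⟩
  have ext : ∀ χ, Irr K χ → Inv (zpowers s) K χ → ∃ ψ, Canon K (K ⊔ zpowers s) ψ ∧ Eqv K ψ χ :=
    fun χ h1 h2 => h1.exists_canon c.hn le_sup_left c.hc
      (h1.inv.sup h2 le_normalizer (zpowers_le.mpr c.norm))
  have hb : ∀ β : G → ℂ, Inv ⊥ C β := fun β => inv_of_centralizer bot_le
  refine ⟨fun χ h1 h2 => ?_, fun χ ψ β h1 h2 h3 h4 h5 h6 h7 => ?_, fun β h1 _ => ?_⟩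
  · obtain ⟨ψ, h3, h4⟩ := ext χ h1 h2
    obtain ⟨β, -, h5, -, -, h6⟩ := key ψ h3
    exact ⟨β, h5, hb β, h6.congr (h4.symm.mono c.le) (.refl _ _)⟩
  · obtain ⟨χ', a1, a2⟩ := ext χ h1 h2
    obtain ⟨γ, ε, a3, a4, a5, a6⟩ := key χ' a1
    obtain ⟨ψ', b1, b2⟩ := ext ψ h3 h4
    obtain ⟨γ', ε', b3, b4, b5, b6⟩ := key ψ' b1
    refine a2.symm.trans ((c.inj c.hn le_sup_left hs a1.chr b1.chr a1.res b1.res ?_).trans b2)
    rw [inn_congr a5 b5, inn_smul_left, inn_smul_right, a3.inn_of_eqv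
      ((a6.unique (h6.congr (a2.mono c.le) (.refl _ _)) hp a3 h5).trans
        (b6.unique (h7.congr (b2.mono c.le) (.refl _ _)) hp b3 h5).symm)]
    rcases a4 with rfl | rfl <;> rcases b4 with rfl | rfl <;> simp
  · obtain ⟨χ, h2, h3⟩ := c.surj h1
    obtain ⟨γ, ε, a3, -, a5, a6⟩ := key χ h2
    exact ⟨χ, h2.res, h2.chr.inv.mono le_sup_right le_sup_left,
      a6.congr (.refl _ _) (a3.eqv_of_smul h1 a5 h3).symm⟩

theorem glData_pgroup (hp : p.Prime) (hK : ¬ p ∣ Nat.card K) (S : Subgroup G) (hS : IsPGroup p S)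
    (hn : S ≤ normalizer (K : Set G)) : GlData p K (K ⊓ centralizer (S : Set G)) S ⊥ := by
  have := Fact.mk hp
  have cyc : ∀ (B C : Subgroup G) (s : G), B ≤ K → (∃ k, orderOf s = p ^ k) →
      s ∈ normalizer (B : Set G) → (∀ x, x ∈ C ↔ x ∈ B ∧ Commute x s) → GlData p B C (zpowers s) ⊥ :=
    fun B C s h1 ⟨k, h2⟩ h3 h4 => Cyc.glData ⟨h3, h2 ▸ ((hp.coprime_iff_not_dvd.mpr fun e =>
      hK (e.trans (card_dvd_of_le h1))).pow_left k).symm, h4⟩ hp ⟨k, h2⟩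
  induction S using WellFoundedLT.induction with | _ S ih
  rcases eq_or_ne S ⊥ with rfl | h0
  · simpa using cyc K (K ⊓ centralizer ((⊥ : Subgroup G) : Set G)) 1 le_rfl ⟨0, by simp⟩ (one_mem _)
      (by simp [mem_centralizer_iff])
  obtain ⟨T, -, c⟩ := exists_chief_below (bot_lt_iff_ne_bot.mpr h0) (norm_top (A := S)) le_normalizer
  obtain ⟨s, hs, hsT⟩ := SetLike.exists_of_lt c.lt
  have h1 : T ⊔ zpowers s = S := (Core.eq_or_eq_of_relIndex_prime (chief_nilpotent hS.isNilpotent c le_rfl)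
    le_sup_left (sup_le c.lt.le (zpowers_le.mpr hs))).resolve_left
      fun e => hsT (e.le (mem_sup_right (mem_zpowers s)))
  have h2 : S ≤ normalizer ((K ⊓ centralizer (T : Set G) : Subgroup G) : Set G) :=
    Core.le_normalizer_inf hn (Core.le_normalizer_centralizer c.nL)
  have h3 : T ≤ centralizer ((K ⊓ centralizer (T : Set G) : Subgroup G) : Set G) :=
    le_centralizer_iff.mp inf_le_right
  refine (((ih T c.lt (hS.to_le c.lt.le) (c.lt.le.trans hn)).congr (fun _ => Iff.rfl) fun χ =>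
    iff_of_true (inv_of_centralizer bot_le) (inv_of_centralizer h3)).up hp inf_le_left c.lt.le c.nL hn
    h2).trans ((cyc _ _ s inf_le_left (Block.exists_orderOf_eq_pow_of_mem hp hS hs) (h2 hs)
      fun x => ?_).congr (fun χ => ⟨fun h => h1 ▸ (inv_of_centralizer h3).sup h (c.lt.le.trans h2)
        (zpowers_le.mpr (h2 hs)), fun h => h.mono (zpowers_le.mpr hs) le_rfl⟩) fun _ => Iff.rfl) hp
    (inf_le_inf_left _ (centralizer_le c.lt.le))
  refine ⟨fun h => ⟨⟨h.1, centralizer_le c.lt.le h.2⟩, (h.2 s hs).symm⟩, fun h => ⟨h.1.1, ?_⟩⟩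
  exact zpowers_le.mp (le_centralizer_iff.mp (h1.ge.trans (sup_le
    (le_centralizer_iff.mp (zpowers_le.mpr h.1.2))
    (zpowers_le.mpr fun t ht => (comm_zpowers h.2.symm t ht).symm))))

end Cfsg.Agent.Isaacs
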