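import Mathlib
import Cfsg.Agent.Isaacs.GlP
import Cfsg.Agent.Core.Glauberman

/-! Actions on irreducible characters; invariant constituents. -/

set_option autoImplicit false

open scoped ComplexConjugate commutatorElement

namespace Cfsg.Agent.Isaacs

open Cfsg Cfsg.Agent.Char Subgroup

variable {G : Type*} [Group G] {A B C D H K L M N P S T U : Subgroup G} {θ φ ψ χ η β ξ : G → ℂ}
  {s : G} {p : ℕ}

theorem sum_modEq_fixed {Q X : Type*} [Group Q] [MulAction Q X] [Fintype X] [Fact p.Prime]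
    (hQ : IsPGroup p Q) (f : X → ℤ) (hf : ∀ (g : Q) x, f (g • x) = f x)
    [DecidablePred (· ∈ MulAction.fixedPoints Q X)] :
    ∑ x, f x ≡ ∑ x with x ∈ MulAction.fixedPoints Q X, f x [ZMOD p] := by
  classical
  rw [← Finset.sum_fiberwise_of_maps_to (t := Finset.univ.image f) (g := f)
    (fun x _ => Finset.mem_image_of_mem f (Finset.mem_univ x)),
    ← Finset.sum_fiberwise_of_maps_to (s := Finset.univ.filter _) (t := Finset.univ.image f) (g := f)
    (fun x _ => Finset.mem_image_of_mem f (Finset.mem_univ x))]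
  refine Int.ModEq.sum fun v _ => ?_
  rw [Finset.sum_congr rfl (g := fun _ => v) fun x hx => (Finset.mem_filter.mp hx).2,
    Finset.sum_congr rfl (g := fun _ => v) (s₂ := Finset.filter _ (Finset.filter _ _))
      fun x hx => (Finset.mem_filter.mp hx).2,
    Finset.sum_const, Finset.sum_const, nsmul_eq_mul, nsmul_eq_mul]
  refine Int.ModEq.mul_right _ (Int.natCast_modEq_iff.mpr ?_)
  let Y : SubMulAction Q X := ⟨{x | f x = v}, fun g x hx => (hf g x).trans hx⟩
  convert hQ.card_modEq_card_fixedPoints Y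
  · rw [← Fintype.card_subtype, ← Nat.card_eq_fintype_card]; rfl
  · rw [Finset.filter_filter, ← Fintype.card_subtype, ← Nat.card_eq_fintype_card]
    exact Nat.card_congr
      { toFun := fun x => ⟨⟨x.1, x.2.2⟩, fun g => Subtype.ext (x.2.1 g)⟩
        invFun := fun x => ⟨x.1.1, fun g => congrArg Subtype.val (x.2 g), x.1.2⟩
        left_inv := fun _ => rfl
        right_inv := fun _ => rfl }

theorem card_eq_of_rel {X Y : Type*} (R : X → Y → Prop) (h1 : ∀ x, ∃ y, R x y) (h2 : ∀ y, ∃ x, R x y)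
    (h3 : ∀ x y y', R x y → R x y' → y = y') (h4 : ∀ x x' y, R x y → R x' y → x = x') :
    Nat.card X = Nat.card Y := by
  choose f hf using h1
  refine Nat.card_eq_of_bijective f ⟨fun a b e => h4 a b _ (hf a) (e ▸ hf b), fun y => ?_⟩
  obtain ⟨x, hx⟩ := h2 y
  exact ⟨x, h3 x _ _ (hf x) hx⟩

/-- Conjugation action of the normaliser on irreducible characters. -/
noncomputable instance irrAct (H : Subgroup G) :
    MulAction (normalizer (H : Set G)) (IrrCharacter H) where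
  smul a χ := ⟨fun x => χ.1 (H.normalizerMonoidHom a⁻¹ x), isIrr_comp_equiv _ χ.2⟩
  one_smul χ := Subtype.ext (funext fun x => congrArg χ.1 (by simp))
  mul_smul a b χ := Subtype.ext (funext fun x => congrArg χ.1 (by simp))

theorem ez_smul (a : normalizer (H : Set G)) (χ : IrrCharacter H) :
    Eqv H (ez H (a • χ : IrrCharacter H)) (cj (a : G)⁻¹ (ez H χ)) := fun x hx => by
  rw [ez_mem _ hx, cj, ez_mem _ (conj_mem le_rfl (inv_mem a.2) hx)]; rfl

theorem smul_eq_iff (a : normalizer (H : Set G)) (χ : IrrCharacter H) :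
    a • χ = χ ↔ Eqv H (cj a (ez H χ)) (ez H χ) := by
  rw [← inv_smul_eq_iff.trans eq_comm, Subtype.ext_iff, ← eqv_ez_iff]
  have := ez_smul a⁻¹ χ
  rw [coe_inv, inv_inv] at this
  exact ⟨this.symm.trans, this.trans⟩

theorem mem_fixedPoints_iff (hA : A ≤ normalizer (H : Set G)) (χ : IrrCharacter H) :
    χ ∈ MulAction.fixedPoints (A.subgroupOf (normalizer (H : Set G))) (IrrCharacter H) ↔
      Inv A H (ez H χ) := by
  rw [inv_iff_eqv]
  exact ⟨fun h a ha => (smul_eq_iff ⟨a, hA ha⟩ χ).mp (h ⟨⟨a, hA ha⟩, ha⟩),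
    fun h a => (smul_eq_iff a.1 χ).mpr (h _ a.2)⟩

theorem SolvMod.map {Q : Type*} [Group Q] (h : SolvMod N H) (f : G →* Q) (hf : N ≤ f.ker) :
    Group.IsSolvable (H.map f) := by
  obtain ⟨n, hn⟩ := h
  refine ⟨n, ?_⟩
  rw [← map_derivedSeries_eq (f.subgroupMap_surjective H), eq_bot_iff]
  rintro _ ⟨x, hx, rfl⟩
  exact Subtype.ext (hf (hn ⟨x, hx, rfl⟩))

variable [Finite G]

theorem glauberman_rel (hAK : A ≤ normalizer (K : Set G)) (hA : A ≤ normalizer (N : Set G))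
    (hK : K ≤ normalizer (N : Set G)) (hT : N ≤ T)
    (hc : (N.relIndex A).Coprime (N.relIndex K)) (hs : SolvMod N A ∨ SolvMod N K)
    (h : ∀ a ∈ A, ∃ k ∈ K, k⁻¹ * a ∈ T) : ∃ k ∈ K, ∀ a ∈ A, k⁻¹ * a * k ∈ T := by
  set L := normalizer (N : Set G)
  let f := QuotientGroup.mk' (N.subgroupOf L)
  have hf : f.ker = N.subgroupOf L := QuotientGroup.ker_mk' _
  have h1 : ∀ X : Subgroup G, X ≤ L → Nat.card ((X.subgroupOf L).map f) = N.relIndex X := fun X hX => by
    rw [← relIndex_ker, QuotientGroup.ker_mk', relIndex_subgroupOf hX]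
  obtain ⟨_, ⟨k, hk, rfl⟩, h2⟩ := Core.glauberman ((A.subgroupOf L).map f) ((K.subgroupOf L).map f)
    (Core.map_le_normalizer_map (Core.subgroupOf_le_normalizer_subgroupOf hAK L) f)
    (by rwa [h1 A hA, h1 K hK]) (hs.imp (fun h => (h.comap L.subtype).map f hf.ge)
      fun h => (h.comap L.subtype).map f hf.ge) ((T.subgroupOf L).map f) (by
      rintro _ ⟨a, ha, rfl⟩
      obtain ⟨k, hk, e⟩ := h a ha
      exact ⟨_, ⟨⟨k, hK hk⟩, hk, rfl⟩, ⟨k, hK hk⟩⁻¹ * a, e, by simp⟩)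
  refine ⟨k, hk, fun a ha => ?_⟩
  have := h2 _ ⟨⟨a, hA ha⟩, ha, rfl⟩
  rw [← map_inv, ← map_mul, ← map_mul, ← mem_comap, comap_map_eq_self
    (H := T.subgroupOf L)
    (hf.le.trans (comap_mono hT))] at this
  exact this

theorem Irr.exists_inv_under (h : Irr K χ) (hi : Inv S K χ) (hSK : S ≤ normalizer (K : Set G))
    (hS : S ≤ normalizer (N : Set G)) (hK : K ≤ normalizer (N : Set G)) (hl : N ≤ K)
    (hc : (N.relIndex S).Coprime (N.relIndex K)) (hs : SolvMod N S ∨ SolvMod N K) :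
    ∃ θ, Irr N θ ∧ inn N χ θ ≠ 0 ∧ Inv S N θ := by
  obtain ⟨θ, h1, h2⟩ := h.exists_under hl
  obtain ⟨k, hk, h3⟩ := glauberman_rel hSK hS hK h1.inv.le_stab hc hs fun a ha => by
    obtain ⟨k, hk, e⟩ := h.exists_cj hK hl h1 (h1.cjg (hS (S.inv_mem ha))) h2
      (by rwa [(hi.mono le_rfl hl).inn_cj (hS (S.inv_mem ha)) (S.inv_mem ha)])
    exact ⟨k⁻¹, K.inv_mem hk, by simpa using (cj_eqv_cj (hK hk) (hS (S.inv_mem ha))).mp e.symm⟩
  refine ⟨cj k⁻¹ θ, h1.cjg (hK (K.inv_mem hk)), by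
    rwa [(h.inv.mono le_rfl hl).inn_cj (hK (K.inv_mem hk)) (K.inv_mem hk)],
    (le_stab hS).mp fun a ha => (mem_stab_cj (hK (K.inv_mem hk))).mpr (by simpa using h3 a ha)⟩

theorem Gen.cong_fixed [DecidablePred fun θ : IrrCharacter N => Inv P N (ez N θ)] (hp : p.Prime)
    (h : Gen N χ) (hi : Inv P N χ) (hP : IsPGroup p P) (hn : P ≤ normalizer (N : Set G)) (hl : D ≤ N)
    (hD : P ≤ normalizer (D : Set G)) (hφ : Gen D φ) (hφi : Inv P D φ) : ∃ n : ℤ, inn D χ φ =
      ∑ θ ∈ Finset.univ.filter fun θ : IrrCharacter N => Inv P N (ez N θ),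
        inn N χ (ez N θ) * inn D (ez N θ) φ + p * n := by
  classical
  have := Fact.mk hp
  choose a ha using fun θ : IrrCharacter N => h.inn_int (irr_ez.mpr θ.2).gen
  choose b hb using fun θ : IrrCharacter N => ((irr_ez.mpr θ.2).gen.res hl).inn_int hφ
  have h0 : ∀ (g : P.subgroupOf (normalizer (N : Set G))) (θ : IrrCharacter N),
      a (g • θ) * b (g • θ) = a θ * b θ := fun g θ => by
    have h1 := P.inv_mem g.2
    refine Int.cast_injective (α := ℂ) ?_
    push_cast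
    rw [← ha, ← hb, ← ha, ← hb]
    exact congrArg₂ (· * ·) ((ez_smul g.1 θ).inn_right.trans (hi.inn_cj (hn h1) h1))
      (((ez_smul g.1 θ).mono hl).inn_left.trans (inn_conj.symm.trans
        ((congrArg conj (hφi.inn_cj (hD h1) h1)).trans inn_conj)))
  have hQ : IsPGroup p (P.subgroupOf (normalizer (N : Set G))) := hP.comap_subtype
  obtain ⟨n, hn'⟩ := (sum_modEq_fixed hQ (fun θ => a θ * b θ) h0).symm.dvd
  refine ⟨n, ?_⟩
  rw [(h.inv.expand.mono hl).inn_left, inn_sum_left]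
  simp only [inn_smul_left, ha, hb]
  simp only [mem_fixedPoints_iff hn] at hn'
  rw [sub_eq_iff_eq_add'] at hn'
  exact_mod_cast hn'

theorem cop_of_not_dvd (hp : p.Prime) (hP : IsPGroup p P) (hK : ¬ p ∣ Nat.card K) :
    (Nat.card P).Coprime (Nat.card K) :=
  haveI := Fact.mk hp
  (Core.coprime_of_isPGroup hP (hp.coprime_iff_not_dvd.mpr hK).symm).symm

omit [Finite G] in
theorem cop_rel (h : (Nat.card S).Coprime (Nat.card K)) : (N.relIndex S).Coprime (N.relIndex K) :=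
  (h.coprime_dvd_left (Core.relIndex_dvd_card' _ _)).coprime_dvd_right (Core.relIndex_dvd_card' _ _)

section overs
variable (hp : p.Prime) (hK : ¬ p ∣ Nat.card K) (hP : IsPGroup p P)
  (hPK : P ≤ normalizer (K : Set G)) (hPN : P ≤ normalizer (N : Set G))
  (hn : K ≤ normalizer (N : Set G)) (hl : N ≤ K) (h : Irr K χ) (hi : Inv P K χ) (hθ : Irr N θ)
  (hθi : Inv P N θ) (hξ : Irr (K ⊓ centralizer (P : Set G)) ξ)
  (hφ : Irr (N ⊓ centralizer (P : Set G)) φ) (e : GlP p (K ⊓ centralizer (P : Set G)) χ ξ)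
  (e' : GlP p (N ⊓ centralizer (P : Set G)) θ φ)
include hp hK hP hPN hn hl h hi hθ hθi hφ e e'

theorem GlP.over (h0 : inn N χ θ ≠ 0) : inn (N ⊓ centralizer (P : Set G)) ξ φ ≠ 0 := by
  classical
  intro hc
  have hD : P ≤ centralizer ((N ⊓ centralizer (P : Set G) : Subgroup G) : Set G) :=
    le_centralizer_iff.mp inf_le_right
  have gl := glData_pgroup hp (fun e => hK (e.trans (card_dvd_of_le hl))) P hP hPN
  obtain ⟨n, h1⟩ := (h.gen.res hl).cong_fixed hp (hi.mono le_rfl hl) hP hPN inf_le_left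
    (hD.trans (centralizer_le_normalizer _)) hφ.gen (inv_of_centralizer hD)
  obtain ⟨ε, -, h2⟩ := e
  obtain ⟨m, h3⟩ := (h2.res (inf_le_inf_right _ hl)).inn hφ.gen
  rw [inn_smul_left, hc, mul_zero, zero_add] at h3
  obtain ⟨k, h4, h5⟩ := h.deg_dvd_rel hn hl hθ h0
  obtain ⟨a, ha⟩ := (h.chr.res hl).inn_nat hθ.chr
  obtain ⟨δ, j, -, h6⟩ := e'.inn_self hφ
  have h7 : a ∣ k := by
    rw [h.deg_eq hn hl hθ h0, ha, ← mul_assoc, mul_left_inj' hθ.one_ne] at h5
    exact ⟨_, by exact_mod_cast h5.symm⟩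
  let θ' : IrrCharacter N := ⟨fun x => θ x, hθ⟩
  have h8 : ∀ η ∈ (Finset.univ.filter fun η : IrrCharacter N => Inv P N (ez N η)).erase θ',
      ∃ z : ℤ, inn N χ (ez N η) * inn (N ⊓ centralizer (P : Set G)) (ez N η) φ = (p * z : ℤ) := by
    intro η hη
    have b1 := irr_ez.mpr η.2
    have b2 := (Finset.mem_filter.mp (Finset.mem_of_mem_erase hη)).2
    obtain ⟨γ, b3, -, b4⟩ := gl.ex _ b1 b2
    obtain ⟨z, hz⟩ := b4.dvd b3 hφ fun b5 => Finset.ne_of_mem_erase hη (Subtype.ext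
      ((ez_res _).symm.trans (gl.inj _ _ φ b1 b2 hθ hθi hφ (b4.congr (.refl _ _) b5) e').eq))
    obtain ⟨w, hw⟩ := (h.gen.res hl).inn_int b1.gen
    exact ⟨w * z, by rw [hz, hw]; push_cast; ring⟩
  choose! z hz using h8
  rw [← Finset.add_sum_erase _ _ (a := θ') (Finset.mem_filter.mpr ⟨Finset.mem_univ _,
    hθi.congr hPN eqv_ez.symm⟩), Finset.sum_congr rfl hz, h3, eqv_ez.inn_right,
    (eqv_ez.mono inf_le_left).inn_left, ha, h6] at h1
  have h9 : (p : ℤ) * m = a * (δ + p * j) + ∑ η ∈ (Finset.univ.filter fun η : IrrCharacter N =>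
      Inv P N (ez N η)).erase θ', p * z η + p * n := by exact_mod_cast h1
  rw [← Finset.mul_sum, add_assoc, ← mul_add, ← sub_eq_iff_eq_add, ← mul_sub] at h9
  rcases (Nat.prime_iff_prime_int.mp hp).dvd_or_dvd ⟨_, h9.symm⟩ with b | b
  · exact hK ((Int.natCast_dvd_natCast.mp b).trans (h7.trans (h4.trans (Core.relIndex_dvd_card' _ _))))
  · exact e'.not_dvd hp hφ h6 b

include hPK hξ in
theorem GlP.over' (h0 : inn (N ⊓ centralizer (P : Set G)) ξ φ ≠ 0) : inn N χ θ ≠ 0 := by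
  have := Fact.mk hp
  have gl := glData_pgroup hp (fun e => hK (e.trans (card_dvd_of_le hl))) P hP hPN
  obtain ⟨η, h1, h2, h3⟩ := h.exists_inv_under hi hPK hPN hn hl (cop_rel (cop_of_not_dvd hp hP hK))
    (Or.inl (solvMod_of_solv (Core.solvable_of_isPGroup hP)))
  obtain ⟨γ, h4, -, h5⟩ := gl.ex η h1 h3
  have h6 : K ⊓ centralizer (P : Set G) ≤
      normalizer ((N ⊓ centralizer (P : Set G) : Subgroup G) : Set G) :=
    Core.le_normalizer_inf (inf_le_left.trans hn) (inf_le_right.trans le_normalizer)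
  obtain ⟨b, hb, h7⟩ := hξ.exists_cj h6 (inf_le_inf_right _ hl) h4 hφ
    (e.over hp hK hP hPN hn hl h hi h1 h3 h4 h5 h2) h0
  rwa [(gl.inj _ _ φ hθ hθi (h1.cjg (hn hb.1)) (h3.cj_norm (centralizer_le_normalizer _ hb.2) (hn hb.1))
    hφ e' ((h5.cjg (h6 hb)).congr (.refl _ _) h7.symm)).inn_right,
    (h.inv.mono le_rfl hl).inn_cj (hn hb.1) hb.1]

end overs

end Cfsg.Agent.Isaacs
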