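import Mathlib
import Cfsg.Agent.Isaacs.Act
import Cfsg.Agent.Core.Product

/-! Solvable operator groups: counting invariant characters, invariant characters over an invariant
character. -/

set_option autoImplicit false

open scoped ComplexConjugate commutatorElement

namespace Cfsg.Agent.Isaacs

open Cfsg Cfsg.Agent.Char Subgroup

variable {G : Type*} [Group G] [Finite G] {A B C D H K L M N P S T U : Subgroup G}
  {θ φ ψ χ η β ξ : G → ℂ} {s : G} {p : ℕ}

omit [Finite G] in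
theorem inv_ez_iff (h : A ≤ normalizer (H : Set G)) (α : H → ℂ) : Inv A H (ez H α) ↔
    ∀ s ∈ A, ∀ g g' : H, (g' : G) = s * g * s⁻¹ → α g' = α g :=
  ⟨fun hi s hs g g' e => by rw [← ez_coe α, ← ez_coe α, e, hi s hs g g.2],
    fun hi s hs x hx => by
      rw [ez_mem α hx, ez_mem α (conj_mem h hs hx)]; exact hi s hs _ _ rfl⟩

omit [Finite G] in
theorem Inv.forall (h : Inv A H θ) : ∀ s ∈ A, ∀ g g' : H, (g' : G) = s * g * s⁻¹ → θ g' = θ g :=
  fun s hs g _ e => e ▸ h s hs g g.2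

theorem inn_res_ez [Fintype L] (hl : L ≤ K) (α : K → ℂ) (β : L → ℂ) :
    classInner (fun x : L => α ⟨x, hl x.2⟩) β = inn L (ez K α) (ez L β) := by
  rw [inn_eq, ez_res, ez_res_le hl]

theorem exists_step (hS : Group.IsSolvable S) (hn : S ≤ normalizer (K : Set G))
    (hc : (Nat.card S).Coprime (Nat.card K)) (h : ¬ S ≤ centralizer (K : Set G)) :
    ∃ (p : ℕ) (P : Subgroup G), p.Prime ∧ IsPGroup p P ∧ P ≤ S ∧ ¬ p ∣ Nat.card K ∧
      K ⊓ centralizer (P : Set G) < K ∧ ∀ N, N ≤ K → S ≤ normalizer (N : Set G) →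
        S ≤ normalizer ((N ⊓ centralizer (P : Set G) : Subgroup G) : Set G) ∧
        GlData p N (N ⊓ centralizer (P : Set G)) S S := by
  obtain ⟨U, hU, c⟩ := exists_chief_above (L := S ⊓ centralizer (K : Set G))
    (inf_lt_left.mpr h) (Core.le_normalizer_inf le_normalizer (Core.le_normalizer_centralizer hn))
    le_normalizer
  obtain ⟨p, hp, -, k, hk0, hk⟩ := c.exists_prime (c.comm_le (hU.trans c.nL)
    (solvMod_of_solv (Core.solvable_of_le hU hS)))
  have := Fact.mk hp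
  obtain ⟨P, hP⟩ := Core.exists_isSylowOf p U
  have h1 := hP.sup_eq_of_relIndex_eq_pow c.lt.le hk
  have h2 : ¬ p ∣ Nat.card K := fun e => hp.one_lt.ne' (Nat.eq_one_of_dvd_coprimes hc
    ((dvd_pow_self p hk0.ne').trans (hk ▸ (Core.relIndex_dvd_card' _ _).trans (card_dvd_of_le hU))) e)
  refine ⟨p, P, hp, hP.isPGroup, hP.le.trans hU, h2, inf_lt_left.mpr fun e => c.lt.not_ge (h1.ge.trans
    (sup_le le_rfl (le_inf (hP.le.trans hU) (le_centralizer_iff.mp e)))), fun N hN hSN => ?_⟩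
  have h3 : S ⊓ centralizer (K : Set G) ≤ centralizer (N : Set G) :=
    inf_le_right.trans (centralizer_le hN)
  have h4 : N ⊓ centralizer (P : Set G) = N ⊓ centralizer (U : Set G) :=
    le_antisymm (le_inf inf_le_left (le_centralizer_iff.mp (h1.ge.trans (sup_le
      (h3.trans (centralizer_le inf_le_left)) (le_centralizer_iff.mp inf_le_right)))))
      (inf_le_inf_left _ (centralizer_le hP.le))
  have h5 : S ≤ normalizer ((N ⊓ centralizer (P : Set G) : Subgroup G) : Set G) :=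
    h4 ▸ Core.le_normalizer_inf hSN (Core.le_normalizer_centralizer c.nK)
  refine ⟨h5, ((glData_pgroup hp (fun e => h2 (e.trans (card_dvd_of_le hN))) P hP.isPGroup
    ((hP.le.trans hU).trans hSN)).congr (fun χ => ⟨fun h => h1 ▸ (inv_of_centralizer h3).sup h
      (inf_le_left.trans hSN) ((hP.le.trans hU).trans hSN), fun h => h.mono hP.le le_rfl⟩) fun χ =>
      iff_of_true (inv_of_centralizer bot_le) (inv_of_centralizer ?_)).up hp inf_le_left hU c.nK hSN h5⟩
  exact h4 ▸ le_centralizer_iff.mp inf_le_right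

theorem GlData.card (h : GlData p K C S A) (hp : p.Prime) (hl : C ≤ K)
    (hS : S ≤ normalizer (K : Set G)) (hA : A ≤ normalizer (C : Set G)) :
    Nat.card {χ : IrrCharacter K // Inv S K (ez K χ)} =
      Nat.card {β : IrrCharacter C // Inv A C (ez C β)} := by
  refine card_eq_of_rel (fun χ β => GlP p C (ez K χ.1) (ez C β.1)) (fun χ => ?_) (fun β => ?_)
    (fun χ β γ h1 h2 => Subtype.ext (Subtype.ext (eqv_ez_iff.mp
      (h1.unique h2 hp (irr_ez.mpr β.1.2) (irr_ez.mpr γ.1.2)))))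
    fun χ ψ β h1 h2 => Subtype.ext (Subtype.ext (eqv_ez_iff.mp (h.inj _ _ _ (irr_ez.mpr χ.1.2) χ.2
      (irr_ez.mpr ψ.1.2) ψ.2 (irr_ez.mpr β.1.2) h1 h2)))
  · obtain ⟨β, h1, h2, h3⟩ := h.ex _ (irr_ez.mpr χ.1.2) χ.2
    exact ⟨⟨⟨_, h1⟩, h2.congr hA eqv_ez.symm⟩, h3.congr (.refl _ _) eqv_ez.symm⟩
  · obtain ⟨χ, h1, h2, h3⟩ := h.surj _ (irr_ez.mpr β.1.2) β.2
    exact ⟨⟨⟨_, h1⟩, h2.congr hS eqv_ez.symm⟩, h3.congr (eqv_ez.mono hl) (.refl _ _)⟩

theorem card_inv_irr (hS : Group.IsSolvable S) (K : Subgroup G) (hn : S ≤ normalizer (K : Set G))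
    (hc : (Nat.card S).Coprime (Nat.card K)) :
    Nat.card {χ : IrrCharacter K // Inv S K (ez K χ)} =
      Nat.card (IrrCharacter (K ⊓ centralizer (S : Set G) : Subgroup G)) := by
  induction K using WellFoundedLT.induction with | _ K ih
  by_cases h : S ≤ centralizer (K : Set G)
  · rw [inf_eq_left.mpr (le_centralizer_iff.mp h)]
    exact Nat.card_congr (Equiv.subtypeUnivEquiv fun _ => inv_of_centralizer h)
  obtain ⟨p, P, hp, -, h1, -, h2, h3⟩ := exists_step hS hn hc h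
  obtain ⟨h4, h5⟩ := h3 K le_rfl hn
  rw [h5.card hp inf_le_left hn h4, ih _ h2 h4 (Core.coprime_of_le_right hc inf_le_left), inf_assoc,
    inf_eq_right.mpr (centralizer_le h1)]

theorem Irr.exists_inv_over (hS : Group.IsSolvable S) (K : Subgroup G) (hn : S ≤ normalizer (K : Set G))
    (hc : (Nat.card S).Coprime (Nat.card K)) (hSN : S ≤ normalizer (N : Set G))
    (hK : K ≤ normalizer (N : Set G)) (hl : N ≤ K) (h : Irr N θ) (hi : Inv S N θ) :
    ∃ χ, Irr K χ ∧ inn N χ θ ≠ 0 ∧ Inv S K χ := by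
  induction K using WellFoundedLT.induction generalizing N θ with | _ K ih
  by_cases h0 : S ≤ centralizer (K : Set G)
  · obtain ⟨χ, h1, h2⟩ := h.exists_over hl
    exact ⟨χ, h1, h2, inv_of_centralizer h0⟩
  obtain ⟨p, P, hp, hP, h1, hpK, h2, h3⟩ := exists_step hS hn hc h0
  obtain ⟨h4, h5⟩ := h3 K le_rfl hn
  obtain ⟨h6, h7⟩ := h3 N hl hSN
  obtain ⟨φ, a1, a2, a3⟩ := h7.ex θ h hi
  obtain ⟨ξ, b1, b2, b3⟩ := ih _ h2 h4 (Core.coprime_of_le_right hc inf_le_left) h6
    (Core.le_normalizer_inf (inf_le_left.trans hK) (inf_le_right.trans le_normalizer))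
    (inf_le_inf_right _ hl) a1 a2
  obtain ⟨χ, c1, c2, c3⟩ := h5.surj ξ b1 b3
  exact ⟨χ, c1, c3.over' hp hpK hP (h1.trans hn) (h1.trans hSN) hK hl c1 (c2.mono h1 le_rfl) h
    (hi.mono h1 le_rfl) b1 a1 a3 b2, c2⟩

/-- Multiplication of irreducible characters by linear characters. -/
@[reducible] noncomputable def linAct (Q : Type*) [Group Q] [Finite Q] :
    MulAction (Q →* ℂˣ) (IrrCharacter Q) where
  smul a χ := ⟨fun x => a x * χ.1 x, isIrr_linear_mul χ.2 a⟩
  one_smul χ := Subtype.ext (funext fun x => one_mul _)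
  mul_smul a b χ := Subtype.ext (funext fun x => by
    change ((a x * b x : ℂˣ) : ℂ) * χ.1 x = a x * (b x * χ.1 x)
    rw [Units.val_mul, mul_assoc])

theorem Irr.exists_inv_over_abel (hn : S ≤ normalizer (K : Set G)) (hSN : S ≤ normalizer (N : Set G))
    (hl : N ≤ K) (hab : ⁅K, K⁆ ≤ N) (hc : (K.relIndex S).Coprime (N.relIndex K)) (h : Irr N θ)
    (hi : Inv S N θ) : ∃ χ, Irr K χ ∧ inn N χ θ ≠ 0 ∧ Inv S K χ := by
  have hK := norm_of_comm_le hl hab
  have := normal_sub hK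
  obtain ⟨χ, h1, h2⟩ := h.exists_over hl
  let _ := linAct K
  let Λ : Subgroup (K →* ℂˣ) :=
    { carrier := {lam | N.subgroupOf K ≤ lam.ker}
      mul_mem' := fun {a b} ha hb x hx => by
        rw [MonoidHom.mem_ker, MonoidHom.mul_apply, ha hx, hb hx, one_mul]
      one_mem' := fun _ _ => rfl
      inv_mem' := fun {a} ha x hx => by rw [MonoidHom.mem_ker, MonoidHom.inv_apply, ha hx, inv_one] }
  let f := MulAction.toPermHom (normalizer (K : Set G)) (IrrCharacter K)
  let g := MulAction.toPermHom (K →* ℂˣ) (IrrCharacter K)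
  have h3 : Nat.card ((S.subgroupOf (normalizer (K : Set G))).map f) ∣ K.relIndex S := by
    rw [← relIndex_ker, ← relIndex_subgroupOf hn]
    exact relIndex_dvd_of_le_left _ fun a ha => Equiv.ext fun χ => (smul_eq_iff a χ).mpr
      (inv_iff_eqv.mp (irr_ez.mpr χ.2).inv _ ha)
  obtain ⟨_, ⟨lam, hlam, rfl⟩, h4⟩ := Core.exists_fixed_of_smul_mem_orbit
    ((S.subgroupOf (normalizer (K : Set G))).map f) (Λ.map g) (by
      refine le_norm ?_
      rintro _ ⟨a, ha, rfl⟩ _ ⟨lam, hlam, rfl⟩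
      refine ⟨lam.comp (K.normalizerMonoidHom a⁻¹).toMonoidHom, fun x hx => hlam
        (conj_mem hSN (S.inv_mem ha) hx), Equiv.ext fun χ => ?_⟩
      rw [← map_inv, Equiv.Perm.mul_apply, Equiv.Perm.mul_apply]
      obtain ⟨χ, rfl⟩ := MulAction.surjective a χ
      rw [MulAction.toPermHom_apply _ _ a⁻¹, MulAction.toPerm_apply, inv_smul_smul]
      rfl) (Nat.coprime_of_dvd fun q hq e e' => by
      have := Fact.mk hq
      obtain ⟨⟨_, lam, hlam, rfl⟩, e''⟩ := exists_prime_orderOf_dvd_card' q e'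
      rw [← orderOf_coe] at e''
      exact hq.one_lt.ne' (Nat.eq_one_of_dvd_coprimes hc (e.trans h3) (e'' ▸ (orderOf_map_dvd g lam).trans
        (Det.orderOf_linear_dvd_index lam _ hlam))))
    (Or.inr (Core.solvable_map inferInstance g)) (⟨_, h1⟩ : IrrCharacter K) (by
      rintro _ ⟨a, ha, rfl⟩
      have h5 := S.inv_mem ha
      obtain ⟨β, b1, b2, b3, b4⟩ := h1.exists_lin hl hab (h1.cjg (hn h5))
        ((h1.chr.res hl).inn_ne_of_common ((h1.cjg (hn h5)).chr.res hl) h h2 (by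
          rwa [← inn_conj, hi.inn_cj (hSN h5) h5, inn_conj]))
      obtain ⟨lam, b5⟩ := b1.chr.exists_hom b2
      refine ⟨_, ⟨lam, fun x hx => Units.ext ?_, rfl⟩, Subtype.ext (funext fun x => ?_)⟩
      · exact (congrFun b5 x).symm.trans ((b3 x hx).trans b2)
      · exact (congrArg (· * χ x) (congrFun b5 x)).symm.trans (b4 x x.2).symm)
  refine ⟨_, irr_ez.mpr (lam • (⟨_, h1⟩ : IrrCharacter K)).2, ?_,
    (mem_fixedPoints_iff hn _).mp fun a => h4 _ ⟨a.1, a.2, rfl⟩⟩
  rwa [Eqv.inn_left (φ := χ) fun x hx => by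
    rw [ez_mem _ (hl hx)]
    change (lam _ : ℂ) * χ x = χ x
    rw [hlam (x := ⟨x, hl hx⟩) hx, Units.val_one, one_mul]]

omit [Finite G] in
theorem relIndex_dvd_of_norm (hl : M ≤ K) (hn : K ≤ normalizer (N : Set G)) :
    N.relIndex M ∣ N.relIndex K := by
  have := normal_sub hn
  rw [← relIndex_subgroupOf hl]
  exact relIndex_dvd_index_of_normal _ _

theorem Irr.exists_inv_over_solv (K : Subgroup G) (hn : S ≤ normalizer (K : Set G))
    (hSN : S ≤ normalizer (N : Set G)) (hK : K ≤ normalizer (N : Set G)) (hl : N ≤ K)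
    (hs : SolvMod N K) (hc : (N.relIndex S).Coprime (N.relIndex K)) (h : Irr N θ)
    (hi : Inv S N θ) : ∃ χ, Irr K χ ∧ inn N χ θ ≠ 0 ∧ Inv S K χ := by
  induction K using WellFoundedLT.induction with | _ K ih
  rcases hl.eq_or_lt with rfl | hlt
  · exact ⟨θ, h, h.inn_self_ne, hi⟩
  have h1 := hs.comm_lt hlt hK
  have h2 := Core.le_normalizer_sup (Core.le_normalizer_commutator hn hn) hSN
  obtain ⟨η, a1, a2, a3⟩ := ih _ h1 h2 (h1.le.trans hK) le_sup_right (hs.mono le_rfl h1.le)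
    (hc.coprime_dvd_right (relIndex_dvd_of_norm h1.le hK))
  obtain ⟨χ, b1, b2, b3⟩ := a1.exists_inv_over_abel hn h2 h1.le le_sup_left
    ((hc.coprime_dvd_left (relIndex_dvd_of_le_left _ hl)).coprime_dvd_right
      (relIndex_dvd_of_le_left _ le_sup_right)) a3
  exact ⟨χ, b1, (b1.chr.res h1.le).over_trans le_sup_right a1 h.chr b2 a2, b3⟩

omit [Finite G] in
theorem GlP.refl : GlP p C χ χ := ⟨1, Or.inl rfl, Eqv.cong fun _ _ => by simp⟩

theorem glData_cop (hp : p.Prime) (hS : IsPGroup p S) (hc : (Nat.card K).Coprime (Nat.card S))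
    (hn : S ≤ normalizer (K : Set G)) : GlData p K (K ⊓ centralizer (S : Set G)) S ⊥ := by
  by_cases hK : p ∣ Nat.card K
  swap
  · exact glData_pgroup hp hK S hS hn
  have := Fact.mk hp
  obtain rfl : S = ⊥ := by
    obtain ⟨k, hk⟩ := hS.exists_card_eq
    rcases k with _ | k
    · exact card_eq_one.mp hk
    · exact absurd (Nat.eq_one_of_dvd_coprimes hc hK (hk ▸ dvd_pow_self p k.succ_ne_zero)) hp.one_lt.ne'
  have e : K ⊓ centralizer ((⊥ : Subgroup G) : Set G) = K :=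
    inf_eq_left.mpr fun x _ y hy => by rw [show y = 1 from hy, one_mul, mul_one]
  rw [e]
  exact ⟨fun χ h1 h2 => ⟨χ, h1, h2, GlP.refl⟩, fun χ ψ β h1 _ h2 _ h3 a b =>
    (GlP.refl.unique a hp h1 h3).trans (GlP.refl.unique b hp h2 h3).symm,
    fun χ h1 h2 => ⟨χ, h1, h2, GlP.refl⟩⟩

omit [Finite G] in
theorem inv_bot : Inv ⊥ K θ := fun a ha x _ => by rw [show a = 1 from ha]; simp

omit [Finite G] in
theorem irr_ez_eq {α β : IrrCharacter H} (e : Eqv H (ez H α) (ez H β)) : α = β :=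
  Subtype.ext (eqv_ez_iff.mp e)

omit [Finite G] in
theorem ez_mk (h : Irr H θ) : Eqv H (ez H (⟨_, h⟩ : IrrCharacter H)) θ := eqv_ez

end Cfsg.Agent.Isaacs
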