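import Mathlib
import Cfsg.Agent.Isaacs.Canon
import Cfsg.Agent.Core.Product

/-! Descent and lifting of characters; isomorphisms of character triples. -/

set_option autoImplicit false

open scoped ComplexConjugate commutatorElement

namespace Cfsg.Agent.Isaacs

open Cfsg Cfsg.Agent.Char Subgroup

universe u

variable {G : Type*} [Group G] {A B C D H K L M N P S T : Subgroup G} {θ φ ψ χ η β ξ : G → ℂ}

section push
variable {Q : Type*} [Group Q] (f : G →* Q)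

section
variable [Finite G]
theorem Chr.exists_push (h : Chr H θ) (hk : Ker (f.ker ⊓ H) θ) :
    ∃ φ, Chr (H.map f) φ ∧ ∀ x ∈ H, φ (f x) = θ x := by
  obtain ⟨α, h1, h2⟩ := isChar_exists_of_ker_le (f.subgroupMap H) (f.subgroupMap_surjective H) h
    fun x hx => (mem_charKer_iff h).mpr (hk x ⟨congrArg Subtype.val hx, x.2⟩)
  exact ⟨ez _ α, chr_ez.mpr h1, fun x hx => (ez_mem _ (mem_map_of_mem f hx)).trans (congrFun h2 ⟨x, hx⟩).symm⟩

theorem Chr.irr_map {φ : Q → ℂ} (h : Chr (H.map f) φ) (h' : Irr H fun x => φ (f x)) :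
    Irr (H.map f) φ :=
  (isIrr_comp_iff (f.subgroupMap H) (f.subgroupMap_surjective H) h).mp h'

theorem Irr.exists_push (h : Irr H θ) (hk : Ker (f.ker ⊓ H) θ) :
    ∃ φ, Irr (H.map f) φ ∧ ∀ x ∈ H, φ (f x) = θ x := by
  obtain ⟨φ, h1, h2⟩ := h.chr.exists_push f hk
  exact ⟨φ, h1.irr_map f (h.congr fun x hx => (h2 x hx).symm), h2⟩

theorem Chr.to_map {φ : Q → ℂ} (h : Chr H fun x => φ (f x)) : Chr (H.map f) φ := by
  obtain ⟨ψ, h1, h2⟩ := h.exists_push f fun x hx => by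
    change φ (f x) = φ (f 1); rw [show f x = 1 from hx.1, map_one]
  exact h1.congr (by rintro _ ⟨x, hx, rfl⟩; exact h2 x hx)

theorem Irr.to_map {φ : Q → ℂ} (h : Irr H fun x => φ (f x)) : Irr (H.map f) φ :=
  (h.chr.to_map f).irr_map f h
end

theorem inv_map_iff {φ : Q → ℂ} : Inv (A.map f) (H.map f) φ ↔ Inv A H fun x => φ (f x) :=
  ⟨fun h a ha x hx => by
    simp only [map_mul, map_inv]; exact h _ ⟨a, ha, rfl⟩ _ ⟨x, hx, rfl⟩, fun h => by
    rintro _ ⟨a, ha, rfl⟩ _ ⟨x, hx, rfl⟩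
    simpa only [map_mul, map_inv] using h a ha x hx⟩

theorem eqv_map_iff {φ ψ : Q → ℂ} :
    Eqv (H.map f) φ ψ ↔ Eqv H (fun x => φ (f x)) fun x => ψ (f x) :=
  ⟨fun h x hx => h _ ⟨x, hx, rfl⟩, fun h => by rintro _ ⟨x, hx, rfl⟩; exact h x hx⟩

theorem ker_map_iff {φ : Q → ℂ} : Ker (H.map f) φ ↔ Ker H fun x => φ (f x) :=
  ⟨fun h x hx => by simpa only [map_one] using h _ ⟨x, hx, rfl⟩, fun h => by
    rintro _ ⟨x, hx, rfl⟩; simpa only [map_one] using h x hx⟩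

theorem ker_comp_ker (φ : Q → ℂ) : Ker f.ker fun x => φ (f x) := fun x hx => by
  change φ (f x) = φ (f 1); rw [show f x = 1 from hx, map_one]

theorem SolvMod.map_map (h : SolvMod N H) : SolvMod (N.map f) (H.map f) := by
  obtain ⟨n, hn⟩ := h
  refine ⟨n, ?_⟩
  rw [← map_derivedSeries_eq (f.subgroupMap_surjective H)]
  rintro _ ⟨_, ⟨x, hx, rfl⟩, rfl⟩
  exact ⟨x, hn ⟨x, hx, rfl⟩, rfl⟩
end push

variable [Finite G]

theorem Chr.exists_lift (h : Chr H θ) (hn : H ≤ normalizer (K : Set G)) (hk : Ker (K ⊓ H) θ) :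
    ∃ β, Chr (K ⊔ H) β ∧ Ker K β ∧ Eqv H β θ ∧ (Irr H θ → Irr (K ⊔ H) β) := by
  have := normal_sub (sup_le le_normalizer hn : K ⊔ H ≤ _)
  let f := QuotientGroup.mk' (K.subgroupOf (K ⊔ H))
  obtain ⟨φ, h1, h2⟩ := (h.comap (K ⊔ H).subtype).exists_push f fun x hx =>
    hk x ⟨(QuotientGroup.eq_one_iff x).mp hx.1, hx.2⟩
  have e : (H.comap (K ⊔ H).subtype).map f = ⊤ := eq_top_iff.mpr fun q _ => by
    obtain ⟨⟨x, hx⟩, rfl⟩ := QuotientGroup.mk'_surjective _ q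
    obtain ⟨y, hy, k, hk, rfl⟩ := (Core.mem_sup_of_le_normalizer' hn).mp (sup_comm K H ▸ hx)
    exact ⟨⟨y, mem_sup_right hy⟩, hy, QuotientGroup.eq.mpr (by simpa [mem_subgroupOf] using hk)⟩
  have h3 : Eqv H (ez (K ⊔ H) fun x => φ (f x)) θ := fun x hx =>
    (ez_mem _ (mem_sup_right hx)).trans (h2 ⟨x, _⟩ hx)
  refine ⟨_, chr_ez.mpr (isChar_comp f (chr_top.mp (e ▸ h1))), fun x hx => ?_, h3, fun hi =>
    irr_ez.mpr (isIrr_comp_surjective f (QuotientGroup.mk'_surjective _) (irr_top.mp (e ▸ h1.irr_map f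
      ((hi.comap (K ⊔ H).subtype (by simp)).congr fun x hx => (h2 x hx).symm))))⟩
  rw [ez_mem _ (mem_sup_left hx), ez_one]
  exact ker_comp_ker f φ _ ((QuotientGroup.eq_one_iff _).mpr hx)

theorem Irr.exists_lift (h : Irr H θ) (hn : H ≤ normalizer (K : Set G)) (hk : Ker (K ⊓ H) θ) :
    ∃ β, Irr (K ⊔ H) β ∧ Ker K β ∧ Eqv H β θ := by
  obtain ⟨β, -, h1, h2, h3⟩ := h.chr.exists_lift hn hk
  exact ⟨β, h3 h, h1, h2⟩

theorem Chr.eqv_sup (h : Chr (K ⊔ H) θ) (h' : Chr (K ⊔ H) φ) (hn : H ≤ normalizer (K : Set G))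
    (k : Ker K θ) (k' : Ker K φ) (e : Eqv H θ φ) : Eqv (K ⊔ H) θ φ := fun x hx => by
  obtain ⟨a, ha, y, hy, rfl⟩ := (Core.mem_sup_of_le_normalizer hn).mp hx
  rw [h.mul_of_eq (mem_sup_left ha) (k a ha) (mem_sup_right hy),
    h'.mul_of_eq (mem_sup_left ha) (k' a ha) (mem_sup_right hy), e y hy]

theorem card_mul_inn_eq_sum [Fintype M] (hl : K ≤ M) :
    (Nat.card M : ℂ) * inn M θ φ = ∑ x : M, inn K (sh x θ) (sh x φ) := by
  have := Fintype.ofFinite K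
  have h0 : (Nat.card K : ℂ) ≠ 0 := Nat.cast_ne_zero.mpr Nat.card_pos.ne'
  refine mul_left_cancel₀ h0 ?_
  rw [Finset.mul_sum]
  simp only [card_mul_inn]
  rw [Finset.sum_comm, Nat.card_eq_fintype_card, ← nsmul_eq_mul, ← Finset.card_univ, ← Finset.sum_const]
  exact Finset.sum_congr rfl fun k _ => (Fintype.sum_equiv (Equiv.mulLeft (inclusion hl k)) _ _
    fun x => rfl).symm

theorem Chr.inn_mul_mul (hn : M ≤ normalizer (K : Set G)) (hl : K ≤ M) (h : Chr M χ) (hK : Irr K χ)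
    (k1 : ∀ k ∈ K, ∀ x ∈ M, θ (k * x) = θ x) (k2 : ∀ k ∈ K, ∀ x ∈ M, φ (k * x) = φ x) :
    inn M (θ * χ) (φ * χ) = inn M θ φ := by
  have := Fintype.ofFinite M
  refine mul_left_cancel₀ (Nat.cast_ne_zero.mpr (Nat.card_pos (α := M)).ne') ?_
  rw [card_mul_inn_eq_sum hl, card_mul_inn]
  refine Finset.sum_congr rfl fun x _ => ?_
  rw [inn_congr (θ' := θ x • sh (x : G) χ) (φ' := φ x • sh (x : G) χ) (fun k hk => congrArg (· * _) (k1 k hk x x.2))
    (fun k hk => congrArg (· * _) (k2 k hk x x.2)), inn_smul_left, inn_smul_right,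
    h.inn_sh_self hn hl hK x.2, mul_one]

/-- An isomorphism of the character triple `(K, N, θ)` with a triple `(Q, Z, μ)`, `Z` central and `μ`
linear and faithful. -/
structure Tri (K N : Subgroup G) (θ : G → ℂ) (Γ Q : Type*) [Group Γ] [Group Q] where
  π : Γ →* G
  ρ : Γ →* Q
  Z : Subgroup Q
  μ : Q → ℂ
  e : Γ → ℂ
  le : N ≤ K
  range : π.range = K
  surj : Function.Surjective ρ
  central : Z ≤ center Q
  comap : N.comap π = Z.comap ρ
  chr : Chr ⊤ e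
  irr : Irr ρ.ker e
  lin : Chr Z μ
  one : μ 1 = 1
  faith : ∀ z ∈ Z, μ z = 1 → z = 1
  corr : ∀ γ, π γ ∈ N → θ (π γ) = μ (ρ γ) * e γ
  cov : Z ≤ π.ker.map ρ
  kc : π.ker ≤ center Γ

theorem Irr.exists_tri {G : Type u} [Group G] [Finite G] {K N : Subgroup G} {θ : G → ℂ}
    (h : Irr N θ) (hn : K ≤ normalizer (N : Set G)) (hl : N ≤ K) (hi : Inv K N θ) :
    ∃ (Γ Q : Type u) (_ : Group Γ) (_ : Group Q) (_ : Finite Γ) (_ : Finite Q),
      Nonempty (Tri K N θ Γ Q) := by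
  have := normal_sub hn
  obtain ⟨Γ, _, _, ⟨c⟩⟩ := Triple.exists_cover _ ((irr_sub hl).mpr h) (inertia_sub_top hl hn hi)
  let π := K.subtype.comp c.π
  have hr : π.range = K := by
    rw [MonoidHom.range_comp, MonoidHom.range_eq_top.mpr c.surj, ← MonoidHom.range_eq_map, range_subtype]
  have hN : (⊤ : Subgroup Γ) ≤ normalizer ((N.comap π : Subgroup Γ) : Set Γ) := le_norm fun a _ x hx => by
    rw [mem_comap, map_mul, map_mul, map_inv]; exact conj_mem hn (c.π a).2 hx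
  have h1 : c.ι.range ≤ N.comap π := by
    rintro _ ⟨n, rfl⟩
    change (c.π (c.ι n) : G) ∈ N
    rw [c.sect]; exact n.2
  have h2 : Irr c.ι.range c.ext := by
    rw [MonoidHom.range_eq_map]
    exact Irr.to_map _ (irr_top.mpr (by rw [funext c.res]; exact (irr_sub hl).mpr h))
  have := c.normal
  have h3 := h.comap π (hr.symm ▸ hl)
  obtain ⟨β, b1, b2, b3, b4⟩ := h3.chr.exists_lin norm_top h1 (chr_of c.isChar _) h2 (by
    rintro _ ⟨n, rfl⟩
    change θ (c.π (c.ι n) : G) = _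
    rw [c.sect, c.res])
  have b5 : Inv ⊤ (N.comap π) β := inv_iff_eqv.mpr fun a ha =>
    (b1.cjg (hN ha)).eqv_of_mul norm_top h1 (fun x hx => by
      rw [cj_at_one]; exact b3 _ (this.conj_mem x hx a)) b1 b3 (chr_of c.isChar _) h2 fun x hx => by
        rw [← b4 x hx, ← (hi.comap π) a (c.π a).2 x hx, b4 _ (conj_mem hN ha hx), Pi.mul_apply, Pi.mul_apply,
          (chr_of c.isChar ⊤).inv a ha x trivial]
        rfl
  have := Core.normal_of_le_normalizer (b1.chr.normalizes_kerS hN b5)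
  let ρ := QuotientGroup.mk' (kerS (N.comap π) β)
  have hk : ρ.ker = kerS (N.comap π) β := QuotientGroup.ker_mk' _
  obtain ⟨μ, m1, m2⟩ := b1.chr.exists_push ρ (b1.chr.ker_kerS.mono (inf_le_left.trans hk.le))
  have m3 : ∀ z ∈ (N.comap π).map ρ, μ z = 1 → z = 1 := by
    rintro _ ⟨x, hx, rfl⟩ e
    exact (QuotientGroup.eq_one_iff x).mpr (b1.chr.mem_kerS.mpr ⟨hx, by rw [← m2 x hx, e, b2]⟩)
  have m4 : μ 1 = 1 := by rw [← map_one ρ, m2 1 (one_mem _), b2]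
  refine ⟨Γ, _, _, _, inferInstance, inferInstance, ⟨⟨π, ρ, _, μ, c.ext, hl, hr,
    QuotientGroup.mk'_surjective _, ?_, (comap_map_eq_self (hk.le.trans kerS_le)).symm, chr_of c.isChar _,
    (chr_of c.isChar _).irr_of_res ((b1.chr.le_kerS h1 b3).trans hk.ge) h2, m1, m4, m3,
    fun γ hγ => ?_, ?_, fun γ hγ => c.central (Subtype.ext hγ : c.π γ = 1)⟩⟩⟩
  · rintro _ ⟨x, hx, rfl⟩
    refine mem_center_iff.mpr fun q => ?_
    obtain ⟨a, rfl⟩ := QuotientGroup.mk'_surjective _ q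
    have h4 := conj_mem hN (mem_top a) hx
    have := m3 _ ⟨_, mul_mem h4 (inv_mem hx), rfl⟩ (by
      rw [m2 _ (mul_mem h4 (inv_mem hx)), b1.chr.map_mul b2 h4 (inv_mem hx), b5 a trivial x hx,
        ← b1.chr.map_mul b2 hx (inv_mem hx), mul_inv_cancel, b2])
    simp only [map_mul, map_inv] at this
    exact mul_inv_eq_iff_eq_mul.mp (mul_inv_eq_one.mp this)
  · rw [m2 γ hγ]; exact b4 γ hγ
  · rintro _ ⟨x, hx, rfl⟩
    refine ⟨(c.ι ⟨c.π x, hx⟩)⁻¹ * x, ?_, ?_⟩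
    · change ((c.π ((c.ι ⟨c.π x, hx⟩)⁻¹ * x) : K) : G) = 1
      rw [map_mul, map_inv, c.sect]; simp
    · rw [map_mul, map_inv, show ρ (c.ι _) = 1 from ((b1.chr.le_kerS h1 b3).trans hk.ge) ⟨_, rfl⟩, inv_one,
        one_mul]

namespace Tri
variable {Γ Q : Type*} [Group Γ] [Group Q] (t : Tri K N θ Γ Q) {α α' : Q → ℂ} {W : Subgroup Q}

omit [Finite G]

/-- The subgroup of `Q` corresponding to `H`. -/
def bar (H : Subgroup G) : Subgroup Q := (H.comap t.π).map t.ρ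

/-- `ψ` on `H` corresponds to `α` on `bar H`. -/
def Corr (H : Subgroup G) (ψ : G → ℂ) (α : Q → ℂ) : Prop :=
  ∀ γ, t.π γ ∈ H → ψ (t.π γ) = α (t.ρ γ) * t.e γ

theorem ker_le (h : N ≤ H) : t.ρ.ker ≤ H.comap t.π :=
  (ker_le_comap _ _).trans (t.comap.ge.trans (comap_mono h))
theorem comap_bar (h : N ≤ H) : (t.bar H).comap t.ρ = H.comap t.π := comap_map_eq_self (t.ker_le h)
theorem mem_bar (h : N ≤ H) {γ : Γ} : t.ρ γ ∈ t.bar H ↔ t.π γ ∈ H := by
  rw [← mem_comap, t.comap_bar h, mem_comap]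
theorem map_comap (h : H ≤ K) : (H.comap t.π).map t.π = H := map_comap_eq_self (t.range.symm ▸ h)
theorem exists_pre {x : G} (h : x ∈ K) : ∃ γ, t.π γ = x := t.range.ge h
theorem bar_mono (h : L ≤ H) : t.bar L ≤ t.bar H := map_mono (comap_mono h)
theorem bar_self : t.bar N = t.Z := by rw [bar, t.comap, map_comap_eq_self_of_surjective t.surj]
theorem bar_top : t.bar K = ⊤ := by
  rw [bar, show K.comap t.π = ⊤ from eq_top_iff.mpr fun γ _ => t.range.le ⟨γ, rfl⟩,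
    map_top_of_surjective _ t.surj]
theorem le_bar (h : N ≤ H) : t.Z ≤ t.bar H := t.bar_self.ge.trans (t.bar_mono h)
theorem le_bar' : t.Z ≤ t.bar H := t.cov.trans (map_mono (ker_le_comap _ _))
theorem le_of_bar (h : N ≤ H) (hL : L ≤ K) (e : t.bar L ≤ t.bar H) : L ≤ H := fun x hx => by
  obtain ⟨γ, rfl⟩ := t.exists_pre (hL hx)
  exact (t.mem_bar h).mp (e ⟨γ, hx, rfl⟩)
theorem exists_bar (h : t.Z ≤ W) : ∃ H, N ≤ H ∧ H ≤ K ∧ t.bar H = W := by
  refine ⟨(W.comap t.ρ).map t.π, fun x hx => ?_, (map_le_range _ _).trans t.range.le, ?_⟩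
  · obtain ⟨γ, rfl⟩ := t.exists_pre (t.le hx)
    exact ⟨γ, comap_mono h (t.comap.le hx), rfl⟩
  · rw [bar, comap_map_eq_self ((ker_le_comap _ _).trans (t.comap.le.trans (comap_mono h))),
      map_comap_eq_self_of_surjective t.surj]
theorem relIndex_bar (h : N ≤ H) (hL : L ≤ K) : (t.bar H).relIndex (t.bar L) = H.relIndex L := by
  rw [bar, bar, ← relIndex_comap, ← bar, t.comap_bar h, relIndex_comap, t.map_comap hL]
theorem index_bar (h : N ≤ H) : (t.bar H).index = H.relIndex K := by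
  rw [← t.relIndex_bar h le_rfl, t.bar_top, relIndex_top_right]
theorem relIndex_Z (hL : L ≤ K) : t.Z.relIndex (t.bar L) = N.relIndex L := by
  rw [← t.bar_self, t.relIndex_bar le_rfl hL]
theorem bar_norm (h : A ≤ normalizer (H : Set G)) :
    t.bar A ≤ normalizer ((t.bar H : Subgroup Q) : Set Q) :=
  Core.map_le_normalizer_map ((comap_mono h).trans (le_normalizer_comap _)) _
theorem norm_of_bar [Finite G] (h : N ≤ H) (hH : H ≤ K) (hA : A ≤ K)
    (e : t.bar A ≤ normalizer ((t.bar H : Subgroup Q) : Set Q)) : A ≤ normalizer (H : Set G) :=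
  le_norm fun a ha x hx => by
    obtain ⟨γ, rfl⟩ := t.exists_pre (hH hx)
    obtain ⟨δ, rfl⟩ := t.exists_pre (hA ha)
    rw [← map_inv, ← map_mul, ← map_mul, ← t.mem_bar h, map_mul, map_mul, map_inv]
    exact conj_mem e ⟨δ, ha, rfl⟩ ⟨γ, hx, rfl⟩
theorem bar_sup (hL : L ≤ K) (hH : H ≤ K) : t.bar (L ⊔ H) = t.bar L ⊔ t.bar H := by
  rw [bar, ← comap_sup_eq_of_le_range _ (t.range.symm ▸ hL) (t.range.symm ▸ hH), Subgroup.map_sup]; rfl
theorem bar_inf (hL : N ≤ L) : t.bar (L ⊓ H) = t.bar L ⊓ t.bar H :=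
  le_antisymm (le_inf (t.bar_mono inf_le_left) (t.bar_mono inf_le_right)) (by
    rintro _ ⟨h1, γ, h2, rfl⟩; exact ⟨γ, ⟨(t.mem_bar hL).mp h1, h2⟩, rfl⟩)
theorem bar_comm (h : ⁅L, H⁆ ≤ M) : ⁅t.bar L, t.bar H⁆ ≤ t.bar M := by
  rw [bar, bar, ← map_commutator]
  exact map_mono (commutator_le.mpr fun a ha b hb => by
    rw [mem_comap, map_commutatorElement]; exact h (commutator_mem_commutator ha hb))
theorem comm_of_bar (hM : N ≤ M) (hL : L ≤ K) (hH : H ≤ K) (h : ⁅t.bar L, t.bar H⁆ ≤ t.bar M) :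
    ⁅L, H⁆ ≤ M := commutator_le.mpr fun a ha b hb => by
  obtain ⟨γ, rfl⟩ := t.exists_pre (hL ha)
  obtain ⟨δ, rfl⟩ := t.exists_pre (hH hb)
  rw [← map_commutatorElement, ← t.mem_bar hM, map_commutatorElement]
  exact h (commutator_mem_commutator ⟨γ, ha, rfl⟩ ⟨δ, hb, rfl⟩)
theorem solvMod_bar (h : SolvMod L H) : SolvMod (t.bar L) (t.bar H) := (h.comap t.π).map_map t.ρ
theorem e_one : t.e 1 = θ 1 := by
  have := t.corr 1 (by rw [map_one]; exact one_mem _)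
  rw [map_one, map_one, t.one, one_mul] at this; exact this.symm
theorem corr_self : t.Corr N θ t.μ := t.corr
theorem irr_mu : Irr t.Z t.μ := t.lin.irr_of_one t.one
theorem inv_mu {A : Subgroup Q} {φ : Q → ℂ} : Inv A t.Z φ := fun a _ x hx => by
  rw [mem_center_iff.mp (t.central hx) a, mul_inv_cancel_right]
theorem norm_Z {A : Subgroup Q} : A ≤ normalizer (t.Z : Set Q) := fun a _ x => by
  constructor <;> intro hx
  · rwa [mem_center_iff.mp (t.central hx) a, mul_inv_cancel_right]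
  · have := mem_center_iff.mp (t.central hx) a⁻¹
    rwa [show x = a * x * a⁻¹ by rw [← mul_inv_cancel_right (a * x * a⁻¹) a⁻¹, ← this]; group]

variable {t}
theorem Corr.mono (h : t.Corr H ψ α) (hl : L ≤ H) : t.Corr L ψ α := fun γ hγ => h γ (hl hγ)
theorem Corr.congr (h : t.Corr H ψ α) (e : Eqv H ψ φ) (e' : Eqv (t.bar H) α α') : t.Corr H φ α' :=
  fun γ hγ => by rw [← e _ hγ, ← e' _ ⟨γ, hγ, rfl⟩, h γ hγ]
theorem Corr.deg (h : t.Corr H ψ α) : ψ 1 = α 1 * θ 1 := by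
  have := h 1 (by rw [map_one]; exact one_mem _)
  rwa [map_one, map_one, t.e_one] at this
theorem Corr.eqv (h : t.Corr H ψ α) (h' : t.Corr H φ α') (hH : H ≤ K) (e : Eqv (t.bar H) α α') :
    Eqv H ψ φ := fun x hx => by
  obtain ⟨γ, rfl⟩ := t.exists_pre (hH hx)
  rw [h γ hx, h' γ hx, e _ ⟨γ, hx, rfl⟩]
theorem Corr.sub (h : t.Corr H ψ α) (h' : t.Corr H φ α') : t.Corr H (ψ - φ) (α - α') := fun γ hγ => by
  rw [Pi.sub_apply, Pi.sub_apply, h γ hγ, h' γ hγ, sub_mul]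
theorem Corr.add (h : t.Corr H ψ α) (h' : t.Corr H φ α') : t.Corr H (ψ + φ) (α + α') := fun γ hγ => by
  rw [Pi.add_apply, Pi.add_apply, h γ hγ, h' γ hγ, add_mul]
theorem Corr.smul (h : t.Corr H ψ α) (c : ℂ) : t.Corr H (c • ψ) (c • α) := fun γ hγ => by
  rw [Pi.smul_apply, Pi.smul_apply, h γ hγ, smul_mul_assoc]
theorem Corr.mul (h : t.Corr H ψ α) (e : ∀ γ, t.π γ ∈ H → φ (t.π γ) = α' (t.ρ γ)) :
    t.Corr H (φ * ψ) (α' * α) := fun γ hγ => by
  rw [Pi.mul_apply, Pi.mul_apply, h γ hγ, e γ hγ, mul_assoc]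
theorem Corr.cjg (h : t.Corr H ψ α) {δ : Γ} (hδ : t.π δ ∈ normalizer (H : Set G)) :
    t.Corr H (cj (t.π δ) ψ) (cj (t.ρ δ) α) := fun γ hγ => by
  have := h (δ * γ * δ⁻¹) (by rw [map_mul, map_mul, map_inv]; exact conj_mem le_rfl hδ hγ)
  simpa only [cj_apply, map_mul, map_inv, t.chr.inv δ trivial γ trivial] using this
theorem Corr.inv (h : t.Corr H ψ α) (hH : H ≤ K) (hA : A ≤ K) (hn : A ≤ normalizer (H : Set G))
    (hi : Inv (t.bar A) (t.bar H) α) : Inv A H ψ := inv_iff_eqv.mpr fun a ha => by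
  obtain ⟨δ, rfl⟩ := t.exists_pre (hA ha)
  exact (h.cjg (hn ha)).eqv h hH (inv_iff_eqv.mp hi _ ⟨δ, ha, rfl⟩)
variable [Finite Γ]
theorem Corr.chr (h : t.Corr H ψ α) (hH : H ≤ K) (hα : Chr (t.bar H) α) : Chr H ψ :=
  t.map_comap hH ▸ Chr.to_map t.π (((hα.of_map t.ρ).mul (t.chr.res le_top)).congr
    fun γ hγ => (h γ hγ).symm)

variable [Finite G] [Finite Q]
theorem Corr.inn_eq (h : t.Corr H ψ α) (h' : t.Corr H φ α') (hN : N ≤ H) (hH : H ≤ K) :
    inn H ψ φ = inn (t.bar H) α α' := by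
  rw [← inn_comap t.π (t.range.symm ▸ hH), bar, ← inn_map, ← (t.chr.res le_top).inn_mul_mul
    (θ := fun x => α (t.ρ x)) (φ := fun x => α' (t.ρ x)) norm_top
    (t.ker_le hN) t.irr (fun k hk x _ => by rw [map_mul, show t.ρ k = 1 from hk, one_mul])
    fun k hk x _ => by rw [map_mul, show t.ρ k = 1 from hk, one_mul]]
  exact inn_congr h h'
theorem Corr.inn_mu (h : t.Corr H ψ α) (hN : N ≤ H) : inn N ψ θ = inn t.Z α t.μ := by
  rw [(h.mono hN).inn_eq t.corr_self le_rfl t.le, t.bar_self]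
theorem Corr.eqv' (h : t.Corr H ψ α) (h' : t.Corr H φ α') (hN : N ≤ H) (hH : H ≤ K) (e : Eqv H ψ φ) :
    Eqv (t.bar H) α α' := fun x hx => sub_eq_zero.mp (inn_self_eq_zero.mp (by
  rw [← (h.sub h').inn_eq (h.sub h') hN hH]
  exact inn_self_eq_zero.mpr fun y hy => sub_eq_zero.mpr (e y hy)) x hx)
theorem Corr.inv' (h : t.Corr H ψ α) (hN : N ≤ H) (hH : H ≤ K) (hn : A ≤ normalizer (H : Set G))
    (hi : Inv A H ψ) : Inv (t.bar A) (t.bar H) α := inv_iff_eqv.mpr (by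
  rintro _ ⟨δ, hδ, rfl⟩
  exact (h.cjg (hn hδ)).eqv' h hN hH (inv_iff_eqv.mp hi _ hδ))
theorem Corr.irr (h : t.Corr H ψ α) (hN : N ≤ H) (hH : H ≤ K) (hα : Irr (t.bar H) α) : Irr H ψ :=
  (h.chr hH hα.chr).irr (by rw [h.inn_eq h hN hH, hα.inn_self])
theorem Corr.indc (h : t.Corr L ψ α) (hN : N ≤ L) (hl : L ≤ H) (hH : H ≤ K) :
    t.Corr H (ind L H ψ) (ind (t.bar L) (t.bar H) α) := fun γ _ => by
  have h1 := congrFun (ind_comap (L := L) (θ := ψ) t.π (t.range.symm ▸ hH)) γ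
  have h2 := congrFun (ind_comap (L := t.bar L) (K := t.bar H) (θ := α) t.ρ (map_le_range _ _)) γ
  rw [t.comap_bar hN, t.comap_bar (hN.trans hl)] at h2
  rw [← h1, ← h2, ind_congr (φ := (fun x => α (t.ρ x)) * t.e) fun γ hγ => h γ hγ, ind_mul (t.chr.res le_top).inv]
  rfl

variable (t)
omit [Finite Q] in
theorem down (hN : N ≤ H) (hH : H ≤ K) (h : Irr H ψ) (hθ : Irr N θ) (e : inn N ψ θ ≠ 0) :
    ∃ α, Irr (t.bar H) α ∧ t.Corr H ψ α := by
  have h1 := h.comap t.π (t.range.symm ▸ hH)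
  obtain ⟨β, b1, b2, b3⟩ := h1.exists_mul norm_top (t.ker_le hN) (t.chr.res le_top) t.irr
    ((h1.chr.res (comap_mono hN)).over_trans (t.ker_le le_rfl) (hθ.comap t.π (t.range.symm ▸ t.le))
      t.irr.chr (by rwa [inn_comap t.π (t.range.symm ▸ t.le)]) (by
        rw [Eqv.inn_left (φ := t.e) fun γ hγ => by
          rw [t.corr γ (t.ker_le le_rfl hγ), show t.ρ γ = 1 from hγ, t.one, one_mul]]
        exact t.irr.inn_self_ne))
  obtain ⟨α, a1, a2⟩ := b1.exists_push t.ρ (b2.mono inf_le_left)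
  exact ⟨α, a1, fun γ hγ => by rw [a2 γ hγ]; exact b3 γ hγ⟩
omit [Finite G] [Finite Q] in
theorem up' (hH : H ≤ K) (h : Chr (t.bar H) α) {c : ℂ} (e : Eqv t.Z α (c • t.μ)) :
    ∃ ψ, Chr H ψ ∧ t.Corr H ψ α := by
  obtain ⟨ψ, a1, a2⟩ := ((h.of_map t.ρ).mul (t.chr.res le_top)).exists_push t.π fun γ hγ => by
    have h1 : t.π γ ∈ N := by rw [show t.π γ = 1 from hγ.1]; exact one_mem _
    have h2 := t.corr γ h1
    rw [show t.π γ = 1 from hγ.1] at h2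
    rw [Pi.mul_apply, Pi.mul_apply, map_one, e _ (t.comap.le h1), e _ (one_mem _), Pi.smul_apply,
      Pi.smul_apply, smul_mul_assoc, ← h2, t.one, t.e_one, smul_mul_assoc, one_mul]
  exact ⟨ψ, t.map_comap hH ▸ a1, a2⟩
theorem up (hN : N ≤ H) (hH : H ≤ K) (h : Irr (t.bar H) α) (e : inn t.Z α t.μ ≠ 0) :
    ∃ ψ, Irr H ψ ∧ t.Corr H ψ α := by
  obtain ⟨ψ, -, a⟩ := t.up' hH h.chr (h.res_smul t.norm_Z (t.le_bar hN) t.irr_mu t.inv_mu e)
  exact ⟨ψ, a.irr hN hH h, a⟩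
theorem Corr.exists_ind {t : Tri K N θ Γ Q} (h : t.Corr H χ α) (hN : N ≤ L) (hl : L ≤ H) (hH : H ≤ K)
    (hα : Irr (t.bar H) α) (e : inn t.Z α t.μ ≠ 0) (h' : Chr (t.bar L) α')
    (e' : Eqv (t.bar H) (ind (t.bar L) (t.bar H) α') α) : ∃ ψ, Irr L ψ ∧ Eqv H (ind L H ψ) χ := by
  have h1 := h'.irr_of_ind (t.bar_mono hl) (hα.congr e'.symm)
  obtain ⟨ν, a1, a2⟩ := h1.exists_under (t.le_bar hN)
  have h2 := (hα.chr.res (t.bar_mono hl)).over_trans (t.le_bar hN) h1 a1.chr (by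
    rw [← inn_ind_right (t.bar_mono hl) hα.inv, e'.inn_right]; exact hα.inn_self_ne) a2
  obtain ⟨ψ, b1, b2⟩ := t.up hN (hl.trans hH) h1 (by
    rwa [← (t.irr_mu.eqv_of_smul a1 (hα.res_smul t.norm_Z t.le_bar' t.irr_mu t.inv_mu e) h2).inn_right])
  exact ⟨ψ, b1, (b2.indc hN hl hH).eqv h hH e'⟩
end Tri

end Cfsg.Agent.Isaacs
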