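import Mathlib
import Cfsg.Agent.Isaacs.GlS
import Cfsg.Agent.Isaacs.Tri
import Cfsg.Agent.Core.Cores
import Cfsg.Agent.Block.Omega

/-! Characters of coprime extensions. -/

set_option autoImplicit false

open scoped ComplexConjugate commutatorElement

namespace Cfsg.Agent.Isaacs

open Cfsg Cfsg.Agent.Char Subgroup

variable {G : Type*} [Group G] [Finite G] {A B C D H K L M N P S T U Z : Subgroup G}
  {θ φ ψ χ η β ξ : G → ℂ} {p : ℕ}

omit [Finite G] in
theorem ez_deg (χ : IrrCharacter H) : ez H χ 1 = charDegree (χ : H → ℂ) :=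
  (ez_one _).trans (Block.irr_degree_cast χ).symm

omit [Finite G] in
theorem relIndex_sup_cop (hn : H ≤ normalizer (K : Set G)) (hc : (Nat.card K).Coprime (Nat.card H)) :
    K.relIndex (K ⊔ H) = Nat.card H := by
  rw [Core.relIndex_sup_of_le_normalizer hn, ← inf_relIndex_right, (Core.disjoint_of_coprime hc).eq_bot,
    relIndex_bot_left]

theorem card_cop_deg (hn : H ≤ normalizer (K : Set G)) (hc : (Nat.card K).Coprime (Nat.card H))
    (hM : K ⊔ H = M) :
    Nat.card {χ : IrrCharacter M // (charDegree (χ : M → ℂ)).Coprime (Nat.card H)} =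
      Nat.card {θ : IrrCharacter K // Inv H K (ez K θ)} *
        Nat.card {l : IrrCharacter H // (l : H → ℂ) 1 = 1} := by
  subst hM
  have hN : K ⊔ H ≤ normalizer (K : Set G) := sup_le le_normalizer hn
  have hi := relIndex_sup_cop hn hc
  have hc' := hi.symm ▸ hc
  rw [← Nat.card_prod]
  refine card_eq_of_rel (fun χ x => ∃ χ₀ β, Canon K (K ⊔ H) χ₀ ∧ Eqv K χ₀ (ez K x.1.1) ∧ Irr (K ⊔ H) β ∧
    Ker K β ∧ Eqv H β (ez H x.2.1) ∧ Eqv (K ⊔ H) (ez (K ⊔ H) χ.1) (β * χ₀)) ?_ ?_ ?_ ?_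
  · rintro ⟨χ, h⟩
    have h1 := irr_ez.mpr χ.2
    have h2 := h1.res_of_coprime hN le_sup_left (ez_deg χ) (hi.symm ▸ h)
    obtain ⟨χ₀, a1, a2⟩ := h2.exists_canon hN le_sup_left hc' (h1.inv.mono le_rfl le_sup_left)
    obtain ⟨β, b1, b2, b3, b4⟩ := h1.chr.exists_lin hN le_sup_left a1.chr a1.res a2.symm
    have b5 := (b1.chr.res le_sup_right).irr_of_one b2
    exact ⟨(⟨⟨_, h2⟩, (h1.inv.mono le_sup_right le_sup_left).congr hn (ez_mk h2).symm⟩, ⟨⟨_, b5⟩, b2⟩),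
      χ₀, β, a1, a2.trans (ez_mk h2).symm, b1, b3, (ez_mk b5).symm, b4⟩
  · rintro ⟨⟨θ, h⟩, l, hl⟩
    have h1 := irr_ez.mpr θ.2
    obtain ⟨χ₀, a1, a2⟩ := h1.exists_canon hN le_sup_left hc' (h1.inv.sup h le_normalizer hn)
    obtain ⟨β, b1, b2, b3⟩ := (irr_ez.mpr l.2).exists_lift hn
      ((Core.disjoint_of_coprime hc).eq_bot ▸ ker_bot)
    have b4 : β 1 = 1 := by rw [b3.one, ez_one, hl]
    have b5 := (a1.irr le_sup_left).lin_mul b1.chr b4
    obtain ⟨d, -, hd⟩ := h1.deg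
    refine ⟨⟨⟨_, b5⟩, ?_⟩, χ₀, β, a1, a2, b1, b2, b3, ez_mk b5⟩
    rw [Block.charDegree_of_eq (n := d) (by change β 1 * χ₀ 1 = _; rw [b4, one_mul, a2.one, hd])]
    exact hc.coprime_dvd_left (h1.deg_dvd hd)
  · rintro χ ⟨⟨θ, h⟩, l, hl⟩ ⟨⟨θ', h'⟩, l', hl'⟩ ⟨χ₀, β, a1, a2, a3, a4, a5, a6⟩
      ⟨χ₁, β', b1, b2, b3, b4, b5, b6⟩
    have e := a6.symm.trans b6
    have e1 : Eqv K χ₀ χ₁ := fun x hx => by
      have := e x (mem_sup_left hx)
      rwa [Pi.mul_apply, Pi.mul_apply, a4 x hx, b4 x hx, a5.one, b5.one, ez_one, ez_one, hl, hl', one_mul,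
        one_mul] at this
    have e2 := a1.unique hN le_sup_left hc' b1 e1
    have e3 := a3.eqv_of_mul hN le_sup_left a4 b3 b4 a1.chr a1.res fun x hx => by
      rw [e x hx, Pi.mul_apply, Pi.mul_apply, e2 x hx]
    exact Prod.ext (Subtype.ext (irr_ez_eq (a2.symm.trans (e1.trans b2))))
      (Subtype.ext (irr_ez_eq (a5.symm.trans ((e3.mono le_sup_right).trans b5))))
  · rintro χ χ' x ⟨χ₀, β, a1, a2, a3, a4, a5, a6⟩ ⟨χ₁, β', b1, b2, b3, b4, b5, b6⟩
    have e2 := a1.unique hN le_sup_left hc' b1 (a2.trans b2.symm)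
    have e3 := a3.chr.eqv_sup b3.chr hn a4 b4 (a5.trans b5.symm)
    exact Subtype.ext (irr_ez_eq fun x hx => by
      rw [a6 x hx, b6 x hx, Pi.mul_apply, Pi.mul_apply, e2 x hx, e3 x hx])

omit [Finite G] in
theorem normalizer_eq_of_cop (hn : M ≤ normalizer (K : Set G)) (hM : K ⊔ H = M) (hd : Disjoint K H) :
    K ⊓ centralizer (H : Set G) ⊔ H = normalizer (H : Set G) ⊓ M := by
  subst hM
  refine le_antisymm (sup_le (le_inf (inf_le_right.trans (centralizer_le_normalizer _))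
    (inf_le_left.trans le_sup_left)) (le_inf le_normalizer le_sup_right)) fun x hx => ?_
  obtain ⟨k, hk, y, hy, rfl⟩ := (Core.mem_sup_of_le_normalizer (le_sup_right.trans hn)).mp hx.2
  refine mul_mem_sup ⟨hk, fun a ha => ?_⟩ hy
  have h1 : k ∈ normalizer (H : Set G) := (mul_mem_cancel_right (le_normalizer hy)).mp hx.1
  have := hd.le_bot (mem_inf.mpr ⟨by
    simpa only [mul_assoc] using mul_mem hk (conj_mem hn (mem_sup_right ha) (inv_mem hk)),
    H.mul_mem (conj_mem le_rfl h1 ha) (H.inv_mem ha)⟩ : k * a * k⁻¹ * a⁻¹ ∈ K ⊓ H)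
  exact (mul_inv_eq_iff_eq_mul.mp (mul_inv_eq_one.mp this)).symm

omit [Finite G] in
theorem norm_of_le_center (h : Z ≤ center G) : A ≤ normalizer (Z : Set G) := fun a _ x => by
  constructor <;> intro hx
  · rwa [mem_center_iff.mp (h hx) a, mul_inv_cancel_right]
  · have := mem_center_iff.mp (h hx) a⁻¹
    rwa [show x = a * x * a⁻¹ by rw [← mul_inv_cancel_right (a * x * a⁻¹) a⁻¹, ← this]; group]

omit [Finite G] in
theorem inv_of_le_center (h : Z ≤ center G) : Inv A Z θ := fun a _ x hx => by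
  rw [mem_center_iff.mp (h hx) a, mul_inv_cancel_right]

/-- Splitting off the part of a central subgroup of order prime to its index. -/
theorem central_split [K.Normal] (hZ : Z ≤ center G) (hl : Z ≤ K) :
    ∃ L Y : Subgroup G, L.Normal ∧ Y ≤ Z ∧ L ⊔ Y = K ∧
      (∀ q : ℕ, q.Prime → q ∣ Nat.card L → q ∣ Z.relIndex K) ∧ (Nat.card Y).Coprime (Z.relIndex K) := by
  let τ : Set ℕ := {q | q ∣ Z.relIndex K}
  have hY : IsPiSubgroup τᶜ (Z ⊓ piCore τᶜ G) :=
    Core.IsPiSubgroup.of_le (Core.piCore_isPiSubgroup _) inf_le_right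
  have h1 : ∀ q : ℕ, q.Prime → q ∣ (Z ⊓ piCore τᶜ G).relIndex K → q ∈ τ := fun q hq h => by
    rw [← relIndex_mul_relIndex _ Z K inf_le_left hl, hq.dvd_mul] at h
    refine h.elim (fun h => by_contra fun hτ => ?_) id
    obtain ⟨x, x1, x2, x3⟩ := exists_pow_mem hq (norm_of_le_center (inf_le_left.trans hZ)) h
    refine x2 ⟨x1, Core.le_piCore (Core.normal_of_le_normalizer (norm_of_le_center
      ((zpowers_le.mpr x1).trans hZ))) (fun r hr e => ?_) (mem_zpowers x)⟩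
    rw [Nat.card_zpowers] at e
    have := e.trans (orderOf_dvd_of_pow_eq_one (n := q * orderOf (x ^ q)) (by
      rw [pow_mul, pow_orderOf_eq_one]))
    rcases hr.dvd_mul.mp this with h | h
    · rwa [(Nat.prime_dvd_prime_iff_eq hr hq).mp h]
    · exact hY r hr (h.trans (orderOf_dvd_natCard _ x3))
  obtain ⟨H, a1, -, a3, a4⟩ := Core.exists_complement_in (Z ⊓ piCore τᶜ G) K (inf_le_left.trans hl)
    (norm_of_le_center (inf_le_left.trans hZ)) (Nat.coprime_of_dvd fun q hq a b => hY q hq a (h1 q hq b))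
  have h2 : H ≤ piCore τ G := Core.le_piCore_of_isSubnormal (IsSubnormal.step H K a1 (Normal.isSubnormal ‹_›)
    (normal_sub (a3.ge.trans (sup_le ((inf_le_left.trans hZ).trans (center_le_normalizer _)) le_normalizer))))
    fun q hq h => h1 q hq (a4 ▸ h)
  refine ⟨K ⊓ piCore τ G, Z ⊓ piCore τᶜ G, inferInstance, inf_le_left, le_antisymm
    (sup_le inf_le_left (inf_le_left.trans hl)) (a3.ge.trans (sup_le le_sup_right
      ((le_inf a1 h2).trans le_sup_left))), Core.IsPiSubgroup.of_le (Core.piCore_isPiSubgroup τ) inf_le_right,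
    Nat.coprime_of_dvd fun q hq a b => hY q hq a b⟩

/-- The product of characters of commuting, disjoint subgroups. -/
theorem Irr.exists_prod_lin (h : Irr L θ) (hφ : Chr Z φ) (h1 : φ 1 = 1) (hd : Disjoint L Z)
    (hn : L ≤ normalizer (Z : Set G)) (hn' : Z ≤ normalizer (L : Set G)) :
    ∃ χ, Irr (L ⊔ Z) χ ∧ ∀ x ∈ L, ∀ z ∈ Z, χ (x * z) = θ x * φ z := by
  obtain ⟨a, a1, a2, a3⟩ := h.exists_lift hn (hd.symm.eq_bot ▸ ker_bot)
  obtain ⟨b, b1, b2, b3, -⟩ := hφ.exists_lift hn' (hd.eq_bot ▸ ker_bot)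
  rw [sup_comm] at a1
  refine ⟨_, a1.mul_lin b1 (b3.one.trans h1), fun x hx z hz => ?_⟩
  rw [Pi.mul_apply, a1.chr.mul_of_eq' (mem_sup_right hz) (a2 z hz) (mem_sup_left hx),
    b1.mul_of_eq (mem_sup_left hx) (b2 x hx) (mem_sup_right hz), a3 x hx, b3 z hz]

end Cfsg.Agent.Isaacs
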