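import Mathlib
import Cfsg.Agent.Isaacs.Cop
import Cfsg.Agent.Isaacs.Cent

/-! Berger's theorem: quasiprimitive characters of solvable groups are primitive. -/

set_option autoImplicit false

open scoped ComplexConjugate commutatorElement

namespace Cfsg.Agent.Isaacs

open Cfsg Cfsg.Agent.Char Subgroup

variable {G : Type*} [Group G] [Finite G] {A B C D H K L M N P Q S T U Z : Subgroup G}
  {θ φ ψ χ η β ξ : G → ℂ} {p : ℕ}

theorem Irr.of_mul (h : Irr H (φ * ψ)) (h1 : Chr H φ) (h2 : Chr H ψ) : Irr H ψ := by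
  have h0 := mul_ne_zero_iff.mp h.one_ne
  obtain ⟨η, a1, a2⟩ := h2.inv.exists_irr' h0.2
  have a3 := h2.sub_constit a1 a2
  rcases Irr.eq_zero_or (θ := φ * η) (φ := φ * (ψ - η)) (by rwa [← mul_add, add_sub_cancel])
    (h1.mul a1.chr) (h1.mul a3) with e | e
  · exact absurd e.one (mul_ne_zero h0.1 a1.one_ne)
  · exact a1.congr fun x hx => (sub_eq_zero.mp (a3.eqv_zero ((mul_eq_zero.mp e.one).resolve_left h0.1)
      x hx)).symm

theorem Irr.deg_dvd_of_norm (h : Irr K χ) (hz : ∀ z ∈ Z, ‖χ z‖ = ‖χ 1‖) {d : ℕ} (hd : χ 1 = d) :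
    d ∣ Z.relIndex K :=
  Triple.degree_dvd_index_of_le_charCenter h hd fun z hz' => (mem_charCenter_iff h.chr).mpr (hz z hz')

theorem Chr.comm_of_norm (h : Chr K χ) {z g : G} (hz : z ∈ K) (hg : g ∈ K) (e : ‖χ z‖ = ‖χ 1‖) :
    χ ⁅g, z⁆ = χ 1 :=
  apply_eq_of_mem_charKer (f := fun x : K => χ x) (commutator_mem_charKer h.inv.cf (z := ⟨z, hz⟩) ((mem_charCenter_iff h).mpr e)
    ⟨g, hg⟩)

theorem Chr.norm_lin (h : Chr K χ) (h1 : χ 1 = 1) {x : G} (hx : x ∈ K) : ‖χ x‖ = 1 := by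
  have := congrArg norm (h.mul_conj h1 hx)
  rw [norm_mul, Complex.norm_conj, norm_one] at this
  exact (mul_self_eq_one_iff.mp this).resolve_right fun e => by linarith [norm_nonneg (χ x)]

theorem Irr.norm_of_center (h : Irr K χ) {z : G} (hz : z ∈ K) (hc : z ∈ center G) : ‖χ z‖ = ‖χ 1‖ :=
  h.norm_of_comm hz fun g _ => by
    rw [commutatorElement_eq_one_iff_mul_comm.mpr (mem_center_iff.mp hc g)]

theorem Tri.Corr.prim {Γ R : Type*} [Group Γ] [Group R] [Finite Γ] [Finite R] {t : Tri K N θ Γ R}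
    {α : R → ℂ} (h : t.Corr H χ α) (hN : N ≤ L) (hl : L ≤ H) (hH : H ≤ K) (hα : Irr (t.bar H) α)
    (e : inn t.Z α t.μ ≠ 0) (hp : Prim L H χ) : Prim (t.bar L) (t.bar H) α := fun W η a b c d => by
  obtain ⟨T, a1, a2, rfl⟩ := t.exists_bar ((t.le_bar hN).trans a)
  have a3 := t.le_of_bar (hN.trans hl) a2 b
  obtain ⟨ψ, b1, b2⟩ := h.exists_ind a1 a3 hH hα e c d
  rw [hp T ψ (t.le_of_bar a1 (hl.trans hH) a) a3 b1.chr b2]

theorem berger_central [K.Normal] (hZ : Z ≤ center G) (hKH : K ⊔ H = ⊤) (hi : K ⊓ H ≤ Z) (hZK : Z ≤ K)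
    (hZQ : Z ≤ Q) (hQ : Q ≤ H) (hn : H ≤ normalizer (Q : Set G))
    (hc : (Z.relIndex K).Coprime (Z.relIndex Q)) (hψ : Chr H ψ) (h : Irr ⊤ χ)
    (e : Eqv ⊤ (ind H ⊤ ψ) χ) (hp : Prim K ⊤ χ) : ⁅K, Q⁆ ≤ Z := by
  obtain ⟨θ, k, a1, a2, a3, -, a4⟩ := hp.homog h le_rfl le_top norm_top
  have a5 : ∀ x ∈ K, x ∉ Z → θ x = 0 := fun x hx hz => by
    have := a4 x hx
    rw [← e x trivial, ind_eq_zero fun y _ hy => absurd ((conj_mem (norm_of_le_center hZ) (mem_top y⁻¹)
      (hi ⟨conj_mem norm_top (mem_top y) hx, hy⟩))) (by simpa [mul_assoc] using hz)] at this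
    exact (mul_eq_zero.mp this.symm).resolve_left (Nat.cast_ne_zero.mpr a3.ne')
  obtain ⟨d, d0, hd⟩ := a1.deg
  have a6 := (a1.sq_deg_iff hZK hd (ker_bot.mono (commutator_le.mpr fun a _ z hz =>
    commutatorElement_eq_one_iff_mul_comm.mpr (mem_center_iff.mp (hZ hz) a)))).mpr a5
  have a7 : χ 1 = d ^ 2 * ψ 1 := by
    rw [← e.one, ind_one, relIndex_top_right, Core.index_eq_relIndex_of_sup_eq_top' hKH,
      ← inf_relIndex_right, show H ⊓ K = Z from le_antisymm (inf_comm H K ▸ hi) (le_inf (hZQ.trans hQ) hZK),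
      ← a6, Nat.cast_pow]
  obtain ⟨Γ, R, _, _, _, _, ⟨t⟩⟩ := a1.exists_tri norm_top le_top a2
  have a8 : inn K χ θ ≠ 0 := by rw [a1.inn_of_smul a4]; exact Nat.cast_ne_zero.mpr a3.ne'
  obtain ⟨β, b1, b2⟩ := t.down le_top le_rfl h a1 a8
  have b3 := b2.prim le_rfl le_top le_rfl b1 (by rwa [← b2.inn_mu le_top]) hp
  have b4 : t.bar H = t.bar ⊤ := by
    rw [← congrArg t.bar hKH, t.bar_sup le_top le_top, t.bar_self, sup_eq_right.mpr t.le_bar']
  have hr : H ≤ t.π.range := le_top.trans t.range.ge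
  have b5 := (b4 ▸ b1).of_map t.ρ
  have c1 := hψ.comap t.π
  have c2 := (t.chr.res (le_top (a := H.comap t.π))).cnj
  have c3 : Eqv (H.comap t.π) ((fun x => ψ (t.π x)) * fun x => conj (t.e x)) fun x => β (t.ρ x) :=
    (c1.mul c2).eqv_of_deg b5 (by
      rw [← inn_mul_right, Eqv.inn_right (θ := _ * t.e) (φ := fun x => χ (t.π x))
        fun x _ => (b2 x trivial).symm,
        inn_comap t.π hr, ← inn_ind_left le_top h.inv, e.inn_left]
      exact h.inn_self_ne) (by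
      have := b2.deg
      rw [a7, hd, pow_two, mul_assoc, mul_comm, mul_left_inj' (Nat.cast_ne_zero.mpr d0.ne')] at this
      rw [Pi.mul_apply, map_one, map_one, t.e_one, hd, map_natCast, ← this, mul_comm])
  have c4 := (b5.congr c3.symm).of_mul c1 c2
  have q1 : Q.comap t.π ≤ H.comap t.π := comap_mono hQ
  have q2 : H.comap t.π ≤ normalizer ((Q.comap t.π : Subgroup Γ) : Set Γ) :=
    (comap_mono hn).trans (le_normalizer_comap _)
  obtain ⟨η, e1, e2⟩ := c4.exists_under q1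
  set T := stab (Q.comap t.π) η ⊓ H.comap t.π
  have t1 : Q.comap t.π ≤ T := le_inf e1.inv.le_stab q1
  obtain ⟨γ, g1, -, g2⟩ := e1.exists_ind_of_stab q2 t1 inf_le_right le_rfl c4 e2
  have g3 := (c1.res inf_le_right).mul g1.chr
  have g4 : Eqv (H.comap t.π) (ind T (H.comap t.π) ((fun x => ψ (t.π x)) * γ)) fun x => β (t.ρ x) :=
    fun x hx => by rw [ind_mul' c1.inv, Pi.mul_apply, g2 x hx]; exact c3 x hx
  have g5 := fun x (hx : x ∈ t.ρ.ker ⊓ H.comap t.π) => g3.of_ind_eq (mul_ne_zero (by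
    have := (b5.congr c3.symm).one_ne; exact left_ne_zero_of_mul this) g1.one_ne) inf_le_right hx.2 (by
      rw [g4 x hx.2, g4.one]; exact ker_comp_ker t.ρ β x hx.1)
  obtain ⟨κ, k1, k2⟩ := g3.exists_push t.ρ fun x hx => (g5 x ⟨hx.1, hx.2.2⟩).2
  have k3 : (T.map t.ρ).comap t.ρ ⊓ H.comap t.π = T := le_antisymm (by
    rintro x ⟨⟨y, hy, e⟩, hx⟩
    have := (g5 (x * y⁻¹) (mem_inf.mpr ⟨by rw [MonoidHom.mem_ker, map_mul, map_inv, e, mul_inv_cancel],
      mul_mem hx ((H.comap t.π).inv_mem hy.2)⟩)).1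
    exact (T.mul_mem_cancel_right (T.inv_mem hy)).mp this) (le_inf (le_comap_map _ _) inf_le_right)
  have k4 := b3 (T.map t.ρ) κ (t.bar_self.le.trans (t.cov.trans (map_mono ((ker_le_comap _ _).trans t1))))
    (map_mono le_top) k1 (by
      rw [← b4]
      rintro _ ⟨x, hx, rfl⟩
      rw [← congrFun (ind_comap (K := t.bar H) t.ρ (map_le_range _ _)) x, ind_res_mul (H := (T.map t.ρ).comap t.ρ)
        (M := (t.bar H).comap t.ρ) (k1.comap t.ρ).inv
        (comap_mono (map_mono inf_le_right)) (le_comap_map _ _) (by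
          rintro g ⟨y, hy, e⟩
          exact ⟨y, hy, y⁻¹ * g, ker_le_comap _ _ (by
            rw [MonoidHom.mem_ker, map_mul, map_inv, e, inv_mul_cancel]), by simp⟩) x hx,
        ← ind_inf, k3, ind_congr k2, g4 x hx])
  have k5 : Inv (H.comap t.π) (Q.comap t.π) η := (Isaacs.le_stab q2).mp (by
    refine le_trans ?_ (k3.le.trans inf_le_left)
    rw [k4, ← b4]; exact le_inf (le_comap_map _ _) le_rfl)
  obtain ⟨f, f1, -, f2⟩ := c4.ram q2 q1 e1 k5 e2
  obtain ⟨n, -, hn⟩ := e1.deg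
  have f3 : ∀ x, t.π x ∈ Q → ‖t.e x‖ = f * ‖η x‖ := fun x hx => by
    rw [← Complex.norm_conj, show conj (t.e x) = _ from f2 x hx, Pi.smul_apply, norm_smul, Complex.norm_natCast]
  have f4 : d = f * n := by
    have := f2.one
    rw [t.e_one, hd, map_natCast, Pi.smul_apply, hn, smul_eq_mul] at this
    exact_mod_cast this
  have f5 := e1.deg_dvd_of_norm (Z := Z.comap t.π) (fun z hz => by
    have := congrArg norm (t.corr z (hZK hz))
    rw [a1.norm_of_center (hZK hz) (hZ hz), norm_mul, t.lin.norm_lin t.one (t.comap.le (hZK hz)), one_mul,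
      ← t.e_one, f3 z (hZQ hz), f3 1 (by simp)] at this
    exact (mul_left_cancel₀ (Nat.cast_ne_zero.mpr f1.ne') this).symm) hn
  rw [relIndex_comap, t.map_comap le_top] at f5
  obtain rfl : n = 1 := Nat.eq_one_of_dvd_coprimes hc (a6 ▸ (Dvd.intro_left f f4.symm).trans
    (dvd_pow_self d two_ne_zero)) f5
  refine commutator_le.mpr fun x hx y hy => by_contra fun hz => ?_
  obtain ⟨x, rfl⟩ := t.exists_pre (mem_top x)
  obtain ⟨y, rfl⟩ := t.exists_pre (mem_top y)
  have h1 : ⁅t.π x, t.π y⁆ ∈ K := commutator_le_left K Q (commutator_mem_commutator hx hy)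
  have h2 := t.corr ⁅x, y⁆ (by rwa [map_commutatorElement])
  rw [t.chr.comm_of_norm trivial trivial (by
    rw [f3 y hy, f3 1 (by simp), e1.chr.norm_lin (by simpa using hn) hy, hn]; simp), map_commutatorElement t.π,
    a5 _ h1 hz, t.e_one] at h2
  exact mul_ne_zero (t.lin.ne_zero t.one (t.comap.le (by rwa [mem_comap, map_commutatorElement])))
    a1.one_ne h2.symm

/-- Berger's theorem, relative form. -/
theorem Irr.prim_of_homog (h : Irr ⊤ χ) (L : Subgroup G) (hL : L.Normal) (hs : SolvMod L ⊤)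
    (hh : ∀ M : Subgroup G, M.Normal → L ≤ M → ∃ (φ : G → ℂ) (c : ℂ), Irr M φ ∧ Eqv M χ (c • φ)) :
    Prim L ⊤ χ := by
  induction L using WellFoundedGT.induction with | _ L ih
  have ih' : ∀ M : Subgroup G, L < M → M.Normal → Prim M ⊤ χ := fun M a b =>
    ih M a b (hs.mono a.le le_rfl) fun N c d => hh N c (a.le.trans d)
  intro T η a1 _ a2 a3
  by_contra a4
  obtain ⟨H, hH, a5⟩ := (eq_top_or_exists_le_coatom T).resolve_left a4
  have a6 := a2.indc a5
  have a7 : Eqv ⊤ (ind H ⊤ (ind T H η)) χ := by rwa [ind_ind a5 le_top]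
  have a8 := a6.irr_of_ind le_top (h.congr a7.symm)
  generalize ind T H η = ψ at a6 a7 a8
  have hl := a1.trans a5
  have core : ∀ M : Subgroup G, L ≤ M → M ≤ H → M.Normal → M ≤ L := fun M a b c =>
    (a.eq_or_lt.resolve_right fun d => hH.1 (ih' M d c H ψ b le_top a6 a7)).ge
  obtain ⟨φ, c, b1, b2⟩ := hh L hL le_rfl
  have b3 : c ≠ 0 := by rintro rfl; exact h.one_ne (by simpa using b2.one)
  have b4 : Inv ⊤ L φ := (h.inv.mono le_rfl le_top).of_smul norm_top b3 b2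
  have b5 : inn L ψ φ ≠ 0 := by
    obtain ⟨ν, c1, c2⟩ := a8.exists_under hl
    rwa [← (b1.eqv_of_smul c1 b2 ((h.chr.res le_top).over_trans hl a8 c1.chr (by
      rw [← inn_ind_right le_top h.inv, a7.inn_right]; exact h.inn_self_ne) c2)).inn_right]
  obtain ⟨K, -, k⟩ := exists_chief_above (A := ⊤) (hl.trans_lt hH.1.lt_top) norm_top norm_top
  have := Core.normal_of_le_normalizer k.nK
  have k1 := k.comm_le norm_top (hs.mono le_rfl le_top)
  have k2 : ¬ K ≤ H := fun e => k.lt.not_ge (core K k.lt.le e this)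
  have k3 : K ⊔ H = ⊤ := hH.2 _ (right_lt_sup.mpr k2)
  have k4 : K ⊓ H ≤ L := core _ (le_inf k.lt.le hl) inf_le_right (Core.normal_of_le_normalizer (k3 ▸ sup_le
    (norm_of_comm_le inf_le_left (k1.trans (le_inf k.lt.le hl))) (Core.le_normalizer_inf norm_top le_normalizer)))
  rcases (le_top (a := K)).eq_or_lt with rfl | k5
  · obtain rfl : H = L := le_antisymm (by simpa using k4) hl
    exact hH.1 (top_le_iff.mp ((le_inf ((Isaacs.le_stab norm_top).mpr (b4.congr norm_top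
      (a8.eqv b1 b5).symm)) le_rfl).trans ((a8.ind_iff norm_top le_top).mp (h.congr a7.symm))))
  obtain ⟨M, -, m⟩ := exists_chief_above (A := ⊤) k5 norm_top norm_top
  have := Core.normal_of_le_normalizer m.nK
  have m1 := m.comm_le norm_top (hs.mono k.lt.le le_top)
  have m2 : K ⊔ H ⊓ M = M := by rw [← Core.sup_inf_of_le_left norm_top m.lt.le, k3, top_inf_eq]
  have m3 : L ≤ H ⊓ M := le_inf hl (k.lt.le.trans m.lt.le)
  have m4 : H ≤ normalizer ((H ⊓ M : Subgroup G) : Set G) := Core.le_normalizer_inf le_normalizer norm_top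
  have m5 : ¬ K ≤ normalizer ((H ⊓ M : Subgroup G) : Set G) := fun e => m.lt.not_ge (m2.ge.trans
    (sup_le le_rfl ((core _ m3 inf_le_left (Core.normal_of_le_normalizer (k3 ▸ sup_le e m4))).trans k.lt.le)))
  have m6 : L.relIndex (H ⊓ M) = K.relIndex M := by
    rw [← m2, relIndex_sup_left, m2, ← inf_relIndex_right K, show K ⊓ (H ⊓ M) = L from
      le_antisymm ((inf_le_inf_left _ inf_le_left).trans k4) (le_inf k.lt.le m3)]
  obtain ⟨p, hp, -, a, -, ha⟩ := k.exists_prime k1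
  obtain ⟨q, hq, -, b, -, hb⟩ := m.exists_prime m1
  have m7 : p ≠ q := by
    rintro rfl
    have := lt_normalizer_inf hp norm_top (k := a + b) (by
      rw [← relIndex_mul_relIndex L K M k.lt.le m.lt.le, ha, hb, pow_add]) m3
      (inf_le_right.lt_of_ne fun e => k2 (m.lt.le.trans (e.ge.trans inf_le_left)))
    exact m5 (le_top.trans (hH.2 _ (m4.lt_of_ne fun e => this.ne (by rw [← e]))).ge)
  obtain ⟨Γ, R, _, _, _, _, ⟨t⟩⟩ := b1.exists_tri norm_top le_top b4
  have b6 : inn L χ φ ≠ 0 := by rwa [b1.inn_of_smul b2]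
  obtain ⟨β, c1, c2⟩ := t.down le_top le_rfl h b1 b6
  obtain ⟨α, c3, c4⟩ := t.down hl le_top a8 b1 b5
  have c5 := c2.prim k.lt.le le_top le_rfl c1 (by rwa [← c2.inn_mu le_top]) (ih' K k.lt ‹_›)
  have c6 := (c4.indc hl le_top le_rfl).eqv' c2 le_top le_rfl a7
  rw [t.bar_top] at c1 c5 c6
  have := Core.normal_of_le_normalizer (t.bar_top ▸ t.bar_norm k.nK)
  have := berger_central t.central (by rw [← t.bar_sup le_top le_top, k3, t.bar_top])
    (by rw [← t.bar_inf k.lt.le, ← t.bar_self]; exact t.bar_mono k4) t.le_bar' t.le_bar'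
    (t.bar_mono (inf_le_left (b := M))) (t.bar_norm m4) (by
      rw [t.relIndex_Z le_top, t.relIndex_Z le_top, m6, ha, hb]
      exact ((Nat.coprime_primes hp hq).mpr m7).pow _ _) c3.chr c1 c6 c5
  rw [← t.bar_self] at this
  exact m5 (le_normalizer_iff_commutator_le_right.mpr ((t.comm_of_bar le_rfl le_top le_top this).trans m3))

end Cfsg.Agent.Isaacs
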