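import Mathlib
import Cfsg.Agent.Char.Indicator
import Cfsg.Agent.Block.Height

/-! Counting involutions with the Frobenius-Schur indicator. -/

set_option autoImplicit false

open scoped ComplexConjugate

namespace Cfsg.Agent.Isaacs

open Cfsg Cfsg.Agent.Char Subgroup

variable {G : Type*} [Group G]

theorem mul_self_eq_one_iff {s : G} : s * s = 1 ↔ s = 1 ∨ orderOf s = 2 := by
  rw [← pow_two, ← orderOf_dvd_iff_pow_eq_one, Nat.dvd_prime Nat.prime_two, orderOf_eq_one_iff]

theorem card_sq_one [Finite G] : Nat.card {s : G // s * s = 1} = Nat.card {x : G // orderOf x = 2} + 1 := by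
  classical
  have := Fintype.ofFinite G
  simp only [mul_self_eq_one_iff, Nat.card_eq_fintype_card, Fintype.card_subtype]
  rw [← Finset.card_insert_of_notMem (a := 1) (by simp)]
  congr 1; ext; simp

/-- the indicator as an integer -/
noncomputable def fsZ [Fintype G] (χ : G → ℂ) : ℤ := ⌊(fsInd χ).re⌋

theorem fsZ_cast [Fintype G] {χ : G → ℂ} (h : IsIrrCharacter G χ) : (fsZ χ : ℂ) = fsInd χ := by
  rcases fsInd_cases h with e | e | e <;> simp [fsZ, e, Int.floor_neg]

theorem fsZ_cases [Fintype G] {χ : G → ℂ} (h : IsIrrCharacter G χ) : fsZ χ = 0 ∨ fsZ χ = 1 ∨ fsZ χ = -1 := by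
  rcases fsInd_cases h with e | e | e <;> simp [fsZ, e, Int.floor_neg]

theorem fsInd_one [Fintype G] : fsInd (fun _ : G => (1 : ℂ)) = 1 := by
  rw [fsInd_eq_inner]; exact classInner_one_one

theorem card_invol [Fintype G] : (Nat.card {x : G // orderOf x = 2} + 1 : ℤ) =
    ∑ χ : IrrCharacter G, fsZ χ.1 * charDegree χ.1 := by
  have := card_sqrt_eq_sum (1 : G)
  rw [card_sq_one, Finset.sum_congr rfl fun χ _ => by rw [← fsZ_cast χ.2, ← Block.irr_degree_cast]] at this
  exact_mod_cast this

theorem sum_degree_sq [Finite G] : ∑ χ : IrrCharacter G, charDegree χ.1 ^ 2 = Nat.card G := by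
  have := sum_irr_one_sq (G := G)
  simp only [← Block.irr_degree_cast] at this
  exact_mod_cast this

end Cfsg.Agent.Isaacs
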