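import Mathlib
import Cfsg.Agent.Isaacs.Cop
import Cfsg.Agent.Isaacs.InvCount
import Cfsg.Agent.Isaacs.GalFix
import Cfsg.Agent.Isaacs.Misc
import Cfsg.Agent.Transfer.Residual

/-! Character degrees: Thompson's theorem and groups whose proper quotients are abelian. -/

set_option autoImplicit false

open scoped ComplexConjugate commutatorElement

namespace Cfsg.Agent.Isaacs

open Cfsg Cfsg.Agent.Char Subgroup

variable {G : Type*} [Group G] [Finite G] {A B C H K L M N P T U V Z : Subgroup G}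
  {θ φ ψ χ η β : G → ℂ} {p m n : ℕ} {S : Set ℕ}

theorem not_dvd_detOrder (hp : p.Prime) (h : pResidual p G = ⊤) (hχ : IsCharacter G χ) : ¬ p ∣ detOrder χ := by
  obtain ⟨l, hl⟩ := Det.exists_detHom hχ
  have : pResidual p G ≤ (l ^ ordCompl[p] (Nat.card G)).ker := Transfer.pResidual_le_iff.mpr fun g hg => by
    rw [MonoidHom.mem_ker, MonoidHom.pow_apply, ← map_pow, orderOf_dvd_iff_pow_eq_one.mp
      ((hg.pow_right _).dvd_of_dvd_mul_left (by
        rw [Nat.ordProj_mul_ordCompl_eq_self]; exact orderOf_dvd_natCard g)), map_one]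
  rw [detOrder, hl, Det.orderOf_coe_linear]
  exact fun e => Nat.not_dvd_ordCompl hp Nat.card_pos.ne' (e.trans (orderOf_dvd_of_pow_eq_one
    (MonoidHom.ext fun g => this (h.ge (mem_top g)))))

theorem card_res_modEq (hp : p.Prime) [DecidablePred fun χ : IrrCharacter G =>
    ¬ p ∣ charDegree χ.1 ∧ ¬ p ∣ detOrder χ.1] : (Nat.card (pResidual p G) : ℤ) ≡
      ∑ χ : IrrCharacter G with ¬ p ∣ charDegree χ.1 ∧ ¬ p ∣ detOrder χ.1, (charDegree χ.1 : ℤ) ^ 2 [ZMOD p] := by
  classical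
  have := Fact.mk hp
  obtain ⟨P⟩ := (inferInstance : Nonempty (Sylow p G))
  set N := pResidual p G
  obtain ⟨k, hk⟩ := Transfer.exists_index_pResidual_eq_pow (p := p) (G := G)
  have cp : ∀ {d}, ¬ p ∣ d → (N.relIndex ⊤).Coprime d := fun h => by
    rw [relIndex_top_right, hk]; exact (hp.coprime_iff_not_dvd.mpr h).pow_left k
  have h1 := sum_modEq_fixed (X := IrrCharacter N) (P.isPGroup'.comap_subtype (K := normalizer (N : Set G)))
    (fun θ => (charDegree θ.1 : ℤ) ^ 2) fun g θ => by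
      congr 2; exact congrArg (fun z : ℂ => ⌊z.re⌋₊) (congrArg θ.1 (map_one _))
  rw [← sum_degree_sq]; push_cast
  refine h1.trans ?_
  rw [← Finset.sum_filter_add_sum_filter_not _ fun θ : IrrCharacter N => p ∣ charDegree θ.1, ← zero_add (∑ χ with _, _)]
  refine Int.ModEq.add (Int.modEq_zero_iff_dvd.mpr (Finset.dvd_sum fun θ h => Dvd.dvd.pow
    (Int.natCast_dvd_natCast.mpr (Finset.mem_filter.mp h).2) two_ne_zero)) ?_
  have ex : ∀ θ : IrrCharacter N, Inv ⊤ N (ez N θ) → ¬ p ∣ charDegree θ.1 → _ := fun θ a b =>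
    (irr_ez.mpr θ.2).exists_canon' norm_top le_top a (ez_deg θ).symm.symm (cp fun e => (hp.dvd_mul.mp e).elim
      (fun e => not_dvd_detOrder hp Transfer.pResidual_pResidual (irr_isChar θ) (dord_ez θ.1 ▸ e)) b)
  have rs : ∀ χ : IrrCharacter G, ¬ p ∣ charDegree χ.1 → Irr N χ.1 := fun χ h =>
    (irr_top.mpr χ.2).res_of_coprime norm_top le_top (Block.irr_degree_cast χ).symm (cp h).symm
  rw [Finset.sum_bij (t := Finset.filter (fun θ : IrrCharacter N => ¬ p ∣ charDegree θ.1) _)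
    (fun χ h => ⟨_, rs χ (Finset.mem_filter.mp h).2.1⟩) (fun χ h => ?_) (fun χ h ψ h' e => ?_) (fun θ h => ?_)
    (g := fun θ => (charDegree θ.1 : ℤ) ^ 2) fun _ _ => rfl]
  · simp only [Finset.mem_filter, Finset.mem_univ, true_and] at h ⊢
    exact ⟨(mem_fixedPoints_iff norm_top _).mpr ((inv_of_cf (irr_classFun χ)).congr norm_top eqv_ez.symm), h.1⟩
  · simp only [Finset.mem_filter, Finset.mem_univ, true_and] at h h'
    obtain ⟨η, -, -, -, a⟩ := ex ⟨_, rs χ h.1⟩ ((inv_of_cf (irr_classFun χ)).congr norm_top eqv_ez.symm) h.1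
    exact Subtype.ext (eqv_top.mp ((a _ (irr_top.mpr χ.2).chr eqv_ez.symm (cp (dord_top (irr_isChar χ) ▸ h.2))).trans
      (a _ (irr_top.mpr ψ.2).chr (e ▸ eqv_ez.symm) (cp (dord_top (irr_isChar ψ) ▸ h'.2))).symm))
  · simp only [Finset.mem_filter, Finset.mem_univ, true_and] at h ⊢
    obtain ⟨η, a, b, c, -⟩ := ex θ (Transfer.pResidual_sup_sylow P ▸ (irr_ez.mpr θ.2).inv.sup
      ((mem_fixedPoints_iff norm_top _).mp h.1) le_normalizer norm_top) h.2
    refine ⟨⟨η, irr_top.mp a⟩, ⟨by rw [Block.charDegree_of_eq (b.one.trans (ez_deg θ))]; exact h.2, ?_⟩,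
      Subtype.ext (b.eq.trans (ez_res _))⟩
    rw [← dord_top (irr_top.mp a |> isIrr_isChar), c, dord_ez]
    exact not_dvd_detOrder hp Transfer.pResidual_pResidual (irr_isChar θ)

/-- Thompson's theorem -/
theorem thompson (hp : p.Prime) (h : ∀ χ : G → ℂ, Irr ⊤ χ → ∀ d : ℕ, χ 1 = d → d ≠ 1 → p ∣ d) :
    ¬ p ∣ Nat.card (pResidual p G) := by
  classical
  have := Fact.mk hp
  have h1 := card_res_modEq (G := G) hp
  let W : Subgroup (G →* ℂˣ) :=
    { carrier := {l | ¬ p ∣ orderOf l}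
      mul_mem' := fun {a b} ha hb e => (hp.dvd_mul.mp (e.trans (Commute.all a b).orderOf_mul_dvd_mul_orderOf)).elim ha hb
      one_mem' := by simpa using hp.ne_one
      inv_mem' := fun {a} ha => by simpa using ha }
  have e1 : ∀ χ : IrrCharacter G, ¬ p ∣ charDegree χ.1 → χ.1 1 = 1 := fun χ a => by
    rw [← Block.irr_degree_cast, not_not.mp (mt (h _ (irr_top.mpr χ.2) _ (Block.irr_degree_cast χ).symm) a),
      Nat.cast_one]
  rw [Finset.sum_congr rfl (g := fun _ => 1) fun χ a => by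
    rw [Block.charDegree_of_eq (n := 1) (by simpa using e1 χ (Finset.mem_filter.mp a).2.1)]; simp,
    Finset.sum_const, nsmul_eq_mul, mul_one, ← Fintype.card_subtype, ← Nat.card_eq_fintype_card,
    ← card_eq_of_rel (X := W) (Y := {χ : IrrCharacter G // ¬ p ∣ charDegree χ.1 ∧ ¬ p ∣ detOrder χ.1}) (fun l χ => χ.1.1 = fun g => (l.1 g : ℂ)) (fun l => ⟨⟨⟨_, isIrr_linear l.1⟩, by
      rw [Block.charDegree_of_eq (n := 1) (by simp)]; simpa using hp.ne_one, by
      rw [detOrder, Det.detChar_linear, Det.orderOf_coe_linear]; exact l.2⟩, rfl⟩) (fun χ => ?_)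
      (fun _ _ _ a b => Subtype.ext (Subtype.ext (a.trans b.symm)))
      fun _ _ _ a b => Subtype.ext (Det.linear_ext (a.symm.trans b)), Int.natCast_modEq_iff] at h1
  · intro e
    have : Finite (G →* ℂˣ) := Finite.of_injective (fun l => (⟨_, isIrr_linear l⟩ : IrrCharacter G))
      fun _ _ a => Det.linear_ext (congrArg Subtype.val a)
    obtain ⟨l, hl⟩ := exists_prime_orderOf_dvd_card' p ((h1.dvd_iff dvd_rfl).mp e)
    exact l.2 (by rw [orderOf_coe, hl])
  · obtain ⟨l, hl⟩ := isChar_linear_of_degree_one (irr_isChar χ.1) (e1 _ χ.2.1)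
    exact ⟨⟨l, by have := χ.2.2; rwa [hl, detOrder, Det.detChar_linear, Det.orderOf_coe_linear] at this⟩, hl⟩

end Cfsg.Agent.Isaacs
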