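import Mathlib
import Cfsg.Agent.Isaacs.Deg
import Cfsg.Agent.Isaacs.Berger
import Cfsg.Agent.Block.Height
import Cfsg.Agent.H2.Frobenius

/-! Codegrees of irreducible characters. -/

set_option autoImplicit false

open scoped ComplexConjugate commutatorElement

namespace Cfsg.Agent.Isaacs

open Cfsg Cfsg.Agent.Char Subgroup

variable {G : Type*} [Group G] [Finite G] {H K N P : Subgroup G} {θ χ : G → ℂ} {p m n : ℕ}

theorem Chr.dvd_deg (h : Chr H χ) (hn : χ 1 = n)
    (e : ∀ θ, Irr H θ → inn H χ θ ≠ 0 → ∀ d : ℕ, θ 1 = d → m ∣ d) : m ∣ n := by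
  have h1 := (h.inv.expand).one
  rw [hn, Finset.sum_apply] at h1
  have : ∀ θ : IrrCharacter H, ∃ k : ℕ, (inn H χ (ez H θ) • ez H θ) 1 = (m * k : ℕ) := fun θ => by
    obtain ⟨a, ha⟩ := h.inn_nat (irr_ez.mpr θ.2).chr
    rcases eq_or_ne (inn H χ (ez H θ)) 0 with h0 | h0
    · exact ⟨0, by simp [h0]⟩
    · obtain ⟨b, hb⟩ := e _ (irr_ez.mpr θ.2) h0 _ (ez_deg θ)
      exact ⟨a * b, by rw [Pi.smul_apply, ha, ez_deg, hb]; simp; ring⟩
  choose k hk using this
  rw [Finset.sum_congr rfl fun θ _ => hk θ, ← Nat.cast_sum, Nat.cast_inj] at h1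
  exact h1 ▸ Finset.dvd_sum fun θ _ => dvd_mul_right _ _

/-- The codegree. -/
noncomputable def cod (χ : G → ℂ) : ℕ := Nat.card G / (Nat.card {g : G // χ g = χ 1} * charDegree χ)

theorem card_ker (h : IsCharacter G χ) : Nat.card {g : G // χ g = χ 1} = Nat.card (charKer χ) :=
  Nat.card_congr (Equiv.subtypeEquivRight fun _ => (mem_charKer_iff h).symm)

theorem exists_quot (h : IsIrrCharacter G χ) : ∃ (_ : (charKer χ).Normal) (ψ : IrrCharacter (G ⧸ charKer χ)),
    (∀ g : G, ψ.1 g = χ g) ∧ (∀ x, ψ.1 x = ψ.1 1 → x = 1) ∧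
      Nat.card (G ⧸ charKer χ) = cod χ * charDegree ψ.1 := by
  have := charKer_normal (isIrr_classFun h)
  obtain ⟨ψ, h1, h2⟩ := isIrr_exists_quotient _ h le_rfl
  have e : ∀ g : G, ψ g = χ g := fun g => (congrFun h2 g).symm
  refine ⟨this, ⟨ψ, h1⟩, e, fun x hx => ?_, ?_⟩
  · obtain ⟨g, rfl⟩ := QuotientGroup.mk_surjective x
    exact (QuotientGroup.eq_one_iff g).mpr ((mem_charKer_iff (isIrr_isChar h)).mpr ((e g).symm.trans (hx.trans (e 1))))
  · obtain ⟨c, hc⟩ := Block.irr_degree_dvd ⟨ψ, h1⟩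
    have e2 : charDegree χ = charDegree ψ := congrArg (fun z : ℂ => ⌊z.re⌋₊) (e 1).symm
    rw [cod, card_ker (isIrr_isChar h), card_eq_card_quotient_mul_card_subgroup (charKer χ), hc, e2, mul_comm _ c,
      mul_assoc, mul_comm (charDegree _), Nat.mul_div_cancel _
        (Nat.mul_pos Nat.card_pos (Nat.pos_of_ne_zero (Block.isIrr_charDegree_ne_zero h1)))]

theorem card_eq_cod (h : IsIrrCharacter G χ) : Nat.card G = Nat.card (charKer χ) * (cod χ * charDegree χ) := by
  obtain ⟨_, ψ, a, -, b⟩ := exists_quot h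
  have e2 : charDegree χ = charDegree ψ.1 := congrArg (fun z : ℂ => ⌊z.re⌋₊) (a 1).symm
  rw [e2, ← b, mul_comm, card_eq_card_quotient_mul_card_subgroup]

theorem vanish_of_cod (hp : p.Prime) (h : IsIrrCharacter G χ) (hc : ¬ p ∣ cod χ) {g : G} {k : ℕ}
    (hg : g ^ p ^ k = 1) (h1 : χ g ≠ χ 1) : χ g = 0 := by
  obtain ⟨_, ψ, a, -, b⟩ := exists_quot h
  obtain ⟨M, hM⟩ := Block.exists_isPModular hp
  rw [← a]
  refine Block.char_eq_zero_of_defect_zero hM ?_ ?_
  · rw [b, Nat.factorization_mul (by rintro e; simp [e] at hc) (Block.irr_degree_ne_zero ψ), Finsupp.add_apply,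
      Nat.factorization_eq_zero_of_not_dvd hc, zero_add]
  · obtain ⟨j, -, hj⟩ := (Nat.dvd_prime_pow hp).mp (orderOf_dvd_of_pow_eq_one (x := (g : G ⧸ charKer χ))
      (n := p ^ k) (by rw [← QuotientGroup.mk_pow, hg]; rfl))
    refine hj ▸ dvd_pow_self p fun e => h1 ?_
    rw [← a, ← a, orderOf_eq_one_iff.mp (hj.trans (by rw [e, pow_zero]))]; rfl

theorem exists_cod_dvd (hp : p.Prime) (h : p ∣ Nat.card G) : ∃ χ : IrrCharacter G, p ∣ cod χ.1 := by
  have := Fact.mk hp
  by_contra! hc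
  obtain ⟨g, hg⟩ := exists_prime_orderOf_dvd_card' p h
  have h1 := sum_irr_one_mul_of_ne (G := G) (g := g) (by rintro rfl; exact hp.ne_one (hg.symm.trans orderOf_one))
  have : ∀ χ : IrrCharacter G, ∃ k : ℕ, χ.1 1 * χ.1 g = k := fun χ => by
    rcases eq_or_ne (χ.1 g) (χ.1 1) with e | e
    · exact ⟨charDegree χ.1 ^ 2, by rw [e, ← Block.irr_degree_cast]; simp [sq]⟩
    · exact ⟨0, by rw [vanish_of_cod hp χ.2 (hc χ) (k := 1) (by rw [pow_one, ← hg, pow_orderOf_eq_one]) e]; simp⟩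
  choose k hk using this
  rw [Finset.sum_congr rfl fun θ _ => hk θ, ← Nat.cast_sum, Nat.cast_eq_zero, Finset.sum_eq_zero_iff] at h1
  have := hk ⟨_, isIrr_one⟩
  rw [h1 _ (Finset.mem_univ _)] at this
  simp at this

theorem prime_cod (hp : p.Prime) (h : IsIrrCharacter G χ) (hc : Nat.card G = p * charDegree χ) :
    ∃ P : Subgroup G, P.Normal ∧ Nat.card P = p ∧ (Nat.card P).Coprime P.index ∧
      ((∀ g, χ g = χ 1 → g = 1) → centralizer (P : Set G) ≤ P) := by
  have := Fact.mk hp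
  classical
  have h0 := Nat.pos_of_ne_zero (Block.isIrr_charDegree_ne_zero h)
  have h1 : charDegree χ ^ 2 ≤ Nat.card G := sum_degree_sq (G := G) ▸
    Finset.single_le_sum (f := fun χ : IrrCharacter G => charDegree χ.1 ^ 2) (fun _ _ => Nat.zero_le _)
      (Finset.mem_univ ⟨χ, h⟩)
  have h2 : charDegree χ < p := by
    refine lt_of_le_of_ne (by rw [hc] at h1; nlinarith) fun e => ?_
    have := IsPGroup.isMulCommutative_of_card_eq_prime_sq (p := p) (G := G) (by rw [hc, e, sq])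
    have e2 := Block.charDegree_of_eq (n := 1) ((isIrr_degree_one_of_comm h).trans Nat.cast_one.symm)
    exact hp.ne_one (e.symm.trans e2)
  obtain ⟨P⟩ := (inferInstance : Nonempty (Sylow p G))
  have h3 : ¬ p ∣ charDegree χ := Nat.not_dvd_of_pos_of_lt h0 h2
  have h4 : Nat.card P = p := by
    rw [P.card_eq_multiplicity, hc, Nat.factorization_mul hp.ne_zero h0.ne', Finsupp.add_apply,
      Nat.factorization_eq_zero_of_not_dvd h3, hp.factorization_self, pow_one]
  have h5 : (P : Subgroup G).index = charDegree χ :=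
    Nat.eq_of_mul_eq_mul_left hp.pos (by rw [← hc, ← card_mul_index (P : Subgroup G), h4])
  have h6 : (P : Subgroup G).Normal := by
    have a := Nat.le_of_dvd h0 (h5 ▸ P.card_dvd_index)
    have b := card_sylow_modEq_one p G
    rw [Nat.ModEq, Nat.mod_eq_of_lt (a.trans_lt h2), Nat.mod_eq_of_lt hp.one_lt] at b
    have := (Nat.card_eq_one_iff_unique.mp b).1
    exact P.normal_of_subsingleton
  refine ⟨P, h6, h4, by rw [h4, h5]; exact hp.coprime_iff_not_dvd.mpr h3, fun hf => ?_⟩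
  have hi := irr_top.mpr h
  obtain ⟨θ, a, b⟩ := hi.exists_under (L := P) le_top
  have cy := isCyclic_of_prime_card h4
  have c := a.one_of_comm fun x hx y hy => Core.comm_of_isMulCommutative cy.isMulCommutative hx hy
  have d := (a.chr.indc le_top).eqv_of_deg hi (by rw [inn_ind_left le_top hi.inv]; exact inn_ne_comm b)
    (by rw [ind_one, c, relIndex_top_right, h5, Block.charDegree_cast (isIrr_isChar h), mul_one])
  exact le_trans (le_inf (fun g hg => mem_stab.mpr ⟨norm_top (mem_top g), fun x hx => by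
    rw [cj_apply, ← hg x hx, mul_inv_cancel_right]⟩) le_top) ((a.ind_iff norm_top le_top).mp (hi.congr d.symm))

end Cfsg.Agent.Isaacs
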