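import Mathlib
import Cfsg.Agent.Isaacs.Cod
import Cfsg.Agent.PGrp.IndexP
import Cfsg.Agent.PGrp.Frattini
import Cfsg.Agent.Core.Fitting

/-! Nonlinear characters. -/

set_option autoImplicit false

open scoped ComplexConjugate commutatorElement

namespace Cfsg.Agent.Isaacs

open Cfsg Cfsg.Agent.Char Subgroup

variable {G : Type*} [Group G] [Finite G] {H K N P : Subgroup G} {θ χ β : G → ℂ} {p m n : ℕ}

theorem deg_eq_one_iff {χ : IrrCharacter G} : charDegree χ.1 = 1 ↔ χ.1 1 = 1 := by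
  rw [← Block.irr_degree_cast, Nat.cast_eq_one]

theorem sum_nonlinear [DecidablePred fun χ : IrrCharacter G => charDegree χ.1 ≠ 1] :
    (commutator G).index + ∑ χ : IrrCharacter G with charDegree χ.1 ≠ 1, charDegree χ.1 ^ 2 = Nat.card G := by
  classical
  rw [← sum_degree_sq, ← Finset.sum_filter_add_sum_filter_not Finset.univ fun χ : IrrCharacter G => charDegree χ.1 ≠ 1,
    add_comm, add_right_inj, Finset.sum_congr rfl (g := fun _ => 1) fun χ h => by
      rw [not_not.mp (Finset.mem_filter.mp h).2, one_pow], ← card_irr_degree_one, Nat.card_eq_fintype_card,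
    Fintype.card_subtype]
  simp [deg_eq_one_iff]

theorem Irr.deg_dvd_of_ker (h : Irr K β) (hk : Ker N β) (hd : β 1 = n) : n ∣ N.relIndex K :=
  h.deg_dvd_of_norm (fun z hz => by rw [hk z hz]) hd

theorem vanish_of_lin (h : ∀ β, Irr K β → β 1 = 1 → Ker N β → Eqv K (β * χ) χ) (hl : N ≤ K) (hab : ⁅K, K⁆ ≤ N) {x : G}
    (hx : x ∈ K) (hN : x ∉ N) : χ x = 0 := by
  obtain ⟨β, a, b, c⟩ := exists_irr_not_ker (norm_of_comm_le hl hab) hl hx hN
  have d := a.one_of_ker (b.mono hab)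
  exact (mul_left_eq_self₀.mp (h β a d b x hx)).resolve_left fun e => c (e.trans d.symm)

theorem IsPGroup.dvd_deg_iff (hp : p.Prime) (hG : IsPGroup p G) (χ : IrrCharacter G) :
    p ∣ charDegree χ.1 ↔ charDegree χ.1 ≠ 1 := by
  have := Fact.mk hp
  obtain ⟨n, hn⟩ := hG.exists_card_eq
  obtain ⟨k, -, hk⟩ := (Nat.dvd_prime_pow hp).mp (hn ▸ Block.irr_degree_dvd χ)
  exact ⟨fun h e => hp.ne_one (Nat.dvd_one.mp (e ▸ h)), fun h => hk ▸ dvd_pow_self p (by rintro rfl; exact h hk)⟩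

end Cfsg.Agent.Isaacs
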