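import Mathlib
import Cfsg.Agent.Isaacs.Tri
import Cfsg.Agent.Transfer.Yoshida
import Cfsg.Agent.Transfer.Abelian
import Cfsg.Agent.PGrp.Frattini
import Cfsg.Agent.Core.PConstrained
import Cfsg.Agent.Core.Pprod
import Cfsg.Agent.Isaacs.Misc

/-! Extension of characters of a Sylow normalizer and normal complements. -/

namespace Cfsg.Agent.Isaacs
open Cfsg.Agent.Char Cfsg.Agent.Core Subgroup

variable {G : Type*} [Group G] [Finite G] {p : ℕ} [Fact p.Prime]

theorem normalizer_map_sylow {Q : Type*} [Group Q] {f : G →* Q} (hf : Function.Surjective f)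
    (P : Sylow p G) : normalizer (((P : Subgroup G).map f : Subgroup Q) : Set Q) ≤
      (normalizer ((P : Subgroup G) : Set G)).map f := by
  intro y hy
  obtain ⟨g, rfl⟩ := hf y
  have h1 : g ∈ normalizer (((P : Subgroup G) ⊔ f.ker : Subgroup G) : Set G) := by
    rw [← comap_map_eq]
    exact le_normalizer_comap f hy
  obtain ⟨k, hk, e⟩ := (isSylowOf_sylow_of_le P le_sup_left).exists_mul_normalizer h1
  have h2 : f k ∈ (normalizer ((P : Subgroup G) : Set G)).map f := by
    have : ((P : Subgroup G) ⊔ f.ker).map f ≤ (normalizer ((P : Subgroup G) : Set G)).map f := by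
      rw [Subgroup.map_sup, (Subgroup.map_eq_bot_iff _).mpr (le_refl f.ker), sup_bot_eq]
      exact map_mono le_normalizer
    exact this (mem_map_of_mem f hk)
  have := mul_mem h2 (mem_map_of_mem f e)
  simpa using this

theorem npc_of_comm (P : Sylow p G) (R : Subgroup G) [R.Normal]
    (h1 : ⁅(P : Subgroup G), normalizer ((P : Subgroup G) : Set G)⁆ ≤ R)
    (h2 : R ⊓ P ≤ ⁅(P : Subgroup G), (P : Subgroup G)⁆) : HasNormalPComplement p G := by
  apply Transfer.hasNormalPComplement_of_le_frattini P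
  rintro x ⟨hxP, hx⟩
  refine PGrp.commutator_le_map_frattini P.isPGroup' (h2 ⟨?_, hxP⟩)
  let f := QuotientGroup.mk' R
  let Q : Sylow p (G ⧸ R) := P.mapSurjective (QuotientGroup.mk'_surjective R)
  have hQ : (Q : Subgroup (G ⧸ R)) = (P : Subgroup G).map f := rfl
  have hb : ⁅(Q : Subgroup (G ⧸ R)), normalizer ((Q : Subgroup (G ⧸ R)) : Set (G ⧸ R))⁆ ≤ ⊥ := by
    rw [hQ]
    refine (commutator_mono le_rfl (normalizer_map_sylow (QuotientGroup.mk'_surjective R) P)).trans ?_
    rw [← map_commutator, le_bot_iff, Subgroup.map_eq_bot_iff, QuotientGroup.ker_mk']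
    exact h1
  have : IsMulCommutative Q := by
    refine ⟨⟨fun a b => Subtype.ext ?_⟩⟩
    exact comm_of_commutator_eq_bot ((commutator_mono le_rfl le_normalizer).trans hb) a.2 b.2
  have h3 := Transfer.inf_pResidual_eq_of_abelian Q
  have h4 : f x ∈ (Q : Subgroup (G ⧸ R)) ⊓ pResidual p (G ⧸ R) :=
    ⟨mem_map_of_mem f hxP, Transfer.map_pResidual_le f (mem_map_of_mem f hx)⟩
  rw [h3] at h4
  exact (QuotientGroup.eq_one_iff x).mp (hb h4)

theorem npc_amb (P : Sylow p G) {M : Subgroup G} (R : Subgroup G) [R.Normal]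
    (hM : (P : Subgroup G) ≤ M)
    (h1 : ⁅(P : Subgroup G), M ⊓ normalizer ((P : Subgroup G) : Set G)⁆ ≤ R)
    (h2 : R ⊓ P ≤ ⁅(P : Subgroup G), (P : Subgroup G)⁆) : HasNormalPComplement p M := by
  have e : ((P.subtype hM : Sylow p M) : Subgroup M).map M.subtype = P := by
    rw [Sylow.coe_subtype, subgroupOf_map_subtype, inf_eq_left.mpr hM]
  refine npc_of_comm (P.subtype hM) (R.subgroupOf M) ?_ ?_
  · rw [subgroupOf, ← map_le_iff_le_comap, map_commutator, e]
    refine le_trans (commutator_mono le_rfl (le_inf (map_subtype_le _) ?_)) h1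
    rw [← e]
    exact le_normalizer_map _
  · rw [← map_le_map_iff_of_injective M.subtype_injective, map_commutator, e]
    refine le_trans ?_ h2
    rintro _ ⟨x, ⟨hx, hx'⟩, rfl⟩
    exact ⟨hx, hx'⟩

omit [Fact p.Prime] in
theorem exists_hat {N R : Subgroup G} (hl : R ≤ N) (hn : N ≤ normalizer (R : Set G))
    (h : ∀ θ, Irr N θ → Ker R θ → ∃ χ, Chr ⊤ χ ∧ Eqv N χ θ) :
    ∃ M : Subgroup G, M.Normal ∧ M ⊓ N = R := by
  refine ⟨⨅ χ ∈ {χ : G → ℂ | Chr ⊤ χ ∧ Ker R χ}, kerS ⊤ χ, ?_, le_antisymm ?_ (le_inf ?_ hl)⟩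
  · refine normal_iInf_normal fun χ => normal_iInf_normal fun hχ => ?_
    exact normalizer_eq_top_iff.mp (top_le_iff.mp (hχ.1.normalizes_kerS le_normalizer hχ.1.inv))
  · rintro x ⟨hx, hxN⟩
    by_contra hR
    obtain ⟨θ, hθ, hk, e⟩ := exists_irr_not_ker hn hl hxN hR
    obtain ⟨χ, hχ, e'⟩ := h θ hθ hk
    have hk' : Ker R χ := hk.congr (e'.symm.mono hl)
    have := (hχ.mem_kerS.mp (mem_iInf.mp (mem_iInf.mp hx χ) ⟨hχ, hk'⟩)).2
    exact e (by rw [← e' x hxN, this, e'.one])
  · exact le_iInf fun χ => le_iInf fun hχ => hχ.1.le_kerS le_top hχ.2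

theorem exists_npc (P : Sylow p G) {K : Subgroup G} (hK : ¬ p ∣ Nat.card K)
    (hl : K ≤ normalizer ((P : Subgroup G) : Set G))
    (hn : normalizer ((P : Subgroup G) : Set G) ≤ normalizer (K : Set G))
    (h : ∀ θ, Irr (normalizer ((P : Subgroup G) : Set G)) θ →
      Ker (K ⊔ ⁅(P : Subgroup G), (P : Subgroup G)⁆) θ →
        ∃ χ, Chr ⊤ χ ∧ Eqv (normalizer ((P : Subgroup G) : Set G)) χ θ) :
    ∃ M : Subgroup G, M.Normal ∧ M ⊓ normalizer ((P : Subgroup G) : Set G) = K ⊔ P ∧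
      HasNormalPComplement p M := by
  have hc : ⁅(P : Subgroup G), (P : Subgroup G)⁆ ≤ P := commutator_le_of_le_normalizer le_normalizer
  have hPK : (P : Subgroup G) ≤ normalizer (K : Set G) := le_normalizer.trans hn
  obtain ⟨M, hM, e⟩ := exists_hat (R := K ⊔ P) (sup_le hl le_normalizer)
    (le_normalizer_sup hn le_rfl) fun θ hθ hk => h θ hθ (hk.mono (sup_le_sup_left hc K))
  obtain ⟨R, hR, e'⟩ := exists_hat (R := K ⊔ ⁅(P : Subgroup G), (P : Subgroup G)⁆)
    (sup_le hl (hc.trans le_normalizer))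
    (le_normalizer_sup hn (le_normalizer_commutator le_rfl le_rfl)) h
  refine ⟨M, hM, e, npc_amb P R (le_sup_right.trans (e.ge.trans inf_le_left)) ?_ ?_⟩
  · rw [e]
    exact ((commutator_mono le_sup_right le_rfl).trans
      (commutator_sup_le_sup_commutator hPK)).trans (e'.ge.trans inf_le_left)
  · have : R ⊓ P ≤ (K ⊔ ⁅(P : Subgroup G), (P : Subgroup G)⁆) ⊓ P :=
      le_inf ((inf_le_inf_left R le_normalizer).trans e'.le) inf_le_right
    refine this.trans ?_
    rw [sup_inf_of_le_right (hc.trans hPK) hc, inf_comm,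
      Transfer.inf_eq_bot_of_not_dvd P.isPGroup' hK, bot_sup_eq]

omit [Fact p.Prime] in
theorem Irr.deg_dvd_of_ker_comm {K L : Subgroup G} {χ : G → ℂ} (hn : K ≤ normalizer (L : Set G))
    (hl : L ≤ K) (h : Irr K χ) (hk : Ker ⁅L, L⁆ χ) {d : ℕ} (hd : χ 1 = d) : d ∣ L.relIndex K := by
  obtain ⟨θ, hθ, e⟩ := h.exists_under hl
  obtain ⟨k, hk', e'⟩ := h.deg_dvd_rel hn hl hθ e
  rw [hθ.one_of_ker (hk.constit (h.chr.res hl) (commutator_le_of_le_normalizer le_normalizer) hθ e),
    mul_one, hd, Nat.cast_inj] at e'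
  exact e' ▸ hk'

/-- The normal `p`-complement of a normal subgroup containing a Sylow subgroup. -/
theorem exists_pcompl (P : Sylow p G) {M : Subgroup G} [M.Normal] (hM : (P : Subgroup G) ≤ M)
    (h : HasNormalPComplement p M) :
    ∃ K : Subgroup G, K.Normal ∧ ¬ p ∣ Nat.card K ∧ K ⊔ P = M := by
  refine ⟨(pResidual p M).map M.subtype, inferInstance, ?_, ?_⟩
  · rw [card_map_of_injective M.subtype_injective]
    exact Transfer.hasNormalPComplement_iff_not_dvd.mp h
  · have e : ((P.subtype hM : Sylow p M) : Subgroup M).map M.subtype = P := by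
      rw [Sylow.coe_subtype, subgroupOf_map_subtype, inf_eq_left.mpr hM]
    rw [← e, ← Subgroup.map_sup, Transfer.pResidual_sup_sylow, ← MonoidHom.range_eq_map,
      range_subtype]

end Cfsg.Agent.Isaacs
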