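import Mathlib
import Cfsg.Agent.Isaacs.Cop

/-! The Glauberman correspondence relative to a normal Sylow subgroup. -/

set_option autoImplicit false

open scoped ComplexConjugate commutatorElement

namespace Cfsg.Agent.Isaacs

open Cfsg Cfsg.Agent.Char Subgroup

variable {G : Type*} [Group G] {A B C D H K L M N P Q S T U Z : Subgroup G}
  {θ φ ψ χ η β ξ : G → ℂ} {p : ℕ}

/-- The trivial character triple isomorphism with the quotient group. -/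
noncomputable def Tri.quot [(N.subgroupOf K).Normal] (hl : N ≤ K) :
    Tri K N (fun _ => 1) K (K ⧸ N.subgroupOf K) where
  π := K.subtype
  ρ := QuotientGroup.mk' _
  Z := ⊥
  μ := fun _ => 1
  e := fun _ => 1
  le := hl
  range := range_subtype K
  surj := QuotientGroup.mk'_surjective _
  central := bot_le
  comap := (QuotientGroup.ker_mk' (N.subgroupOf K)).symm
  chr := chr_one
  irr := irr_one
  lin := chr_one
  one := rfl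
  faith := fun _ h _ => h
  corr := fun _ _ => (one_mul _).symm
  cov := bot_le
  kc := (ker_subtype K).le.trans bot_le

theorem Tri.bar_cent {Γ R : Type*} [Group Γ] [Group R] (t : Tri K Q θ Γ R) (hZ : t.Z = ⊥) (hl : Q ≤ T)
    (h1 : Q ≤ D) (hP : P ≤ K) (hD : ∀ k, k ∈ D ↔ k ∈ T ∧ ∀ x ∈ P, x * k * x⁻¹ * k⁻¹ ∈ Q) :
    t.bar T ⊓ centralizer (t.bar P : Set R) = t.bar D := by
  have h3 : ∀ γ, t.ρ γ = 1 ↔ t.π γ ∈ Q := fun γ => by rw [← t.mem_bar le_rfl, t.bar_self, hZ, mem_bot]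
  ext q
  obtain ⟨γ, rfl⟩ := t.surj q
  rw [t.mem_bar h1, mem_inf, t.mem_bar hl, hD]
  refine and_congr_right fun _ => ⟨fun h x hx => ?_, ?_⟩
  · obtain ⟨δ, rfl⟩ := t.exists_pre (hP hx)
    simpa only [map_mul, map_inv] using (h3 (δ * γ * δ⁻¹ * γ⁻¹)).mp (by
      rw [map_mul, map_mul, map_mul, h _ ⟨δ, hx, rfl⟩]; simp)
  · rintro h _ ⟨δ, hx, rfl⟩
    have := (h3 (δ * γ * δ⁻¹ * γ⁻¹)).mpr (by simpa only [map_mul, map_inv] using h _ hx)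
    simp only [map_mul, map_inv] at this
    exact mul_inv_eq_iff_eq_mul.mp (mul_inv_eq_one.mp this)

theorem Tri.card_bar {Γ R : Type*} [Group Γ] [Group R] (t : Tri K Q θ Γ R) (hZ : t.Z = ⊥) (hT : T ≤ K) :
    Nat.card (t.bar T) = Q.relIndex T := by rw [← t.relIndex_Z hT, hZ, relIndex_bot_left]

variable [Finite G]

/-- A correspondence modulo `p` between the characters in `X` and those in `Y`. -/
structure GD (p : ℕ) (X Y : (G → ℂ) → Prop) (K C : Subgroup G) : Prop where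
  ex : ∀ χ, X χ → ∃ ξ, Y ξ ∧ (∃ ε n : ℤ, (ε = 1 ∨ ε = -1) ∧ inn C χ ξ = (ε + p * n : ℤ)) ∧
    ∀ η, Y η → ¬ Eqv C ξ η → ∃ n : ℤ, inn C χ η = (p * n : ℤ)
  inj : ∀ χ ψ ξ (a b : ℤ), X χ → X ψ → Y ξ → inn C χ ξ = a → inn C ψ ξ = b → ¬ (p : ℤ) ∣ a →
    ¬ (p : ℤ) ∣ b → Eqv K χ ψ
  surj : ∀ ξ, Y ξ → ∃ χ, X χ ∧ ∃ a : ℤ, inn C χ ξ = a ∧ ¬ (p : ℤ) ∣ a

theorem GD.transport {Γ : Type*} [Group Γ] [Finite Γ] {X Y : (G → ℂ) → Prop} {X' Y' : (Γ → ℂ) → Prop}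
    {K' C' : Subgroup Γ} (h : GD p X Y K C) (R R' : (Γ → ℂ) → (G → ℂ) → Prop)
    (h1 : ∀ a, X' a → ∃ b, X b ∧ R a b) (h2 : ∀ b, X b → ∃ a, X' a ∧ R a b)
    (h3 : ∀ a, Y' a → ∃ b, Y b ∧ R' a b) (h4 : ∀ b, Y b → ∃ a, Y' a ∧ R' a b)
    (h5 : ∀ a b a' b', X b → Y b' → R a b → R' a' b' → inn C' a a' = inn C b b')
    (h6 : ∀ a b a' b', R a b → R a' b' → Eqv K b b' → Eqv K' a a')
    (h7 : ∀ a b a' b', R' a b → R' a' b' → Eqv C b b' → Eqv C' a a') : GD p X' Y' K' C' where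
  ex a ha := by
    obtain ⟨b, hb, r⟩ := h1 a ha
    obtain ⟨c, hc, e1, e2⟩ := h.ex b hb
    obtain ⟨d, hd, r'⟩ := h4 c hc
    refine ⟨d, hd, by rwa [h5 _ _ _ _ hb hc r r'], fun η hη e => ?_⟩
    obtain ⟨f, hf, r''⟩ := h3 η hη
    rw [h5 _ _ _ _ hb hf r r'']
    exact e2 f hf fun e' => e (h7 _ _ _ _ r' r'' e')
  inj a a' c m n ha ha' hc e1 e2 e3 e4 := by
    obtain ⟨b, hb, r⟩ := h1 a ha
    obtain ⟨b', hb', r'⟩ := h1 a' ha'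
    obtain ⟨d, hd, r''⟩ := h3 c hc
    exact h6 _ _ _ _ r r' (h.inj b b' d m n hb hb' hd (by rwa [← h5 _ _ _ _ hb hd r r''])
      (by rwa [← h5 _ _ _ _ hb' hd r' r'']) e3 e4)
  surj c hc := by
    obtain ⟨d, hd, r⟩ := h3 c hc
    obtain ⟨b, hb, e⟩ := h.surj d hd
    obtain ⟨a, ha, r'⟩ := h2 b hb
    exact ⟨a, ha, by rwa [h5 _ _ _ _ hb hd r' r]⟩

theorem GlData.gd (h : GlData p K C S A) (hp : p.Prime) (hl : C ≤ K) :
    GD p (fun χ => Irr K χ ∧ Inv S K χ) (fun ξ => Irr C ξ ∧ Inv A C ξ) K C where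
  ex χ hχ := by
    obtain ⟨β, b1, b2, b3⟩ := h.ex χ hχ.1 hχ.2
    refine ⟨β, ⟨b1, b2⟩, b3.inn_self b1, fun η hη e => ?_⟩
    exact_mod_cast b3.dvd b1 hη.1 e
  inj χ ψ ξ a b h1 h2 h3 e1 e2 e3 e4 := by
    obtain ⟨β, b1, -, b3⟩ := h.ex χ h1.1 h1.2
    obtain ⟨γ, c1, -, c3⟩ := h.ex ψ h2.1 h2.2
    exact h.inj χ ψ ξ h1.1 h1.2 h2.1 h2.2 h3.1 (b3.congr (.refl _ _) (b3.eqv b1 h3.1 e1 e3))
      (c3.congr (.refl _ _) (c3.eqv c1 h3.1 e2 e4))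
  surj ξ hξ := by
    obtain ⟨χ, a1, a2, a3⟩ := h.surj ξ hξ.1 hξ.2
    obtain ⟨a, ha⟩ := (a1.gen.res hl).inn_int hξ.1.gen
    exact ⟨χ, ⟨a1, a2⟩, a, ha, a3.not_dvd hp hξ.1 ha⟩

theorem gd_ker (hp : p.Prime) (hP : IsPGroup p P) (hl : Q ≤ T) (hT : T ≤ normalizer (Q : Set G))
    (hPQ : P ≤ normalizer (Q : Set G)) (hPT : P ≤ normalizer (T : Set G)) (hc : ¬ p ∣ Q.relIndex T)
    (hD : ∀ k, k ∈ D ↔ k ∈ T ∧ ∀ x ∈ P, x * k * x⁻¹ * k⁻¹ ∈ Q) :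
    GD p (fun β => Irr T β ∧ Ker Q β ∧ Inv P T β) (fun γ => Irr D γ ∧ Ker Q γ) T D := by
  have := normal_sub (le_rfl : normalizer (Q : Set G) ≤ _)
  let t := Tri.quot (le_normalizer : Q ≤ _)
  have h1 : Q ≤ D := fun k hk => (hD k).mpr ⟨hl hk, fun x hx => mul_mem (conj_mem hPQ hx hk) (inv_mem hk)⟩
  have h2 : D ≤ T := fun k hk => ((hD k).mp hk).1
  have h4 := t.bar_cent rfl hl h1 hPQ hD
  have g := (glData_pgroup hp (K := t.bar T) (by rwa [t.card_bar rfl hT])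
    (t.bar P) ((hP.comap_of_injective _ (subtype_injective _)).map _) (t.bar_norm hPT)).gd hp inf_le_left
  rw [h4] at g
  have dn : ∀ {H ψ}, Q ≤ H → H ≤ T → Irr H ψ → Ker Q ψ → ∃ α, Irr (t.bar H) α ∧ t.Corr H ψ α :=
    fun a b c d => t.down a (b.trans hT) c irr_one (by rw [d.inn_one]; exact c.one_ne)
  have up : ∀ {H α}, Q ≤ H → H ≤ T → Irr (t.bar H) α → ∃ ψ, Irr H ψ ∧ Ker Q ψ ∧ t.Corr H ψ α :=
    fun {H α} a b c => by
      have h5 : inn t.Z α t.μ ≠ 0 := by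
        change inn ⊥ α (fun _ => 1) ≠ 0; rw [ker_bot.inn_one]; exact c.one_ne
      obtain ⟨ψ, a1, a2⟩ := t.up a (b.trans hT) c h5
      exact ⟨ψ, a1, a1.ker_of_inn (b.trans hT) a (by rwa [a2.inn_mu a]), a2⟩
  refine g.transport (t.Corr T) (t.Corr D) (fun β ⟨a, b, c⟩ => ?_) (fun α ⟨a, b⟩ => ?_)
    (fun β ⟨a, b⟩ => ?_) (fun α ⟨a, _⟩ => ?_)
    (fun _ _ _ _ _ _ a b => (a.mono h2).inn_eq b h1 (h2.trans hT)) (fun _ _ _ _ a b => a.eqv b hT)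
    fun _ _ _ _ a b => a.eqv b (h2.trans hT)
  · obtain ⟨α, a1, a2⟩ := dn hl le_rfl a b
    exact ⟨α, ⟨a1, a2.inv' hl hT hPT c⟩, a2⟩
  · obtain ⟨β, a1, a2, a3⟩ := up hl le_rfl a
    exact ⟨β, ⟨a1, a2, a3.inv hT hPQ hPT b⟩, a3⟩
  · obtain ⟨α, a1, a2⟩ := dn h1 h2 a b
    exact ⟨α, ⟨a1, inv_bot⟩, a2⟩
  · obtain ⟨β, a1, a2, a3⟩ := up h1 h2 a
    exact ⟨β, ⟨a1, a2⟩, a3⟩

theorem Irr.inn_ind_stab' (hn : K ≤ normalizer (L : Set G)) (h1 : L ≤ T) (h2 : T ≤ K) (hθ : Irr L θ)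
    (hT : T = stab L θ ⊓ K) (hψ : Irr T ψ) (e : inn L ψ θ ≠ 0) (hD : L ≤ D) (hD' : D ≤ T)
    (hη : Irr D η) (e' : inn L η θ ≠ 0) : inn D (ind T K ψ) η = inn D ψ η := by
  have h3 := ((hψ.chr.indc h2).res h2).sub_constit hψ (by
    rw [← inn_ind_right h2 ind_inv]
    exact (hθ.ind_of_stab hn h1 h2 hT.ge hψ e).inn_self_ne)
  by_contra h
  refine (h3.res hD').over_trans hD hη hθ.chr (by rwa [inn_sub_left, sub_ne_zero]) e' ?_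
  rw [inn_sub_left, hθ.inn_ind_stab hn h1 h2 hT hψ e, sub_self]

omit [Finite G] in
theorem Inv.norm_stab (h : Inv A L θ) (hA : A ≤ normalizer (L : Set G)) :
    A ≤ normalizer (stab L θ : Set G) := ((Isaacs.le_stab hA).mpr h).trans le_normalizer

/-- Invariant characters over an invariant extendible character. -/
theorem Irr.exists_param (hn : K ≤ normalizer (L : Set G)) (hl : L ≤ K) (hθ : Irr L θ)
    (hT : T = stab L θ ⊓ K) (hA : A ≤ normalizer (L : Set G)) (hK : A ≤ normalizer (K : Set G))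
    (hi : Inv A L θ) (hφ : Chr T φ) (e : Eqv L φ θ) (hφi : Inv A T φ) (h : Irr K χ) (h0 : inn L χ θ ≠ 0)
    (hχ : Inv A K χ) : ∃ β, Irr T β ∧ Ker L β ∧ Inv A T β ∧ Eqv K χ (ind T K (β * φ)) := by
  have h1 : L ≤ T := hT ▸ le_inf hθ.inv.le_stab hl
  have h2 : T ≤ K := hT ▸ inf_le_right
  have hAT : A ≤ normalizer (T : Set G) := hT ▸ Core.le_normalizer_inf (hi.norm_stab hA) hK
  obtain ⟨ψ, a1, a2, a3⟩ := hθ.exists_ind_of_stab hn h1 h2 hT.ge h h0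
  have a4 : inn T χ ψ ≠ 0 := by rw [← inn_ind_right h2 h.inv, a3.inn_right]; exact h.inn_self_ne
  have a5 : Inv A T ψ := inv_iff_eqv.mpr fun a ha => hθ.eqv_of_stab hn h1 h2 hT (a1.cjg (hAT ha)) a1
    (by rwa [← inn_conj, hi.inn_cj (hA ha) ha, inn_conj]) a2 h
    (by rwa [(hχ.mono le_rfl h2).inn_cj (hAT ha) ha]) a4
  have a6 := hθ.congr e.symm
  obtain ⟨β, b1, b2, b3⟩ := a1.exists_mul (h2.trans hn) h1 hφ a6 (by rwa [e.inn_right])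
  refine ⟨β, b1, b2, inv_iff_eqv.mpr fun a ha => (b1.cjg (hAT ha)).eqv_of_mul (h2.trans hn) h1
    (fun x hx => by rw [cj_at_one]; exact b2 _ (conj_mem hA ha hx)) b1 b2 hφ a6 fun x hx => ?_,
    ind_congr b3 ▸ a3.symm⟩
  rw [← b3 x hx, ← a5 a ha x hx, b3 _ (conj_mem hAT ha hx), Pi.mul_apply, Pi.mul_apply, hφi a ha x hx]
  rfl

theorem Irr.inn_mul_ker (hθ : Irr L θ) (hβ : Ker L β) (e : Eqv L φ θ) : inn L (β * φ) θ = β 1 :=
  hθ.inn_of_smul fun x hx => by rw [Pi.mul_apply, hβ x hx, e x hx]; rfl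

theorem Irr.of_param (hn : K ≤ normalizer (L : Set G)) (hl : L ≤ K) (hθ : Irr L θ)
    (hT : T = stab L θ ⊓ K) (hφ : Chr T φ) (e : Eqv L φ θ) (hβ : Irr T β) (hk : Ker L β) :
    Irr K (ind T K (β * φ)) ∧ inn L (ind T K (β * φ)) θ ≠ 0 := by
  have h1 : L ≤ T := hT ▸ le_inf hθ.inv.le_stab hl
  have h2 : T ≤ K := hT ▸ inf_le_right
  have h3 := hβ.mul_of_ker (h2.trans hn) h1 hk hφ (hθ.congr e.symm)
  have h4 : inn L (β * φ) θ ≠ 0 := hθ.inn_mul_ker hk e ▸ hβ.one_ne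
  exact ⟨hθ.ind_of_stab hn h1 h2 hT.ge h3 h4, by rwa [hθ.inn_ind_stab hn h1 h2 hT h3 h4]⟩

section rel
variable (hp : p.Prime) (hP : IsPGroup p P) (hQ : IsPGroup p Q) (hl : Q ≤ K)
  (hK : K ≤ normalizer (Q : Set G)) (hPQ : P ≤ normalizer (Q : Set G))
  (hPK : P ≤ normalizer (K : Set G)) (hc : ¬ p ∣ Q.relIndex K)
  (hC : ∀ k, k ∈ C ↔ k ∈ K ∧ ∀ x ∈ P, x * k * x⁻¹ * k⁻¹ ∈ Q)
include hC

omit [Finite G] in
include hl hPQ in
theorem rel_le : Q ≤ C :=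
  fun k hk => (hC k).mpr ⟨hl hk, fun _ hx => mul_mem (conj_mem hPQ hx hk) (inv_mem hk)⟩

include hl hPQ in
theorem rel_norm : P ≤ normalizer (C : Set G) := le_norm fun a ha x hx => by
  simpa using mul_mem (rel_le hl hPQ hC (((hC x).mp hx).2 a ha)) hx

include hp hP hQ hl hK hPQ hPK hc

theorem gd_over (hθ : Irr Q θ) (hi : Inv P Q θ) :
    GD p (fun χ => Irr K χ ∧ Inv P K χ ∧ inn Q χ θ ≠ 0) (fun ξ => Irr C ξ ∧ Inv P C ξ ∧ inn Q ξ θ ≠ 0)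
      K C := by
  have := Fact.mk hp
  have h1 := rel_le hl hPQ hC
  have h2 : C ≤ K := fun k hk => ((hC k).mp hk).1
  have h3 := rel_norm hl hPQ hC
  set T := stab Q θ ⊓ K with hT
  set D := stab Q θ ⊓ C with hD
  have t1 : Q ≤ T := le_inf hθ.inv.le_stab hl
  have d1 : Q ≤ D := le_inf hθ.inv.le_stab h1
  have d2 : D ≤ T := inf_le_inf_left _ h2
  have t2 : T ≤ normalizer (Q : Set G) := inf_le_right.trans hK
  have t3 : P ≤ normalizer (T : Set G) := Core.le_normalizer_inf (hi.norm_stab hPQ) hPK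
  have d3 : P ≤ normalizer (D : Set G) := Core.le_normalizer_inf (hi.norm_stab hPQ) h3
  have t4 : ¬ p ∣ Q.relIndex T := fun h => hc (h.trans (relIndex_dvd_of_norm inf_le_right hK))
  have t5 : (Nat.card Q).Coprime (Q.relIndex T) := by
    obtain ⟨k, hk⟩ := hQ.exists_card_eq
    rw [hk]; exact (hp.coprime_iff_not_dvd.mpr t4).pow_left k
  obtain ⟨φ, c1, c2⟩ := hθ.exists_canon t2 t1 t5 (inv_stab.mono inf_le_left le_rfl)
  have c3 : Inv P T φ := inv_iff_eqv.mpr fun a ha => Canon.unique t2 t1 t5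
    ⟨c1.chr.cjg (t3 ha), c1.res.cjg (hPQ ha), by rw [c1.chr.dord_cj (t3 ha)]; exact c1.cop⟩ c1
    ((c2.cjg (hPQ ha)).trans ((inv_iff_eqv.mp hi a ha).trans c2.symm))
  have g := gd_ker (D := D) hp hP t1 t2 hPQ t3 t4 fun k => by
    rw [mem_inf, mem_inf, hC, and_assoc]
  refine g.transport (fun χ β => Eqv K χ (ind T K (β * φ))) (fun χ β => Eqv C χ (ind D C (β * φ)))
    (fun χ ⟨a, b, c⟩ => ?_) (fun β ⟨a, b, c⟩ => ?_) (fun χ ⟨a, b, c⟩ => ?_) (fun β ⟨a, b⟩ => ?_)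
    (fun χ β ξ γ ⟨a1, a2, _⟩ ⟨b1, b2⟩ a b => ?_) (fun _ _ _ _ a b c => a.trans ?_)
    fun _ _ _ _ a b c => a.trans ?_
  · obtain ⟨β, a1, a2, a3, a4⟩ := hθ.exists_param hK hl hT hPQ hPK hi c1.chr c2 c3 a c b
    exact ⟨β, ⟨a1, a2, a3⟩, a4⟩
  · obtain ⟨a1, a2⟩ := hθ.of_param hK hl hT c1.chr c2 a b
    exact ⟨_, ⟨a1, (c.mul c3).indc t3 hPK, a2⟩, .refl _ _⟩
  · obtain ⟨β, a1, a2, -, a4⟩ := hθ.exists_param (h2.trans hK) h1 hD hPQ h3 hi (c1.chr.res d2) c2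
      (c3.mono le_rfl d2) a c b
    exact ⟨β, ⟨a1, a2⟩, a4⟩
  · obtain ⟨a1, a2⟩ := hθ.of_param (h2.trans hK) h1 hD (c1.chr.res d2) c2 a b
    refine ⟨_, ⟨a1, (Inv.mul (fun x hx k hk => ?_) (c3.mono le_rfl d2)).indc d3 h3, a2⟩, .refl _ _⟩
    have := ((hC k).mp hk.2).2 x hx
    rw [← a.chr.mul_of_eq (d1 this) (b _ this) hk, inv_mul_cancel_right]
  · rw [inn_congr (a.mono h2) b, inn_ind_right inf_le_right (ind_inv.mono h2 h2),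
      hθ.inn_ind_stab' hK t1 inf_le_right hT (a1.mul_of_ker t2 t1 a2 c1.chr c1.res)
        (hθ.inn_mul_ker a2 c2 ▸ a1.one_ne) d1 d2 (b1.mul_of_ker (d2.trans t2) d1 b2 (c1.chr.res d2) c1.res)
        (hθ.inn_mul_ker b2 c2 ▸ b1.one_ne),
      (c1.chr.res d2).inn_mul_mul (d2.trans t2) d1 c1.res
        (fun k hk x hx => a1.chr.mul_of_eq (t1 hk) (a2 k hk) (d2 hx))
        fun k hk x hx => b1.chr.mul_of_eq (d1 hk) (b2 k hk) hx]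
  · rw [ind_congr (θ := _ * φ) (φ := _ * φ) fun x hx => congrArg (· * φ x) (c x hx)]; exact b.symm
  · rw [ind_congr (θ := _ * φ) (φ := _ * φ) fun x hx => congrArg (· * φ x) (c x hx)]; exact b.symm

omit hQ in
theorem exists_cj_rel (hi : Inv P Q θ) {k : G} (hk : k ∈ K) (hi' : Inv P Q (cj k θ)) (hθ : Inv Q Q θ) :
    ∃ c ∈ C, Eqv Q (cj k θ) (cj c θ) := by
  have := Fact.mk hp
  have := normal_sub (le_rfl : normalizer (Q : Set G) ≤ _)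
  let t := Tri.quot (le_normalizer : Q ≤ _)
  have t1 : Q ≤ stab Q θ ⊓ K := le_inf hθ.le_stab hl
  have t2 : stab Q θ ⊓ K ≤ _ := inf_le_right.trans hK
  have h1 := (Isaacs.le_stab hPQ).mpr hi
  have h2 : IsPGroup p (t.bar P) := (hP.comap_of_injective _ (subtype_injective _)).map _
  obtain ⟨κ, rfl⟩ := t.exists_pre (hK hk)
  obtain ⟨_, ⟨τ, hτ, rfl⟩, h⟩ := Core.exists_mul_mem_centralizer' (t.bar P) (t.bar (stab Q θ ⊓ K))
    (t.bar_norm (Core.le_normalizer_inf (hi.norm_stab hPQ) hPK)) (cop_of_not_dvd hp h2 (by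
      rw [t.card_bar rfl t2]; exact fun h => hc (h.trans (relIndex_dvd_of_norm inf_le_right hK))))
    (Or.inl (Core.solvable_of_isPGroup h2)) (t.ρ κ) (by
      rintro _ ⟨δ, hδ, rfl⟩
      rw [← map_inv, ← map_inv, ← map_mul, ← map_mul, ← map_mul, t.mem_bar t1, map_mul, map_mul, map_mul,
        map_inv, map_inv]
      refine mem_inf.mpr ⟨?_, mul_mem (conj_mem hPK hδ hk) (inv_mem hk)⟩
      simpa only [mul_assoc] using mul_mem (h1 hδ) ((mem_stab_cj (hK hk)).mp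
        ((Isaacs.le_stab hPQ).mpr hi' (inv_mem hδ))))
  have h3 : t.ρ (τ * κ) ∈ t.bar K ⊓ centralizer (t.bar P : Set _) :=
    ⟨(t.mem_bar hl).mpr (map_mul t.π _ _ ▸ mul_mem hτ.2 hk), map_mul t.ρ _ _ ▸ h⟩
  rw [t.bar_cent rfl hl (rel_le hl hPQ hC) hPQ hC, t.mem_bar (rel_le hl hPQ hC), map_mul] at h3
  exact ⟨_, h3, cj_cj (t.π τ) (t.π κ) ▸ (hτ.1.2.cjg (hK hk)).symm⟩

theorem gd_rel : GD p (fun χ => Irr K χ ∧ Inv P K χ) (fun ξ => Irr C ξ ∧ Inv P C ξ) K C := by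
  have := Fact.mk hp
  have h1 := rel_le hl hPQ hC
  have h2 : C ≤ K := fun k hk => ((hC k).mp hk).1
  have h3 := rel_norm hl hPQ hC
  have un : ∀ {H χ}, Q ≤ H → H ≤ K → P ≤ normalizer (H : Set G) → Irr H χ → Inv P H χ →
      ∃ θ, Irr Q θ ∧ inn Q χ θ ≠ 0 ∧ Inv P Q θ := fun a b c d e =>
    d.exists_inv_under e c hPQ (b.trans hK) a (by
      obtain ⟨k, hk⟩ := hP.exists_card_eq
      exact ((hp.coprime_iff_not_dvd.mpr fun h => hc (h.trans (relIndex_dvd_of_norm b hK))).pow_left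
        k).coprime_dvd_left (hk ▸ Core.relIndex_dvd_card' _ _))
      (Or.inl (solvMod_of_solv (Core.solvable_of_isPGroup hP)))
  have ov : ∀ {χ ξ θ}, Irr K χ → Irr C ξ → Irr Q θ → inn C χ ξ ≠ 0 → inn Q ξ θ ≠ 0 → inn Q χ θ ≠ 0 :=
    fun a b c d e => (a.chr.res h2).over_trans h1 b c.chr d e
  have nz : ∀ {z : ℂ} {a : ℤ}, z = a → ¬ (p : ℤ) ∣ a → z ≠ 0 := fun {z a} e h e' =>
    h (by rw [show a = 0 from Int.cast_eq_zero.mp (e.symm.trans e')]; exact dvd_zero _)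
  refine ⟨fun χ ⟨a, b⟩ => ?_, fun χ ψ ξ m n ⟨a1, a2⟩ ⟨b1, b2⟩ ⟨c1, c2⟩ e1 e2 e3 e4 => ?_, fun ξ ⟨a, b⟩ => ?_⟩
  · obtain ⟨θ, a1, a2, a3⟩ := un hl le_rfl hPK a b
    obtain ⟨ξ, ⟨b1, b2, -⟩, b3, b4⟩ := (gd_over hp hP hQ hl hK hPQ hPK hc hC a1 a3).ex χ ⟨a, b, a2⟩
    refine ⟨ξ, ⟨b1, b2⟩, b3, fun η ⟨c1, c2⟩ e => ?_⟩
    by_cases h0 : inn C χ η = 0
    · exact ⟨0, by simpa using h0⟩
    obtain ⟨φ, d1, d2, d3⟩ := un h1 h2 h3 c1 c2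
    obtain ⟨k, hk, d4⟩ := a.exists_cj hK hl a1 d1 a2 (ov a c1 d1 h0 d2)
    obtain ⟨c, hc', d5⟩ := exists_cj_rel hp hP hl hK hPQ hPK hc hC a3 hk (d3.congr hPQ d4) a1.inv
    refine b4 η ⟨c1, c2, ?_⟩ e
    rwa [(d4.trans d5).inn_right, (c1.inv.mono le_rfl h1).inn_cj (hK (h2 hc')) hc'] at d2
  · obtain ⟨θ, d1, d2, d3⟩ := un h1 h2 h3 c1 c2
    exact (gd_over hp hP hQ hl hK hPQ hPK hc hC d1 d3).inj χ ψ ξ m n ⟨a1, a2, ov a1 c1 d1 (nz e1 e3) d2⟩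
      ⟨b1, b2, ov b1 c1 d1 (nz e2 e4) d2⟩ ⟨c1, c2, d2⟩ e1 e2 e3 e4
  · obtain ⟨θ, d1, d2, d3⟩ := un h1 h2 h3 a b
    obtain ⟨χ, ⟨c1, c2, -⟩, c3⟩ := (gd_over hp hP hQ hl hK hPQ hPK hc hC d1 d3).surj ξ ⟨a, b, d2⟩
    exact ⟨χ, ⟨c1, c2⟩, c3⟩
end rel

theorem inn_bot : inn ⊥ θ φ = θ 1 * conj (φ 1) := by
  rw [Eqv.inn_left (φ := θ 1 • fun _ => 1) fun x hx => by rw [show x = 1 from hx]; simp,
    Eqv.inn_right (φ := φ 1 • fun _ => 1) fun x hx => by rw [show x = 1 from hx]; simp, inn_smul_left,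
    inn_smul_right, irr_one.inn_self, mul_one]

theorem Gen.deg_cong (hp : p.Prime) (h : Gen C χ) (hi : Inv P C χ) (hP : IsPGroup p P)
    (hn : P ≤ normalizer (C : Set G)) (hξ : Irr C ξ) (hξi : Inv P C ξ)
    (e : ∀ η, Irr C η ∧ Inv P C η → ¬ Eqv C ξ η → ∃ n : ℤ, inn C χ η = (p * n : ℤ)) :
    ∃ n : ℤ, χ 1 = inn C χ ξ * ξ 1 + p * n := by
  classical
  obtain ⟨n, h1⟩ := h.cong_fixed hp hi hP hn bot_le norm_top chr_one.gen (inv_const 1)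
  let θ' : IrrCharacter C := ⟨fun x => ξ x, hξ⟩
  have h8 : ∀ η ∈ (Finset.univ.filter fun η : IrrCharacter C => Inv P C (ez C η)).erase θ',
      ∃ z : ℤ, inn C χ (ez C η) * inn ⊥ (ez C η) (fun _ => 1) = (p * z : ℤ) := fun η hη => by
    obtain ⟨z, hz⟩ := e _ ⟨irr_ez.mpr η.2, (Finset.mem_filter.mp (Finset.mem_of_mem_erase hη)).2⟩
      fun b => Finset.ne_of_mem_erase hη (irr_ez_eq ((ez_mk hξ).trans b).symm)
    obtain ⟨w, hw⟩ := ((irr_ez.mpr η.2).gen.res bot_le).inn_int chr_one.gen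
    exact ⟨z * w, by rw [hz, hw]; push_cast; ring⟩
  choose! z hz using h8
  rw [← Finset.add_sum_erase _ _ (a := θ') (Finset.mem_filter.mpr ⟨Finset.mem_univ _,
    hξi.congr hn eqv_ez.symm⟩), Finset.sum_congr rfl hz, eqv_ez.inn_right, inn_bot, inn_bot, map_one,
    mul_one, mul_one, (ez_mk hξ).one] at h1
  refine ⟨∑ η ∈ (Finset.univ.filter fun η : IrrCharacter C => Inv P C (ez C η)).erase θ', z η + n, ?_⟩
  rw [h1]; push_cast; rw [mul_add, Finset.mul_sum, add_assoc]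

omit [Finite G] in
theorem le_of_normal_sylow (hp : p.Prime) (hn : K ≤ normalizer (Q : Set G)) (hc : ¬ p ∣ Q.relIndex K)
    {x : G} (hx : x ∈ K) {k : ℕ} (h : x ^ p ^ k ∈ Q) : x ∈ Q := by
  have := normal_sub hn
  have h1 : ((⟨x, hx⟩ : K) : K ⧸ Q.subgroupOf K) = 1 := orderOf_eq_one_iff.mp (Nat.eq_one_of_dvd_coprimes
    ((hp.coprime_iff_not_dvd.mpr hc).pow_left k) (orderOf_dvd_of_pow_eq_one (by
      rw [← QuotientGroup.mk_pow, QuotientGroup.eq_one_iff]; exact h)) (orderOf_dvd_natCard _))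
  exact (QuotientGroup.eq_one_iff (N := Q.subgroupOf K) ⟨x, hx⟩).mp h1

end Cfsg.Agent.Isaacs
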