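import Mathlib
import Cfsg.Agent.Isaacs.Count
import Cfsg.Agent.Isaacs.Canon
import Cfsg.Agent.Char.BrauerPerm

/-! Zeros of characters and conjugacy tests. -/

set_option autoImplicit false

open scoped ComplexConjugate

namespace Cfsg.Agent.Isaacs

open Cfsg Cfsg.Agent.Char Subgroup

variable {G : Type*} [Group G] [Finite G]

theorem isConj_of_irr {g h : G}
    (e : ∀ χ : IrrCharacter G, (χ : G → ℂ) g = 0 ∨ (χ : G → ℂ) g = (χ : G → ℂ) h) : IsConj g h := by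
  by_contra hc
  have h1 := sum_irr_mul_conj_of_not_isConj hc
  rw [Finset.sum_congr rfl (g := fun χ : IrrCharacter G => (χ : G → ℂ) g * conj ((χ : G → ℂ) g))
    (fun χ _ => by rcases e χ with a | a <;> simp [a]), sum_irr_mul_conj_of_isConj (IsConj.refl g)] at h1
  exact card_ne_zero h1

theorem card_le_sum_norm {χ : G → ℂ} (hχ : IsGeneralizedCharacter G χ) (s : Finset G)
    (hs : ∀ k : ℕ, k.Coprime (Nat.card G) → ∀ g ∈ s, g ^ k ∈ s) (h0 : ∀ g ∈ s, χ g ≠ 0) :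
    (s.card : ℝ) ≤ ∑ g ∈ s, ‖χ g‖ := by
  obtain ⟨n, hn⟩ := exists_int_prod hχ s hs
  have hn0 : n ≠ 0 := by
    rintro rfl
    obtain ⟨g, hg, e⟩ := Finset.prod_eq_zero_iff.mp (hn.trans Int.cast_zero)
    exact h0 g hg e
  have h1 : 1 ≤ ∏ g ∈ s, ‖χ g‖ := by
    rw [← norm_prod, hn, Complex.norm_intCast]
    exact_mod_cast Int.one_le_abs hn0
  have h2 : 0 ≤ ∑ g ∈ s, Real.log ‖χ g‖ := by
    rw [← Real.log_prod fun g hg => norm_ne_zero_iff.mpr (h0 g hg)]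
    exact Real.log_nonneg h1
  calc (s.card : ℝ) ≤ ∑ g ∈ s, (1 + Real.log ‖χ g‖) := by
        rw [Finset.sum_add_distrib]; simp; linarith
    _ ≤ _ := Finset.sum_le_sum fun g hg => by
        have := Real.log_le_sub_one_of_pos (norm_pos_iff.mpr (h0 g hg))
        linarith

omit [Finite G] in
theorem mem_of_pow_coprime {H : Subgroup G} {g : G} {k : ℕ} (hk : k.Coprime (Nat.card G)) (h : g ^ k ∈ H) :
    g ∈ H := by
  obtain ⟨m, hm⟩ := exists_pow_eq_self_of_coprime (hk.coprime_dvd_right (orderOf_dvd_natCard g))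
  exact hm ▸ pow_mem h m

theorem class_mul_iff (x y : G) :
    (∀ z : G, IsConj (x * y) z ↔ ∃ a b : G, z = a * x * a⁻¹ * (b * y * b⁻¹)) ↔
      ∀ (a b : G) (χ : IrrCharacter G), (χ : G → ℂ) 1 * (χ : G → ℂ) (a * x * a⁻¹ * (b * y * b⁻¹)) =
        (χ : G → ℂ) x * (χ : G → ℂ) y := by
  have := Fintype.ofFinite G
  refine ⟨fun h a b χ => ?_, fun h z => ⟨fun e => ?_, ?_⟩⟩
  · have h1 : ∀ a b, (χ : G → ℂ) (a * x * a⁻¹ * (b * y * b⁻¹)) = (χ : G → ℂ) (x * y) := fun a b =>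
      (classFun_isConj (irr_classFun χ) ((h _).mpr ⟨a, b, rfl⟩)).symm
    have h2 := isIrr_sum_conj_mul χ.2 x y
    rw [Finset.sum_congr rfl (g := fun _ => (χ : G → ℂ) (x * y)) fun a _ => by simpa using h1 a 1,
      Finset.sum_const, Finset.card_univ, ← Nat.card_eq_fintype_card, nsmul_eq_mul,
      eq_div_iff (isIrr_one_ne_zero χ.2), mul_assoc, mul_assoc] at h2
    rw [h1, mul_comm, mul_left_cancel₀ card_ne_zero h2]
  · obtain ⟨c, rfl⟩ := isConj_iff.mp e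
    exact ⟨c, c, by group⟩
  · rintro ⟨a, b, rfl⟩
    refine (isConj_iff_forall_irr _ _).mpr fun χ => mul_left_cancel₀ (isIrr_one_ne_zero χ.2) ?_
    rw [h a b χ, ← h 1 1 χ]; simp

theorem isIrr_sum_comm_mul [Fintype G] {χ : G → ℂ} (hχ : IsIrrCharacter G χ) (h : G) :
    ∑ a, ∑ b, χ (b * a * b⁻¹ * a⁻¹ * h) = (Nat.card G / χ 1) ^ 2 * χ h := by
  classical
  have h1 := isIrr_sum_conj_mul_mul hχ hχ h
  rw [if_pos rfl, ← Equiv.sum_comp (Equiv.inv G)] at h1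
  simp only [Equiv.inv_apply, isIrr_inv hχ, Complex.conj_conj] at h1
  simp only [mul_assoc _ _ h, isIrr_sum_conj_mul hχ]
  rw [pow_two, mul_assoc, ← h1, Finset.mul_sum]
  exact Finset.sum_congr rfl fun a _ => by ring

end Cfsg.Agent.Isaacs
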