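import Mathlib
import Cfsg.Agent.Isaacs.NonLin
import Cfsg.Agent.Isaacs.Deg
import Cfsg.Agent.Isaacs.Zero
import Cfsg.Agent.Isaacs.Tri
import Cfsg.Agent.Isaacs.GlRel
import Cfsg.Agent.FGS.Basic
import Cfsg.Agent.Core.PSolvable

/-! Sets of character degrees. -/

set_option autoImplicit false

open scoped ComplexConjugate commutatorElement

namespace Cfsg.Agent.Isaacs

open Cfsg Cfsg.Agent.Char Subgroup

variable {G : Type*} [Group G] {A H K L M N P : Subgroup G} {θ χ ψ β : G → ℂ} {p m n b : ℕ}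
  {R S : ℕ → Prop}

/-- the degrees of the irreducible characters of `K` trivial on `L` satisfy `R` -/
def CD (L K : Subgroup G) (R : ℕ → Prop) : Prop :=
  ∀ χ, Irr K χ → Ker L χ → ∀ d : ℕ, χ 1 = d → R d

theorem CD.mono (h : CD L K R) (hl : L ≤ M) (e : ∀ d, R d → S d) : CD M K S :=
  fun χ a b d c => e d (h χ a (b.mono hl) d c)

theorem CD.and (h : CD L K R) (h' : CD L K S) : CD L K fun d => R d ∧ S d :=
  fun χ a b d c => ⟨h χ a b d c, h' χ a b d c⟩

theorem CD.push {Q : Type*} [Group Q] (h : CD L K R) (f : G →* Q) (hf : L ≤ f.ker) : CD ⊥ (K.map f) R :=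
  fun χ a _ d c => h _ (a.of_map f) (fun x hx => by simp only [MonoidHom.mem_ker.mp (hf hx), map_one]) d (by simpa using c)

theorem CD.quot [N.Normal] (h : CD N ⊤ R) : CD (⊥ : Subgroup (G ⧸ N)) ⊤ R := by
  simpa [map_top_of_surjective _ (QuotientGroup.mk'_surjective N)] using
    h.push (QuotientGroup.mk' N) (QuotientGroup.ker_mk' N).ge

theorem CD.sub (h : CD L K R) (hl : L ≤ K) : CD (L.subgroupOf K) ⊤ R :=
  fun χ a b d c => h (ez K χ) (irr_ez.mpr (irr_top.mp a)) (fun x hx => by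
    rw [ez_mem _ (hl hx), ez_one]; exact b ⟨x, hl hx⟩ hx) d ((ez_one χ).trans c)

theorem CD.sub' (h : CD ⊥ K R) : CD (⊥ : Subgroup K) ⊤ R := bot_subgroupOf K ▸ h.sub bot_le

variable [Finite G]

omit [Finite G] in
theorem cd_iff : CD (⊥ : Subgroup G) ⊤ R ↔ ∀ χ : IrrCharacter G, R (charDegree χ.1) :=
  ⟨fun h χ => h _ (irr_top.mpr χ.2) ker_bot _ (Block.irr_degree_cast χ).symm, fun h χ a _ d c =>
    Block.charDegree_of_eq c ▸ h ⟨χ, irr_top.mp a⟩⟩

theorem CD.comm (h : CD L K (· = 1)) (hn : K ≤ normalizer (L : Set G)) (hl : L ≤ K) : ⁅K, K⁆ ≤ L :=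
  fun z hz => by_contra fun a => by
    obtain ⟨χ, b, c, d⟩ := exists_irr_not_ker hn hl (commutator_le_self K hz) a
    obtain ⟨k, -, e⟩ := b.deg
    exact d (b.chr.ker_comm (by rw [e, h χ b c k e, Nat.cast_one]) z hz)

theorem cd_of_comm (h : ⁅K, K⁆ ≤ L) : CD L K (· = 1) :=
  fun _ a b _ c => Nat.cast_eq_one.mp (c ▸ a.one_of_ker (b.mono h))

theorem cd_dvd : CD L K (· ∣ L.relIndex K) := fun _ a b _ c => a.deg_dvd_of_ker b c

theorem CD.under (h : CD ⊥ K R) (hn : K ≤ normalizer (L : Set G)) (hl : L ≤ K) :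
    CD ⊥ L fun d => ∃ k, k ∣ L.relIndex K ∧ R (k * d) := fun θ a _ d c => by
  obtain ⟨χ, b, e⟩ := a.exists_over hl
  obtain ⟨k, f, g⟩ := b.deg_dvd_rel hn hl a e
  exact ⟨k, f, h χ b ker_bot _ (by rw [g, c, Nat.cast_mul])⟩

theorem CD.le_sub (h : CD ⊥ K (· ≤ b)) (hl : H ≤ K) : CD ⊥ H (· ≤ b) := fun θ a _ d c => by
  obtain ⟨χ, e, f⟩ := a.exists_over hl
  obtain ⟨k, -, g⟩ := e.deg
  exact ((e.chr.res hl).deg_le a f g c).trans (h χ e ker_bot k g)

theorem Irr.deg_le_ind (h : Irr K χ) (hl : H ≤ K) (hθ : Chr H θ) (e : inn H χ θ ≠ 0) {a d : ℕ} (ha : χ 1 = a)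
    (hd : θ 1 = d) : a ≤ H.relIndex K * d :=
  (hθ.indc hl).deg_le h (inn_ne_comm (by rwa [inn_ind_right hl h.inv])) (by rw [ind_one, hd, Nat.cast_mul]) ha

theorem cd_le_index (hl : H ≤ K) (h : ⁅H, H⁆ ≤ L) (hL : L ≤ K) : CD L K (· ≤ H.relIndex K) := fun χ a b d c => by
  obtain ⟨θ, e, f⟩ := a.exists_under hl
  simpa using a.deg_le_ind hl e.chr f c (d := 1) (by
    simpa using e.one_of_ker (Ker.constit (b.mono h) (a.chr.res hl) (commutator_le_self H) e f))

theorem cent_of_inv (hn : A ≤ normalizer (K : Set G)) (hc : (Nat.card A).Coprime (Nat.card K))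
    (hs : Group.IsSolvable A ∨ Group.IsSolvable K) (h : ∀ θ, Irr K θ → Inv A K θ) : A ≤ centralizer (K : Set G) := by
  have : (centralizer (A : Set G)).subgroupOf K = ⊤ := FGS.eq_top_of_forall_conj_mem _ fun x => by
    obtain ⟨k, hk, e⟩ := glauberman_rel (N := ⊥) (T := centralizer {x.1}) hn norm_top norm_top bot_le (cop_rel hc)
      (hs.imp solvMod_of_solv solvMod_of_solv) fun a ha => by
        obtain ⟨k, e⟩ := isConj_iff.mp (isConj_of_irr (g := x) (h := ⟨_, conj_mem hn ha x.2⟩) fun χ => Or.inr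
          (((inv_ez_iff hn _).mp (h _ (irr_ez.mpr χ.2))) a ha _ _ rfl).symm)
        refine ⟨k, k.2, mem_centralizer_singleton_iff.mpr ?_⟩
        have : (k : G) * x * k⁻¹ = a * x * a⁻¹ := congrArg Subtype.val e
        calc _ = (k : G)⁻¹ * (a * x * a⁻¹) * a := by group
          _ = _ := by rw [← this]; simp [mul_assoc]
    refine ⟨⟨k, hk⟩, fun a ha => ?_⟩
    have := mem_centralizer_singleton_iff.mp (e a ha)
    calc _ = k * (k⁻¹ * a * k * x) * k⁻¹ := by simp [mul_assoc]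
      _ = _ := by rw [this]; simp [mul_assoc]
  exact le_centralizer_iff.mp (subgroupOf_eq_top.mp this)

theorem ito_compl [hp : Fact p.Prime] [N.Normal] (h : CD (⊥ : Subgroup G) ⊤ (¬ p ∣ ·)) (hN : ¬ p ∣ Nat.card N)
    (hQ : IsPGroup p (G ⧸ N)) (P : Sylow p G) : (P : Subgroup G).Normal := by
  obtain ⟨k, hk⟩ := hQ.exists_card_eq
  have : (P : Subgroup G) ≤ centralizer (N : Set G) := cent_of_inv norm_top (cop_of_not_dvd hp.out P.isPGroup' hN)
    (.inl (Core.solvable_of_isPGroup P.isPGroup')) fun θ a => by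
      obtain ⟨χ, b, c⟩ := a.exists_over le_top
      obtain ⟨d, -, e⟩ := b.deg
      have f := b.res_of_coprime norm_top le_top e (by
        rw [relIndex_top_right, index_eq_card, hk]
        exact (hp.out.coprime_iff_not_dvd.mpr (h χ b ker_bot d e)).symm.pow_right _)
      exact (b.inv.mono le_top le_top).congr norm_top (f.eqv a c)
  refine Core.normal_of_le_normalizer ?_
  rw [← Transfer.pResidual_sup_sylow P, ← Transfer.eq_pResidual_of_not_dvd hN hQ]
  exact sup_le ((le_centralizer_iff.mp this).trans (centralizer_le_normalizer _)) le_normalizer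

theorem ito_solv.{u} [hp : Fact p.Prime] (G : Type u) [Group G] [Finite G] : IsPSolvable p G →
    CD (⊥ : Subgroup G) ⊤ (¬ p ∣ ·) → ∀ P : Sylow p G, (P : Subgroup G).Normal := by
  refine Core.induction_on_card (P := fun G _ _ => IsPSolvable p G →
    CD (⊥ : Subgroup G) ⊤ (¬ p ∣ ·) → ∀ P : Sylow p G, (P : Subgroup G).Normal) (fun G _ _ ih hs h P => ?_) G
  rcases subsingleton_or_nontrivial G with _ | _
  · exact Subsingleton.elim (P : Subgroup G) ⊥ ▸ inferInstance
  obtain ⟨N, _, N1, hN⟩ := Core.IsPSolvable.exists_normal hs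
  have h1 := ih _ (Core.card_quotient_lt N N1) (Core.IsPSolvable.quotient hs N) (h.mono bot_le fun _ => id).quot
    (P.mapSurjective (QuotientGroup.mk'_surjective N))
  have h2 : ((P : Subgroup G) ⊔ N).Normal := by
    have := h1.comap (QuotientGroup.mk' N)
    rwa [Sylow.coe_mapSurjective, comap_map_eq, QuotientGroup.ker_mk'] at this
  rcases hN with hN | hN
  · rwa [sup_eq_left.mpr (hN.le_sylow_of_normal P)] at h2
  · have h3 := ito_compl (N := N.subgroupOf (P ⊔ N)) (((h.under norm_top le_top).mono le_rfl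
      fun d ⟨k, _, a⟩ b => a (b.mul_left k)).sub') (by
        rw [Core.card_subgroupOf_of_le le_sup_right]; exact hp.out.coprime_iff_not_dvd.mp hN.symm) ?_
      (P.subtype le_sup_left)
    · have := Sylow.characteristic_of_normal _ h3
      have := ConjAct.normal_of_characteristic_of_normal (H := (P : Subgroup G) ⊔ N)
        (K := (P.subtype (N := P ⊔ N) le_sup_left).1)
      rwa [Sylow.coe_subtype, subgroupOf_map_subtype, inf_eq_left.mpr le_sup_left] at this
    · obtain ⟨k, hk⟩ := P.isPGroup'.exists_card_eq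
      have : N.relIndex (P ⊔ N) ∣ p ^ k := by rw [relIndex_sup_right, ← hk]; exact Core.relIndex_dvd_card' _ _
      obtain ⟨j, -, e⟩ := (Nat.dvd_prime_pow hp.out).mp this
      exact IsPGroup.of_card e

theorem ito_iff [hp : Fact p.Prime] (hs : IsPSolvable p G) (P : Sylow p G) :
    ((P : Subgroup G).Normal ∧ ∀ a ∈ (P : Subgroup G), ∀ b ∈ (P : Subgroup G), a * b = b * a) ↔
      CD (⊥ : Subgroup G) ⊤ (¬ p ∣ ·) := by
  refine ⟨fun ⟨_, h⟩ χ a _ d c e => P.not_dvd_index (e.trans ?_), fun h => ?_⟩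
  · simpa using a.deg_dvd_of_comm norm_top le_top h c
  · have := ito_solv G hs h P
    refine ⟨this, fun a ha b hb => comm_of_commutator_eq_bot (CD.comm (((h.under norm_top le_top).and cd_dvd).mono le_rfl
      fun d ⟨⟨k, _, e⟩, f⟩ => ?_) norm_top bot_le) ha hb⟩
    obtain ⟨j, hj⟩ := P.isPGroup'.exists_card_eq
    rw [relIndex_bot_left, hj] at f
    exact (Nat.Coprime.pow_right _ (hp.out.coprime_iff_not_dvd.mpr fun g => e (g.mul_left k)).symm).eq_one_of_dvd f

theorem pcompl_of_pow (hp : p.Prime) (h : CD (⊥ : Subgroup G) ⊤ fun d => ∃ k, d = p ^ k) :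
    ¬ p ∣ Nat.card (pResidual p G) ∧ ⁅pResidual p G, pResidual p G⁆ ≤ ⊥ := by
  have h1 := thompson (G := G) hp fun χ a d c e => by
    obtain ⟨k, rfl⟩ := h χ a ker_bot d c
    exact dvd_pow_self p fun b => e (by simp [b])
  refine ⟨h1, CD.comm (((h.under norm_top le_top).and cd_dvd).mono le_rfl fun d ⟨⟨k, _, j, e⟩, f⟩ => ?_) norm_top bot_le⟩
  rw [relIndex_bot_left] at f
  exact (Nat.Coprime.pow_right j (hp.coprime_iff_not_dvd.mpr fun g => h1 (g.trans f)).symm).eq_one_of_dvd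
    (e ▸ dvd_mul_left _ _)

end Cfsg.Agent.Isaacs
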