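import Mathlib
import Cfsg.Agent.Isaacs.Zero
import Cfsg.Agent.Isaacs.Tri
import Cfsg.Agent.Block.Height

/-! More on zeros of characters. -/

set_option autoImplicit false

open scoped ComplexConjugate

namespace Cfsg.Agent.Isaacs

open Cfsg Cfsg.Agent.Char Subgroup

variable {G : Type*} [Group G] [Finite G] {H K N : Subgroup G} {θ χ : G → ℂ} {p : ℕ}

theorem norm_inn_self : (‖inn H θ θ‖ : ℂ) = inn H θ θ := by
  have := Fintype.ofFinite H
  rw [inn_eq, classInner_self, Complex.norm_real, Real.norm_of_nonneg (by positivity)]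

theorem val_sub_lt_of_pow {M : Ideal AlgInt} (hM : IsPModular p M) (h : IsCharacter G χ) {g : G} {k : ℕ}
    (hg : g ^ p ^ k = 1) : Block.val M (χ g - χ 1) < 1 := by
  obtain ⟨s, a, b, c, -⟩ := isChar_eigen_nat h g
  rw [← b, c, show s.sum - s.card = (s.map fun z => z - 1).sum by simp [Multiset.sum_map_sub]]
  refine Multiset.sum_induction (fun z => Block.val M z < 1) _ (fun _ _ => Valuation.map_add_lt _) (by simp) ?_
  intro z hz
  obtain ⟨y, hy, rfl⟩ := Multiset.mem_map.mp hz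
  obtain ⟨c, hc⟩ := orderOf_dvd_of_pow_eq_one hg
  exact Block.val_sub_one_lt_one_of_pow_eq_one hM (k := k) (by rw [hc, pow_mul, a y hy, one_pow])

theorem dvd_of_apply_eq (hp : p.Prime) (h : IsCharacter G χ) {g : G} {k : ℕ} (hg : g ^ p ^ k = 1) {a d : ℤ}
    (ha : χ g = a) (hd : χ 1 = d) : (p : ℤ) ∣ a - d := by
  obtain ⟨M, hM⟩ := Block.exists_isPModular hp
  rw [← Block.val_intCast_lt_one_iff hM, Int.cast_sub, ← ha, ← hd]
  exact val_sub_lt_of_pow hM h hg

theorem ne_zero_of_not_dvd (hp : p.Prime) (h : IsCharacter G χ) {g : G} {k : ℕ} (hg : g ^ p ^ k = 1) {d : ℕ}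
    (hd : χ 1 = d) (hd' : ¬ p ∣ d) : χ g ≠ 0 := fun e =>
  hd' (by simpa [Int.natCast_dvd_natCast] using dvd_of_apply_eq hp h hg (a := 0) (d := d) (by simpa) (by simpa))

theorem gen_inn_sh [N.Normal] (h : Gen ⊤ χ) (h' : Gen ⊤ θ) : Gen ⊤ fun x => inn N (sh x χ) (sh x θ) := by
  classical
  refine (gen_sum (Finset.univ.filter fun β : IrrCharacter (⊤ : Subgroup G) => Ker N (ez ⊤ β))
    (f := fun β => inn ⊤ χ (ez ⊤ β * θ) • ez ⊤ β) fun β _ => ?_).congr fun x hx => ?_
  · obtain ⟨n, hn⟩ := h.inn_int ((irr_ez.mpr β.2).gen.mul h')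
    exact hn ▸ (irr_ez.mpr β.2).gen.smul n
  · rw [inn_sh_eq_sum norm_top le_top h.inv h'.inv hx, Finset.sum_apply]; rfl

theorem Irr.res_of_coset [N.Normal] (h : Irr ⊤ χ) (e : ∀ x, ¬ Eqv N (sh x χ) 0) : Irr N χ := by
  classical
  have := Fintype.ofFinite G
  have h1 := card_le_sum_norm (gen_top.mp (gen_inn_sh (N := N) h.gen h.gen)) (Finset.univ.erase 1)
    (fun k hk g hg => Finset.mem_erase.mpr ⟨fun e => (Finset.mem_erase.mp hg).1
      ((powCoprime hk.symm).injective (by simpa using e)), Finset.mem_univ _⟩)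
    fun g _ => mt inn_self_eq_zero.mp (e g)
  have h2 := card_mul_inn_eq_sum (K := N) (θ := χ) (φ := χ) le_top
  rw [h.inn_self, mul_one, card_top, ← Finset.sum_subtype Finset.univ (by simp)
    fun x => inn N (sh x χ) (sh x χ), ← Finset.add_sum_erase _ _ (Finset.mem_univ 1), sh_one,
    Finset.sum_congr rfl fun x _ => norm_inn_self.symm] at h2
  obtain ⟨n, hn⟩ := (h.chr.res le_top).inn_nat (h.chr.res (L := N) le_top)
  have h3 : n ≠ 0 := fun a => e 1 (inn_self_eq_zero.mp (by rw [sh_one, hn, a, Nat.cast_zero]))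
  rw [Finset.card_erase_of_mem (Finset.mem_univ _), Finset.card_univ, ← Nat.card_eq_fintype_card,
    Nat.cast_pred Nat.card_pos] at h1
  rw [hn] at h2
  have h4 : (Nat.card G : ℝ) = n + ∑ x ∈ Finset.univ.erase 1, ‖inn N (sh x χ) (sh x χ)‖ := by
    exact_mod_cast h2
  have h5 : (n : ℝ) ≤ 1 := by linarith
  exact (h.chr.res le_top).irr (by rw [hn, show n = 1 by norm_cast at h5; omega, Nat.cast_one])

theorem exists_fixed_of_dvd (hp : p.Prime) {y : G} {k : ℕ} (hy : y ^ p ^ k = 1) (hn : y ∈ normalizer (K : Set G))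
    (hd : p ∣ Nat.card K) : ∃ x ∈ K, x ≠ 1 ∧ y * x = x * y := by
  have := Fact.mk hp
  have h1 : IsPGroup p (zpowers (⟨y, hn⟩ : normalizer (K : Set G))) := IsPGroup.of_card_dvd_pow (n := k) (by
    rw [Nat.card_zpowers]; exact orderOf_dvd_of_pow_eq_one (Subtype.ext hy))
  let _ := MulAction.compHom K K.normalizerMonoidHom
  obtain ⟨b, hb, e⟩ := h1.exists_fixed_point_of_prime_dvd_card_of_fixed_point K hd (a := 1)
    fun g => map_one (K.normalizerMonoidHom g)
  exact ⟨b, b.2, fun a => e (Subtype.ext a).symm,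
    mul_inv_eq_iff_eq_mul.mp (congrArg Subtype.val (hb ⟨_, mem_zpowers _⟩))⟩

end Cfsg.Agent.Isaacs
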