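import Mathlib
import Cfsg.Agent.Isaacs.CD
import Cfsg.Agent.Isaacs.Zero2
import Cfsg.Agent.Isaacs.Cent
import Cfsg.Agent.Isaacs.Berger
import Cfsg.Agent.Isaacs.GalFix
import Cfsg.Agent.PGrp.Comm

/-! Minimal nonabelian quotients (Isaacs 12.3, 12.4). -/

set_option autoImplicit false

open scoped ComplexConjugate commutatorElement Pointwise

namespace Cfsg.Agent.Isaacs

open Cfsg Cfsg.Agent.Char Subgroup

variable {G : Type*} [Group G] {A H K L M N P U Z : Subgroup G} {θ χ ψ β μ : G → ℂ} {p q m n b d : ℕ}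
  {R S : ℕ → Prop}

structure MaxNA (K : Subgroup G) : Prop where
  normal : K.Normal
  ne : ¬ commutator G ≤ K
  max : ∀ M : Subgroup G, M.Normal → K < M → commutator G ≤ M

structure PType (p : ℕ) (K Z : Subgroup G) : Prop where
  prime : p.Prime
  pow : ∀ x : G, ∃ k, x ^ p ^ k ∈ K
  normal : Z.Normal
  le : K ≤ Z
  mem : ∀ x, x ∈ Z ↔ ∀ g : G, ⁅g, x⁆ ∈ K
  comm : commutator G ≤ Z
  pw : ∀ x : G, x ^ p ∈ Z

structure FType (q : ℕ) (K N : Subgroup G) : Prop where
  prime : q.Prime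
  normal : N.Normal
  lt : K < N
  comm : commutator G ≤ N
  ab : ⁅N, N⁆ ≤ K
  pw : ∀ x ∈ N, x ^ q ∈ K
  ne : N ≠ ⊤
  fpf : ∀ x ∉ N, ∀ n ∈ N, ⁅x, n⁆ ∈ K → n ∈ K
  cent : ∀ x : G, (∀ g : G, ⁅g, x⁆ ∈ K) → x ∈ K

theorem comm_mem (a b : G) : ⁅a, b⁆ ∈ commutator G := commutator_mem_commutator trivial trivial

theorem map_comm [K.Normal] : (commutator G).map (QuotientGroup.mk' K) = commutator (G ⧸ K) := by
  rw [commutator_def, map_commutator, map_top_of_surjective _ (QuotientGroup.mk'_surjective K), commutator_def]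

theorem comm_quot_iff [K.Normal] {a b : G} : ⁅(a : G ⧸ K), (b : G ⧸ K)⁆ = 1 ↔ ⁅a, b⁆ ∈ K := by
  rw [← QuotientGroup.eq_one_iff]; rfl

theorem MaxNA.quot [K.Normal] (h : MaxNA K) : MaxNA (⊥ : Subgroup (G ⧸ K)) where
  normal := inferInstance
  ne a := h.ne (by rwa [← map_comm, le_bot_iff, Subgroup.map_eq_bot_iff, QuotientGroup.ker_mk'] at a)
  max M a b := by
    rw [← map_comm, map_le_iff_le_comap]
    refine h.max _ (a.comap _) ?_
    simpa using (comap_lt_comap_of_surjective (QuotientGroup.mk'_surjective K)).mpr b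

variable [Finite G]

theorem exists_maxNA [hL : L.Normal] (h : ¬ commutator G ≤ L) : ∃ K, L ≤ K ∧ MaxNA K := by
  obtain ⟨K, ⟨a, b, c⟩, d⟩ := Set.Finite.exists_maximal (s := {K : Subgroup G | K.Normal ∧ L ≤ K ∧ ¬ commutator G ≤ K})
    (Set.toFinite _) ⟨L, hL, le_rfl, h⟩
  exact ⟨K, b, a, c, fun M e f => by_contra fun g => f.not_ge (d ⟨e, b.trans f.le, g⟩ f.le)⟩

theorem MaxNA.cases_bot (h : MaxNA (⊥ : Subgroup G)) (hs : Group.IsSolvable G) :
    (∃ p, PType p ⊥ (center G)) ∨ ∃ q, FType q ⊥ (commutator G) := by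
  have h1 : commutator G ≠ ⊥ := fun e => h.ne e.le
  obtain ⟨q, hq, he⟩ := Core.minimal_normal_elementary (commutator G) inferInstance h1 fun M a b =>
    or_iff_not_imp_left.mpr fun c => b.antisymm (h.max M a (bot_lt_iff_ne_bot.mpr c))
  have hc : ∀ a ∈ commutator G, ∀ b ∈ commutator G, a * b = b * a :=
    fun a ha b hb => Core.comm_of_isMulCommutative he.1 ha hb
  have hp : ∀ a ∈ commutator G, a ^ q = 1 := he.2
  have := Fact.mk hq
  by_cases hZ : center G = ⊥
  · refine .inr ⟨q, hq, inferInstance, bot_lt_iff_ne_bot.mpr h1, le_rfl, commutator_eq_bot_of_comm hc, hp,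
      fun e => (Core.commutator_lt_of_solvable (K := ⊤) inferInstance fun f => h1 (le_bot_iff.mp (f ▸ le_top))).ne e, ?_,
      fun x a => hZ.le (mem_center_iff.mpr fun g => commutatorElement_eq_one_iff_mul_comm.mp (a g))⟩
    have k1 : ∀ x, ¬ commutator G ≤ centralizer {x} → ∀ n ∈ commutator G, n * x = x * n → n = 1 := fun x a n hn b => by
      by_contra c
      refine a ((h.max (commutator G ⊓ centralizer {x}) ⟨fun u ⟨u1, u2⟩ g => ⟨Normal.conj_mem inferInstance u u1 g,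
        mem_centralizer_singleton_iff.mpr ?_⟩⟩ (bot_lt_iff_ne_bot.mpr fun e =>
          c (e.le ⟨hn, mem_centralizer_singleton_iff.mpr b⟩))).trans inf_le_right)
      have e1 := mem_centralizer_singleton_iff.mp u2
      have e2 := hc _ (comm_mem g⁻¹ x) u u1
      calc _ = g * (u * ⁅g⁻¹, x⁆) * x * g⁻¹ := by simp [commutatorElement_def, mul_assoc]
        _ = g * ⁅g⁻¹, x⁆ * (u * x) * g⁻¹ := by rw [← e2]; simp [mul_assoc]
        _ = _ := by rw [e1]; simp [commutatorElement_def, mul_assoc]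
    obtain ⟨y, hy⟩ : ∃ y, ¬ commutator G ≤ centralizer {y} := by
      by_contra! a
      exact h1 (le_bot_iff.mp (hZ ▸ fun z hz => mem_center_iff.mpr fun g =>
        (mem_centralizer_singleton_iff.mp (a g hz)).symm))
    have k2 : ∀ g, ∃ n ∈ commutator G, ∃ d, d * y = y * d ∧ g = n * d := fun g => by
      obtain ⟨n, hn, e⟩ := BrauerPerm.exists_conj_eq_mul_of_fpf _ (fun n a => Normal.conj_mem inferInstance n a y)
        (k1 y hy) (comm_mem g y)
      refine ⟨n, hn, n⁻¹ * g, ?_, by simp⟩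
      calc _ = n⁻¹ * (⁅g, y⁆ * y) * g := by simp [commutatorElement_def, mul_assoc]
        _ = _ := by rw [← e]; simp [mul_assoc]
    intro x hx n hn e
    refine k1 x (fun a => hx ?_) n hn (commutatorElement_eq_one_iff_mul_comm.mp e).symm
    obtain ⟨u, hu, d, e1, rfl⟩ := k2 x
    have : d ∈ center G := mem_center_iff.mpr fun g => by
      obtain ⟨v, hv, c, e2, rfl⟩ := k2 g
      have e3 : c * d = d * c := commutatorElement_eq_one_iff_mul_comm.mp (k1 y hy _ (comm_mem c d) (by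
        have i : Commute c y := e2
        have j : Commute d y := e1
        exact (((i.mul_left j).mul_left i.inv_left).mul_left j.inv_left :)))
      have e4 := mem_centralizer_singleton_iff.mp (a hv)
      rw [← mul_assoc, hc v hv u hu, mul_assoc, mul_assoc, mul_left_cancel_iff] at e4
      rw [mul_assoc, e3, ← mul_assoc, e4, mul_assoc]
    rw [hZ, mem_bot] at this
    simpa [this] using hu
  · have h2 := h.max _ inferInstance (bot_lt_iff_ne_bot.mpr hZ)
    have h3 : ∀ x : G, x ^ q ∈ center G := fun x => mem_center_iff.mpr fun g =>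
      commutatorElement_eq_one_iff_mul_comm.mp (by
        rw [PGrp.commutator_pow_right_of_commute (mem_center_iff.mp (h2 (comm_mem g x)) x), hp _ (comm_mem g x)])
    refine .inl ⟨q, hq, Transfer.isPGroup_of_pResidual_eq_bot (le_bot_iff.mp (Transfer.pResidual_le_iff.mpr fun g a => ?_)),
      inferInstance, bot_le, fun x => by simp [mem_center_iff, commutatorElement_eq_one_iff_mul_comm], h2, h3⟩
    by_contra c
    obtain ⟨z, z1⟩ := ne_bot_iff_exists_ne_one.mp h1
    have := normal_of_le_center' (zpowers_le.mpr (Core.mem_of_pow_mem_of_coprime (h3 g) a.symm))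
    have := orderOf_dvd_of_mem_zpowers (h.max _ this (bot_lt_iff_ne_bot.mpr (by simpa using c)) z.2)
    rw [orderOf_eq_prime (hp _ z.2) fun e => z1 (Subtype.ext e)] at this
    exact hq.coprime_iff_not_dvd.mp a.symm this

theorem MaxNA.cases (h : MaxNA K) (hs : SolvMod K ⊤) : (∃ p Z, PType p K Z) ∨ ∃ q N, FType q K N := by
  have := h.normal
  have hs' : Group.IsSolvable (G ⧸ K) := by
    have := hs.map (QuotientGroup.mk' K) (QuotientGroup.ker_mk' K).ge
    rw [map_top_of_surjective _ (QuotientGroup.mk'_surjective K)] at this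
    exact Core.solvable_of_mulEquiv topEquiv this
  have hl : ∀ X : Subgroup (G ⧸ K), K ≤ X.comap (QuotientGroup.mk' K) := fun X => by
    simpa using ker_le_comap (QuotientGroup.mk' K) X
  refine (h.quot.cases_bot hs').imp (fun ⟨p, a⟩ => ⟨p, (center _).comap (QuotientGroup.mk' K), a.prime, fun x => ?_,
    inferInstance, hl _, fun x => ?_, by rw [← map_le_iff_le_comap, map_comm]; exact a.comm, fun x => a.pw (x : G ⧸ K)⟩)
    fun ⟨q, a⟩ => ⟨q, (commutator _).comap (QuotientGroup.mk' K), a.prime, inferInstance, ?_,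
      by rw [← map_le_iff_le_comap, map_comm], commutator_le.mpr fun x hx y hy => comm_quot_iff.mp
        (a.ab (commutator_mem_commutator hx hy)), fun x hx => (QuotientGroup.eq_one_iff _).mp (a.pw (x : G ⧸ K) hx),
      fun e => a.ne (comap_injective (QuotientGroup.mk'_surjective K) e), fun x hx n hn e =>
        (QuotientGroup.eq_one_iff _).mp (a.fpf (x : G ⧸ K) hx n hn (comm_quot_iff.mpr e)), fun x e =>
        (QuotientGroup.eq_one_iff _).mp (a.cent _ fun g => g.inductionOn fun g => comm_quot_iff.mpr (e g))⟩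
  · exact (a.pow (x : G ⧸ K)).imp fun k e => (QuotientGroup.eq_one_iff _).mp e
  · exact (a.mem (x : G ⧸ K)).trans ⟨fun b g => comm_quot_iff.mp (b g),
      fun b g => g.inductionOn fun g => comm_quot_iff.mpr (b g)⟩
  · simpa using (comap_lt_comap_of_surjective (QuotientGroup.mk'_surjective K)).mpr a.lt

theorem MaxNA.exists_nonlin (h : MaxNA K) : ∃ β, Irr ⊤ β ∧ Ker K β ∧ ∃ d : ℕ, d ≠ 1 ∧ β 1 = d := by
  have := h.normal
  by_contra! a
  exact h.ne (CD.comm (fun β b c d e => by_contra fun f => a β b c d f e) norm_top le_top)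

theorem MaxNA.mem_of_eq (h : MaxNA K) (hβ : Irr ⊤ β) (hk : Ker K β) (h1 : β 1 ≠ 1) {x : G} (e : β x = β 1) : x ∈ K := by
  by_contra a
  exact h1 (hβ.one_of_ker (hβ.chr.ker_kerS.mono (h.max _ (Core.normal_of_le_normalizer
    (hβ.chr.normalizes_kerS norm_top hβ.inv)) ((hβ.chr.le_kerS le_top hk).lt_of_ne fun b =>
      a (b.ge (hβ.chr.mem_kerS.mpr ⟨trivial, e⟩))))))

theorem PType.index (h : PType p K Z) [K.Normal] : ∃ k, K.index = p ^ k := by
  simpa using relIndex_eq_pow (K := ⊤) h.prime norm_top fun x _ => h.pow x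

theorem PType.deg (h : PType p K Z) (hK : MaxNA K) (hβ : Irr ⊤ β) (hk : Ker K β) (hd : β 1 = d) (h1 : d ≠ 1) :
    d ^ 2 = Z.index := by
  have h2 : Ker ⁅⊤, Z⁆ β := hk.mono (commutator_le.mpr fun g _ x hx => (h.mem x).mp hx g)
  rw [← relIndex_top_right, hβ.sq_deg_iff le_top hd h2]
  intro x _ hx
  obtain ⟨y, hy⟩ := not_forall.mp (mt (h.mem x).mpr hx)
  exact hβ.chr.vanish_of_comm trivial trivial (hβ.norm_of_comm trivial fun g _ =>
    h2 _ (commutator_mem_commutator trivial (h.comm (comm_mem y x))))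
      fun e => hy (hK.mem_of_eq hβ hk (by rw [hd]; exact_mod_cast h1) e)

namespace FType

variable (h : FType q K N) [K.Normal]
include h

theorem not_dvd : ¬ q ∣ N.index := fun a => by
  have := h.normal
  have := Fact.mk h.prime
  obtain ⟨x, -, b, c⟩ := exists_pow_mem (K := ⊤) h.prime norm_top (by simpa using a)
  obtain ⟨z, hz, z1⟩ := SetLike.exists_of_lt h.lt
  obtain ⟨_, ⟨n, hn, rfl⟩, d, e⟩ := exists_fixed_of_dvd (K := N.map (QuotientGroup.mk' K)) (y := (x : G ⧸ K)) (k := 2)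
    h.prime ((QuotientGroup.eq_one_iff (x ^ q ^ 2)).mpr (by rw [sq, pow_mul]; exact h.pw _ c))
    (Core.map_le_normalizer_map (norm_top (A := ⊤)) _ ⟨x, trivial, rfl⟩) (Core.prime_dvd_card_of_isPGroup
      (fun ⟨_, n, hn, rfl⟩ => ⟨1, Subtype.ext ((QuotientGroup.eq_one_iff (n ^ q ^ 1)).mpr (by simpa using h.pw n hn))⟩)
      fun e => z1 (by simpa using (Subgroup.map_eq_bot_iff _).mp e hz))
  exact d ((QuotientGroup.eq_one_iff n).mpr (h.fpf x b n hn (comm_quot_iff.mp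
    (commutatorElement_eq_one_iff_mul_comm.mpr e))))

theorem ker_of (hl : K ≤ U) (hU : U ≤ N) {x : G} (hx : x ∉ N) (hn : x ∈ normalizer (U : Set G)) (hμ : Chr N μ)
    (hk : Ker K μ) (e : ∀ u ∈ U, μ ⁅u, x⁆ = μ 1) : Ker U μ := fun u hu => by
  obtain ⟨_, ⟨v, hv, rfl⟩, a⟩ := BrauerPerm.exists_conj_eq_mul_of_fpf (U.map (QuotientGroup.mk' K)) (g := (x : G ⧸ K))
    (fun _ ⟨n, a, b⟩ => ⟨_, (mem_normalizer_iff.mp hn n).mp a, by simp [← b]⟩) (fun _ ⟨n, a, b⟩ c => by
      subst b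
      exact (QuotientGroup.eq_one_iff n).mpr (h.fpf x hx n (hU a) (comm_quot_iff.mp
        (commutatorElement_eq_one_iff_mul_comm.mpr c.symm)))) ⟨u, hu, rfl⟩
  have b : ⁅v, x⁆⁻¹ * u ∈ K := QuotientGroup.eq.mp (by
    change (v : G ⧸ K) * x * (v : G ⧸ K)⁻¹ * (x : G ⧸ K)⁻¹ = u
    exact mul_inv_eq_iff_eq_mul.mpr a)
  rw [← e v hv, ← hμ.mul_of_eq' (h.lt.le b) (hk _ b) (h.comm (comm_mem v x)), mul_inv_cancel_left]

omit [K.Normal] in
theorem lin (hμ : Irr N μ) (hk : Ker K μ) : μ 1 = 1 := hμ.one_of_ker (hk.mono h.ab)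

theorem stab_le (hμ : Irr N μ) (hk : Ker K μ) (h1 : ¬ Ker N μ) : stab N μ ≤ N := fun x hx => by_contra fun a => by
  have := h.normal
  refine h1 (h.ker_of h.lt.le le_rfl a hx.1 hμ.chr hk fun u hu => ?_)
  rw [show ⁅u, x⁆ = u * (x * u⁻¹ * x⁻¹) by simp [commutatorElement_def, mul_assoc],
    hμ.chr.map_mul (h.lin hμ hk) hu (this.conj_mem _ (inv_mem hu) x), ← cj_apply x μ, hx.2 _ (inv_mem hu),
    ← hμ.chr.map_mul (h.lin hμ hk) hu (inv_mem hu), mul_inv_cancel]

theorem exists_deg : ∃ β, Irr ⊤ β ∧ Ker K β ∧ β 1 = N.index := by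
  have := h.normal
  obtain ⟨z, hz, z1⟩ := SetLike.exists_of_lt h.lt
  obtain ⟨μ, a, b, c⟩ := exists_irr_not_ker norm_top h.lt.le hz z1
  exact ⟨_, (a.ind_iff norm_top le_top).mpr (inf_le_left.trans (h.stab_le a b fun e => c (e z hz))),
    b.indc h.lt.le le_top norm_top, by rw [ind_one, h.lin a b]; simp⟩

theorem dich (hψ : Irr N ψ) : (∃ χ : G → ℂ, Irr ⊤ χ ∧ χ 1 = N.index * ψ 1) ∨ ∀ x ∈ N, x ∉ K → ψ x = 0 := by
  have hN := h.normal
  refine or_iff_not_imp_left.mpr fun a => ?_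
  have k1 : ∀ μ, Irr N μ → Ker K μ → ∃ x ∉ N, x ∈ stab N (μ * ψ) := fun μ b c => by_contra fun d =>
    a ⟨_, ((hψ.lin_mul b.chr (h.lin b c)).ind_iff norm_top le_top).mpr fun x hx => by_contra fun e => d ⟨x, e, hx.1⟩,
      by rw [ind_one, Pi.mul_apply, h.lin b c]; simp⟩
  set U := K ⊔ closure {x | x ∈ N ∧ ψ x ≠ 0}
  have hU : U ≤ N := sup_le h.lt.le ((closure_le _).mpr fun x hx => hx.1)
  have k2 : ∀ μ, Chr N μ → μ 1 = 1 → ∀ x ∈ stab N (μ * ψ), x ∈ normalizer (U : Set G) := fun μ b c =>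
    Core.le_normalizer_sup norm_top (le_norm fun x hx u hu => by
      refine (closure_le (((closure {x | x ∈ N ∧ ψ x ≠ 0}).comap (MulAut.conj x).toMonoidHom))).mpr
        (fun v hv => subset_closure ⟨hN.conj_mem v hv.1 x, fun e => hv.2 ?_⟩) hu
      have := hx.2 v hv.1
      rw [cj_apply, Pi.mul_apply, Pi.mul_apply, show ψ (x * v * x⁻¹) = 0 from e, mul_zero] at this
      exact (mul_eq_zero.mp this.symm).resolve_left (b.ne_zero c hv.1))
  have k3 : ∀ μ, Chr N μ → μ 1 = 1 → Ker K μ → ∀ x ∉ N, x ∈ normalizer (U : Set G) →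
      (∀ u ∈ N, ψ u ≠ 0 → μ (x * u * x⁻¹) = μ u) → Ker U μ := fun μ b c d x e f g => by
    have b' := (b.cjg (norm_top (mem_top x))).cnj.mul b
    have : U ≤ kerS N _ := sup_le (b'.le_kerS h.lt.le fun k hk => by
      simp [cj_apply, d k hk, d _ (Normal.conj_mem inferInstance k hk x)]) ((closure_le _).mpr fun u ⟨u1, u2⟩ =>
        b'.mem_kerS.mpr ⟨u1, by simp [cj_apply, g u u1 u2, c, mul_comm _ (μ u), b.mul_conj c u1]⟩)
    refine h.ker_of le_sup_left hU e f b d fun u hu => ?_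
    have i := (b'.mem_kerS.mp (this hu)).2
    rw [show ⁅u, x⁆ = u * (x * u * x⁻¹)⁻¹ by simp [commutatorElement_def, mul_assoc],
      b.map_mul c (hU hu) (inv_mem (hN.conj_mem _ (hU hu) x)), b.gen.apply_inv (hN.conj_mem _ (hU hu) x), mul_comm]
    simpa [cj_apply, c] using i
  obtain ⟨x, x1, x2⟩ := k1 _ irr_one fun _ _ => rfl
  intro z hz z1
  by_contra z2
  obtain ⟨μ, b, c, d⟩ := exists_irr_not_ker norm_top h.lt.le hz z1
  obtain ⟨y, y1, y2⟩ := k1 μ b c
  have e := h.lin b c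
  have b' := (b.chr.cjg (norm_top (mem_top x))).mul b.chr.cnj
  have f := k3 _ b' (by simp [cj_apply, e]) (fun k hk => by
    simp [cj_apply, c k hk, c _ (Normal.conj_mem inferInstance k hk x)]) y y1 (k2 μ b.chr e y y2) fun u u1 u2 => by
      have i1 : ψ (x * u * x⁻¹) = ψ u := by simpa [cj_apply] using x2.2 u u1
      have i2 : ψ (x * (y * u * y⁻¹) * x⁻¹) = ψ (y * u * y⁻¹) := by
        simpa [cj_apply] using x2.2 _ (hN.conj_mem u u1 y)
      have i3 := y2.2 u u1
      have i4 := y2.2 _ (hN.conj_mem u u1 x)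
      have i5 : ∀ θ, Irr N θ → θ (y * (x * u * x⁻¹) * y⁻¹) = θ (x * (y * u * y⁻¹) * x⁻¹) := fun θ i => by
        rw [← i.inv _ (h.comm (comm_mem y x)) _ (hN.conj_mem _ (hN.conj_mem u u1 y) x)]
        simp [commutatorElement_def, mul_assoc]
      simp only [cj_apply, Pi.mul_apply, i5 μ b, i5 ψ hψ, i1, i2] at i3 i4 ⊢
      have i6 := b.chr.mul_conj e u1
      have i7 := b.chr.mul_conj e (hN.conj_mem u u1 y)
      refine mul_right_cancel₀ u2 ?_
      linear_combination (conj (μ u) * conj (μ (y * u * y⁻¹)) * μ (y * u * y⁻¹)) * i4 -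
        (μ (x * (y * u * y⁻¹) * x⁻¹) * conj (μ u) * conj (μ (y * u * y⁻¹))) * i3 -
        μ (x * (y * u * y⁻¹) * x⁻¹) * conj (μ (y * u * y⁻¹)) * ψ u * i6 + μ (x * u * x⁻¹) * conj (μ u) * ψ u * i7
  refine d (k3 μ b.chr e c x x1 (k2 _ chr_one rfl x x2) (fun u u1 u2 => ?_) z
    (mem_sup_right (subset_closure ⟨hz, z2⟩)))
  have i := f u (mem_sup_right (subset_closure ⟨u1, u2⟩))
  simp only [cj_apply, Pi.mul_apply, mul_one, mul_inv_cancel, e, map_one] at i
  linear_combination μ u * i - μ (x * u * x⁻¹) * b.chr.mul_conj e u1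

omit [K.Normal] in
theorem dvd_of_vanish (hψ : Chr N ψ) (e : ∀ x ∈ N, x ∉ K → ψ x = 0) (hd : ψ 1 = d) : q ∣ d := by
  obtain ⟨z, hz, z1⟩ := SetLike.exists_of_lt h.lt
  obtain ⟨k, m, a, b⟩ := Nat.exists_eq_pow_mul_and_not_dvd (orderOf_pos z).ne' q h.prime.ne_one
  by_contra c
  exact ne_zero_of_not_dvd h.prime hψ (g := ⟨z ^ m, pow_mem hz m⟩) (k := k) (Subtype.ext (by
    simp [← pow_mul, mul_comm m, ← b])) hd c (e _ (pow_mem hz m) fun f => z1
      (mem_of_pow_pow (h.pw z hz) f (h.prime.coprime_iff_not_dvd.mpr a)))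

end FType

end Cfsg.Agent.Isaacs
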