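import Mathlib
import Cfsg.Agent.Isaacs.MaxNA

/-! Groups with two character degrees. -/

set_option autoImplicit false

open scoped ComplexConjugate commutatorElement Pointwise

namespace Cfsg.Agent.Isaacs

open Cfsg Cfsg.Agent.Char Subgroup

variable {G : Type*} [Group G] [Finite G] {A H K L M N P T U Z : Subgroup G} {θ χ ψ β μ : G → ℂ}
  {p q m n b d : ℕ} {R S : ℕ → Prop}

theorem Irr.norm_res_le (h : Irr K χ) (hl : L ≤ K) (e : inn L χ χ = n) : n ≤ L.relIndex K := by
  obtain ⟨d, d0, hd⟩ := h.deg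
  exact Nat.le_of_mul_le_mul_right (((h.chr.res hl).indc hl).mult_deg_le h (by rw [inn_ind_left hl h.inv, e])
    (by rw [ind_one, hd, Nat.cast_mul]) hd) d0

theorem Chr.norm_le_sq (h : Chr L χ) (e : inn L χ χ = n) (hd : χ 1 = d) : n ≤ d ^ 2 := by
  simpa using (h.mul h.cnj).mult_deg_le (b := 1) (a := d ^ 2) irr_one (by rw [← inn_eq_mul_one, e])
    (by simp [hd, sq]) (by simp)

theorem Irr.sq_le (h : Irr K χ) (hl : Z ≤ K) (hc : Ker ⁅K, Z⁆ χ) (hd : χ 1 = d) : d ^ 2 ≤ Z.relIndex K :=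
  h.norm_res_le hl (inn_self_of_norm fun z hz => by
    rw [h.norm_of_comm (hl hz) fun g hg => hc _ (commutator_mem_commutator hg hz), hd, Complex.norm_natCast])

theorem Irr.le_sq_of_vanish (h : Irr K χ) (hl : L ≤ K) (e : ∀ g ∈ K, g ∉ L → χ g = 0) (hd : χ 1 = d) :
    L.relIndex K ≤ d ^ 2 := (h.chr.res hl).norm_le_sq ((h.norm_res_eq_iff hl).mpr e) hd

theorem exists_residual : ∃ D : Subgroup G, D.Normal ∧ ⁅D, D⁆ = D ∧ (D = ⊥ → Group.IsSolvable G) ∧
    ∀ (N : Subgroup G) [N.Normal], Group.IsSolvable (G ⧸ N) → D ≤ N := by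
  obtain ⟨_, ⟨n, rfl⟩, h⟩ := wellFounded_lt.has_min (Set.range (derivedSeries G)) ⟨_, 0, rfl⟩
  have k : ∀ j, derivedSeries G n ≤ derivedSeries G j := fun j =>
    ((derivedSeries_antitone G (le_max_left n j)).eq_of_not_lt (h _ ⟨_, rfl⟩)).ge.trans
      (derivedSeries_antitone G (le_max_right n j))
  refine ⟨_, inferInstance, (commutator_le_self _).antisymm (k (n + 1)), fun e => ⟨n, e⟩, fun N _ ⟨j, hj⟩ => (k j).trans ?_⟩
  have := map_derivedSeries_le_derivedSeries (QuotientGroup.mk' N) j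
  rwa [hj, le_bot_iff, Subgroup.map_eq_bot_iff, QuotientGroup.ker_mk'] at this

theorem solv_two (h : CD (⊥ : Subgroup G) ⊤ fun d => d = 1 ∨ d = m) : Group.IsSolvable G := by
  obtain ⟨D, _, a, b, c⟩ := exists_residual (G := G)
  refine b (le_bot_iff.mp (a.ge.trans (CD.comm (((h.under norm_top le_top).and cd_dvd).mono le_rfl
    fun d ⟨⟨k, _, e⟩, f⟩ => e.elim Nat.eq_one_of_mul_eq_one_left fun e => by_contra fun g => ?_) norm_top bot_le)))
  obtain ⟨p, hp, i⟩ := Nat.exists_prime_and_dvd g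
  have := Fact.mk hp
  refine thompson (G := G) hp (fun χ j d' k l => ?_) ((i.trans f).trans ?_)
  · rw [(h χ j ker_bot d' k).resolve_left l, ← e]; exact i.mul_left _
  · rw [relIndex_bot_left]
    exact card_dvd_of_le (c _ (Core.solvable_of_isPGroup Transfer.isPGroup_quotient_pResidual))

theorem exists_deg_mul [L.Normal] (hc : (Nat.card L).Coprime L.index) (hθ : Irr L θ) (hβ : Irr (stab L θ) β)
    (hk : Ker L β) : ∃ χ, Irr ⊤ χ ∧ inn L χ θ ≠ 0 ∧ χ 1 = (stab L θ).index * (β 1 * θ 1) := by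
  obtain ⟨φ, a, b⟩ := hθ.exists_ext_coprime stab_le hθ.inv.le_stab inv_stab
    (hc.coprime_dvd_right (relIndex_dvd_index_of_normal _ _))
  obtain ⟨c, d⟩ := hθ.of_param norm_top le_top (inf_top_eq _).symm a.chr b hβ hk
  exact ⟨_, c, d, by rw [ind_one, Pi.mul_apply, b.one, relIndex_top_right]⟩

theorem FType.two (h : FType q K N) [K.Normal] (hd : CD (⊥ : Subgroup G) ⊤ fun d => d = 1 ∨ d = m) :
    ⁅N, N⁆ ≤ ⊥ ∧ N.index = m := by
  have := h.normal
  obtain ⟨β, a, -, b⟩ := h.exists_deg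
  have e := (hd β a ker_bot _ b).resolve_left (mt index_eq_one.mp h.ne)
  refine ⟨CD.comm (fun ψ c i d j => ?_) norm_top bot_le, e⟩
  rcases h.dich c with ⟨χ, k, l⟩ | k
  · exact (hd χ k ker_bot (N.index * d) (by rw [l, j, Nat.cast_mul])).elim Nat.eq_one_of_mul_eq_one_left fun u =>
      (Nat.mul_eq_left index_ne_zero_of_finite).mp (u.trans e.symm)
  · obtain ⟨k', -, l⟩ := hd.under norm_top le_top ψ c i d j
    have := (h.dvd_of_vanish c.chr k j).mul_left k'
    exact l.elim Nat.eq_one_of_mul_eq_one_left fun u => absurd (e ▸ u ▸ this) h.not_dvd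

theorem PType.deg_pow (h : PType p K Z) [K.Normal] (hβ : Irr ⊤ β) (hk : Ker K β) (hd : β 1 = d) : ∃ e, d = p ^ e := by
  obtain ⟨k, e⟩ := h.index
  have := hβ.deg_dvd_of_ker hk hd
  rw [relIndex_top_right, e] at this
  exact ((Nat.dvd_prime_pow h.prime).mp this).imp fun _ a => a.2

theorem comm_le_cent [hp : Fact p.Prime] (h : CD (⊥ : Subgroup G) ⊤ fun d => d = 1 ∨ d = m) [A.Normal]
    (hA : ⁅A, A⁆ ≤ ⊥) (hc : ¬ p ∣ Nat.card A) (P : Sylow p G) (hP : A ⊔ P = ⊤) :
    commutator G ≤ centralizer (A : Set G) := by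
  set C := centralizer (A : Set G)
  have hAC : A ≤ C := fun a ha b hb => comm_of_commutator_eq_bot hA hb ha
  by_contra a
  obtain ⟨z, -, z1, z2⟩ := PGrp.exists_central_mod_of_nilpotent (N := C) P.isPGroup'.isNilpotent le_rfl le_normalizer
    fun b => a (le_top.trans (hP.ge.trans (sup_le hAC b)))
  obtain ⟨u, hu⟩ := not_forall.mp z1
  obtain ⟨hu, u1⟩ := Classical.not_imp.mp hu
  have hz : ⁅z, u⁆ ∈ A := commutator_le_right ⊤ A (commutator_mem_commutator trivial hu)
  obtain ⟨l, l1, -, l2⟩ := exists_irr_not_ker (L := ⊥) norm_top bot_le hz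
    fun e => u1 (commutatorElement_eq_one_iff_mul_comm.mp e).symm
  have l3 := l1.one_of_ker (ker_bot.mono hA)
  have l4 : z ∉ stab A l := fun e => l2 (by
    rw [commutatorElement_def, l1.chr.map_mul l3 (Normal.conj_mem inferInstance u hu z) (inv_mem hu), ← cj_apply z l,
      e.2 u hu, ← l1.chr.map_mul l3 hu (inv_mem hu), mul_inv_cancel])
  have hc' : (Nat.card A).Coprime A.index := by
    obtain ⟨k, e⟩ := P.isPGroup'.exists_card_eq
    have := Core.relIndex_dvd_card' A P
    rw [← relIndex_sup_left, hP, relIndex_top_right, e] at this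
    exact ((hp.out.coprime_iff_not_dvd.mpr hc).symm.pow_right k).coprime_dvd_right this
  have k1 : ∀ β, Irr (stab A l) β → Ker A β → ∀ d : ℕ, β 1 = d → (stab A l).index * d = m := fun β b c d e => by
    obtain ⟨χ, f, -, g⟩ := exists_deg_mul hc' l1 b c
    exact (h χ f ker_bot _ (by rw [g, e, l3]; simp)).resolve_left fun i =>
      l4 ((index_eq_one.mp (Nat.eq_one_of_mul_eq_one_right i)).ge trivial)
  have k2 := k1 _ irr_one (fun _ _ => rfl) 1 (by simp)
  have k3 : ⁅stab A l, stab A l⁆ ≤ A := CD.comm (fun β b c d e => mul_left_cancel₀ index_ne_zero_of_finite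
    ((k1 β b c d e).trans k2.symm)) stab_le l1.inv.le_stab
  have k4 : ∀ g, ⁅z, g⁆ ∈ C := fun g => by
    obtain ⟨v, hv, w, hw, rfl⟩ := (Core.mem_sup_of_le_normalizer norm_top).mp (hP.ge (mem_top g))
    exact PGrp.commutator_symm_mem (PGrp.commutator_mul_left_mem (norm_top (mem_top v))
      (hAC (commutator_le_left A ⊤ (commutator_mem_commutator hv trivial))) (PGrp.commutator_symm_mem (z2 w hw)))
  have k5 : ⁅stab A l ⊔ zpowers z, stab A l ⊔ zpowers z⁆ ≤ C := by
    rw [← QuotientGroup.ker_mk' C, ← Subgroup.map_eq_bot_iff, map_commutator, Subgroup.map_sup, MonoidHom.map_zpowers,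
      ← le_bot_iff]
    refine commutator_eq_bot_of_comm (PGrp.isMulCommutative_iff_forall.mp (PGrp.isMulCommutative_sup_zpowers
      (PGrp.isMulCommutative_iff_forall.mpr fun _ b _ c => comm_of_commutator_eq_bot ?_ b c) ?_))
    · rw [← map_commutator, le_bot_iff, Subgroup.map_eq_bot_iff, QuotientGroup.ker_mk']; exact k3.trans hAC
    · rintro _ ⟨t, -, rfl⟩
      exact (commutatorElement_eq_one_iff_mul_comm.mp (comm_quot_iff.mpr (k4 t))).symm
  refine a (CD.comm (((h.mono bot_le fun _ => id).and (cd_le_index le_top k5 le_top)).mono le_rfl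
    fun d ⟨b, c⟩ => b.resolve_right fun e => c.not_gt ?_) norm_top le_top)
  rw [e, ← k2, mul_one, ← relIndex_top_right]
  exact relIndex_lt (le_sup_left.lt_of_ne fun i => l4 (i.ge (mem_sup_right (mem_zpowers z)))) le_top

theorem two_deg (h : CD (⊥ : Subgroup G) ⊤ fun d => d = 1 ∨ d = m) (hn : ¬ commutator G ≤ ⊥) :
    (∃ A : Subgroup G, A.Normal ∧ ⁅A, A⁆ ≤ ⊥ ∧ A.index = m) ∨ ∃ p e : ℕ, p.Prime ∧ m = p ^ e ∧
      ∃ P A : Subgroup G, P.Normal ∧ A.Normal ∧ IsPGroup p P ∧ A ≤ center G ∧ P ⊓ A = ⊥ ∧ P ⊔ A = ⊤ := by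
  refine or_iff_not_imp_left.mpr fun h1 => ?_
  have k : ∀ K : Subgroup G, MaxNA K → ∃ p e Z, PType p K Z ∧ m = p ^ (e + 1) := fun K a => by
    have := a.normal
    rcases a.cases (solvMod_of_solv (by have := solv_two h; infer_instance)) with ⟨p, Z, b⟩ | ⟨q, N, b⟩
    · obtain ⟨β, c, d, e, f, g⟩ := a.exists_nonlin
      obtain ⟨_ | j, rfl⟩ := b.deg_pow c d g
      · simp at f
      · exact ⟨p, j, Z, b, ((h β c ker_bot _ g).resolve_left f).symm⟩
    · exact absurd ⟨N, b.normal, b.two h⟩ h1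
  obtain ⟨K, -, a⟩ := exists_maxNA hn
  obtain ⟨p, e, _, b, rfl⟩ := k K a
  have := Fact.mk b.prime
  obtain ⟨c, d⟩ := pcompl_of_pow b.prime (h.mono le_rfl fun d i => i.elim (fun j => ⟨0, j⟩) fun j => ⟨_, j⟩)
  obtain ⟨P⟩ := (inferInstance : Nonempty (Sylow p G))
  have hP := Transfer.pResidual_sup_sylow P
  set A := pResidual p G
  have hAC : A ≤ centralizer A := fun a ha b hb => comm_of_commutator_eq_bot d hb ha
  have hc : (P : Subgroup G) ≤ centralizer A := by
    by_contra f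
    have : ((P : Subgroup G) ⊓ centralizer A).Normal := Core.normal_of_le_normalizer (hP.ge.trans (sup_le
      ((le_centralizer_iff.mp inf_le_right).trans (centralizer_le_normalizer _))
      (Core.le_normalizer_inf le_normalizer norm_top)))
    obtain ⟨K, g, i⟩ := exists_maxNA (L := (P : Subgroup G) ⊓ centralizer (A : Set G)) fun g => f (by
      rw [Core.le_centralizer_iff_commutator_eq_bot, ← le_bot_iff, ← Transfer.inf_eq_bot_of_not_dvd P.isPGroup' c]
      exact le_inf ((commutator_mono le_top le_top).trans (g.trans inf_le_left)) (commutator_le_left _ _))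
    obtain ⟨q, e', _, j, l⟩ := k K i
    obtain rfl : p = q := (Nat.prime_dvd_prime_iff_eq b.prime j.prime).mp
      (b.prime.dvd_of_dvd_pow (l ▸ dvd_pow_self p e.succ_ne_zero))
    have := i.normal
    obtain ⟨s, hs⟩ := j.index
    refine i.ne fun x hx => ?_
    obtain ⟨v, hv, w, hw, rfl⟩ := (Core.mem_sup_of_le_normalizer norm_top).mp (hP.ge (mem_top x))
    exact mul_mem (Transfer.pResidual_le_of_index_eq_pow hs hv) (g ⟨hw, (mul_mem_cancel_left (hAC hv)).mp
      (comm_le_cent h d c P hP hx)⟩)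
  refine ⟨p, _, b.prime, rfl, P, A, Core.normal_of_le_normalizer (hP.ge.trans (sup_le
    ((le_centralizer_iff.mp hc).trans (centralizer_le_normalizer _)) le_normalizer)), inferInstance, P.isPGroup',
    fun x hx => mem_center_iff.mpr fun g => ((hP.ge.trans (sup_le hAC hc)) (mem_top g) x hx).symm,
    Transfer.inf_eq_bot_of_not_dvd P.isPGroup' c, by rw [sup_comm, hP]⟩

/-- every irreducible character is monomial -/
def Mono (G : Type*) [Group G] [Finite G] : Prop :=
  ∀ χ : G → ℂ, Irr ⊤ χ → ∃ H ψ, Chr H ψ ∧ ψ 1 = 1 ∧ Eqv ⊤ (ind H ⊤ ψ) χ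

theorem Mono.step (h : Mono G) [N.Normal] (e : ∀ η, Irr ⊤ η → ∀ k : ℕ, η 1 = k → k < d → Ker N η) (hχ : Irr ⊤ χ)
    (hd : χ 1 = d) : Ker ⁅N, N⁆ χ := by
  obtain ⟨H, ψ, a, b, c⟩ := h χ hχ
  obtain rfl := eqv_top.mp c
  rw [ind_one, b, mul_one, Nat.cast_inj] at hd
  by_cases hH : H = ⊤
  · exact (hχ.chr.ker_comm (by rw [ind_one, b, hH]; simp)).mono (commutator_mono le_top le_top)
  · exact taketa_step le_top a b hH le_top norm_top (hd ▸ e)

theorem mono_of_quot [A.Normal] (hA : ⁅A, A⁆ ≤ ⊥) (h : Group.IsNilpotent (G ⧸ A)) : Mono G := fun χ a => by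
  obtain ⟨H, ψ, h1, -, h2, h3, h4⟩ := a.exists_prim (N := A) le_top
  refine ⟨H, ψ, h2.chr, (h4.irr_res h2 h1 norm_top (solvMod_of_quot IsNilpotent.to_isSolvable)
    fun L K b c d _ => ?_).one_of_ker (ker_bot.mono hA), h3⟩
  have hk : ∀ X, A ≤ X → (QuotientGroup.mk' A).ker ≤ X := fun X e => by rwa [QuotientGroup.ker_mk']
  have := chief_nilpotent (H := H.map (QuotientGroup.mk' A)) inferInstance ⟨(map_mono d.lt.le).lt_of_not_ge fun e => d.lt.not_ge
    ((map_le_iff_le_comap.mp e).trans (comap_map_eq_self (hk _ b)).le),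
    Core.map_le_normalizer_map d.nL _, Core.map_le_normalizer_map d.nK _, fun M e f g => ?_⟩ (map_mono c)
  · rw [relIndex_map_map, sup_eq_left.mpr (hk _ b), sup_eq_left.mpr (hk _ (b.trans d.lt.le))] at this
    exact this.prime.not_isSquare
  · rw [← map_comap_eq_self_of_surjective (QuotientGroup.mk'_surjective A) M]
    exact (d.min _ (map_le_iff_le_comap.mp e) ((comap_mono f).trans (comap_map_eq_self (hk _ (b.trans d.lt.le))).le)
      ((map_le_iff_le_comap.mp g).trans (le_normalizer_comap _))).imp (congrArg _) (congrArg _)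

theorem eq_bot_of_ker (h : ∀ χ, Irr ⊤ χ → Ker N χ) : N ≤ ⊥ :=
  fun x hx => eq_one_of_forall_irr fun χ a => h χ (irr_top.mpr a) x hx

theorem two_comm (h : CD (⊥ : Subgroup G) ⊤ fun d => d = 1 ∨ d = m) : ⁅commutator G, commutator G⁆ ≤ ⊥ := by
  by_cases hn : commutator G ≤ ⊥
  · exact (commutator_le_self _).trans hn
  rcases two_deg h hn with ⟨A, _, a, rfl⟩ | ⟨p, e, hp, -, P, A, _, _, a, b, -, c⟩
  · have : commutator G ≤ A := CD.comm (fun β b c d e => (h β b ker_bot d e).elim id fun f => by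
      have := b.sq_le le_top (c.mono (commutator_le_right _ _)) e
      have := A.index_ne_zero_of_finite
      rw [relIndex_top_right, ← f] at *
      nlinarith [Nat.pos_of_ne_zero this]) norm_top le_top
    exact (commutator_mono this this).trans a
  · have := Fact.mk hp
    refine eq_bot_of_ker fun χ i => ?_
    obtain ⟨d, -, j⟩ := i.deg
    refine (mono_of_quot (A := A) (commutator_eq_bot_of_comm fun x _ y hy => mem_center_iff.mp (b hy) x) ?_).step
      (fun η k l m n => ?_) i j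
    · have := (a.map (QuotientGroup.mk' A)).of_equiv (MulEquiv.subgroupCongr (show _ = ⊤ by
        rw [← map_top_of_surjective _ (QuotientGroup.mk'_surjective A), ← c, Subgroup.map_sup,
          QuotientGroup.map_mk'_self, sup_bot_eq]))
      exact (this.of_equiv topEquiv).isNilpotent
    · refine k.chr.ker_comm ((h η k ker_bot l m).elim (fun o => by rw [m, o, Nat.cast_one]) fun o => ?_)
      obtain ⟨_, u, v⟩ := k.deg
      rw [m, Nat.cast_inj] at v
      rcases h χ i ker_bot d j with w | w <;> omega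

theorem CD.two (h : CD L K fun d => d = 1 ∨ d = m) (hn : K ≤ normalizer (L : Set G)) (hl : L ≤ K) :
    ⁅⁅K, K⁆, ⁅K, K⁆⁆ ≤ L := by
  have := normal_sub hn
  have := two_comm (h.sub hl).quot
  rw [← map_comm, ← map_commutator, le_bot_iff, Subgroup.map_eq_bot_iff, QuotientGroup.ker_mk'] at this
  rw [← Core.map_commutator_subtype K, ← map_commutator, map_le_iff_le_comap]
  exact this

end Cfsg.Agent.Isaacs
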