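import Mathlib
import Cfsg.Agent.Isaacs.Berger

/-! Generalized characters of abelian groups with values of absolute value one. -/

set_option autoImplicit false

open scoped ComplexConjugate commutatorElement

namespace Cfsg.Agent.Isaacs

open Cfsg Cfsg.Agent.Char Subgroup

variable {G : Type*} [Group G] [Finite G] {A B C D H K L M N P Q S T U Z : Subgroup G}
  {θ φ ψ χ η β ξ μ : G → ℂ} {p : ℕ}

omit [Finite G] in
theorem Gen.deg (h : Gen S ψ) : ∃ n : ℤ, ψ 1 = n := isGenChar_degree (G := S) h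

theorem Gen.abs_le_norm (hc : ∀ a ∈ S, ∀ b ∈ S, a * b = b * a) (h : Gen S ψ) {d m : ℤ} (hd : ψ 1 = d)
    (hm : inn S ψ ψ = m) : |d| ≤ m := by
  have := Fintype.ofFinite S
  obtain ⟨a, h1, h2⟩ := isGenChar_exists_mult h
  rw [inn_eq, classInner_eq_sum_of_mult h.inv.cf h1 h1, Int.cast_inj] at hm
  have h3 : d = ∑ i, a i := by
    have := congrFun h2 1
    rw [Finset.sum_apply, Finset.sum_congr rfl fun χ _ => (show ((a χ : ℂ) • (χ : S → ℂ)) 1 = a χ by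
      rw [Pi.smul_apply, ← ez_one (χ : S → ℂ), (irr_ez.mpr χ.2).one_of_comm hc, smul_eq_mul, mul_one])] at this
    exact_mod_cast hd.symm.trans this
  rw [h3, ← hm]
  refine (Finset.abs_sum_le_sum_abs _ _).trans (Finset.sum_le_sum fun i _ => ?_)
  rw [← abs_mul_abs_self]
  rcases eq_or_ne (a i) 0 with e | e
  · simp [e]
  · exact le_mul_of_one_le_left (abs_nonneg _) (Int.one_le_abs e)

theorem Gen.pm_one (hl : A < S) (hc : ∀ a ∈ S, ∀ b ∈ S, a * b = b * a) (hμ : Chr A μ) (h1 : μ 1 = 1)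
    (h : Gen S ψ) (hA : Eqv A ψ (ψ 1 • μ)) (hn : ∀ x ∈ S, x ∉ A → ‖ψ x‖ = 1) :
    ∃ (k ε : ℤ) (l : G → ℂ), Irr S l ∧ (ε = 1 ∨ ε = -1) ∧ ψ 1 = k * A.relIndex S + ε ∧
      ∀ x ∈ S, x ∉ A → ψ x = ε * l x := by
  have n1 := one_lt_relIndex hl
  have hN : S ≤ normalizer (A : Set G) := le_norm fun a ha x hx => by
    rwa [hc a ha x (hl.le hx), mul_inv_cancel_right]
  have hi : ∀ φ, Inv S A φ := fun φ a ha x hx => by rw [hc a ha x (hl.le hx), mul_inv_cancel_right]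
  obtain ⟨c, hc'⟩ := h.deg
  obtain ⟨n, hn'⟩ : ∃ n : ℤ, n = (A.relIndex S : ℕ) := ⟨_, rfl⟩
  have n2 : 1 < n := by rw [hn']; exact_mod_cast n1
  obtain ⟨k, d, e1, e2, e3⟩ : ∃ k d : ℤ, c = k * n + d ∧ -n ≤ 2 * d ∧ 2 * d ≤ n :=
    ⟨(2 * c + n) / (2 * n), c - (2 * c + n) / (2 * n) * n, by ring, by
      have := Int.ediv_mul_le (2 * c + n) (show 2 * n ≠ 0 by omega); linarith, by
      have := Int.lt_ediv_add_one_mul_self (2 * c + n) (show 0 < 2 * n by omega); linarith⟩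
  have g1 := h.sub ((hμ.indc hl.le).gen.smul k)
  have g2 : Eqv A (ψ - (k : ℂ) • ind A S μ) ((d : ℂ) • μ) := fun x hx => by
    rw [Pi.sub_apply, Pi.smul_apply, (hi μ).ind_res hN hl.le x hx, hA x hx, hc', e1]
    simp [hn']; ring
  have g3 : ∀ x ∈ S, x ∉ A → (ψ - (k : ℂ) • ind A S μ) x = ψ x := fun x _ hx => by
    rw [Pi.sub_apply, Pi.smul_apply, ind_eq_zero_of_normal hN hx, smul_zero, sub_zero]
  have g4 : (ψ - (k : ℂ) • ind A S μ) 1 = d := by rw [g2.one]; simp [h1]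
  generalize ψ - (k : ℂ) • ind A S μ = φ at g1 g2 g3 g4
  obtain ⟨m, hm⟩ := g1.inn_int g1
  have g5 : n * m = n + (d ^ 2 - 1) := by
    have : Eqv S ((n : ℂ) • (φ * fun g => conj (φ g))) ((n : ℂ) • (fun _ => 1) +
        ((d : ℂ) ^ 2 - 1) • ind A S fun _ => 1) := fun x hx => by
      by_cases hx' : x ∈ A
      · have := hμ.mul_conj h1 hx'
        simp only [Pi.add_apply, Pi.smul_apply, Pi.mul_apply, (hi _).ind_res hN hl.le x hx', g2 x hx',
          smul_eq_mul, map_mul, map_intCast, hn', Int.cast_natCast]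
        linear_combination (A.relIndex S : ℂ) * d ^ 2 * this
      · simp [ind_eq_zero_of_normal hN hx', g3 x hx hx', Complex.mul_conj', hn x hx hx']
    have := this.inn_left (ψ := fun _ => 1)
    rw [inn_smul_left, ← inn_eq_mul_one, hm, inn_add_left, inn_smul_left, inn_smul_left,
      inn_ind_left hl.le (inv_const 1), irr_one.inn_self, irr_one.inn_self] at this
    exact_mod_cast (by simpa using this : (n : ℂ) * m = n + (d ^ 2 - 1))
  have g6 := g1.abs_le_norm hc g4 hm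
  have g7 : m = 1 ∧ (d = 1 ∨ d = -1) := by
    have a1 : 2 * |d| ≤ n := by rcases abs_cases d with e | e <;> omega
    have a2 := sq_abs d
    have a3 : |d| ≤ 1 := by nlinarith [abs_nonneg d]
    have a4 : d ≠ 0 := by
      rintro rfl
      have : n * (1 - m) = 1 := by linarith
      have := Int.eq_one_of_mul_eq_one_right (by omega) this
      omega
    have a5 : d = 1 ∨ d = -1 := by rcases abs_cases d with e | e <;> omega
    exact ⟨by rcases a5 with rfl | rfl <;> nlinarith, a5⟩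
  rw [g7.1, Int.cast_one] at hm
  have g8 : ∀ {l}, Irr S l → l 1 = 1 := fun a => a.one_of_comm hc
  rcases g1.irr_or hm with e | e
  · obtain rfl : d = 1 := by exact_mod_cast g4.symm.trans (g8 e)
    exact ⟨k, 1, φ, e, Or.inl rfl, by rw [hc', e1]; simp [hn'], fun x a b => by simp [g3 x a b]⟩
  · obtain rfl : d = -1 := by
      have := g8 e
      rw [Pi.neg_apply, g4, neg_eq_iff_eq_neg] at this
      exact_mod_cast this
    exact ⟨k, -1, -φ, e, Or.inr rfl, by rw [hc', e1]; simp [hn'], fun x a b => by simp [g3 x a b]⟩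

theorem inn_one_of_vanish (h : ∀ x ∈ S, x ≠ 1 → ψ x = 0) : Nat.card S * inn S ψ (fun _ => 1) = ψ 1 := by
  have := Fintype.ofFinite S
  rw [card_mul_inn, Finset.sum_eq_single 1 (fun x _ hx => by
    rw [h x x.2 fun e => hx (Subtype.ext e), zero_mul]) (by simp)]
  simp

/-- A generalized character of an abelian group with values `0, ±1` off the identity is zero at all or
at no nonidentity elements. -/
theorem Gen.zero_iff (hc : ∀ a ∈ S, ∀ b ∈ S, a * b = b * a) (h : Gen S ψ)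
    (hv : ∀ x ∈ S, x ≠ 1 → ψ x = 0 ∨ ψ x = 1 ∨ ψ x = -1) {x y : G} (hx : x ∈ S) (hy : y ∈ S) (x1 : x ≠ 1)
    (y1 : y ≠ 1) (e : ψ x = 0) : ψ y = 0 := by
  have key : ∀ {p : ℕ} {a b : G} {z : ℂ}, p.Prime → a ∈ S → b ∈ S → a ≠ 1 → b ≠ 1 → ψ a - ψ b = p * z →
      (∃ n : ℤ, z = n) → (ψ a = 0 ↔ ψ b = 0) := by
    rintro p a b _ hp ha hb a1 b1 e ⟨n, rfl⟩
    have h2 : ∀ {u : ℤ}, (u : ℂ) = p * n → u = 1 ∨ u = -1 → False := fun {u} e h => by
      have : (p : ℤ) ∣ u := ⟨n, by exact_mod_cast e⟩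
      have := Int.natCast_dvd.mp this
      rcases h with rfl | rfl <;> exact hp.one_lt.ne' (Nat.dvd_one.mp this)
    rcases hv a ha a1 with u | u | u <;> rcases hv b hb b1 with v | v | v <;> rw [u, v] at e ⊢ <;>
      first | simp; done | exact (h2 (u := 1) (by simpa using e) (by simp)).elim |
        exact (h2 (u := -1) (by simpa using e) (by simp)).elim
  have int : ∀ a ∈ S, ∃ n : ℤ, ψ a = n := fun a ha => by
    by_cases a1 : a = 1
    · exact a1 ▸ h.deg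
    · rcases hv a ha a1 with u | u | u
      exacts [⟨0, by simpa⟩, ⟨1, by simpa⟩, ⟨-1, by simpa⟩]
  have cong : ∀ {p : ℕ} {a b : G}, p.Prime → a ∈ S → b ∈ S → (∃ k, orderOf a = p ^ k) →
      ∃ n : ℤ, ψ (a * b) - ψ b = p * n := fun hp ha hb ho => by
    obtain ⟨u, hu⟩ := int _ (mul_mem ha hb)
    obtain ⟨v, hv⟩ := int _ hb
    obtain ⟨n, hn⟩ := h.dvd_sub hp ha hb ho (hc _ ha _ hb) (n := u - v) (by rw [hu, hv, Int.cast_sub])
    exact ⟨n, by rw [hu, hv]; exact_mod_cast hn⟩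
  have red : ∀ a ∈ S, a ≠ 1 → ∃ b ∈ S, b ≠ 1 ∧ (∃ p k : ℕ, p.Prime ∧ orderOf b = p ^ k) ∧
      (ψ a = 0 ↔ ψ b = 0) := fun a ha a1 => by
    induction hn : orderOf a using Nat.strong_induction_on generalizing a with | _ n ih
    have n0 : n ≠ 0 := hn ▸ orderOf_ne_zero a
    obtain ⟨p, hp, hpn⟩ := Nat.exists_prime_and_dvd (hn ▸ orderOf_eq_one_iff.not.mpr a1 : n ≠ 1)
    obtain ⟨k, m, h1, h2⟩ := Nat.exists_eq_pow_mul_and_not_dvd n0 p hp.one_lt.ne'
    have h3 := (hp.coprime_iff_not_dvd.mpr h1).pow_left k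
    obtain ⟨u, v, a3, a4, a5, a6, a7⟩ : ∃ u v : G, a = u * v ∧ u ∈ S ∧ v ∈ S ∧ u ^ p ^ k = 1 ∧ v ^ m = 1 := by
      refine ⟨a ^ ((m : ℤ) * Nat.gcdB (p ^ k) m), a ^ (((p ^ k : ℕ) : ℤ) * Nat.gcdA (p ^ k) m), ?_,
        zpow_mem ha _, zpow_mem ha _, ?_, ?_⟩
      · rw [← zpow_add, add_comm, ← Nat.gcd_eq_gcd_ab, h3]; simp
      · rw [← zpow_natCast, ← zpow_mul, mul_right_comm, zpow_mul, ← Nat.cast_mul, mul_comm m, ← h2, ← hn]; simp
      · rw [← zpow_natCast, ← zpow_mul, mul_right_comm, zpow_mul, ← Nat.cast_mul, ← h2, ← hn]; simp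
    obtain ⟨j, -, hj⟩ := (Nat.dvd_prime_pow hp).mp (orderOf_dvd_of_pow_eq_one a6)
    by_cases v1 : v = 1
    · exact ⟨a, ha, a1, ⟨p, j, hp, by rw [a3, v1, mul_one, hj]⟩, Iff.rfl⟩
    obtain ⟨b, b1, b2, b3, b4⟩ := ih _ ((Nat.le_of_dvd (Nat.pos_of_ne_zero (by rintro rfl; simp at h1))
      (orderOf_dvd_of_pow_eq_one a7)).trans_lt ((Nat.le_of_dvd (Nat.pos_of_ne_zero n0)
        (Dvd.intro_left _ h2.symm)).lt_of_ne (by rintro rfl; exact h1 hpn))) v a5 v1 rfl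
    obtain ⟨z, hz⟩ := cong hp a4 a5 ⟨j, hj⟩
    exact ⟨b, b1, b2, b3, (key hp ha a5 a1 v1 (a3 ▸ hz) ⟨z, rfl⟩).trans b4⟩
  obtain ⟨a, a1, a2, ⟨p, k, hp, a3⟩, a4⟩ := red x hx x1
  obtain ⟨b, b1, b2, ⟨q, j, hq, b3⟩, b4⟩ := red y hy y1
  rw [b4]
  rw [a4] at e
  by_cases hpq : p = q
  · subst hpq
    obtain ⟨u, hu⟩ := cong hp a1 (one_mem _) ⟨k, a3⟩
    obtain ⟨v, hv⟩ := cong hp b1 (one_mem _) ⟨j, b3⟩
    rw [mul_one] at hu hv
    exact (key hp a1 b1 a2 b2 (z := u - v) (by linear_combination hu - hv) ⟨u - v, by simp⟩).mp e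
  · have h1 : a * b ≠ 1 := fun e => b2 (orderOf_eq_one_iff.mp (Nat.eq_one_of_dvd_coprimes
      (((Nat.coprime_primes hp hq).mpr hpq).pow k j) (by rw [← a3, eq_inv_of_mul_eq_one_left e, orderOf_inv])
      b3.dvd))
    obtain ⟨u, hu⟩ := cong hp a1 b1 ⟨k, a3⟩
    obtain ⟨v, hv⟩ := cong hq b1 a1 ⟨j, b3⟩
    rw [← hc a a1 b b1] at hv
    exact (key hp (mul_mem a1 b1) b1 h1 b2 hu ⟨u, rfl⟩).mp
      ((key hq (mul_mem a1 b1) a1 h1 a2 hv ⟨v, rfl⟩).mpr e)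

theorem Chr.mul_of_smul (h : Chr K χ) (hl : Z ≤ K) (hμ : Chr Z μ) (h1 : μ 1 = 1) {c : ℂ}
    (e : Eqv Z χ (c • μ)) {z g : G} (hz : z ∈ Z) (hg : g ∈ K) : χ (z * g) = μ z * χ g := by
  have e1 : χ 1 = c := by rw [e.one, Pi.smul_apply, h1, smul_eq_mul, mul_one]
  by_cases h0 : χ 1 = 0
  · rw [h.eqv_zero h0 _ (mul_mem (hl hz) hg), h.eqv_zero h0 _ hg]; simp
  refine mul_right_cancel₀ h0 ?_
  rw [h.mul_of_norm (hl hz) hg (by rw [e z hz, e1, Pi.smul_apply, norm_smul, hμ.norm_lin h1 hz, mul_one]),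
    e z hz, e1, Pi.smul_apply, smul_eq_mul]
  ring

theorem ram_frob_central [K.Normal] (hZ : Z ≤ center G) (hl : Z ≤ K) {s : G} (hs : s ∉ K)
    (ht : K ⊔ zpowers s = ⊤) (hf : ∀ x, x ∉ K → ∀ g ∈ K, x * g * x⁻¹ * g⁻¹ ∈ Z → g ∈ Z) (hμ : Chr Z μ)
    (h1 : μ 1 = 1) (h : Chr ⊤ χ) (hK : Irr K χ) {e : ℕ} (he : Eqv Z χ ((e : ℂ) • μ)) :
    (K.index : ℤ) ∣ (e : ℤ) - 1 ∨ (K.index : ℤ) ∣ (e : ℤ) + 1 := by
  have e1 : χ 1 = e := by rw [he.one, Pi.smul_apply, h1, smul_eq_mul, mul_one]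
  have h2 : ∀ x, x ∉ K → ‖χ x‖ = 1 := fun x hx => by
    have := h.inn_sh_self norm_top le_top hK (mem_top x)
    rw [inn_sh_eq hl (norm_top (mem_top x)) (fun z hz c hc c' hc' e => hf x hx z hz (by
        have : x * z * x⁻¹ * z⁻¹ = c'⁻¹ * c := by
          rw [← mul_assoc, mem_center_iff.mp (hZ hc) z, mul_assoc, mul_assoc, ← eq_inv_mul_iff_mul_eq] at e
          rw [← inv_inj, ← mul_left_inj x, mul_inv_rev c'⁻¹, inv_inv, mul_assoc c⁻¹, ← e]; group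
        rw [this]; exact mul_mem (inv_mem hc') hc))
      (fun z _ c _ => h.inv z trivial _ trivial) (fun z _ c _ => h.inv z trivial _ trivial),
      inn_congr (θ := sh x χ) (φ := sh x χ) (θ' := χ x • μ) (φ' := χ x • μ)
        (fun z hz => (h.mul_of_smul le_top hμ h1 he hz trivial).trans (mul_comm _ _))
        (fun z hz => (h.mul_of_smul le_top hμ h1 he hz trivial).trans (mul_comm _ _)),
      inn_smul_left, inn_smul_right, (hμ.irr_of_one h1).inn_self, mul_one, Complex.mul_conj'] at this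
    exact (pow_eq_one_iff_of_nonneg (norm_nonneg _) two_ne_zero).mp (by exact_mod_cast this)
  have h3 : Z ⊓ zpowers s = K ⊓ zpowers s := le_antisymm (inf_le_inf_right _ hl) fun y hy =>
    ⟨hf s hs y hy.1 (by rw [(comm_zpowers (Commute.refl s) y hy.2).eq]; simp), hy.2⟩
  obtain ⟨k, ε, -, -, a2, a3, -⟩ := (h.res le_top).gen.pm_one (A := Z ⊓ zpowers s) (S := zpowers s)
    (inf_le_right.lt_of_ne fun e => hs (hl (e.ge (mem_zpowers s)).1))
    (fun a ha b hb => (comm_zpowers (comm_zpowers (Commute.refl s) a ha).symm b hb).eq)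
    (hμ.res inf_le_left) h1 (e1 ▸ he.mono inf_le_left) fun x hx hx' => h2 x fun e => hx' (h3.ge ⟨e, hx⟩)
  rw [h3, inf_relIndex_right, ← Core.index_eq_relIndex_of_sup_eq_top ht, e1] at a3
  have : (e : ℤ) = k * K.index + ε := by exact_mod_cast a3
  rcases a2 with rfl | rfl
  · exact Or.inl ⟨k, by linarith⟩
  · exact Or.inr ⟨k, by linarith⟩

omit [Finite G] in
theorem exists_sup_zpowers [K.Normal] (h : IsCyclic (G ⧸ K)) : ∃ s : G, K ⊔ zpowers s = ⊤ := by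
  obtain ⟨q, hq⟩ := h.exists_generator
  obtain ⟨s, rfl⟩ := QuotientGroup.mk_surjective q
  refine ⟨s, eq_top_iff.mpr fun x _ => ?_⟩
  obtain ⟨k, hk⟩ := hq x
  have : (s ^ k)⁻¹ * x ∈ K := QuotientGroup.eq.mp hk
  simpa using mul_mem (mem_sup_right (zpow_mem (mem_zpowers s) k) : _ ∈ K ⊔ zpowers s) (mem_sup_left this)

end Cfsg.Agent.Isaacs
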