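import Mathlib
import Cfsg.Agent.Isaacs.CD3
import Cfsg.Agent.Isaacs.PmOne

/-! Groups with three character degrees. -/

set_option autoImplicit false

open scoped ComplexConjugate commutatorElement Pointwise

namespace Cfsg.Agent.Isaacs

open Cfsg Cfsg.Agent.Char Subgroup

variable {G : Type*} [Group G] [Finite G] {A H K L M N P T U Z : Subgroup G} {θ χ ψ β μ : G → ℂ}
  {p q m n b d : ℕ} {R S : ℕ → Prop}

theorem Inv.cross (h : Inv K K θ) {x y : G} (hx : x ∈ K) (hy : y ∈ K) {a b : ℂ}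
    (e : ∀ η, Irr K η → inn K θ η ≠ 0 → a * η x = b * η y) : a * θ x = b * θ y := by
  rw [h.expand x hx, h.expand y hy, Finset.sum_apply, Finset.sum_apply, Finset.mul_sum, Finset.mul_sum]
  refine Finset.sum_congr rfl fun η _ => ?_
  by_cases c : inn K θ (ez K η) = 0
  · simp [c]
  · simp only [Pi.smul_apply, smul_eq_mul]
    linear_combination inn K θ (ez K η) * e _ (irr_ez.mpr η.2) c

theorem Chr.constit_sub (h : Chr K θ) (hψ : Irr K ψ) (e : inn K θ ψ ≠ 0) (hχ : Irr K χ) (e' : inn K (θ - ψ) χ ≠ 0) :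
    inn K θ χ ≠ 0 := (h.sub_constit hψ e).inn_ne_of_sub (by simpa using hψ.chr) hχ.chr e'

theorem Chr.split (d : ℕ) : ∀ θ, Chr K θ → θ 1 = d → (∀ ψ, Irr K ψ → inn K θ ψ ≠ 0 → ψ 1 = m ∨ ψ 1 = n) →
    ∃ a b, d = a * m + b * n := by
  induction d using Nat.strong_induction_on with
  | _ d ih =>
    intro θ h hd e
    rcases d.eq_zero_or_pos with rfl | d0
    · exact ⟨0, 0, by simp⟩
    obtain ⟨ψ, a, b⟩ := h.inv.exists_irr' (by rw [hd]; exact_mod_cast d0.ne')
    obtain ⟨k, k0, c⟩ := a.deg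
    have f := h.deg_le a b hd c
    obtain ⟨u, v, g⟩ := ih (d - k) (by omega) _ (h.sub_constit a b) (by rw [Pi.sub_apply, hd, c, Nat.cast_sub f])
      fun η i j => e η i (h.constit_sub a b i j)
    rcases e ψ a b with i | i <;> rw [c, Nat.cast_inj] at i
    · exact ⟨u + 1, v, by rw [add_mul]; omega⟩
    · exact ⟨u, v + 1, by rw [add_mul]; omega⟩

theorem Chr.big (h : Chr K θ) (hd : θ 1 = (m * d : ℕ)) (hc : m.Coprime n)
    (e : ∀ ψ, Irr K ψ → inn K θ ψ ≠ 0 → ψ 1 = m ∨ ψ 1 = n) (hψ : Irr K ψ) (e' : inn K θ ψ ≠ 0) (hn : ψ 1 = n) (m0 : 0 < m) :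
    n ≤ d := by
  have f := h.deg_le hψ e' hd hn
  obtain ⟨u, v, g⟩ := Chr.split (m * d - n) _ (h.sub_constit hψ e') (by rw [Pi.sub_apply, hd, hn, Nat.cast_sub f])
    fun η i j => e η i (h.constit_sub hψ e' i j)
  have g' : m * d = m * u + (v + 1) * n := by rw [add_mul, mul_comm m u]; omega
  have := Nat.le_of_dvd v.succ_pos (hc.dvd_of_dvd_mul_right ((Nat.dvd_add_right (dvd_mul_right m u)).mp
    (g' ▸ dvd_mul_right m d)))
  exact Nat.le_of_mul_le_mul_left (by nlinarith) m0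

theorem cop_step (h : MaxNA (⊥ : Subgroup G)) (hd : CD (⊥ : Subgroup G) ⊤ fun d => d = 1 ∨ d = m ∨ d = n)
    (hc : m.Coprime n) (hl : m < n) (h1 : 1 < m) (hχ : Irr ⊤ χ) (hm : χ 1 = m) (hψ : Irr ⊤ ψ) (hn : ψ 1 = n) :
    ∀ η, Irr ⊤ η → inn ⊤ (η * χ) ψ ≠ 0 → η 1 = n := by
  have hd' : ∀ η : G → ℂ, Irr ⊤ η → η 1 = 1 ∨ η 1 = m ∨ η 1 = n := fun η a => by
    obtain ⟨k, -, b⟩ := a.deg
    simpa [b] using hd η a ker_bot k b
  have hne : (m : ℂ) ≠ n := by exact_mod_cast hl.ne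
  have hn1 : (n : ℂ) ≠ 1 := by exact_mod_cast (h1.trans hl).ne'
  have k1 : ∀ η, Irr ⊤ η → η 1 = m → inn ⊤ (η * χ) ψ ≠ 0 → Eqv (commutator G) η fun x => conj (χ x) := fun η a b c => by
    obtain ⟨l, l1, l2, l3⟩ : ∃ l, Irr ⊤ l ∧ inn ⊤ (η * χ) l ≠ 0 ∧ l 1 = 1 := by
      by_contra! d
      exact hl.not_ge ((a.chr.mul hχ.chr).big (by simp [b, hm]) hc (fun l e f => (hd' l e).resolve_left (d l e f)) hψ c hn
        (by omega))
    rw [inn_mul_left] at l2
    intro x hx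
    rw [a.eqv (hχ.cnj.lin_mul l1.chr l3) l2 x trivial, Pi.mul_apply, l1.chr.ker_comm l3 x hx, l3, one_mul]
  intro η a c
  have k3 : ∀ η, Irr ⊤ η → inn ⊤ (η * χ) ψ ≠ 0 → η 1 = m ∨ η 1 = n := fun η a c => (hd' η a).resolve_left fun b =>
    hne (by simpa [b, hm, hn] using ((hχ.lin_mul a.chr b).eqv hψ c).one)
  refine (k3 η a c).resolve_left fun b => ?_
  have t := hψ.chr.mul hχ.chr.cnj
  have u : ∀ ζ : G → ℂ, inn ⊤ (ψ * fun x => conj (χ x)) ζ ≠ 0 → inn ⊤ (ζ * χ) ψ ≠ 0 := fun ζ e => by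
    rw [inn_mul_left]; exact inn_ne_comm e
  have v : inn ⊤ (ψ * fun x => conj (χ x)) η ≠ 0 := by rw [inn_mul_left] at c; exact inn_ne_comm c
  have w : ∀ ζ, Irr ⊤ ζ → inn ⊤ (ψ * fun x => conj (χ x)) ζ ≠ 0 → ζ 1 = m := fun ζ e f =>
    (k3 ζ e (u ζ f)).resolve_right fun g => absurd ((t.sub_constit a v).big (d := n - 1) (by
      simp [hn, hm, b, Nat.cast_sub (show 1 ≤ n by omega)]; ring) hc
      (fun l i j => k3 l i (u l (t.constit_sub a v i j))) e (by
        rwa [inn_sub_left, a.inn_eq_zero e fun i => hne (by rw [← b, ← g, i.one]), sub_zero]) g (by omega)) (by omega)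
  have y := inn_one_of_vanish (S := commutator G) (ψ := χ) fun x hx x1 => by
    have := t.inv.cross (mem_top x) (mem_top 1) (a := m) (b := conj (χ x)) fun ζ e f => by
      rw [k1 ζ e (w ζ e f) (u ζ f) x hx, w ζ e f, mul_comm]
    simp only [Pi.mul_apply, hn, hm, map_natCast] at this
    have i : (m : ℂ) * (ψ x - n) * conj (χ x) = 0 := by linear_combination this
    simpa [show m ≠ 0 by omega, sub_eq_zero, show ψ x ≠ n from fun j => x1 (h.mem_of_eq hψ ker_bot (hn ▸ hn1)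
      (j.trans hn.symm))] using i
  have := hχ.one_of_ker (hχ.ker_of_inn (L := commutator G) norm_top le_top fun e => hχ.one_ne (by rw [← y, e, mul_zero]))
  rw [hm, Nat.cast_eq_one] at this
  omega

theorem cop_three (h : MaxNA (⊥ : Subgroup G)) (hd : CD (⊥ : Subgroup G) ⊤ fun d => d = 1 ∨ d = m ∨ d = n)
    (hc : m.Coprime n) : Group.IsSolvable G := by
  wlog hl : m ≤ n generalizing m n
  · exact this (hd.mono le_rfl fun d a => by tauto) hc.symm (le_of_not_ge hl)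
  by_cases a : ∃ χ : G → ℂ, Irr ⊤ χ ∧ χ 1 = m ∧ m ≠ 1
  swap
  · exact solv_two (m := n) fun χ b c d e => by
      rcases hd χ b c d e with f | f | f
      exacts [.inl f, .inl (f.trans (by_contra fun g => a ⟨χ, b, f ▸ e, g⟩)), .inr f]
  obtain ⟨χ, a, b, c⟩ := a
  obtain ⟨_, m0, m1⟩ := a.deg
  rw [b, Nat.cast_inj] at m1
  have hl' : m < n := hl.lt_of_ne fun e => c (by subst e; simpa using hc)
  refine solv_two (m := m) fun ψ d e k f => (hd ψ d e k f).imp_right fun g => g.resolve_right fun g => ?_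
  have := Fintype.ofFinite G
  obtain ⟨i, -, j⟩ := exists_inner_pow_ne_zero (isIrr_isChar (irr_top.mp a)) (eq_bot_iff.mpr fun x hx =>
    h.mem_of_eq a ker_bot (by rw [b]; exact_mod_cast c) ((ker_iff (isIrr_isChar (irr_top.mp a))).mp le_rfl x hx))
    (irr_top.mp d)
  rw [← inn_top] at j
  subst g
  clear e
  induction i generalizing ψ with
  | zero =>
    have := (irr_one.eqv d (by simpa using j)).one
    rw [f, eq_comm, Nat.cast_eq_one] at this
    omega
  | succ i ih =>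
    rw [show (fun g => χ g ^ (i + 1)) = χ ^ i * χ from pow_succ χ i, inn_mul_left] at j
    obtain ⟨η, u, v, w⟩ := (a.chr.pow i).inv.exists_common j
    exact ih η u (cop_step h hd hc hl' (by omega) a b d f η u (by rwa [inn_mul_left])) v

theorem Mono.three (h : Mono G) (hd : CD (⊥ : Subgroup G) ⊤ fun d => d = 1 ∨ d = m ∨ d = n) :
    ⁅⁅commutator G, commutator G⁆, ⁅commutator G, commutator G⁆⁆ ≤ ⊥ := by
  wlog hl : m ≤ n generalizing m n
  · exact this (hd.mono le_rfl fun d a => by tauto) (le_of_not_ge hl)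
  have k1 : ∀ η : G → ℂ, Irr ⊤ η → ∀ k : ℕ, η 1 = k → k = 1 → Ker (commutator G) η := fun η a k b c =>
    a.chr.ker_comm (by rw [b, c, Nat.cast_one])
  have k2 : ∀ η : G → ℂ, Irr ⊤ η → ∀ k : ℕ, η 1 = k → k = 1 ∨ k = m → Ker ⁅commutator G, commutator G⁆ η :=
    fun η a k b c => h.step (fun ζ d j e f => k1 ζ d j e (by
      obtain ⟨_, u, v⟩ := d.deg
      rw [e, Nat.cast_inj] at v
      rcases hd ζ d ker_bot j e with w | w | w <;> omega)) a b
  refine eq_bot_of_ker fun χ a => ?_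
  obtain ⟨k, -, b⟩ := a.deg
  refine h.step (fun ζ d j e f => k2 ζ d j e ?_) a b
  obtain ⟨_, u, v⟩ := d.deg
  rw [e, Nat.cast_inj] at v
  rcases hd ζ d ker_bot j e with w | w | w <;> rcases hd χ a ker_bot k b with z | z | z <;> omega

theorem CD.pcompl (h : CD (⊥ : Subgroup G) ⊤ R) (hp : p.Prime) (hc : ¬ p ∣ Nat.card (pResidual p G)) :
    CD ⊥ (pResidual p G) fun d => ∃ k, R k ∧ d = ordCompl[p] k :=
  ((h.under norm_top le_top).and cd_dvd).mono le_rfl fun d ⟨⟨k, a, b⟩, c⟩ => ⟨_, b, by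
    have := Fact.mk hp
    obtain ⟨j, e⟩ := Transfer.exists_index_pResidual_eq_pow (p := p) (G := G)
    rw [relIndex_top_right, e] at a
    obtain ⟨i, -, rfl⟩ := (Nat.dvd_prime_pow hp).mp a
    rw [Nat.ordCompl_pow_mul_of_not_dvd i hp fun e => hc (e.trans (relIndex_bot_left (pResidual p G) ▸ c))]⟩

theorem PType.three (h : PType p K Z) (hK : MaxNA K) (hd : CD (⊥ : Subgroup G) ⊤ fun d => d = 1 ∨ d = m ∨ d = n) :
    ⁅⁅commutator G, commutator G⁆, ⁅commutator G, commutator G⁆⁆ ≤ ⊥ := by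
  have := hK.normal
  have := Fact.mk h.prime
  obtain ⟨β, a, b, f, f1, c⟩ := hK.exists_nonlin
  wlog e : f = m generalizing m n
  · exact this (hd.mono le_rfl fun d a => by tauto) (n := m) (((hd β a ker_bot f c).resolve_left f1).resolve_left e)
  subst e
  obtain ⟨j, rfl⟩ := h.deg_pow a b c
  obtain ⟨i, hi⟩ := h.index
  have hc := thompson (G := G) h.prime fun ψ e d f g => by_contra fun k => by
    have l := hd _ (a.mul_of_ker norm_top le_top b e.chr (e.res_of_coprime norm_top le_top f (by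
      rw [relIndex_top_right, hi]; exact (h.prime.coprime_iff_not_dvd.mpr k).symm.pow_right _))) ker_bot (p ^ j * d)
        (by simp [c, f])
    obtain ⟨_, u, v⟩ := e.deg
    rw [f, Nat.cast_inj] at v
    obtain rfl : d = n := ((hd ψ e ker_bot d f).resolve_left g).resolve_left fun w =>
      k (w ▸ dvd_pow_self p fun z => f1 (by simp [z]))
    rcases l with l | l | l
    exacts [g (Nat.eq_one_of_mul_eq_one_left l), g ((Nat.mul_eq_left (pow_ne_zero _ h.prime.ne_zero)).mp l),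
      f1 ((Nat.mul_eq_right (by omega)).mp l)]
  have k1 : CD ⊥ (pResidual p G) fun d => d = 1 ∨ d = ordCompl[p] n := (hd.pcompl h.prime hc).mono le_rfl
    fun d ⟨k, u, v⟩ => by
      rcases u with rfl | rfl | rfl
      exacts [.inl (by simpa using v), .inl (v.trans (Nat.ordCompl_self_pow h.prime)), .inr v]
  by_cases k2 : ordCompl[p] n = 1
  · exact (mono_of_quot (CD.comm (k1.mono le_rfl fun d u => u.elim id (k2 ▸ id)) norm_top bot_le)
      Transfer.isPGroup_quotient_pResidual.isNilpotent).three hd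
  refine (commutator_mono ?_ ?_).trans (k1.two norm_top bot_le) <;>
  · refine CD.two (K := ⊤) (m := p ^ j) (fun χ u v d w =>
      (hd χ u ker_bot d w).imp_right fun y => y.resolve_right fun y => k2 ?_) norm_top le_top
    obtain ⟨θ, t1, t2⟩ := u.exists_under (le_top (a := pResidual p G))
    obtain ⟨k, t3, t4⟩ := u.deg_dvd_rel norm_top le_top t1 t2
    obtain ⟨j, e⟩ := Transfer.exists_index_pResidual_eq_pow (p := p) (G := G)
    rw [relIndex_top_right, e] at t3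
    obtain ⟨i, -, rfl⟩ := (Nat.dvd_prime_pow h.prime).mp t3
    rw [t1.one_of_ker (v.constit (u.chr.res le_top) (commutator_le_self _) t1 t2), mul_one, w, Nat.cast_inj] at t4
    rw [← y, t4, Nat.ordCompl_self_pow h.prime]

theorem FType.not_le (h : FType q K N) [K.Normal] (hp : p.Prime) : ¬ pResidual p G ≤ K := fun a => by
  have := Fact.mk hp
  obtain ⟨x, x1, x2⟩ := SetLike.exists_of_lt h.lt
  obtain ⟨k, e⟩ := Transfer.exists_index_eq_pow_of_pResidual_le a
  obtain ⟨_ | j, f⟩ := Transfer.exists_index_eq_pow_of_pResidual_le (a.trans h.lt.le)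
  · exact h.ne (index_eq_one.mp f)
  · refine x2 (mem_of_pow_pow (h.pw x x1) (e ▸ K.pow_index_mem x) (((Nat.coprime_primes h.prime hp).mpr ?_).pow_right _))
    rintro rfl
    exact h.not_dvd (f ▸ dvd_pow_self _ j.succ_ne_zero)

theorem FType.three (h : FType q K N) [K.Normal] (hd : CD (⊥ : Subgroup G) ⊤ fun d => d = 1 ∨ d = m ∨ d = n)
    (hs : ∀ p, p.Prime → p ∣ m → p ∣ n → commutator G ≤ pResidual p G) :
    ⁅⁅commutator G, commutator G⁆, ⁅commutator G, commutator G⁆⁆ ≤ ⊥ := by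
  have := h.normal
  obtain ⟨β, a, -, b⟩ := h.exists_deg
  have f1 := mt index_eq_one.mp h.ne
  wlog e : N.index = m generalizing m n
  · exact this (hd.mono le_rfl fun d a => by tauto) (fun p u v w => hs p u w v)
      (((hd β a ker_bot _ b).resolve_left f1).resolve_left e)
  subst e
  suffices ∃ W s, commutator G ≤ W ∧ CD ⊥ W fun d => d = 1 ∨ d = s by
    obtain ⟨W, s, u, v⟩ := this
    exact (commutator_mono (commutator_mono u u) (commutator_mono u u)).trans (v.two norm_top bot_le)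
  have k1 : ∀ ψ, Irr N ψ → ∀ d : ℕ, ψ 1 = d → d = 1 ∨ N.index * d = n ∨ ∀ x ∈ N, x ∉ K → ψ x = 0 := fun ψ u d v =>
    (h.dich u).elim (fun ⟨χ, w, y⟩ => by
      rcases hd χ w ker_bot (N.index * d) (by rw [y, v, Nat.cast_mul]) with z | z | z
      exacts [.inl (Nat.eq_one_of_mul_eq_one_left z), .inl ((Nat.mul_eq_left index_ne_zero_of_finite).mp z),
        .inr (.inl z)]) fun w => .inr (.inr w)
  by_cases c : ∃ ψ, Irr N ψ ∧ ∀ x ∈ N, x ∉ K → ψ x = 0
  swap
  · exact ⟨N, n / N.index, h.comm, fun ψ u _ d v => (k1 ψ u d v).imp_right fun w => by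
      rw [← w.resolve_right fun y => c ⟨ψ, u, y⟩, Nat.mul_div_cancel_left _ (Nat.pos_of_ne_zero index_ne_zero_of_finite)]⟩
  have k2 : ∀ k, (k = 1 ∨ k = N.index ∨ k = n) → q ∣ k → k = n := fun k u v => by
    rcases u with rfl | rfl | rfl
    exacts [absurd (Nat.dvd_one.mp v) h.prime.ne_one, absurd v h.not_dvd, rfl]
  have k3 : q ∣ n := by
    obtain ⟨ψ, u, v⟩ := c
    obtain ⟨d, -, w⟩ := u.deg
    obtain ⟨k, -, y⟩ := hd.under norm_top le_top ψ u ker_bot d w
    have := (h.dvd_of_vanish u.chr v w).mul_left k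
    exact k2 _ y this ▸ this
  obtain ⟨W, ⟨w1, w2, w3⟩, w4⟩ := Set.Finite.exists_minimal (s := {W : Subgroup G | commutator G ≤ W ∧ W ≤ N ∧
    ∀ p, p.Prime → p ∣ W.index → p ∣ N.index}) (Set.toFinite _) ⟨N, h.comm, le_rfl, fun _ _ => id⟩
  have := Core.normal_of_le_normalizer (norm_of_comm_le le_top w1)
  have k4 : ∀ θ, Irr W θ → ∀ d : ℕ, θ 1 = d → d ≠ 1 → d ∣ Nat.card W ∧ ∃ k, k ∣ W.index ∧ k * d = n := fun θ u d v w => by
    obtain ⟨ψ, t1, t2⟩ := u.exists_over w2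
    obtain ⟨χ, t3, t4⟩ := t1.exists_over le_top
    obtain ⟨k, t5, t6⟩ := t3.deg_dvd_rel norm_top le_top u ((t3.chr.res le_top).over_trans w2 t1 u.chr t4 t2)
    obtain ⟨l, -, t7⟩ := t3.deg_dvd_rel norm_top le_top t1 t4
    obtain ⟨j, -, t8⟩ := t1.deg
    obtain ⟨_, t9, t10⟩ := u.deg
    rw [v, Nat.cast_inj] at t10
    have := (t1.chr.res w2).deg_le u t2 t8 v
    refine ⟨u.deg_dvd v, k, relIndex_top_right W ▸ t5, k2 _ (hd χ t3 ker_bot _ (by rw [t6, v, Nat.cast_mul])) ?_⟩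
    rw [t7, t8, v, ← Nat.cast_mul, ← Nat.cast_mul, Nat.cast_inj] at t6
    rw [← t6]
    refine Dvd.dvd.mul_left ?_ l
    rcases k1 ψ t1 j t8 with y | y | y
    exacts [by omega, (h.prime.dvd_mul.mp (y ▸ k3)).resolve_left h.not_dvd, h.dvd_of_vanish t1.chr y t8]
  have k5 : ∀ d k d' : ℕ, d ∣ Nat.card W → d ∣ n → k ∣ W.index → k * d' = n → d ∣ d' := fun d k d' u v w y => by
    refine Nat.Coprime.dvd_of_dvd_mul_left (Nat.coprime_of_dvd fun p hp i j => ?_) (y ▸ v)
    have := Fact.mk hp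
    have l := w3 p hp (j.trans w)
    obtain ⟨s, e⟩ := Transfer.exists_index_pResidual_eq_pow (p := p) (G := G)
    refine thompson (G := G) hp (fun χ t d z t' => ?_) ((i.trans u).trans (card_dvd_of_le
      ((w4 ⟨le_inf w1 (hs p hp l (i.trans v)), inf_le_left.trans w2, fun r hr t => ?_⟩ inf_le_left).trans inf_le_right)))
    · rcases hd χ t ker_bot d z with o | o | o
      exacts [absurd o t', o ▸ l, o ▸ i.trans v]
    · rw [← relIndex_mul_index inf_le_left, inf_relIndex_left] at t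
      refine (hr.dvd_mul.mp t).elim (fun o => ?_) (w3 r hr)
      rwa [(Nat.prime_dvd_prime_iff_eq hr hp).mp (hr.dvd_of_dvd_pow (e ▸ o.trans (relIndex_dvd_index_of_normal _ _)))]
  by_cases c : ∃ θ, Irr W θ ∧ ∃ d : ℕ, θ 1 = d ∧ d ≠ 1
  · obtain ⟨θ, u, s, v, w⟩ := c
    obtain ⟨t1, k, t2, t3⟩ := k4 θ u s v w
    refine ⟨W, s, w1, fun η y _ d z => or_iff_not_imp_left.mpr fun o => ?_⟩
    obtain ⟨t4, l, t5, t6⟩ := k4 η y d z o
    exact Nat.dvd_antisymm (k5 _ _ _ t4 (t6 ▸ dvd_mul_left _ _) t2 t3) (k5 _ _ _ t1 (t3 ▸ dvd_mul_left _ _) t5 t6)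
  · exact ⟨W, 1, w1, fun η y _ d z => .inl (by_contra fun o => c ⟨η, y, d, z, o⟩)⟩

theorem three_deg.{u} (G : Type u) [Group G] [Finite G] : ∀ m n, (CD (⊥ : Subgroup G) ⊤ fun d => d = 1 ∨ d = m ∨ d = n) →
    derivedSeries G 3 = ⊥ := by
  refine Core.induction_on_card (P := fun G _ _ => ∀ m n, (CD (⊥ : Subgroup G) ⊤ fun d => d = 1 ∨ d = m ∨ d = n) →
    derivedSeries G 3 = ⊥) (fun G _ _ ih m n hd => le_bot_iff.mp ?_) G
  change ⁅⁅commutator G, commutator G⁆, ⁅commutator G, commutator G⁆⁆ ≤ ⊥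
  by_cases hn : commutator G ≤ ⊥
  · exact (commutator_le_self _).trans ((commutator_le_self _).trans hn)
  obtain ⟨K, -, a⟩ := exists_maxNA hn
  have hs : ∀ K : Subgroup G, MaxNA K → SolvMod K ⊤ := fun K a => by
    have := a.normal
    by_cases hc : m.Coprime n
    · exact solvMod_of_quot (cop_three a.quot (hd.mono bot_le fun _ => id).quot hc)
    obtain ⟨p, hp, b, c⟩ := Nat.Prime.not_coprime_iff_dvd.mp hc
    have := Fact.mk hp
    have k : ∀ χ : G → ℂ, Irr ⊤ χ → ∀ d : ℕ, χ 1 = d → d ≠ 1 → p ∣ d := fun χ t d z t' => by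
      rcases hd χ t ker_bot d z with o | o | o
      exacts [absurd o t', o ▸ b, o ▸ c]
    have e := thompson hp k
    obtain ⟨β, u, -, d, v, w⟩ := a.exists_nonlin
    have : Group.IsSolvable (pResidual p G) := ⟨3, ih _ (Core.card_lt_of_ne_top _ fun f =>
      e (f ▸ (k β u d w v).trans (u.deg_dvd w))) (ordCompl[p] m) (ordCompl[p] n)
      ((hd.pcompl hp e).mono le_rfl fun d ⟨k, u, v⟩ => by
        rcases u with rfl | rfl | rfl
        exacts [.inl (by simpa using v), .inr (.inl v), .inr (.inr v)]).sub'⟩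
    have := Core.solvable_of_isPGroup (Transfer.isPGroup_quotient_pResidual (p := p) (G := G))
    have := Group.isSolvable_of_ker_le_range (pResidual p G).subtype (QuotientGroup.mk' (pResidual p G)) (by simp)
    exact solvMod_of_solv inferInstance
  by_cases c : ∃ (K : Subgroup G) (p : ℕ) (Z : Subgroup G), MaxNA K ∧ PType p K Z
  · obtain ⟨K, p, Z, u, v⟩ := c
    exact v.three u hd
  have := a.normal
  obtain ⟨q, N, b⟩ := (a.cases (hs K a)).resolve_left fun ⟨p, Z, u⟩ => c ⟨K, p, Z, a, u⟩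
  refine b.three hd fun p hp _ _ => by_contra fun e => ?_
  obtain ⟨L, u, v⟩ := exists_maxNA e
  have := v.normal
  obtain ⟨_, _, w⟩ := (v.cases (hs L v)).resolve_left fun ⟨p, Z, u⟩ => c ⟨L, p, Z, v, u⟩
  exact w.not_le hp u

end Cfsg.Agent.Isaacs
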