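import Mathlib
import Cfsg.Agent.Isaacs.CD4
import Cfsg.Agent.Transfer.Wielandt
import Cfsg.Agent.Transfer.Abelian
import Cfsg.Agent.Core.Product

/-! Blichfeldt's theorem on linear groups. -/

set_option autoImplicit false

open scoped ComplexConjugate commutatorElement Pointwise

namespace Cfsg.Agent.Isaacs

open Cfsg Cfsg.Agent.Char Subgroup

variable {G : Type*} [Group G] [Finite G] {A D H K L M N P T U Z : Subgroup G} {θ χ ψ β μ : G → ℂ}
  {p q m n b d : ℕ} {π : Set ℕ}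

/-- Brauer: irrationalities at several primes give an element whose order is divisible by all of them -/
theorem exists_order_of_irrat (hχ : Irr ⊤ χ) (s : Finset ℕ) (h : ∀ p ∈ s, p.Prime ∧ ∃ (g : G) (j k : ℕ), g ^ p ^ j = 1 ∧
    k.Coprime (Nat.card G) ∧ (∀ x : G, ¬ p ∣ orderOf x → x ^ k = x) ∧ χ (g ^ k) ≠ χ g) : ∃ x : G, ∀ p ∈ s, p ∣ orderOf x := by
  suffices ∃ ψ : G → ℂ, Gen ⊤ ψ ∧ (∀ x, (∃ p ∈ s, ¬ p ∣ orderOf x) → ψ x = 0) ∧ inn ⊤ ψ χ = 1 ∧
      ∀ η, Irr ⊤ η → inn ⊤ ψ η ≠ 0 → ∀ y, (∀ p ∈ s, ¬ p ∣ orderOf y) → η y = χ y by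
    obtain ⟨ψ, -, a, b, -⟩ := this
    by_contra! c
    rw [show ψ = 0 from funext fun x => a x (c x), inn_zero_left] at b
    exact zero_ne_one b
  induction s using Finset.induction_on with
  | empty => exact ⟨χ, hχ.gen, by simp, hχ.inn_self, fun η a b y _ => (hχ.eqv a b y trivial).symm⟩
  | insert p s hp ih =>
    obtain ⟨ψ, a, b, c, d⟩ := ih fun q hq => h q (Finset.mem_insert_of_mem hq)
    obtain ⟨p1, g, j, k, e1, e2, e3, e4⟩ := h p (Finset.mem_insert_self _ _)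
    have inv : ∀ η : G → ℂ, Irr ⊤ η → inn ⊤ (pw k ψ) η ≠ 0 → ∀ y, (∀ p ∈ s, ¬ p ∣ orderOf y) → η y = χ (y ^ k) :=
      fun η i l y u => by
        obtain ⟨k', v, w⟩ : ∃ k', k'.Coprime (Nat.card G) ∧ ∀ x : G, (x ^ k) ^ k' = x := ⟨k ^ ((Nat.card G).totient - 1),
          e2.pow_left _, fun x => by
            rw [← pow_mul, ← pow_succ', Nat.sub_add_cancel (Nat.totient_pos.mpr Nat.card_pos)]
            exact (pow_eq_pow_iff_modEq.mpr ((Nat.ModEq.pow_totient e2).of_dvd (orderOf_dvd_natCard x))).trans (pow_one x)⟩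
        have t : pw k (pw k' η) = η := funext fun x => congrArg η (w x)
        rw [← t, a.inn_pw e2 (i.pw v).gen] at l
        rw [← t]
        exact d _ (i.pw v) l _ fun q hq z => u q hq (z.trans (orderOf_pow_dvd k))
    have hg : ∀ q ∈ s, ¬ q ∣ orderOf g := fun q hq z => hp (by
      rwa [← (Nat.prime_dvd_prime_iff_eq (h q (Finset.mem_insert_of_mem hq)).1 p1).mp
        ((h q (Finset.mem_insert_of_mem hq)).1.dvd_of_dvd_pow (z.trans (orderOf_dvd_of_pow_eq_one e1)))])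
    obtain ⟨σ, hσ⟩ := exists_aut_pw e2
    refine ⟨ψ - pw k ψ, a.sub ((a.map σ).congr (hσ a)), fun x ⟨q, hq, z⟩ => ?_, ?_, fun η i l y u => ?_⟩
    · rcases Finset.mem_insert.mp hq with rfl | hq
      · simp [pw, e3 x z]
      · simp [pw, b x ⟨q, hq, z⟩, b (x ^ k) ⟨q, hq, fun i => z (i.trans (orderOf_pow_dvd k))⟩]
    · rw [inn_sub_left, c, not_not.mp fun l => e4 (inv χ hχ l g hg).symm, sub_zero]
    · have u' := fun q hq => u q (Finset.mem_insert_of_mem hq)
      by_cases v : inn ⊤ ψ η = 0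
      · rw [inv η i (fun w => l (by rw [inn_sub_left, v, w, sub_zero])) y u', e3 y (u p (Finset.mem_insert_self _ _))]
      · exact d η i v y u'

theorem Chr.le_of_const (h : Chr ⊤ χ) (hp : p.Prime) {x : G} (hx : orderOf x = p) (h1 : χ x ≠ χ 1)
    (e : ∀ j, ¬ p ∣ j → χ (x ^ j) = χ x) (hn : χ 1 = n) : p ≤ n + 1 := by
  have k : ∀ l, Chr (zpowers x) l → l 1 = 1 → p * inn (zpowers x) (χ - χ x • fun _ => 1) l = n - χ x := fun l a b => by
    have := inn_one_of_vanish (S := zpowers x) (ψ := (χ - χ x • fun _ => 1) * fun g => conj (l g)) fun y hy y1 => by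
      obtain ⟨j, rfl⟩ := mem_powers_iff_mem_zpowers.mpr hy
      simp [e j fun c => y1 (orderOf_dvd_iff_pow_eq_one.mp (hx ▸ c))]
    rw [← inn_eq_mul_one, Nat.card_zpowers, hx] at this
    simpa [b, hn] using this
  obtain ⟨l, l1, -, l2⟩ := exists_irr_not_ker (K := zpowers x) (L := ⊥) norm_top bot_le (mem_zpowers x)
    fun c => h1 (by rw [mem_bot.mp c])
  have k1 := k l l1.chr (l1.one_of_comm fun _ ⟨i, a⟩ _ ⟨j, b⟩ => by rw [← a, ← b]; exact zpow_mul_comm x i j)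
  have k2 := k _ chr_one rfl
  obtain ⟨a, ha⟩ := (h.res le_top).inn_nat (chr_one (H := zpowers x))
  obtain ⟨b, hb⟩ := (h.res le_top).inn_nat l1.chr
  rw [inn_sub_left, inn_smul_left, irr_one.inn_eq_zero l1 fun c => l2 (by rw [← c x (mem_zpowers x), ← c.one]), hb] at k1
  rw [inn_sub_left, inn_smul_left, irr_one.inn_self, ha] at k2
  have k3 : χ x = a - b := mul_left_cancel₀ (Nat.cast_ne_zero.mpr hp.ne_zero) (by linear_combination k1 - k2)
  have k4 : p * b + a = n + b := by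
    rw [← Nat.cast_inj (R := ℂ)]; push_cast; linear_combination k1 - k3
  have : b ≠ 0 := fun c => h1 (by rw [hn]; simpa [c, eq_comm, sub_eq_zero] using k1)
  obtain ⟨p, rfl⟩ := Nat.exists_eq_succ_of_ne_zero hp.ne_zero
  nlinarith [Nat.pos_of_ne_zero this]

theorem exists_pow_crt (hp : p.Prime) {j : ℕ} (hj : ¬ p ∣ j) : ∃ k, k.Coprime (Nat.card G) ∧
    (∀ x : G, ¬ p ∣ orderOf x → x ^ k = x) ∧ k ≡ j [MOD p] := by
  obtain ⟨e, m, a, b⟩ := Nat.exists_eq_pow_mul_and_not_dvd (Nat.card_pos (α := G)).ne' p hp.ne_one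
  obtain ⟨k, c, d⟩ := Nat.chineseRemainder (hp.coprime_iff_not_dvd.mpr a) j 1
  refine ⟨k, b ▸ Nat.Coprime.mul_right (Nat.Coprime.pow_right _ (hp.coprime_iff_not_dvd.mpr fun i =>
    hj ((c.dvd_iff dvd_rfl).mp i)).symm) (by rw [Nat.Coprime, d.gcd_eq]; simp), fun x i => ?_, c⟩
  exact (pow_eq_pow_iff_modEq.mpr (d.of_dvd (((hp.coprime_iff_not_dvd.mpr i).symm.pow_right e).dvd_of_dvd_mul_left
    (b ▸ orderOf_dvd_natCard x)))).trans (pow_one x)

/-- `G` is a linear group of degree at most `n` -/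
def Faith (G : Type*) [Group G] (n : ℕ) : Prop :=
  ∃ (χ : G → ℂ) (d : ℕ), Chr ⊤ χ ∧ χ 1 = d ∧ d ≤ n ∧ ∀ g, χ g = χ 1 → g = 1

omit [Finite G] in
theorem Faith.sub (h : Faith G n) (H : Subgroup G) : Faith H n := by
  obtain ⟨χ, d, a, b, c, e⟩ := h
  exact ⟨fun x => χ x, d, chr_top.mpr (a.res le_top), b, c, fun g i => Subtype.ext (e g i)⟩

theorem Faith.comm (h : Faith G n) (e : ∀ p, p.Prime → p ∣ Nat.card H → n < p) : ⁅H, H⁆ ≤ ⊥ := by
  obtain ⟨χ, d, a, b, c, f⟩ := h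
  exact fun x hx => f x ((a.res le_top).ker_of_deg_lt b (fun p i j => c.trans_lt (e p i j)) x hx)

theorem faith_quot (h : Chr ⊤ χ) (hd : χ 1 = d) [N.Normal] (e : N = kerS ⊤ χ) : Faith (G ⧸ N) d := by
  obtain ⟨φ, a, b⟩ := h.exists_push (QuotientGroup.mk' N) (h.ker_kerS.mono (by simp [e]))
  rw [map_top_of_surjective _ (QuotientGroup.mk'_surjective N)] at a
  have c : φ 1 = χ 1 := b 1 trivial
  exact ⟨φ, d, a, c.trans hd, le_rfl, fun g => g.inductionOn fun g i => (QuotientGroup.eq_one_iff g).mpr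
    (e ▸ h.mem_kerS.mpr ⟨trivial, (b g trivial).symm.trans (i.trans c)⟩)⟩

omit [Finite G] in
theorem Faith.mono (h : Faith G m) (e : m ≤ n) : Faith G n := by
  obtain ⟨χ, d, a, b, c, f⟩ := h
  exact ⟨χ, d, a, b, c.trans e, f⟩

theorem Faith.cases (h : Faith G n) [Nontrivial G] : (∃ (χ : G → ℂ) (d : ℕ), Irr ⊤ χ ∧ χ 1 = d ∧ d ≤ n ∧
    ∀ g, χ g = χ 1 → g = 1) ∨ ∃ (N : Subgroup G) (_ : N.Normal), N ≠ ⊥ ∧ N ≠ ⊤ ∧ Faith (G ⧸ N) n := by
  obtain ⟨χ, d, a, b, c, f⟩ := h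
  obtain ⟨x, x1⟩ := exists_ne (1 : G)
  obtain ⟨ψ, u, v, w⟩ : ∃ ψ, Irr ⊤ ψ ∧ inn ⊤ χ ψ ≠ 0 ∧ ¬ Ker ⊤ ψ := by
    by_contra! i
    exact x1 (f x (a.inv.ker_of le_rfl i x trivial))
  obtain ⟨k, -, i⟩ := u.deg
  have j := (a.deg_le u v b i).trans c
  by_cases l : kerS ⊤ ψ = ⊥
  · exact .inl ⟨ψ, k, u, i, j, fun g e => l.le (u.chr.mem_kerS.mpr ⟨trivial, e⟩)⟩
  · have := Core.normal_of_le_normalizer (u.chr.normalizes_kerS norm_top u.inv)
    exact .inr ⟨_, this, l, fun e => w (e ▸ u.chr.ker_kerS), (faith_quot u.chr i rfl).mono j⟩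

theorem exists_conj_le_hall (h : IsPiHallOf π A K) (hA : ⁅A, A⁆ ≤ ⊥) (hH : H ≤ K)
    (e : ∀ p, p.Prime → p ∣ Nat.card H → p ∈ π) : ∃ x ∈ K, H ≤ MulAut.conj x • A := by
  obtain ⟨x, hx⟩ := Transfer.exists_le_conj_of_nilpotent_hall (H := A.subgroupOf K)
    (Core.nilpotent_subgroupOf (Core.nilpotent_of_commutator_le_centralizer (hA.trans bot_le))) (Core.IsPiHall.coprime_index (Core.isPiHallOf_iff.mp h).2
      (Core.isPiHallOf_iff.mp h).2.1) (H.subgroupOf K) fun p hp i => by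
        rw [Core.card_subgroupOf_of_le hH] at i
        have j := i.trans (card_dvd_of_le hH)
        rw [← (A.subgroupOf K).card_mul_index] at j
        exact (hp.dvd_mul.mp j).resolve_right (h.2.2 p hp (e p hp i))
  refine ⟨x, x.2, ?_⟩
  have := map_mono (f := K.subtype) hx
  rwa [Core.map_subtype_conj_smul, subgroupOf_map_subtype, subgroupOf_map_subtype, inf_eq_left.mpr hH,
    inf_eq_left.mpr h.1] at this

theorem blichfeldt.{u} (n : ℕ) (G : Type u) [Group G] [Finite G] : Faith G n →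
    ∃ A : Subgroup G, IsPiHall {p | n + 1 < p} A := by
  refine Core.induction_on_card (P := fun G _ _ => Faith G n → ∃ A : Subgroup G, IsPiHall {p | n + 1 < p} A)
    (fun G _ _ ih h => ?_) G
  set π := {p | n + 1 < p}
  have ih' : ∀ H : Subgroup G, H ≠ ⊤ → ∃ A, IsPiHallOf π A H := fun H a =>
    (ih H (Core.card_lt_of_ne_top H a) (h.sub H)).elim fun A b => ⟨_, Core.isPiHallOf_map_subtype.mpr b⟩
  have ab : ∀ H : Subgroup G, IsPiSubgroup π H → ⁅H, H⁆ ≤ ⊥ := fun H a =>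
    h.comm fun p b c => Nat.lt_of_succ_lt (a p b c)
  by_cases hc : commutator G = ⊤
  swap
  · obtain ⟨N, -, a, b, c⟩ := SolvMod.exists_prime (N := commutator G) (K := ⊤) ⟨1, by
      rw [derivedSeries_one, Core.map_commutator_subtype]; rfl⟩ (lt_top_iff_ne_top.mpr hc) norm_top
    have := Core.normal_of_le_normalizer (norm_of_comm_le le_top b)
    obtain ⟨A, d⟩ := ih' N a.ne
    have := Fact.mk c
    by_cases e : N.relIndex ⊤ ∈ π
    swap
    · exact ⟨A, Core.isPiHallOf_top.mp (Core.IsPiHallOf.trans d le_top fun p i j k =>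
        e ((Nat.prime_dvd_prime_iff_eq i c).mp k ▸ j))⟩
    have f : N ⊔ normalizer (A : Set G) = ⊤ := eq_top_iff.mpr fun g _ => by
      obtain ⟨x, i, j⟩ := exists_conj_le_hall (H := MulAut.conj g • A) d (ab A d.2.1)
        (Core.conj_smul_le_iff.mpr fun y hy => Normal.conj_mem inferInstance y (d.1 hy) g)
        (by rw [Core.card_conj_smul]; exact d.2.1)
      have k := Core.eq_of_le_of_card_le j (by simp [Core.card_conj_smul])
      rw [← inv_smul_eq_iff, ← map_inv, ← mul_smul, ← map_mul, Core.conj_smul_eq_iff_mem_normalizer] at k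
      simpa using mul_mem_sup i k
    obtain ⟨R, g⟩ := Core.exists_isSylowOf (N.relIndex ⊤) (normalizer (A : Set G))
    refine ⟨A ⊔ R, Core.IsPiSubgroup.sup d.2.1 (Core.IsPiSubgroup.mono (Core.isPGroup_iff_isPiSubgroup.mp g.isPGroup)
      (by simpa using e)) g.le, fun p i j k => ?_⟩
    by_cases l : p = N.relIndex ⊤
    · have := k.trans (index_dvd_of_le le_sup_right)
      rw [← relIndex_mul_index g.le] at this
      refine (i.dvd_mul.mp this).elim (l ▸ g.not_dvd) fun o => d.2.2 p i j (o.trans ?_)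
      rw [← relIndex_top_right, ← f, Core.relIndex_sup_eq_relIndex norm_top]
      exact relIndex_dvd_of_le_left _ le_normalizer
    · have := k.trans (index_dvd_of_le le_sup_left)
      rw [← relIndex_mul_index d.1, ← relIndex_top_right N] at this
      exact (i.dvd_mul.mp this).elim (d.2.2 p i j) fun o => l ((Nat.prime_dvd_prime_iff_eq i c).mp o)
  rcases subsingleton_or_nontrivial G with _ | _
  · exact ⟨⊤, fun p a b => absurd (by simpa using b) a.ne_one, fun p a _ b => a.ne_one (by simpa using b)⟩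
  rcases h.cases with ⟨χ, d, a, b, c, f⟩ | ⟨N, _, a, b, c⟩
  swap
  · obtain ⟨B, e⟩ := ih _ (Core.card_quotient_lt N a) c
    obtain ⟨A, f⟩ := ih' (B.comap (QuotientGroup.mk' N)) fun f => b (by
      have := c.comm (H := B) fun p i j => Nat.lt_of_succ_lt (e.1 p i j)
      rwa [comap_injective (QuotientGroup.mk'_surjective N) (f.trans (comap_top _).symm), ← _root_.commutator_def, ← map_comm, hc,
        le_bot_iff, Subgroup.map_eq_bot_iff, QuotientGroup.ker_mk', top_le_iff] at this)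
    exact ⟨A, Core.isPiHallOf_top.mp (Core.IsPiHallOf.trans f le_top (by
      rw [relIndex_top_right, index_comap_of_surjective _ (QuotientGroup.mk'_surjective N)]; exact e.2))⟩
  obtain ⟨x, hx⟩ := exists_order_of_irrat a ((Nat.card G).primeFactors.filter (· ∈ π)) fun p hp => by
    obtain ⟨hp, i⟩ := Finset.mem_filter.mp hp
    obtain ⟨hp, j, -⟩ := Nat.mem_primeFactors.mp hp
    have := Fact.mk hp
    obtain ⟨g, k⟩ := exists_prime_orderOf_dvd_card' p j
    obtain ⟨l, u, v⟩ : ∃ l, ¬ p ∣ l ∧ χ (g ^ l) ≠ χ g := by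
      by_contra! u
      exact (c.trans_lt (Nat.lt_of_succ_lt_succ (Nat.lt_succ_of_le (Nat.le_of_lt_succ (i.trans_le (a.chr.le_of_const hp k
        (fun w => hp.ne_one (by rw [← k, f g w, orderOf_one])) u b)))))).false
    obtain ⟨k', w, y, z⟩ := exists_pow_crt (G := G) hp u
    exact ⟨hp, g, 1, k', by simp [← k], w, y, by rwa [pow_eq_pow_iff_modEq.mpr (k ▸ z)]⟩
  obtain ⟨m, r, e1, e2, e3⟩ := Core.exists_pi_part π (orderOf_pos x).ne'
  have r0 : r ≠ 0 := fun e => (orderOf_pos x).ne' (by simp [e1, e])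
  have e4 : orderOf (x ^ r) = m := by
    rw [orderOf_pow_of_dvd r0 (e1 ▸ dvd_mul_left _ _), e1, Nat.mul_div_cancel _ (Nat.pos_of_ne_zero r0)]
  obtain ⟨H, ⟨h1, h2⟩, h3⟩ := Set.Finite.exists_maximalFor (fun H : Subgroup G => Nat.card H)
    {H | IsPiSubgroup π H ∧ ∃ y ∈ H, orderOf y = m} (Set.toFinite _) ⟨zpowers (x ^ r), by
      rwa [IsPiSubgroup, Nat.card_zpowers, e4], _, mem_zpowers _, e4⟩
  refine ⟨H, h1, fun p hp i j => ?_⟩
  have := Fact.mk hp
  obtain ⟨y, y1, y2⟩ := h2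
  obtain ⟨z, z2⟩ := exists_prime_orderOf_dvd_card' (G := zpowers y) p (by
    rw [Nat.card_zpowers, y2]
    exact (hp.dvd_mul.mp (e1 ▸ hx p (Finset.mem_filter.mpr ⟨Nat.mem_primeFactors.mpr
      ⟨hp, j.trans H.index_dvd_card, Nat.card_pos.ne'⟩, i⟩))).resolve_right (e3 p hp i))
  rw [← orderOf_coe] at z2
  obtain ⟨P, z3⟩ := FGS.exists_sylow_mem (k := 1) (z2.trans (pow_one p).symm)
  have cP := ab P (Core.IsPiSubgroup.mono (Core.isPGroup_iff_isPiSubgroup.mp P.isPGroup') (by simpa using i))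
  have := PGrp.isMulCommutative_iff_forall.mpr fun _ a _ b => comm_of_commutator_eq_bot cP a b
  obtain ⟨A, u⟩ := ih' (centralizer {z.1}) fun u => hp.ne_one (by
    rw [← z2, mem_bot.mp ((Transfer.inf_commutator_inf_center_eq_bot P.card_coprime_index).le ⟨⟨z3, hc.ge trivial⟩,
      mem_center_iff.mpr fun g => mem_centralizer_singleton_iff.mp (u.ge trivial)⟩), orderOf_one])
  obtain ⟨g, g1, g2⟩ := exists_conj_le_hall u (ab A u.2.1) (fun w hw => mem_centralizer_singleton_iff.mpr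
    (comm_of_commutator_eq_bot (ab H h1) hw (zpowers_le.mpr y1 z.2))) h1
  have v := Core.IsPiHallOf.conj_of_mem_normalizer u (le_normalizer g1)
  rw [← Core.eq_of_le_of_card_le g2 (h3 ⟨v.2.1, y, g2 y1, y2⟩ (card_le_of_le g2))] at v
  rw [← relIndex_mul_index v.1] at j
  exact (hp.dvd_mul.mp j).elim (v.2.2 p hp i) (FGS.not_dvd_index_of_sylow_le P fun w hw =>
    mem_centralizer_singleton_iff.mpr (comm_of_commutator_eq_bot cP hw z3))

end Cfsg.Agent.Isaacs
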