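import Mathlib
import Cfsg.Agent.Char.Indicator

/-! Invariant bilinear forms and the Frobenius-Schur indicator. -/

set_option autoImplicit false

open scoped ComplexConjugate ComplexOrder

namespace Cfsg.Agent.Isaacs

open Cfsg Cfsg.Agent.Char Matrix

variable {G : Type*} [Group G] {n : ℕ} (ρ : Representation ℂ G (Fin n → ℂ))

/-- the matrices of a representation on a coordinate space -/
noncomputable def mx : G →* Matrix (Fin n) (Fin n) ℂ where
  toFun g := LinearMap.toMatrix' (ρ g)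
  map_one' := by rw [map_one, LinearMap.toMatrix'_one]
  map_mul' a b := by rw [map_mul, LinearMap.toMatrix'_mul]

theorem mx_trace (g : G) : (mx ρ g).trace = ρ.character g :=
  (LinearMap.trace_eq_matrix_trace ℂ (Pi.basisFun ℂ (Fin n)) (ρ g)).symm

theorem mx_mulVec (g : G) (v : Fin n → ℂ) : mx ρ g *ᵥ v = ρ g v := LinearMap.toMatrix'_mulVec _ _

theorem mx_mul_inv (g : G) : mx ρ g * mx ρ g⁻¹ = 1 := by rw [← map_mul, mul_inv_cancel, map_one]

theorem mx_inv_mul (g : G) : mx ρ g⁻¹ * mx ρ g = 1 := by rw [← map_mul, inv_mul_cancel, map_one]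

variable {ρ} {M N : Matrix (Fin n) (Fin n) ℂ}

theorem mx_schur [ρ.IsIrreducible] (h : ∀ g, N * mx ρ g = mx ρ g * N) : ∃ c : ℂ, N = c • 1 := by
  obtain ⟨c, hc⟩ := exists_eq_smul_of_comm ρ (toLin' N) fun g => by
    rw [← toLin'_toMatrix' (ρ g), ← toLin'_mul, ← toLin'_mul]; exact congrArg _ (h g)
  exact ⟨c, toLin'.injective (by rw [hc, map_smul, toLin'_one])⟩

theorem form_move (h : ∀ g, (mx ρ g)ᵀ * M * mx ρ g = M) (g : G) : M * mx ρ g = (mx ρ g⁻¹)ᵀ * M := by
  rw [← h g⁻¹, mul_assoc, mx_inv_mul, mul_one, h]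

theorem form_unit [i : ρ.IsIrreducible] (h : ∀ g, (mx ρ g)ᵀ * M * mx ρ g = M) (h0 : M ≠ 0) : IsUnit M := by
  let U : Subrepresentation ρ := ⟨LinearMap.ker (toLin' M), fun g v hv => by
    rw [LinearMap.mem_ker, toLin'_apply] at hv ⊢
    rw [← mx_mulVec, mulVec_mulVec, form_move h, ← mulVec_mulVec, hv, mulVec_zero]⟩
  rw [← isUnit_toLin'_iff, LinearMap.isUnit_iff_ker_eq_bot]
  exact (i.eq_bot_or_eq_top U).elim (congrArg Subrepresentation.toSubmodule) fun e => absurd
    (toLin'.map_eq_zero_iff.mp (LinearMap.ker_eq_top.mp (congrArg Subrepresentation.toSubmodule e))) h0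

theorem form_smul [ρ.IsIrreducible] (h : ∀ g, (mx ρ g)ᵀ * M * mx ρ g = M) (h0 : M ≠ 0)
    (h' : ∀ g, (mx ρ g)ᵀ * N * mx ρ g = N) : ∃ c : ℂ, N = c • M := by
  obtain ⟨u, rfl⟩ := form_unit h h0
  obtain ⟨c, hc⟩ := mx_schur (ρ := ρ) (N := u⁻¹ * N) fun g => by
    rw [mul_assoc, form_move h', Units.inv_mul_eq_iff_eq_mul, ← mul_assoc, ← mul_assoc, form_move h,
      Units.mul_inv_cancel_right]
  exact ⟨c, by rw [Units.inv_mul_eq_iff_eq_mul, mul_smul_comm, mul_one] at hc; exact hc⟩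

variable [Fintype G]

/-- the averaged bilinear form -/
noncomputable def fav (ρ : Representation ℂ G (Fin n → ℂ)) (B : Matrix (Fin n) (Fin n) ℂ) :
    Matrix (Fin n) (Fin n) ℂ := ∑ x, (mx ρ x)ᵀ * B * mx ρ x

theorem form_avg (B : Matrix (Fin n) (Fin n) ℂ) (g : G) : (mx ρ g)ᵀ * fav ρ B * mx ρ g = fav ρ B := by
  rw [fav, Finset.mul_sum, Finset.sum_mul]
  exact Fintype.sum_equiv (Equiv.mulRight g) _ _ fun x => by
    simp only [Equiv.coe_mulRight, map_mul, transpose_mul, mul_assoc]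

theorem form_avg_apply (i j k l : Fin n) :
    fav ρ (single i j 1) k l = ∑ x, mx ρ x i k * mx ρ x j l := by
  rw [fav, Matrix.sum_apply]
  refine Finset.sum_congr rfl fun x _ => ?_
  simp [Matrix.mul_apply, single, Finset.sum_mul, ite_and]

theorem form_sum_one [ρ.IsIrreducible] (hr : ∀ g, (ρ.character g).im = 0) :
    ∑ i, ∑ j, fav ρ (single i j 1) i j = Nat.card G := by
  classical
  have := classInner_mul_self_one (isIrr_character ρ)
  rw [if_pos hr, classInner_one_right, inv_mul_eq_one₀ card_ne_zero] at this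
  simp only [form_avg_apply, this, Pi.mul_apply, ← mx_trace, trace, diag, Finset.sum_mul_sum]
  rw [Finset.sum_congr rfl fun i _ => Finset.sum_comm, Finset.sum_comm]

theorem form_sum_two : ∑ i, ∑ j, fav ρ (single i j 1) j i =
    Nat.card G * fsInd ρ.character := by
  rw [fsInd, mul_inv_cancel_left₀ card_ne_zero]
  simp only [form_avg_apply, ← mx_trace, trace, diag, map_mul, Matrix.mul_apply]
  rw [Finset.sum_congr rfl fun i _ => Finset.sum_comm, Finset.sum_comm]

theorem exists_form [ρ.IsIrreducible] (hr : ∀ g, (ρ.character g).im = 0) :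
    ∃ M, M ≠ 0 ∧ ∀ g, (mx ρ g)ᵀ * M * mx ρ g = M := by
  by_contra h
  push Not at h
  have := form_sum_one hr
  rw [Finset.sum_eq_zero fun i _ => Finset.sum_eq_zero fun j _ => by
    rw [not_not.mp fun e => (h _ e).elim fun g hg => hg (form_avg (single i j 1) g), Matrix.zero_apply]] at this
  exact card_ne_zero this.symm

theorem form_transpose [ρ.IsIrreducible] (hr : ∀ g, (ρ.character g).im = 0)
    (h : ∀ g, (mx ρ g)ᵀ * M * mx ρ g = M) : Mᵀ = fsInd ρ.character • M := by
  by_cases h0 : M = 0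
  · simp [h0]
  obtain ⟨ε, hε⟩ := form_smul h h0 (N := Mᵀ) fun g => by
    conv_rhs => rw [← h g, transpose_mul, transpose_mul, transpose_transpose, ← mul_assoc]
  choose c hc using fun i j => form_smul h h0 (form_avg (single i j 1))
  have h1 := form_sum_one hr
  have h2 := form_sum_two (ρ := ρ)
  simp only [hc, Matrix.smul_apply, smul_eq_mul] at h1 h2
  rw [Finset.sum_congr rfl fun i _ => Finset.sum_congr rfl fun j _ => by
    rw [← transpose_apply M, hε, Matrix.smul_apply, smul_eq_mul, mul_left_comm]] at h2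
  simp only [← Finset.mul_sum, h1] at h2
  rw [hε, mul_left_cancel₀ card_ne_zero ((mul_comm _ _).trans h2)]

theorem posDef_avg : (∑ x, (mx ρ x)ᴴ * mx ρ x).PosDef := by
  classical
  rw [← Finset.add_sum_erase _ _ (Finset.mem_univ 1), map_one, mul_one, conjTranspose_one]
  exact PosDef.one.add_posSemidef (posSemidef_sum _ fun x _ => posSemidef_conjTranspose_mul_self _)

theorem herm_avg (g : G) : (mx ρ g)ᴴ * (∑ x, (mx ρ x)ᴴ * mx ρ x) * mx ρ g = ∑ x, (mx ρ x)ᴴ * mx ρ x := by
  rw [Finset.mul_sum, Finset.sum_mul]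
  exact Fintype.sum_equiv (Equiv.mulRight g) _ _ fun x => by
    simp only [Equiv.coe_mulRight, map_mul, conjTranspose_mul, mul_assoc]

/-- entrywise complex conjugation -/
noncomputable abbrev bar : Matrix (Fin n) (Fin n) ℂ →+* Matrix (Fin n) (Fin n) ℂ := (starRingEnd ℂ).mapMatrix

theorem bar_smul (c : ℂ) : bar (c • M) = conj c • bar M := Matrix.map_smul' _ _ _ (map_mul _)

theorem bar_bar : bar (bar M) = M := Matrix.ext fun _ _ => Complex.conj_conj _

omit [Fintype G] in
theorem exists_real_of_cocycle {Q : Matrix (Fin n) (Fin n) ℂ} (h : ∀ g, Q * mx ρ g = bar (mx ρ g) * Q)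
    (h1 : bar Q * Q = 1) : ∃ Y : G →* Matrix (Fin n) (Fin n) ℝ, ∀ g, ((Y g).trace : ℂ) = ρ.character g := by
  have e1 : ∀ t : ℕ, (1 + t * Complex.I : ℂ) ≠ 0 := fun t e => by simpa using congrArg Complex.re e
  obtain ⟨_, ⟨t, rfl⟩, ht⟩ := (Set.infinite_range_of_injective (f := fun t : ℕ =>
    -(1 - t * Complex.I) / (1 + t * Complex.I)) fun a b e => by
      rw [div_eq_div_iff (e1 a) (e1 b)] at e
      have := congrArg Complex.im e
      simp at this
      exact_mod_cast (by linarith : (a : ℝ) = b)).exists_notMem_finite Q.finite_spectrum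
  obtain ⟨⟨u, v, h2, h3⟩, hu⟩ : IsUnit ((1 + t * Complex.I : ℂ) • Q + (1 - t * Complex.I : ℂ) • 1) := by
    have := (spectrum.notMem_iff.mp ht).smul (Units.mk0 _ (neg_ne_zero.mpr (e1 t)))
    convert this using 1
    rw [Units.smul_mk0, Algebra.algebraMap_eq_smul_one, smul_sub, smul_smul, neg_mul, mul_div_cancel₀ _ (e1 t)]
    module
  have e2 : bar u * Q = u := by
    rw [show u = _ from hu, map_add, bar_smul, bar_smul, map_one, add_mul, smul_mul_assoc, h1, smul_mul_assoc,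
      one_mul, add_comm]
    simp [sub_eq_add_neg]
  have e3 : ∀ g, bar (u * mx ρ g * v) = u * mx ρ g * v := fun g => by
    have : bar v = Q * v := by
      rw [← mul_one (bar v), ← h2, ← mul_assoc, ← one_mul Q, ← map_one bar, ← h3, map_mul, mul_assoc _ _ Q, e2]
    rw [map_mul, map_mul, this, mul_assoc, ← mul_assoc _ Q, ← h, ← mul_assoc, ← mul_assoc, e2]
  let r : Matrix (Fin n) (Fin n) ℝ →+* Matrix (Fin n) (Fin n) ℂ := Complex.ofRealHom.mapMatrix
  have e4 : ∀ g, r ((u * mx ρ g * v).map Complex.re) = u * mx ρ g * v := fun g => Matrix.ext fun i j =>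
    Complex.conj_eq_iff_re.mp (congrFun₂ (e3 g) i j)
  have e5 : Function.Injective r := Matrix.map_injective Complex.ofReal_injective
  refine ⟨⟨⟨fun g => (u * mx ρ g * v).map Complex.re, e5 (by rw [e4]; simpa)⟩, fun a b => e5 (by
    rw [map_mul r, e4, e4, e4, map_mul, mul_assoc _ v, ← mul_assoc v, ← mul_assoc v, h3, one_mul]
    simp only [mul_assoc])⟩, fun g => ?_⟩
  change (((u * mx ρ g * v).map Complex.re).trace : ℂ) = _
  rw [← mx_trace, show (mx ρ g).trace = (u * mx ρ g * v).trace by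
    rw [trace_mul_comm, ← mul_assoc, h3, one_mul], ← congrArg trace (e4 g)]
  simp [r, trace]

theorem exists_real [ρ.IsIrreducible] (h : fsInd ρ.character = 1) :
    ∃ Y : G →* Matrix (Fin n) (Fin n) ℝ, ∀ g, ((Y g).trace : ℂ) = ρ.character g := by
  have hr : ∀ g, (ρ.character g).im = 0 := by_contra fun e =>
    zero_ne_one ((fsInd_of_not_real (isIrr_character ρ) e).symm.trans h)
  obtain ⟨M, h0, hM⟩ := exists_form hr
  have h1 := form_transpose hr hM
  rw [h, one_smul] at h1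
  have h2 : bar M = Mᴴ := by rw [← congrArg conjTranspose h1]; rfl
  have hH := posDef_avg (ρ := ρ)
  have hH' := herm_avg (ρ := ρ)
  set H := ∑ x, (mx ρ x)ᴴ * mx ρ x
  have hu := (isUnit_iff_isUnit_det _).mp hH.transpose.isUnit
  have h3 : ∀ g, Hᵀ⁻¹ * M * mx ρ g = bar (mx ρ g) * (Hᵀ⁻¹ * M) := fun g => by
    have : (mx ρ g)ᵀ * (Hᵀ * bar (mx ρ g)) = Hᵀ := by
      have := congrArg transpose (hH' g)
      rwa [transpose_mul, transpose_mul] at this
    rw [mul_assoc, form_move hM, ← nonsing_inv_mul_cancel_left _ (bar _ * _) hu, ← mul_assoc Hᵀ,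
      show Hᵀ * bar (mx ρ g) = (mx ρ g⁻¹)ᵀ * Hᵀ by
        conv_rhs => rw [← this, ← mul_assoc, ← transpose_mul, mx_mul_inv, transpose_one, one_mul],
      mul_assoc, mul_nonsing_inv_cancel_left _ _ hu]
  obtain ⟨c, hc⟩ := mx_schur (ρ := ρ) (N := bar (Hᵀ⁻¹ * M) * (Hᵀ⁻¹ * M)) fun g => by
    have := congrArg bar (h3 g)
    rw [map_mul, map_mul bar (bar _), bar_bar] at this
    rw [mul_assoc, h3, ← mul_assoc, this, mul_assoc]
  have h4 : Mᴴ * Hᵀ⁻¹ * M = c • H := by
    have : H * bar Hᵀ⁻¹ = 1 := by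
      rw [← map_one bar, ← mul_nonsing_inv _ hu, map_mul]; congr 1; exact hH.1.symm
    rw [← mul_one H, ← mul_smul_comm, ← hc, mul_one, map_mul, ← mul_assoc, ← mul_assoc H, this, one_mul, h2,
      mul_assoc]
  obtain ⟨i, -⟩ : ∃ i j, M i j ≠ 0 := by
    by_contra! e; exact h0 (Matrix.ext e)
  have h5 : 0 < c * H i i := (h4 ▸ hH.transpose.inv.conjTranspose_mul_mul_same
    (mulVec_injective_iff_isUnit.mpr (form_unit hM h0))).diag_pos
  obtain ⟨h6, h7⟩ := Complex.pos_iff.mp ((mul_pos_iff_of_pos_right hH.diag_pos).mp h5)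
  refine exists_real_of_cocycle (Q := ((√c.re)⁻¹ : ℂ) • (Hᵀ⁻¹ * M)) (fun g => by
    rw [smul_mul_assoc, h3, mul_smul_comm]) ?_
  rw [bar_smul, smul_mul_smul_comm, hc, smul_smul, map_inv₀, Complex.conj_ofReal, ← mul_inv, ← Complex.ofReal_mul,
    Real.mul_self_sqrt h6.le, show (c.re : ℂ) = c from Complex.ext rfl h7, inv_mul_cancel₀ (by
      rintro rfl; exact h6.ne rfl), one_smul]

end Cfsg.Agent.Isaacs
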