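import Mathlib
import Cfsg.Agent.Isaacs.Blich
import Cfsg.Agent.Isaacs.FrobSchur

/-! Frobenius' commutation lemma and Jordan's theorem on finite linear groups. -/

set_option autoImplicit false

open scoped ComplexConjugate commutatorElement Pointwise

namespace Cfsg.Agent.Isaacs

open Cfsg Cfsg.Agent.Char Subgroup

variable {G : Type*} [Group G] [Finite G] {χ θ : G → ℂ} {n : ℕ} {H K : Subgroup G}

section
variable {R : Type*} [NormedRing R] [NormedAlgebra ℂ R] {u : G →* R} (h : ∀ g, ‖u g‖ ≤ 1)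
include h

omit [Finite G] [NormedAlgebra ℂ R] in
theorem norm_conj_le (a b : G) (x : R) : ‖u a * x * u b‖ ≤ ‖x‖ :=
  (norm_mul_le_of_le (norm_mul_le_of_le (h a) le_rfl) (h b)).trans_eq (by simp)

omit [Finite G] in
theorem norm_comm_le (a b : G) (α β : ℂ) :
    ‖u ⁅a, b⁆ - (1 : ℂ) • 1‖ ≤ 2 * ‖u a - α • 1‖ * ‖u b - β • 1‖ := by
  have e : u ⁅a, b⁆ - (1 : ℂ) • 1 = u 1 * ((u a - α • 1) * (u b - β • 1) - (u b - β • 1) * (u a - α • 1)) * u (b * a)⁻¹ := by
    have : u ⁅a, b⁆ - (1 : ℂ) • 1 = (u a * u b - u b * u a) * u (b * a)⁻¹ := by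
      simp only [sub_mul, ← map_mul]; simp [commutatorElement_def, mul_assoc]
    rw [this, map_one, one_mul]
    congr 1
    simp [sub_mul, mul_sub, smul_sub, smul_smul, mul_comm α]
    abel
  rw [e]
  refine (norm_conj_le h _ _ _).trans ((norm_sub_le _ _).trans ?_)
  linarith [norm_mul_le (u a - α • 1) (u b - β • 1), norm_mul_le (u b - β • 1) (u a - α • 1)]

theorem eq_one_of_comm {a b : G} {β : ℂ} (hb : ‖u b - β • 1‖ < 1 / 2) (hc : a * ⁅a, b⁆ = ⁅a, b⁆ * a) :
    u ⁅a, b⁆ = 1 := by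
  set c := ⁅a, b⁆
  have e : ∀ k : ℕ, a ^ k * b * (a ^ k)⁻¹ = c ^ k * b := fun k => by
    induction k with
    | zero => simp
    | succ k ih =>
      have : a * b * a⁻¹ = c * b := by simp [c, commutatorElement_def]
      rw [pow_succ', mul_inv_rev, show a * a ^ k * b * ((a ^ k)⁻¹ * a⁻¹) = a * (a ^ k * b * (a ^ k)⁻¹) * a⁻¹ by group, ih,
        ← mul_assoc, (Commute.pow_right hc k).eq, mul_assoc, mul_assoc, ← mul_assoc a, this, pow_succ, mul_assoc]
  have k1 : ∀ k : ℕ, ‖1 - u c ^ k‖ ≤ 2 * ‖u b - β • 1‖ := fun k => by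
    have : 1 - u c ^ k = u 1 * ((u b - β • 1) - u (a ^ k) * (u b - β • 1) * u (a ^ k)⁻¹) * u b⁻¹ := by
      simp only [mul_sub, sub_mul, mul_smul_comm, smul_mul_assoc, mul_one, ← map_mul, e, one_mul, mul_inv_cancel,
        mul_inv_cancel_right]
      simp
    rw [this]
    exact (norm_conj_le h _ _ _).trans ((norm_sub_le _ _).trans (by linarith [norm_conj_le h (a ^ k) (a ^ k)⁻¹ (u b - β • 1)]))
  have k2 : (Nat.card G : ℂ) • (u c - 1) = ∑ k ∈ Finset.range (Nat.card G), (u c - 1) * (1 - u c ^ k) := by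
    simp only [mul_sub _ (1 : R), Finset.sum_sub_distrib, ← Finset.mul_sum, mul_geom_sum]
    simp [← map_pow, Nat.cast_smul_eq_nsmul, Nat.cast_comm]
  have k3 := (congrArg norm k2).le.trans (norm_sum_le_of_le _ fun k _ => norm_mul_le_of_le le_rfl (k1 k))
  simp only [norm_smul, Complex.norm_natCast, Finset.sum_const, Finset.card_range, nsmul_eq_mul] at k3
  have := le_of_mul_le_mul_left k3 (Nat.cast_pos.mpr Nat.card_pos)
  exact sub_eq_zero.mp (norm_le_zero_iff.mp (by nlinarith [norm_nonneg (u c - 1)]))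

theorem comm_of_small (hi : Function.Injective u) {a b : G} {α β : ℂ} (ha : ‖u a - α • 1‖ < 1 / 2)
    (hb : ‖u b - β • 1‖ < 1 / 2) : a * b = b * a := by
  by_contra c
  have st : ∀ (b : G) (β : ℂ), ‖u b - β • 1‖ < 1 / 2 → a * b ≠ b * a → ‖u ⁅a, b⁆ - (1 : ℂ) • 1‖ < 1 / 2 ∧
      a * ⁅a, b⁆ ≠ ⁅a, b⁆ * a := fun b β i j =>
    ⟨(norm_comm_le h a b α β).trans_lt (by nlinarith [norm_nonneg (u a - α • 1), norm_nonneg (u b - β • 1)]), fun k =>
      j (commutatorElement_eq_one_iff_mul_comm.mp (hi ((eq_one_of_comm h i k).trans u.map_one.symm)))⟩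
  obtain ⟨x, ⟨i, j⟩, k⟩ := Set.exists_min_image {x | ‖u x - (1 : ℂ) • 1‖ < 1 / 2 ∧ a * x ≠ x * a}
    (fun x => ‖u x - (1 : ℂ) • 1‖) (Set.toFinite _) ⟨_, st b β hb c⟩
  have l := (k _ (st x 1 i j)).trans (norm_comm_le h a x α 1)
  have : ‖u x - (1 : ℂ) • 1‖ ≤ 0 := by nlinarith [norm_nonneg (u x - (1 : ℂ) • 1)]
  rw [norm_le_zero_iff, sub_eq_zero, one_smul, ← u.map_one] at this
  exact j (by simp [hi this])

end

theorem spectrum_eq_of_trace {ι κ : Type*} [Fintype ι] [DecidableEq ι] [Fintype κ] [DecidableEq κ]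
    (M : G →* Matrix ι ι ℂ) (N : G →* Matrix κ κ ℂ) (h : ∀ g, (M g).trace = (N g).trace) (g : G) :
    spectrum ℂ (M g) = spectrum ℂ (N g) := by
  obtain ⟨φ⟩ := equiv_of_character_eq (IndRep.repOfMatrix M) (IndRep.repOfMatrix N) (funext fun g => by
    rw [IndRep.character_repOfMatrix, IndRep.character_repOfMatrix, h])
  rw [← Matrix.spectrum_toLin', ← Matrix.spectrum_toLin', ← IndRep.repOfMatrix_apply, ← IndRep.repOfMatrix_apply,
    ← φ.conj_apply_self g]
  exact (AlgEquiv.spectrum_eq (φ.toLinearEquiv.conjAlgEquiv ℂ) _).symm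

open scoped Matrix MatrixOrder ComplexOrder Matrix.Norms.L2Operator in
theorem exists_unitary (h : IsCharacter G χ) : ∃ (n : ℕ) (U : G →* Matrix (Fin n) (Fin n) ℂ),
    (∀ g, U g ∈ unitary _) ∧ ∀ g, (U g).trace = χ g := by
  obtain ⟨n, ρ, rfl⟩ := h
  have := Fintype.ofFinite G
  obtain ⟨_, ⟨s, rfl⟩, e⟩ := CStarAlgebra.isStrictlyPositive_iff_eq_star_mul_self.mp (posDef_avg (ρ := ρ)).isStrictlyPositive
  refine ⟨n, ⟨⟨fun g => s * mx ρ g * s⁻¹, by simp⟩, fun a b => by simp [mul_assoc]⟩, fun g => ?_, fun g => by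
    simp [Matrix.trace_mul_cycle, mx_trace]⟩
  have k := herm_avg (ρ := ρ) g
  rw [e] at k
  refine Matrix.mem_unitaryGroup_iff'.mpr ?_
  calc _ = star (s⁻¹).1 * ((mx ρ g)ᴴ * (star s.1 * s.1) * mx ρ g) * (s⁻¹).1 := by
        simp [mul_assoc, Matrix.star_eq_conjTranspose]
    _ = star (s.1 * (s⁻¹).1) * (s.1 * (s⁻¹).1) := by rw [k, star_mul]; simp only [mul_assoc]
    _ = 1 := by simp

open scoped Matrix.Norms.L2Operator in
/-- Frobenius: elements whose eigenvalues are close to each other generate an abelian normal subgroup -/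
theorem exists_small (h : IsCharacter G χ) (hf : ∀ g, χ g = χ 1 → g = 1) : ∃ A : Subgroup G, A.Normal ∧ ⁅A, A⁆ ≤ ⊥ ∧
    ∀ (H : Subgroup G) (n : ℕ) (l : Fin n → H →* ℂˣ) (α : ℂ) (g : H), (∀ x : H, χ x = ∑ i, (l i x : ℂ)) →
      (∀ i, ‖l i g - α‖ < 1 / 2) → g.1 ∈ A := by
  obtain ⟨m, U, a, b⟩ := exists_unitary h
  have c : ∀ g, ‖U g‖ ≤ 1 := fun g => by
    rcases subsingleton_or_nontrivial (Matrix (Fin m) (Fin m) ℂ) with _ | _
    · simp [Subsingleton.elim (U g) 0]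
    · exact (CStarRing.norm_of_mem_unitary (a g)).le
  have d : Function.Injective U := (injective_iff_map_eq_one U).mpr fun g e => hf g (by rw [← b, ← b, e, map_one])
  refine ⟨closure {g | ∃ α : ℂ, ‖U g - α • 1‖ < 1 / 2}, Core.normal_of_le_normalizer (le_normalizer_closure_iff.mpr
    fun x _ g ⟨α, i⟩ => subset_closure ⟨α, (Eq.trans_le ?_ (norm_conj_le c x x⁻¹ _)).trans_lt i⟩), ?_,
    fun H n l α g e f => subset_closure ⟨α, ?_⟩⟩
  · simp [mul_sub, sub_mul, ← map_mul]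
  · rw [le_bot_iff, commutator_eq_bot_iff_le_centralizer, closure_le, centralizer_closure]
    exact fun x ⟨α, i⟩ y ⟨β, j⟩ => comm_of_small c d j i
  · rcases subsingleton_or_nontrivial (Matrix (Fin m) (Fin m) ℂ) with _ | _
    · simp [Subsingleton.elim (U g - α • 1) 0]
    have : IsStarNormal (U g - α • 1) := ⟨by
      simp [commute_iff_eq, sub_mul, mul_sub, (a g).1, (a g).2, smul_sub, smul_smul, mul_comm α]
      abel⟩
    obtain ⟨z, i, j⟩ := spectrum.exists_nnnorm_eq_spectralRadius (U g - α • 1)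
    rw [IsStarNormal.spectralRadius_eq_nnnorm, ENNReal.coe_inj] at j
    let D : H →* Matrix (Fin n) (Fin n) ℂ := ⟨⟨fun x => .diagonal fun i => l i x, by simp⟩, by simp⟩
    rw [← Algebra.algebraMap_eq_smul_one, ← spectrum.sub_singleton_eq, show U g = (U.comp H.subtype) g from rfl,
      spectrum_eq_of_trace _ D fun x => by simp [D, b, e]] at i
    obtain ⟨_, k, _, rfl, rfl⟩ := i
    obtain ⟨i, rfl⟩ := (spectrum_diagonal _).le k
    exact (congrArg NNReal.toReal j).ge.trans_lt (f i)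

theorem Chr.exists_lins (hc : ⁅H, H⁆ ≤ ⊥) (n : ℕ) : ∀ χ : G → ℂ, Chr H χ → χ 1 = n →
    ∃ l : Fin n → H →* ℂˣ, ∀ x : H, χ x = ∑ i, (l i x : ℂ) := by
  induction n with
  | zero => exact fun χ a b => ⟨Fin.elim0, fun x => by simpa using a.eqv_zero (by simpa using b) x x.2⟩
  | succ n ih =>
    intro χ a b
    obtain ⟨ψ, c, d⟩ := a.inv.exists_irr' (b ▸ Nat.cast_ne_zero.mpr n.succ_ne_zero)
    have e := c.one_of_comm fun _ i _ => comm_of_commutator_eq_bot hc i
    obtain ⟨l, f⟩ := ih _ (a.sub_constit c d) (by simp [b, e])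
    obtain ⟨μ, g⟩ := c.chr.exists_hom e
    exact ⟨Fin.cons μ l, fun x => by simp [Fin.sum_univ_succ, ← f x, ← congrFun g x]⟩

theorem norm_exp_sub_lt {t : ℝ} (h : |t| < Real.pi / 6) : ‖Complex.exp (t * Complex.I) - (√3 / 2 : ℝ)‖ < 1 / 2 := by
  have a := Real.cos_lt_cos_of_nonneg_of_le_pi (abs_nonneg t) (by linarith [Real.pi_pos]) h
  rw [Real.cos_abs, Real.cos_pi_div_six] at a
  rw [← sq_lt_sq₀ (norm_nonneg _) (by norm_num), Complex.sq_norm, Complex.normSq_apply]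
  simp only [Complex.sub_re, Complex.exp_ofReal_mul_I_re, Complex.sub_im, Complex.exp_ofReal_mul_I_im, Complex.ofReal_re,
    Complex.ofReal_im]
  nlinarith [Real.sin_sq_add_cos_sq t, Real.mul_self_sqrt (show (0 : ℝ) ≤ 3 by norm_num),
    Real.sqrt_pos.mpr (show (0 : ℝ) < 3 by norm_num)]

theorem exists_twelve : ∃ f : ℂ → Fin 12, ∀ z w : ℂ, ‖z‖ = 1 → ‖w‖ = 1 → f z = f w →
    ‖z⁻¹ * w - (√3 / 2 : ℝ)‖ < 1 / 2 := by
  have p := Real.pi_pos
  have n : ∀ z : ℂ, 0 ≤ (Real.pi - z.arg) / (Real.pi / 6) := fun z =>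
    div_nonneg (sub_nonneg.mpr z.arg_le_pi) (by positivity)
  refine ⟨fun z => ⟨⌊(Real.pi - z.arg) / (Real.pi / 6)⌋₊, (Nat.floor_lt (n z)).mpr ?_⟩, fun z w a b c => ?_⟩
  · rw [div_lt_iff₀ (by positivity)]; push_cast; linarith [z.neg_pi_lt_arg]
  have d := Nat.floor_le (n z)
  have e := Nat.lt_floor_add_one ((Real.pi - z.arg) / (Real.pi / 6))
  have f := Nat.floor_le (n w)
  have g := Nat.lt_floor_add_one ((Real.pi - w.arg) / (Real.pi / 6))
  rw [← Fin.mk.inj c] at f g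
  rw [le_div_iff₀ (by positivity)] at d f
  rw [div_lt_iff₀ (by positivity)] at e g
  have := norm_exp_sub_lt (t := w.arg - z.arg) (abs_lt.mpr ⟨by linarith, by linarith⟩)
  rwa [Complex.ofReal_sub, sub_mul, Complex.exp_sub, show Complex.exp (w.arg * Complex.I) = w by
    simpa [b] using w.norm_mul_exp_arg_mul_I, show Complex.exp (z.arg * Complex.I) = z by
    simpa [a] using z.norm_mul_exp_arg_mul_I, div_eq_inv_mul] at this

theorem jordan_ab (h : IsCharacter G χ) (hf : ∀ g, χ g = χ 1 → g = 1) (hn : χ 1 = n) : ∃ A : Subgroup G, A.Normal ∧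
    ⁅A, A⁆ ≤ ⊥ ∧ ∀ H : Subgroup G, ⁅H, H⁆ ≤ ⊥ → A.relIndex H ≤ 12 ^ n := by
  obtain ⟨A, a, b, c⟩ := exists_small h hf
  obtain ⟨f, e⟩ := exists_twelve
  refine ⟨A, a, b, fun H d => ?_⟩
  obtain ⟨l, i⟩ := Chr.exists_lins d n χ (chr_of h H) hn
  refine (Nat.card_le_card_of_injective (fun (x : H ⧸ A.subgroupOf H) j => f (l j x.out)) fun x y j => ?_).trans_eq (by simp)
  rw [← x.out_eq, ← y.out_eq]
  exact Quotient.sound (QuotientGroup.leftRel_apply.mpr (c H n l (√3 / 2 : ℝ) (x.out⁻¹ * y.out) i fun k => by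
    simpa using e _ _ (linear_norm _ _) (linear_norm _ _) (congrFun j k)))

theorem Chr.exists_factorial (hK : Group.IsNilpotent K) (n : ℕ) : ∀ χ : G → ℂ, Chr K χ → χ 1 = n →
    ∃ B, B ≤ K ∧ B.relIndex K ∣ n.factorial ∧ Ker ⁅B, B⁆ χ := by
  induction n using Nat.strong_induction_on with
  | _ n ih =>
  intro χ a b
  rcases n.eq_zero_or_pos with rfl | n0
  · have := a.eqv_zero (by simpa using b)
    exact ⟨K, le_rfl, by simp, fun x i => (this x (commutator_le_self K i)).trans this.one.symm⟩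
  obtain ⟨ψ, c, d⟩ := a.inv.exists_irr' (b ▸ Nat.cast_ne_zero.mpr n0.ne')
  obtain ⟨H, l, e, f, g, i⟩ := c.monomial hK
  have j : ψ 1 = H.relIndex K := by rw [← i.one, ind_one, g, mul_one]
  have k := a.deg_le c d b j
  obtain ⟨B, u, v, w⟩ := ih (n - H.relIndex K) (Nat.sub_lt n0 (Nat.pos_of_ne_zero fun o => c.one_ne (by simp [j, o]))) _
    (a.sub_constit c d) (by simp [b, j, k])
  set D := (H.subgroupOf K).normalCore.map K.subtype
  have d1 : D ≤ H := (map_mono (normalCore_le _)).trans (by simp)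
  have d2 : K ≤ normalizer (D : Set G) := Core.le_normalizer_map_subtype_of_normal _ _
  have d3 : D.relIndex K ∣ (H.relIndex K).factorial := by
    rw [relIndex, subgroupOf, comap_map_eq_self_of_injective K.subtype_injective, normalCore_eq_ker, index_ker, relIndex, index_eq_card, ← Nat.card_perm]
    exact card_subgroup_dvd_card _
  have d4 := ((f.chr.ker_comm g).mono (commutator_mono d1 d1)).indc ((commutator_le_self D).trans d1) e
    (Core.le_normalizer_commutator d2 d2)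
  refine ⟨D ⊓ B, inf_le_right.trans u, ?_, fun x o => ?_⟩
  · rw [← relIndex_mul_relIndex _ _ _ inf_le_right u, inf_relIndex_right]
    exact (mul_dvd_mul ((relIndex_dvd_of_norm u d2).trans d3) v).trans (Nat.factorial_mul_factorial_dvd_factorial k)
  · have := w x (commutator_mono inf_le_right inf_le_right o)
    have := (d4.congr (i.mono ((commutator_le_self D).trans (d1.trans e)))) x (commutator_mono inf_le_left inf_le_left o)
    simp_all

theorem jordan (h : IsCharacter G χ) (hf : ∀ g, χ g = χ 1 → g = 1) (hn : χ 1 = n) : ∃ A : Subgroup G, A.Normal ∧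
    ⁅A, A⁆ ≤ ⊥ ∧ A.index ≤ n.factorial * 12 ^ (n * ((n + 1).primeCounting + 1)) := by
  obtain ⟨A, a, b, c⟩ := jordan_ab h hf hn
  have F : Faith G n := ⟨χ, n, chr_top.mpr h, hn, le_rfl, hf⟩
  obtain ⟨H, d⟩ := blichfeldt n G F
  have e : ∀ B : Subgroup G, A.index ∣ A.relIndex B * B.index := fun B => by
    rw [← inf_relIndex_right, relIndex_mul_index inf_le_right]
    exact index_dvd_of_le inf_le_left
  have : ∀ p : ℕ, ∃ B : Subgroup G, ⁅B, B⁆ ≤ ⊥ ∧ (p.Prime → ∃ m, ¬ p ∣ m ∧ B.index ∣ n.factorial * m) := fun p => by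
    by_cases hp : p.Prime
    swap
    · exact ⟨⊥, by simp, fun i => absurd i hp⟩
    have := Fact.mk hp
    obtain ⟨P⟩ : Nonempty (Sylow p G) := inferInstance
    obtain ⟨B, i, j, k⟩ := Chr.exists_factorial P.isPGroup'.isNilpotent n χ (chr_of h _) hn
    exact ⟨B, fun x l => hf x (k x l), fun _ => ⟨_, P.not_dvd_index, relIndex_mul_index i ▸ mul_dvd_mul_right j _⟩⟩
  choose B f g using this
  refine ⟨A, a, b, (Nat.le_of_dvd (m := A.index) (n := n.factorial * ((∏ p ∈ (n + 2).primesBelow, A.relIndex (B p)) *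
    A.relIndex H)) (Nat.pos_of_ne_zero (by simp [n.factorial_ne_zero, Finset.prod_eq_zero_iff, relIndex, index_ne_zero_of_finite]))
    ((Nat.dvd_iff_prime_pow_dvd_dvd _ _).mpr fun p k hp i => ?_)).trans (Nat.mul_le_mul_left _ ?_)⟩
  · by_cases j : n + 1 < p
    · exact (((hp.coprime_iff_not_dvd.mpr (d.2 p hp j)).pow_left k).dvd_of_dvd_mul_right (i.trans (e H))).trans
        ((dvd_mul_left _ _).mul_left _)
    · obtain ⟨m, u, v⟩ := g p hp
      have := i.trans ((e (B p)).trans (mul_dvd_mul_left _ v))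
      rw [← mul_assoc, mul_comm _ n.factorial] at this
      exact (((hp.coprime_iff_not_dvd.mpr u).pow_left k).dvd_of_dvd_mul_right this).trans (mul_dvd_mul_left _
        ((Finset.dvd_prod_of_mem _ (Nat.mem_primesBelow.mpr ⟨by omega, hp⟩)).mul_right _))
  · rw [pow_mul, pow_succ]
    exact Nat.mul_le_mul ((Finset.prod_le_pow_card _ _ _ fun p _ => c _ (f p)).trans_eq (by
      rw [Nat.primesBelow_card_eq_primeCounting']; rfl)) (c H (F.comm fun p i j => Nat.lt_of_succ_lt (d.1 p i j)))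

end Cfsg.Agent.Isaacs
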