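import Mathlib
import Cfsg.Agent.Isaacs.Blich
import Cfsg.Agent.Transfer.SylowConj
import Cfsg.Agent.PLocal.FF7
import Cfsg.Agent.FGS.PClosed

/-! Theorems of Winter and Ito on solvable linear groups. -/

set_option autoImplicit false

open scoped ComplexConjugate commutatorElement Pointwise

namespace Cfsg.Agent.Isaacs

open Cfsg Cfsg.Agent.Char Subgroup

variable {G : Type*} [Group G] [Finite G] {A C H K L M N P T Z : Subgroup G} {θ χ ψ : G → ℂ} {p q n d : ℕ}

omit [Finite G] in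
theorem pcl_iff [Finite G] [hp : Fact p.Prime] : IsPClosed p G ↔
    ∀ x y : G, (∃ a, x ^ p ^ a = 1) → (∃ a, y ^ p ^ a = 1) → ∃ a, (x * y) ^ p ^ a = 1 := by
  refine ⟨fun h x y ⟨a, i⟩ ⟨b, j⟩ => ?_, fun h P => ?_⟩
  · obtain ⟨P⟩ : Nonempty (Sylow p G) := inferInstance
    have := h P
    have e : ∀ (x : G) a, x ^ p ^ a = 1 → x ∈ P := fun x a i =>
      ((Nat.dvd_prime_pow hp.out).mp (orderOf_dvd_of_pow_eq_one i)).elim fun _ j => FGS.mem_sylow_of_normal P j.2
    exact (P.isPGroup' ⟨_, P.1.mul_mem (e x a i) (e y b j)⟩).imp fun _ k => congrArg Subtype.val k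
  · let S : Subgroup G := ⟨⟨⟨{x | ∃ a, x ^ p ^ a = 1}, h _ _⟩, 0, by simp⟩, fun ⟨a, i⟩ => ⟨a, by simp [i]⟩⟩
    rw [← P.is_maximal' (Q := S) (fun x => x.2.imp fun _ i => Subtype.ext i)
      fun x i => (P.isPGroup' ⟨x, i⟩).imp fun _ k => congrArg Subtype.val k]
    exact ⟨fun x ⟨a, i⟩ g => ⟨a, by simp [conj_pow, i]⟩⟩

theorem pow_card_mem (hp : p.Prime) {x : G} {a : ℕ} (h : x ^ p ^ a ∈ H) : x ^ p ^ Nat.card G ∈ H := by
  obtain ⟨k, -, e⟩ := (Nat.dvd_prime_pow hp).mp (Nat.gcd_dvd_left (p ^ a) (Nat.card G))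
  have : x ^ p ^ k ∈ H := by
    rw [← e, ← zpow_natCast, Nat.gcd_eq_gcd_ab, zpow_add, zpow_mul, zpow_mul, zpow_natCast, zpow_natCast, pow_card_eq_one']
    simpa using H.zpow_mem h _
  obtain ⟨m, i⟩ := pow_dvd_pow p ((Nat.lt_pow_self hp.one_lt).le.trans
    (Nat.le_of_dvd Nat.card_pos (e ▸ Nat.gcd_dvd_right _ _)))
  exact i ▸ pow_mul x _ _ ▸ H.pow_mem this m

theorem relIndex_cent_modEq [hp : Fact p.Prime] (hP : IsPGroup p P) (hn : P ≤ normalizer (K : Set G))
    (hK : ¬ p ∣ Nat.card K) : (K ⊓ centralizer (P : Set G)).relIndex K ≡ 1 [MOD p] := by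
  have := Transfer.card_modEq_card_inf_centralizer hP hn
  rw [← Core.card_mul_relIndex (inf_le_left (b := centralizer (P : Set G)))] at this
  exact Nat.ModEq.cancel_left_of_coprime ((hp.out.coprime_iff_not_dvd.mpr fun h =>
    hK (h.trans (card_dvd_of_le inf_le_left)))) (by rwa [mul_one])

theorem Irr.sq_of_class_two (h : Irr K θ) (hl : Z ≤ K) (hc : ⁅K, K⁆ ≤ Z) (hZ : Z ≤ centralizer (K : Set G))
    (hf : ∀ z ∈ Z, θ z = θ 1 → z = 1) (hz : K ⊓ centralizer (K : Set G) ≤ Z) (hd : θ 1 = d) : d ^ 2 = Z.relIndex K :=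
  (h.sq_deg_iff hl hd (ker_bot.mono (commutator_eq_bot_iff_le_centralizer.mpr (le_centralizer_iff.mp hZ)).le)).mpr
    fun g i j => by
      obtain ⟨y, k, l⟩ : ∃ y ∈ K, y * g ≠ g * y := by
        by_contra! k
        exact j (hz ⟨i, k⟩)
      have o := hc (commutator_mem_commutator k i)
      exact h.chr.vanish_of_comm i k (h.norm_of_comm (hl o) fun x u => by
        rw [commutatorElement_eq_one_iff_mul_comm.mpr (hZ o x u)]) fun u =>
        l (commutatorElement_eq_one_iff_mul_comm.mp (hf _ o u))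

theorem coatom_pow.{u} [hp : Fact p.Prime] (G : Type u) [Group G] [Finite G] : Group.IsSolvable G → ∀ P T : Subgroup G,
    IsPGroup p P → (∀ N : Subgroup G, N.Normal → P ≤ N → N = ⊤) → IsCoatom T → ¬ p ∣ T.index →
    ∃ q, IsPrimePow q ∧ q ∣ T.index ∧ q ≡ 1 [MOD p] := by
  refine Core.induction_on_card (P := fun G _ _ => Group.IsSolvable G → ∀ P T : Subgroup G,
    IsPGroup p P → (∀ N : Subgroup G, N.Normal → P ≤ N → N = ⊤) → IsCoatom T → ¬ p ∣ T.index →
    ∃ q, IsPrimePow q ∧ q ∣ T.index ∧ q ≡ 1 [MOD p]) (fun G _ _ ih hs P T hP h hT hp' => ?_) G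
  obtain ⟨E, r, _, a, -, b, c, m⟩ := Core.exists_minimal_normal_elementary_le (⊤ : Subgroup G) inferInstance
    fun e => hT.1 (eq_top_iff.mpr (e.le.trans bot_le))
  by_cases d : E ≤ T
  · have s := QuotientGroup.mk'_surjective E
    have e : (T.map (QuotientGroup.mk' E)).index = T.index := index_map_eq _ s (by simpa using d)
    exact e ▸ ih _ (Core.card_quotient_lt E a) inferInstance _ _ (hP.map _) (fun N _ i => comap_injective s
      (h _ inferInstance (map_le_iff_le_comap.mp i))) (Core.isCoatom_map_of_ker_le s hT (by simpa using d)) (e ▸ hp')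
  have e : E ⊔ T = ⊤ := sup_comm T E ▸ hT.2 _ (left_lt_sup.mpr d)
  have f : T ⊓ E = ⊥ := (m _ (Core.normal_of_le_normalizer (e ▸ sup_le ((le_centralizer_iff.mp (inf_le_right.trans
    (le_centralizer_iff_isMulCommutative.mpr c.1))).trans (centralizer_le_normalizer _))
    (Core.le_normalizer_inf le_normalizer norm_top))) inf_le_right).resolve_right fun i => d (i.ge.trans inf_le_left)
  have g : T.index = Nat.card E := by
    rw [← relIndex_top_right, ← e, Core.relIndex_sup_eq_relIndex norm_top, ← inf_relIndex_right, f, relIndex_bot_left]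
  have := Fact.mk b
  obtain ⟨k, i⟩ := (Core.IsElementaryAbelian.isPGroup c).exists_card_eq
  have j := Core.relIndex_dvd_card' (E ⊓ centralizer (P : Set G)) E
  obtain ⟨l, -, u⟩ := (Nat.dvd_prime_pow b).mp (i ▸ j)
  refine ⟨_, u ▸ b.isPrimePow.pow fun v => hT.1 (h T ?_ ?_), g ▸ j, relIndex_cent_modEq hP norm_top (g ▸ hp')⟩
  case refine_1 =>
    rw [v, pow_zero, relIndex_eq_one] at u
    exact Core.normal_of_le_normalizer (e ▸ sup_le ((le_centralizer_iff.mp (le_top.trans (h _ inferInstance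
      (le_centralizer_iff.mp (u.trans inf_le_right))).ge)).trans (centralizer_le_normalizer _)) le_normalizer)
  case refine_2 =>
    rw [v, pow_zero, relIndex_eq_one] at u
    have := Core.normal_of_le_normalizer (e ▸ sup_le ((le_centralizer_iff.mp (le_top.trans (h _ inferInstance
      (le_centralizer_iff.mp (u.trans inf_le_right))).ge)).trans (centralizer_le_normalizer _)) le_normalizer)
    obtain ⟨a, w⟩ := hP.exists_card_eq
    exact Core.le_of_coprime_index (w ▸ (hp.out.coprime_iff_not_dvd.mpr hp').pow_left a)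

theorem winter.{u} [hp : Fact p.Prime] (G : Type u) [Group G] [Finite G] : Group.IsSolvable G → ∀ (χ : G → ℂ) (n : ℕ),
    Irr ⊤ χ → χ 1 = n → ¬ p ∣ n → (∀ q, IsPrimePow q → q ∣ n → ¬ q ^ 2 ≡ 1 [MOD p]) → ∀ x y : G, (∃ a, x ^ p ^ a = 1) →
    (∃ a, y ^ p ^ a = 1) → ∃ a, (x * y) ^ p ^ a ∈ kerS ⊤ χ := by
  refine Core.induction_on_card (P := fun G _ _ => Group.IsSolvable G → ∀ (χ : G → ℂ) (n : ℕ),
    Irr ⊤ χ → χ 1 = n → ¬ p ∣ n → (∀ q, IsPrimePow q → q ∣ n → ¬ q ^ 2 ≡ 1 [MOD p]) → ∀ x y : G, (∃ a, x ^ p ^ a = 1) →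
    (∃ a, y ^ p ^ a = 1) → ∃ a, (x * y) ^ p ^ a ∈ kerS ⊤ χ) (fun G _ _ ih hs χ n h hn hp' hq => ?_) G
  by_cases hk : kerS ⊤ χ = ⊥
  swap
  · have := Core.normal_of_le_normalizer (h.chr.normalizes_kerS norm_top h.inv)
    obtain ⟨φ, a, b⟩ := h.exists_push (QuotientGroup.mk' (kerS ⊤ χ)) (h.chr.ker_kerS.mono (by simp))
    rw [map_top_of_surjective _ (QuotientGroup.mk'_surjective _)] at a
    have c : φ 1 = χ 1 := b 1 trivial
    exact fun x y i j => (ih _ (Core.card_quotient_lt _ hk) inferInstance φ n a (c.trans hn) hp' hq x y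
      (i.imp fun _ k => congrArg (QuotientGroup.mk' _) k) (j.imp fun _ k => congrArg (QuotientGroup.mk' _) k)).imp
      fun _ k => h.chr.mem_kerS.mpr ⟨trivial, (b _ trivial).symm.trans ((a.chr.mem_kerS.mp k).2.trans c)⟩
  have hf : ∀ g, χ g = χ 1 → g = 1 := fun g i => hk.le (h.chr.mem_kerS.mpr ⟨trivial, i⟩)
  simp only [hk, mem_bot, ← pcl_iff]
  intro P
  by_contra hP
  have un : ∀ (N : Subgroup G) [N.Normal] θ, Irr N θ → inn N χ θ ≠ 0 → ∃ d : ℕ, θ 1 = d ∧ d ∣ n := fun N _ θ a b => by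
    obtain ⟨k, -, c⟩ := h.deg_dvd_rel norm_top le_top a b
    obtain ⟨d, -, e⟩ := a.deg
    exact ⟨d, e, k, by rw [← Nat.cast_inj (R := ℂ), ← hn, c, e, Nat.cast_mul, mul_comm]⟩
  have hN : ∀ N : Subgroup G, N.Normal → P ≤ N → N = ⊤ := fun N _ i => not_not.mp fun j => hP (by
    have : IsPClosed p N := pcl_iff.mpr fun x y u v => ⟨Nat.card N, Subtype.ext (hf _ ((h.chr.res le_top).inv.ker_of
      (zpowers_le.mpr (SetLike.coe_mem _)) (fun θ a b => ?_) _ (mem_zpowers _)))⟩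
    · have := Sylow.characteristic_of_normal _ (this (P.subtype i))
      have := ConjAct.normal_of_characteristic_of_normal (H := N) (K := (P.subtype i).1)
      rwa [Sylow.coe_subtype, subgroupOf_map_subtype, inf_eq_left.mpr i] at this
    obtain ⟨d, c, e⟩ := un N θ a b
    obtain ⟨k, f⟩ := ih N (Core.card_lt_of_ne_top N j) inferInstance _ d (irr_top.mpr a) c (fun g => hp' (g.trans e))
      (fun q g l => hq q g (l.trans e)) x y u v
    exact a.chr.ker_kerS.mono (zpowers_le.mpr (a.chr.mem_kerS.mpr ⟨SetLike.coe_mem _,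
      ((irr_top.mpr a).chr.mem_kerS.mp (pow_card_mem hp.out f)).2⟩)))
  obtain ⟨H, ψ, -, -, a, b, c⟩ := h.exists_prim bot_le
  rcases eq_top_or_exists_le_coatom H with rfl | ⟨T, d, e⟩
  swap
  · obtain ⟨k, -, f⟩ := a.deg
    have g : T.index ∣ n := (index_dvd_of_le e).trans ⟨k, by
      rw [← Nat.cast_inj (R := ℂ), ← hn, ← b.one, ind_one, f, relIndex_top_right, Nat.cast_mul]⟩
    obtain ⟨q, i, j, k⟩ := coatom_pow G hs P T P.isPGroup' hN d fun i => hp' (i.trans g)
    exact hq q i (j.trans g) (by simpa using k.pow 2)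
  obtain rfl : ψ = χ := eqv_top.mp (a.inv.ind_self.symm.trans b)
  have ab : ∀ (N : Subgroup G) [N.Normal], ⁅N, N⁆ ≤ ⊥ → N ≤ center G := fun N _ i x j => mem_center_iff.mpr fun g =>
    commutatorElement_eq_one_iff_mul_comm.mp (hf _ (c.scalar h bot_le le_top norm_top (ker_bot.mono i) _
      (commutator_mem_commutator trivial j)))
  obtain ⟨K, ⟨k1, k2⟩, k3⟩ := WellFoundedLT.exists_minimal (α := Subgroup G) inferInstance
    {K | K.Normal ∧ ¬ K ≤ center G} ⟨⊤, inferInstance, fun i => hP ⟨fun x j g => by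
      simpa [mem_center_iff.mp (i (mem_top x)) g] using j⟩⟩
  have k4 : ∀ (N : Subgroup G) [N.Normal], N < K → N ≤ center G := fun N _ i =>
    not_not.mp fun j => i.not_ge (k3 ⟨‹_›, j⟩ i.le)
  have k5 := k4 _ (Core.commutator_lt_of_solvable (K := K) inferInstance fun i => k2 (i.le.trans bot_le))
  have cz : center G ≤ centralizer (K : Set G) := center_le_centralizer _
  have k6 : K ⊓ centralizer (K : Set G) ≤ center G := k4 _ (lt_of_le_of_ne inf_le_left fun i =>
    k2 (ab K (commutator_eq_bot_iff_le_centralizer.mpr (i.ge.trans inf_le_right)).le))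
  obtain ⟨r, hr, k7⟩ : ∃ r, r.Prime ∧ IsPGroup r K := by
    by_contra! i
    refine k2 (Core.le_of_forall_sylow_le _ _ fun r j _ => ?_)
    have := Fact.mk j
    obtain ⟨R⟩ : Nonempty (Sylow r K) := inferInstance
    have := Core.nilpotent_of_commutator_le_centralizer (k5.trans cz)
    have := Sylow.characteristic_of_normal R inferInstance
    exact ⟨R, k4 _ (lt_of_le_of_ne (map_subtype_le _) fun l => i r j (l ▸ R.isPGroup'.map _))⟩
  have := Fact.mk hr
  obtain ⟨w, k8⟩ := k7.exists_card_eq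
  obtain ⟨θ, e, t1, -, e0, -, t2⟩ := c.homog h bot_le (le_top (a := K)) norm_top
  have t3 : ∀ z ∈ K, θ z = θ 1 → z = 1 := fun z i j => hf z (by rw [t2 z i, t2.one]; simp [j])
  obtain ⟨d, t4, t5⟩ := un K θ t1 (by rw [t1.inn_of_smul t2]; exact_mod_cast e0.ne')
  obtain ⟨s, -, rfl⟩ := (Nat.dvd_prime_pow hr).mp (k8 ▸ t1.deg_dvd t4)
  have z1 := t1.sq_of_class_two (Z := K ⊓ center G) inf_le_left (le_inf (commutator_le_self K) k5) (inf_le_right.trans cz)
    (fun z i => t3 z i.1) (le_inf inf_le_left k6) t4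
  have s0 : ¬ p ∣ Nat.card K := fun i => by
    obtain rfl := (Nat.prime_dvd_prime_iff_eq hp.out hr).mp (hp.out.dvd_of_dvd_pow (k8 ▸ i))
    rcases s with _ | s
    · exact k2 ((relIndex_eq_one.mp (z1.symm.trans (by simp))).trans inf_le_right)
    · exact hp' ((dvd_pow_self p s.succ_ne_zero).trans t5)
  have s1 := relIndex_cent_modEq P.isPGroup' (norm_top (N := K)) s0
  set C := K ⊓ centralizer (P : Set G)
  have c1 : K ⊓ center G ≤ C := inf_le_inf_left _ (center_le_centralizer _)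
  obtain ⟨η, u, v⟩ := t1.exists_under (inf_le_left : C ≤ K)
  obtain ⟨d, -, u1⟩ := u.deg
  obtain ⟨s', -, rfl⟩ := (Nat.dvd_prime_pow hr).mp (k8 ▸ (u.deg_dvd u1).trans (card_dvd_of_le inf_le_left))
  obtain ⟨o, p1⟩ := P.isPGroup'.exists_card_eq
  have z2 := u.sq_of_class_two c1 ((commutator_mono inf_le_left inf_le_left).trans (le_inf (commutator_le_self K) k5))
    (inf_le_right.trans (center_le_centralizer _)) (fun z i j => t3 z i.1 ?_) (fun z i => ⟨i.1.1, k6 ⟨i.1.1, ?_⟩⟩) u1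
  · have z3 := relIndex_mul_relIndex _ _ _ c1 (inf_le_left : C ≤ K)
    rw [← z1, ← z2] at z3
    have l : s' ≤ s := (Nat.pow_le_pow_iff_right hr.one_lt).mp (Nat.le_of_dvd (pow_pos hr.pos _)
      ((Nat.pow_dvd_pow_iff two_ne_zero).mp ⟨_, z3.symm⟩))
    have z4 : C.relIndex K = (r ^ (s - s')) ^ 2 := Nat.eq_of_mul_eq_mul_left (pow_pos (pow_pos hr.pos s') 2)
      (by rw [z3, ← mul_pow, ← pow_add, Nat.add_sub_cancel' l])
    refine hq _ (hr.isPrimePow.pow fun i => k2 ?_) ((pow_dvd_pow r (Nat.sub_le _ _)).trans t5) (z4 ▸ s1)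
    rw [i, pow_zero, one_pow, relIndex_eq_one] at z4
    exact le_centralizer_iff.mp (hN _ inferInstance (le_centralizer_iff.mp (z4.trans inf_le_right))).ge |>.trans
      (by rw [coe_top, centralizer_univ])
  · have a := zpowers_le.mpr i
    exact t1.ker_of_inn ((le_centralizer_iff.mp (a.trans (inf_le_right.trans cz))).trans (centralizer_le_normalizer _))
      (a.trans inf_le_left) ((t1.chr.res inf_le_left).over_trans (a.trans c1) u chr_one v (by
        rw [(u.chr.ker_kerS.mono (zpowers_le.mpr (u.chr.mem_kerS.mpr ⟨c1 i, j⟩))).inn_one]; exact u.one_ne)) z (mem_zpowers z)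
  · have a := Core.commutator_sup_centralizer P K norm_top (p1 ▸ (hp.out.coprime_iff_not_dvd.mpr
      s0).pow_left o) (.inr inferInstance)
    refine (le_centralizer_iff (K := C ⊓ centralizer (C : Set G))).mp (a.ge.trans (sup_le ((Core.three_subgroups
      (Z := C) ?_ ?_).trans (centralizer_le fun _ j => j.1)) (le_centralizer_iff.mp inf_le_right))) i
    · exact ((commutator_mono le_rfl inf_le_left).trans k5).trans (center_le_centralizer _)
    · exact (commutator_eq_bot_iff_le_centralizer.mpr (le_centralizer_iff.mp inf_le_right)).le.trans bot_le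

theorem winter' [hp : Fact p.Prime] (hs : Group.IsSolvable G) (h : Irr ⊤ χ) (hf : ∀ g, χ g = χ 1 → g = 1) (hn : χ 1 = n)
    (hP : ¬ IsPClosed p G) : ∃ q : ℕ, IsPrimePow q ∧ q ∣ n ∧
      ((q : ℤ) ≡ -1 [ZMOD p] ∨ (q : ℤ) ≡ 0 [ZMOD p] ∨ (q : ℤ) ≡ 1 [ZMOD p]) := by
  by_cases a : p ∣ n
  · exact ⟨p, hp.out.isPrimePow, a, .inr (.inl (by simp [Int.ModEq]))⟩
  by_contra! b
  refine hP (pcl_iff.mpr fun x y i j => (winter G hs χ n h hn a (fun q c d e => ?_) x y i j).imp fun _ k =>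
    hf _ (h.chr.mem_kerS.mp k).2)
  have : (p : ℤ) ∣ (1 - q) * (-1 - q) := by
    have := (Int.natCast_modEq_iff.mpr e).symm.dvd
    convert this using 1; push_cast; ring
  exact ((Nat.prime_iff_prime_int.mp hp.out).dvd_or_dvd this).elim (fun i => (b q c d).2.2 (Int.modEq_iff_dvd.mpr i))
    fun i => (b q c d).1 (Int.modEq_iff_dvd.mpr i)

theorem pcl_of_surj [Fact p.Prime] {Q : Type*} [Group Q] [Finite Q] (h : IsPClosed p G) {f : G →* Q}
    (hf : Function.Surjective f) : IsPClosed p Q :=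
  (inferInstance : Nonempty (Sylow p G)).elim fun P => FGS.isPClosed_of_normal (P.mapSurjective hf) ((h P).map f hf)

theorem pcl_of_solv [hp : Fact p.Prime] (hs : IsPSolvable p G)
    (h : ∀ H : Subgroup G, Group.IsSolvable H → IsPClosed p H) : IsPClosed p G := by
  refine FGS.isPClosed_of_quotient _ (Core.pCore_isPGroup p) (FGS.isPClosed_of_not_dvd fun c => ?_)
  obtain ⟨x, hx⟩ := exists_prime_orderOf_dvd_card' p c
  have a := hp.out.coprime_iff_not_dvd.mp (Core.pPrimeCore_coprime (G := G ⧸ pCore p G) p).symm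
  refine a (hx.symm.dvd.trans <| orderOf_dvd_natCard _ (PLocal.centralizer_pPrimeCore_le (Core.IsPSolvable.quotient hs _)
    (Core.pCore_quotient_pCore p) (zpowers_le.mp (le_centralizer_iff.mp (Core.le_of_forall_sylow_le _ _ fun r hr _ => ?_)))))
  have := Fact.mk hr
  obtain ⟨R, b, d⟩ := Core.exists_invariant_isSylowOf (zpowers x) (pPrimeCore p _) norm_top (by
    rw [Nat.card_zpowers, hx]; exact hp.out.coprime_iff_not_dvd.mpr a) (.inl inferInstance) r
  obtain ⟨S, rfl⟩ := b.exists_sylow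
  refine ⟨S, le_centralizer_iff.mp (zpowers_le.mpr (FGS.mem_centralizer_of_isPClosed (hx.trans (pow_one p).symm)
    (fun i => a (i.trans (card_dvd_of_le b.le))) (d (mem_zpowers x)) (pcl_of_surj (h _ (burnside_of_primes hp.out hr
      fun q hq i => ?_)) (surj_comap (QuotientGroup.mk' _) (by simp)))))⟩
  obtain ⟨j, e⟩ := (Core.pCore_isPGroup (G := G) p).exists_card_eq
  obtain ⟨k, f⟩ := b.isPGroup.exists_card_eq
  rw [Core.card_comap_mk', e] at i
  have := i.trans (mul_dvd_mul_left _ (Core.card_sup_dvd d))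
  rw [f, Nat.card_zpowers, hx, mul_left_comm, ← pow_succ] at this
  exact (hq.dvd_mul.mp this).symm.imp (fun i => (Nat.prime_dvd_prime_iff_eq hq hp.out).mp (hq.dvd_of_dvd_pow i))
    fun i => (Nat.prime_dvd_prime_iff_eq hq hr).mp (hq.dvd_of_dvd_pow i)

theorem ito_lin [hp : Fact p.Prime] (hs : IsPSolvable p G) (h : Chr ⊤ χ) (hf : ∀ g, χ g = χ 1 → g = 1) (hn : χ 1 = n)
    (hl : n + 1 ≤ p) (hP : ¬ IsPClosed p G) : n + 1 = p ∧ (∃ k, n = 2 ^ k) ∧ Irr ⊤ χ := by
  obtain ⟨H, a, b⟩ : ∃ H : Subgroup G, Group.IsSolvable H ∧ ¬ IsPClosed p H := by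
    by_contra! c
    exact hP (pcl_of_solv hs c)
  obtain ⟨ψ, d, q, c, e, f, g, i, j⟩ : ∃ (ψ : G → ℂ) (d q : ℕ), Irr H ψ ∧ inn H χ ψ ≠ 0 ∧ ψ 1 = d ∧ IsPrimePow q ∧ q ∣ d ∧
      (p ∣ q ∨ q ^ 2 ≡ 1 [MOD p]) := by
    by_contra! c
    refine b (pcl_iff.mpr fun x y u v => ⟨Nat.card H, Subtype.ext (hf _ ((h.res le_top).inv.ker_of
      (zpowers_le.mpr (SetLike.coe_mem _)) (fun θ e f => ?_) _ (mem_zpowers _)))⟩)
    obtain ⟨d, -, g⟩ := e.deg
    obtain ⟨k, i⟩ := winter H a _ d (irr_top.mpr e) g (fun i => (c θ d p e f g hp.out.isPrimePow i).1 dvd_rfl)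
      (fun q i l => (c θ d q e f g i l).2) x y u v
    exact e.chr.ker_kerS.mono (zpowers_le.mpr (e.chr.mem_kerS.mpr ⟨SetLike.coe_mem _,
      ((irr_top.mpr e).chr.mem_kerS.mp (pow_card_mem hp.out i)).2⟩))
  have k := (h.res le_top).deg_le c e hn f
  have l := Nat.le_of_dvd (Nat.pos_of_ne_zero fun z => c.one_ne (by simp [f, z])) i
  have o := g.two_le
  have : p ∣ q + 1 := by
    have := ((Nat.modEq_iff_dvd' (Nat.one_le_pow 2 q (by omega))).mp (j.resolve_left fun u =>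
      by have := Nat.le_of_dvd (by omega) u; omega).symm)
    rw [← one_pow 2, Nat.sq_sub_sq] at this
    exact (hp.out.dvd_mul.mp this).resolve_right fun u => by have := Nat.le_of_dvd (by omega) u; omega
  have := Nat.le_of_dvd (by omega) this
  obtain rfl : q = n := by omega
  obtain rfl : d = q := by omega
  refine ⟨by omega, ?_, h.irr_of_res le_top (c.congr ((h.res le_top).eqv_of_deg c e (hn.trans f.symm)).symm)⟩
  obtain ⟨r, m, u, -, rfl⟩ := (isPrimePow_nat_iff _).mp g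
  exact ⟨m, by rw [(Nat.prime_dvd_prime_iff_eq Nat.prime_two u).mp (Nat.prime_two.dvd_of_dvd_pow (n := m) (by
    have := hp.out.eq_two_or_odd; omega))]⟩

end Cfsg.Agent.Isaacs
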