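import Mathlib
import Cfsg.Agent.Isaacs.Blich
import Cfsg.Agent.Isaacs.Winter
import Cfsg.Agent.Isaacs.Jordan
import Cfsg.Agent.Char.BrauerPerm
import Cfsg.Agent.Transfer.Abelian

/-! Feit–Thompson: groups with a faithful representation of small degree (Isaacs 14.9, 14.11). -/

set_option autoImplicit false

open scoped ComplexConjugate

namespace Cfsg.Agent.Isaacs

open Cfsg Cfsg.Agent.Char Subgroup

variable {G : Type*} [Group G] [Finite G] {H K N : Subgroup G} {θ χ ψ : G → ℂ} {n : ℕ}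

theorem Irr.zero_of_fpf (hn : N ≤ normalizer (H : Set G)) (hl : H ≤ N) (h : Irr N ψ) (hk : ¬ Ker H ψ) {x : G} (hx : x ∈ N)
    (e : ∀ y ∈ H, y * x = x * y → y = 1) : ψ x = 0 :=
  have := normal_sub hn
  BrauerPerm.isIrr_eq_zero_of_fpf (H.subgroupOf N) h (by rwa [h.chr.ker_iff hl]) (g := ⟨x, hx⟩)
    fun y hy i => Subtype.ext (e y hy (congrArg Subtype.val i))

theorem Chr.split_by (h : Chr N χ) (P : (G → ℂ) → Prop) : ∃ α β, Chr N α ∧ Chr N β ∧ Eqv N χ (α + β) ∧
    (∀ ψ, Irr N ψ → inn N α ψ ≠ 0 → ∃ ψ', Eqv N ψ ψ' ∧ P ψ') ∧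
    ∀ ψ, Irr N ψ → inn N β ψ ≠ 0 → ∃ ψ', Eqv N ψ ψ' ∧ ¬ P ψ' := by
  classical
  have a : ∀ s : Finset (IrrCharacter N), Chr N (∑ ξ ∈ s, inn N χ (ez N ξ) • ez N ξ) := fun s => chr_sum _ fun ξ _ => by
    obtain ⟨k, hk⟩ := h.inn_nat (irr_ez.mpr ξ.2).chr
    rw [hk]; exact (irr_ez.mpr ξ.2).chr.smul k
  have b : ∀ (s : Finset (IrrCharacter N)) ψ, Irr N ψ → inn N (∑ ξ ∈ s, inn N χ (ez N ξ) • ez N ξ) ψ ≠ 0 →
      ∃ ξ ∈ s, Eqv N ψ (ez N ξ) := fun s ψ hψ e => by
    rw [inn_sum_left] at e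
    obtain ⟨ξ, i, j⟩ := Finset.exists_ne_zero_of_sum_ne_zero e
    rw [inn_smul_left] at j
    exact ⟨ξ, i, ((irr_ez.mpr ξ.2).eqv hψ (right_ne_zero_of_mul j)).symm⟩
  refine ⟨_, _, a (Finset.univ.filter fun ξ => P (ez N ξ)), a (Finset.univ.filter fun ξ => ¬ P (ez N ξ)), ?_,
    fun ψ i j => ?_, fun ψ i j => ?_⟩
  · rw [Finset.sum_filter_add_sum_filter_not]; exact h.inv.expand
  all_goals
    obtain ⟨ξ, u, v⟩ := b _ ψ i j
    exact ⟨_, v, (Finset.mem_filter.mp u).2⟩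

theorem Inv.eq_zero_of (h : Inv N N θ) {x : G} (hx : x ∈ N) (e : ∀ ψ, Irr N ψ → inn N θ ψ ≠ 0 → ψ x = 0) : θ x = 0 := by
  rw [h.expand x hx, Finset.sum_apply]
  refine Finset.sum_eq_zero fun ξ _ => ?_
  rw [Pi.smul_apply, smul_eq_mul, mul_eq_zero, or_iff_not_imp_left]
  exact e _ (irr_ez.mpr ξ.2)

theorem ti_sum_le {G : Type*} [Group G] [Fintype G] {N : Subgroup G} {f : G → ℝ} (hf : ∀ g, 0 ≤ f g)
    (cf : ∀ x g, f (x * g * x⁻¹) = f g) (S : Finset G) (h1 : 1 ∉ S)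
    (hTI : ∀ x, ∀ s ∈ S, x * s * x⁻¹ ∈ S → x ∈ N) : Nat.card G * ∑ s ∈ S, f s ≤ Nat.card N * (∑ g, f g - f 1) := by
  classical
  have e : ∀ x : G, ∑ s ∈ S, f s = ∑ g, if x * g * x⁻¹ ∈ S then f g else 0 := fun x => by
    rw [← Equiv.sum_comp (MulAut.conj x⁻¹).toEquiv]
    simp only [MulEquiv.toEquiv_eq_coe, EquivLike.coe_coe, MulAut.conj_apply, cf]
    simp [mul_assoc]
  rw [Nat.card_eq_fintype_card, ← Finset.card_univ, ← nsmul_eq_mul, ← Finset.sum_const, Finset.sum_congr rfl fun x _ => e x,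
    Finset.sum_comm, ← Finset.sum_erase_eq_sub (Finset.mem_univ 1), Finset.mul_sum,
    ← Finset.sum_erase _ (a := 1) (by simp [h1])]
  refine Finset.sum_le_sum fun g _ => ?_
  rw [← Finset.sum_filter, Finset.sum_const, nsmul_eq_mul]
  refine mul_le_mul_of_nonneg_right (Nat.cast_le.mpr ?_) (hf g)
  rcases (Finset.univ.filter fun x => x * g * x⁻¹ ∈ S).eq_empty_or_nonempty with h | ⟨y, hy⟩
  · simp [h]
  rw [← Nat.card_eq_finsetCard]
  refine Nat.card_le_card_of_injective (fun x => ⟨x.1 * y⁻¹, hTI _ _ (Finset.mem_filter.mp hy).2 ?_⟩) fun a b h => ?_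
  · simpa [mul_assoc] using (Finset.mem_filter.mp x.2).2
  · exact Subtype.ext (mul_right_cancel (congrArg Subtype.val h))

theorem sum_indicator_card {G : Type*} [Group G] {N K : Subgroup G} [Fintype N] [DecidablePred (· ∈ K)] (h : K ≤ N) (c : ℝ) :
    ∑ x : N, (if x.1 ∈ K then c else 0) = Nat.card K * c := by
  rw [← Finset.sum_filter, Finset.sum_const, nsmul_eq_mul, ← Core.card_subgroupOf_of_le h, ← Nat.card_eq_finsetCard]
  congr 2
  exact Nat.card_congr (Equiv.subtypeEquivRight fun x => by simp [mem_subgroupOf])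

theorem ft_deg (hab : ∀ a ∈ H, ∀ b ∈ H, a * b = b * a) (hZ : H ⊓ center G = ⊥)
    (hone : ∀ g, g ∉ center G → ∀ x, (∃ y ∈ H, y ≠ 1 ∧ y * g = g * y) →
      (∃ y ∈ H, y ≠ 1 ∧ y * (x * g * x⁻¹) = x * g * x⁻¹ * y) → x ∈ normalizer (H : Set G))
    (h : Irr ⊤ χ) (hk : ¬ Ker H χ) (hn : χ 1 = n) {a : ℕ} (ha : inn H χ (fun _ => 1) = a) :
    Nat.card H * a ^ 2 < n ^ 2 := by
  classical
  have := Fintype.ofFinite G
  let N := normalizer (H : Set G)
  have hZN : center G ≤ N := center_le_normalizer _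
  obtain ⟨α, β, hα, hβ, e, i, j⟩ := (h.chr.res (le_top (a := N))).split_by (Ker H)
  replace i : Ker H α := hα.inv.ker_of le_normalizer fun ψ u v => by
    obtain ⟨_, w, z⟩ := i ψ u v; exact z.congr (w.symm.mono le_normalizer)
  replace j : ∀ ψ, Irr N ψ → inn N β ψ ≠ 0 → ¬ Ker H ψ := fun ψ u v k => by
    obtain ⟨_, w, z⟩ := j ψ u v; exact z (k.congr (w.mono le_normalizer))
  have h0 : inn N α β = 0 := by
    by_contra c
    obtain ⟨ψ, u, v, w⟩ := hα.inv.exists_common c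
    exact j ψ u (inn_ne_comm w) (i.constit hα le_normalizer u v)
  have h1 : α 1 = a := by
    rw [← ha, (e.mono le_normalizer).inn_left, inn_add_left, i.inn_one, left_eq_add]
    by_contra c
    obtain ⟨ψ, u, v, w⟩ := hβ.inv.exists_between le_normalizer c
    exact j ψ u v (u.ker_of_inn le_rfl le_normalizer w)
  obtain ⟨k, h2⟩ := hβ.inn_nat hβ
  have h3 : 1 ≤ k := Nat.one_le_iff_ne_zero.mpr fun c => hk (i.congr fun x hx => by
    rw [c, Nat.cast_zero, inn_self_eq_zero] at h2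
    rw [e x (le_normalizer hx), Pi.add_apply, h2 x (le_normalizer hx), Pi.zero_apply, add_zero])
  obtain ⟨b, hb⟩ := hβ.deg
  have hz : ∀ z ∈ center G, ‖χ z‖ = n := fun z hz => by
    rw [h.norm_of_comm (mem_top z) fun g _ => by
      rw [commutatorElement_eq_one_iff_mul_comm.mpr (mem_center_iff.mp hz g)], hn, Complex.norm_natCast]
  have h4 : ∀ x ∈ H ⊔ center G, ‖α x‖ = a := fun x hx => by
    obtain ⟨y, hy, z, hz', rfl⟩ := (Core.mem_sup_of_le_normalizer norm_top).mp (sup_comm H _ ▸ hx)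
    rw [hα.mul_of_eq' (le_normalizer hz') (i z hz') (hZN hy)]
    have u := hα.norm_le (hZN hy)
    have v := hβ.norm_le (hZN hy)
    have w := norm_add_le (α y) (β y)
    have t : (n : ℝ) = a + b := by
      have : (n : ℂ) = a + b := hn.symm.trans (e.one.trans (by rw [Pi.add_apply, h1, hb]))
      exact_mod_cast this
    rw [← Pi.add_apply, ← e y (hZN hy), hz y hy] at w
    rw [h1, Complex.norm_natCast] at u
    rw [hb, Complex.norm_natCast] at v
    linarith
  obtain ⟨y0, hy0, hy1⟩ : ∃ y ∈ H, y ≠ 1 := by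
    by_contra! c; exact hk fun x hx => by rw [c x hx]
  let S : Finset G := Finset.univ.filter fun g => g ∉ center G ∧ ∃ y ∈ H, y ≠ 1 ∧ y * g = g * y
  have hS : ∀ g, g ∈ S ↔ g ∉ center G ∧ ∃ y ∈ H, y ≠ 1 ∧ y * g = g * y := fun g => by simp [S]
  have h5 := ti_sum_le (N := N) (f := fun g => ‖χ g‖ ^ 2) (fun g => by positivity)
    (fun x g => by rw [h.inv x trivial g trivial]) S (by simp [hS])
    fun x s u v => hone s ((hS s).mp u).1 x ((hS s).mp u).2 ((hS _).mp v).2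
  have h6 : ∑ g, ‖χ g‖ ^ 2 = Nat.card G := by
    have := classInner_self_re χ
    rw [← inn_top, h.inn_self, Complex.one_re, eq_inv_mul_iff_mul_eq₀ (by exact_mod_cast Nat.card_pos.ne'), mul_one] at this
    exact this.symm
  have h7 : ∑ s ∈ S, ‖χ s‖ ^ 2 < Nat.card N := by
    refine lt_of_mul_lt_mul_left (h5.trans_lt ?_) (Nat.cast_nonneg (Nat.card G))
    rw [h6, mul_comm (Nat.card G : ℝ)]
    exact mul_lt_mul_of_pos_left (sub_lt_self _ (pow_pos (norm_pos_iff.mpr h.one_ne) 2)) (by exact_mod_cast Nat.card_pos)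
  have h8 : ∀ x : N, (if x.1 ∈ H ⊔ center G then (a : ℝ) ^ 2 else 0) + (β x * conj (β x)).re + 2 * (α x * conj (β x)).re ≤
      (if x.1 ∈ S then ‖χ x‖ ^ 2 else 0) + if x.1 ∈ center G then (n : ℝ) ^ 2 else 0 := fun x => by
    by_cases c : ∃ y ∈ H, y ≠ 1 ∧ y * x = x * y
    · have u : ((if x.1 ∈ S then ‖χ x‖ ^ 2 else 0) + if x.1 ∈ center G then (n : ℝ) ^ 2 else 0) = ‖χ x‖ ^ 2 := by
        by_cases d : x.1 ∈ center G
        · simp [hS, d, hz _ d]
        · rw [if_pos ((hS _).mpr ⟨d, c⟩), if_neg d, add_zero]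
      have v : (if x.1 ∈ H ⊔ center G then (a : ℝ) ^ 2 else 0) ≤ ‖α x‖ ^ 2 := by
        split_ifs with d
        · rw [h4 _ d]
        · positivity
      rw [u, e x x.2, Pi.add_apply, Complex.sq_norm, Complex.normSq_add, Complex.mul_conj, Complex.ofReal_re,
        ← Complex.sq_norm (α x)]
      linarith
    · have u : β x = 0 := hβ.inv.eq_zero_of x.2 fun ψ u v => u.zero_of_fpf le_rfl le_normalizer (j ψ u v) x.2
        fun y hy w => by by_contra d; exact c ⟨y, hy, d, w⟩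
      have v : x.1 ∉ H ⊔ center G := fun hx => c ⟨y0, hy0, hy1, by
        obtain ⟨y, hy, z, hz', w⟩ := (Core.mem_sup_of_le_normalizer norm_top).mp (sup_comm H _ ▸ hx)
        rw [w, ← mul_assoc, mem_center_iff.mp hy, mul_assoc, hab _ hy0 _ hz', mul_assoc]⟩
      rw [if_neg v, u]
      simp only [map_zero, mul_zero, Complex.zero_re, add_zero]
      positivity
  have h9 := Finset.sum_le_sum fun x (_ : x ∈ Finset.univ) => h8 x
  rw [Finset.sum_add_distrib, Finset.sum_add_distrib, Finset.sum_add_distrib, sum_indicator_card hZN,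
    sum_indicator_card (sup_le le_normalizer hZN), ← Finset.mul_sum, ← Complex.re_sum, ← Complex.re_sum, ← card_mul_inn,
    ← card_mul_inn, h0, h2] at h9
  have h10 : ∑ x : N, (if x.1 ∈ S then ‖χ x‖ ^ 2 else 0) ≤ ∑ s ∈ S, ‖χ s‖ ^ 2 := by
    rw [← Finset.sum_filter, ← Finset.sum_image (s := Finset.univ.filter fun x : N => x.1 ∈ S) (g := Subtype.val)
      (f := fun s => ‖χ s‖ ^ 2) Subtype.val_injective.injOn]
    exact Finset.sum_le_sum_of_subset_of_nonneg (fun x hx => by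
      obtain ⟨y, u, rfl⟩ := Finset.mem_image.mp hx; exact (Finset.mem_filter.mp u).2) fun _ _ _ => by positivity
  have h11 : Nat.card (H ⊔ center G : Subgroup G) = Nat.card H * Nat.card (center G) :=
    Core.card_sup_of_disjoint hZN (disjoint_iff.mpr hZ)
  have h12 : (0 : ℝ) < Nat.card (center G) := by exact_mod_cast Nat.card_pos
  have h13 : (Nat.card N : ℝ) ≤ Nat.card N * k := le_mul_of_one_le_right (Nat.cast_nonneg _) (by exact_mod_cast h3)
  rw [h11, ← Nat.cast_mul, Complex.natCast_re, mul_zero, Complex.zero_re] at h9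
  push_cast at h9
  have : (Nat.card (center G) : ℝ) * (Nat.card H * a ^ 2) < Nat.card (center G) * n ^ 2 := by linarith
  exact_mod_cast lt_of_mul_lt_mul_left this h12.le

theorem ft_card (hab : ∀ a ∈ H, ∀ b ∈ H, a * b = b * a) (hZ : H ⊓ center G = ⊥)
    (hone : ∀ g, g ∉ center G → ∀ x, (∃ y ∈ H, y ≠ 1 ∧ y * g = g * y) →
      (∃ y ∈ H, y ≠ 1 ∧ y * (x * g * x⁻¹) = x * g * x⁻¹ * y) → x ∈ normalizer (H : Set G))
    (h : Irr ⊤ χ) (hn : χ 1 = n) (h1 : n ≠ 1) (hM : ∀ M : Subgroup G, M.Normal → H ≤ M → M = ⊤) :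
    Nat.card H < (1 + n) ^ 2 := by
  classical
  set s := √(Nat.card H : ℝ) with hs
  have s0 : 0 < s := Real.sqrt_pos.mpr (by exact_mod_cast Nat.card_pos)
  have key : ∀ (d : ℕ) (θ : G → ℂ) (a : ℕ), Chr ⊤ θ → θ 1 = d → inn ⊤ θ (fun _ => 1) = 0 → inn H θ (fun _ => 1) = a →
      s * a ≤ d ∧ (d ≠ 0 → s * a < d) := fun d => by
    induction d using Nat.strong_induction_on with
    | _ d ih =>
    intro θ a u v w z
    rcases eq_or_ne d 0 with rfl | d0
    · rw [((u.eqv_zero (by simpa using v)).mono le_top).inn_left, inn_zero_left] at z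
      obtain rfl : a = 0 := by exact_mod_cast z.symm
      simp
    obtain ⟨ψ, i, j⟩ := u.inv.exists_irr' (by rw [v]; exact_mod_cast d0)
    obtain ⟨e, e0, he⟩ := i.deg
    obtain ⟨b, hb⟩ := (i.chr.res (le_top (a := H))).inn_nat chr_one
    have hψ : ¬ Ker ⊤ ψ := fun c => j (by rw [(i.eqv_one c).inn_right, w])
    have k1 := ft_deg hab hZ hone i (fun c => hψ (by
      rw [← hM _ (Core.normal_of_le_normalizer (i.chr.normalizes_kerS norm_top i.inv)) (i.chr.le_kerS le_top c)]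
      exact i.chr.ker_kerS)) he hb
    have k2 : s * b < e := by
      refine lt_of_pow_lt_pow_left₀ 2 (Nat.cast_nonneg _) ?_
      rw [mul_pow, hs, Real.sq_sqrt (Nat.cast_nonneg _)]; exact_mod_cast k1
    have k3 := u.sub_constit i j
    obtain ⟨d', hd'⟩ := k3.deg
    obtain ⟨a', ha'⟩ := (k3.res (le_top (a := H))).inn_nat chr_one
    have k4 : d = d' + e := by
      have : (d : ℂ) = d' + e := by rw [← hd', ← v, ← he, Pi.sub_apply, sub_add_cancel]
      exact_mod_cast this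
    have k5 : a = a' + b := by
      have : (a : ℂ) = a' + b := by rw [← ha', ← z, ← hb, inn_sub_left, sub_add_cancel]
      exact_mod_cast this
    have := (ih d' (by omega) _ a' k3 hd' (by
      rw [inn_sub_left, w, i.inn_eq_zero irr_one fun c => hψ (Ker.congr (fun _ _ => rfl) c.symm), sub_zero]) ha').1
    have k6 : s * a < d := by rw [k4, k5]; push_cast; linarith
    exact ⟨k6.le, fun _ => k6⟩
  have c1 := h.chr.mul h.chr.cnj
  have c2 : ∀ K, inn K (χ * fun x => conj (χ x)) (fun _ => 1) = inn K χ χ := fun K => by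
    rw [inn_mul_left]; exact inn_congr (Eqv.refl _ _) fun x _ => by simp
  have c3 := c1.sub_constit irr_one (by rw [c2]; exact h.inn_self_ne)
  obtain ⟨n0, -, hn0⟩ := h.deg
  obtain ⟨m, hm⟩ := (h.chr.res (le_top (a := H))).inn_nat (h.chr.res le_top)
  have n1 : 1 < n := by
    rcases n with _ | _ | n
    · exact absurd (by simpa using hn) h.one_ne
    · exact absurd rfl h1
    · omega
  have c4 : n ≤ m := by
    obtain ⟨l, hl⟩ := Chr.exists_lins (commutator_eq_bot_of_comm hab) n χ (h.chr.res le_top) hn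
    have hl' : Eqv H χ (∑ i, ez H fun x => (l i x : ℂ)) := fun x hx => by
      rw [hl ⟨x, hx⟩, Finset.sum_apply]; simp only [ez_mem _ hx]
    have t : ∀ i, ∃ k : ℕ, 1 ≤ k ∧ inn H χ (ez H fun x => (l i x : ℂ)) = k := fun i => by
      have a := irr_ez.mpr (isIrr_linear (l i))
      obtain ⟨k, hk⟩ := (h.chr.res le_top).inn_nat a.chr
      refine ⟨k, Chr.inn_le (θ := ez H fun x => (l i x : ℂ)) (φ := χ) ?_ a.chr (by rw [a.inn_self, Nat.cast_one]) hk, hk⟩
      refine (chr_sum (Finset.univ.erase i) fun j _ => (irr_ez.mpr (isIrr_linear (l j))).chr).congr fun x hx => ?_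
      rw [Pi.sub_apply, hl' x hx, ← Finset.add_sum_erase _ _ (Finset.mem_univ i), Pi.add_apply, add_sub_cancel_left]
    choose k hk hk' using t
    rw [hl'.inn_right, inn_sum_right] at hm
    simp only [hk', ← Nat.cast_sum, Nat.cast_inj] at hm
    simpa [hm] using Finset.sum_le_sum fun i (_ : i ∈ Finset.univ) => hk i
  have c5 := (key (n ^ 2 - 1) _ (m - 1) c3 (by
    rw [Nat.cast_sub (Nat.one_le_pow _ _ (by omega))]; simp [hn, sq]) (by
    rw [inn_sub_left, c2, h.inn_self, irr_one.inn_self, sub_self]) (by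
    rw [inn_sub_left, c2, hm, irr_one.inn_self, Nat.cast_sub (by omega), Nat.cast_one])).2 (by
      have := Nat.one_lt_pow two_ne_zero n1; omega)
  rw [Nat.cast_sub (Nat.one_le_pow _ _ (by omega)), Nat.cast_sub (by omega)] at c5
  push_cast at c5
  have c6 : (n : ℝ) ≤ m := by exact_mod_cast c4
  have c7 : (1 : ℝ) < n := by exact_mod_cast n1
  have c8 : s < 1 + n := by
    refine lt_of_mul_lt_mul_right (a := (n : ℝ) - 1) ?_ (by linarith)
    nlinarith
  have := pow_lt_pow_left₀ c8 s0.le two_ne_zero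
  rw [hs, Real.sq_sqrt (Nat.cast_nonneg _)] at this
  exact_mod_cast this

theorem psolv_of_pcl {p : ℕ} [hp : Fact p.Prime] (h : IsPClosed p G) : IsPSolvable p G := by
  obtain ⟨Q⟩ : Nonempty (Sylow p G) := inferInstance
  have := h Q
  have e : ¬ p ∣ (Q : Subgroup G).index := Q.not_dvd_index
  have e' : (Nat.card (G ⧸ (Q : Subgroup G))).Coprime p := by
    rw [index_eq_card] at e
    generalize Nat.card (G ⧸ (Q : Subgroup G)) = m at e
    exact (hp.out.coprime_iff_not_dvd.mpr e).symm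
  have a := Core.isPSolvable_of_coprime e'
  have b : IsPSolvable p Q := Core.isPSolvable_of_isPGroup Q.isPGroup'
  exact Core.IsPSolvable.extension (Q : Subgroup G) b a

theorem ft_sylow.{u} {p : ℕ} [hp : Fact p.Prime] (n : ℕ) (G : Type u) [Group G] [Finite G] : Faith G n →
    ((n + 1) ^ 2 ≤ p ∨ (n + 1 < p ∧ ∀ K : Subgroup G, ¬ p ^ 2 ∣ Nat.card K → IsPClosed p K)) → IsPClosed p G := by
  refine Core.induction_on_card (P := fun G _ _ => Faith G n →
    ((n + 1) ^ 2 ≤ p ∨ (n + 1 < p ∧ ∀ K : Subgroup G, ¬ p ^ 2 ∣ Nat.card K → IsPClosed p K)) → IsPClosed p G)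
    (fun G _ _ ih h h' => ?_) G
  have ih' : ∀ H : Subgroup G, H ≠ ⊤ → IsPClosed p H := fun H a =>
    ih H (Core.card_lt_of_ne_top H a) (h.sub H) (h'.imp_right (.imp_right fun b K c =>
      have e := K.equivMapOfInjective _ H.subtype_injective
      pcl_of_surj (b _ (by rwa [← Nat.card_congr e.toEquiv])) (f := e.symm.toMonoidHom) e.symm.surjective))
  by_contra hP
  have hn : n + 1 < p := h'.elim (fun a => by
    rcases n with _ | n
    · exact hp.out.one_lt
    · nlinarith) And.left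
  have ab : ∀ (H : Subgroup G) (Q : Sylow p H), ∀ a ∈ Q, ∀ b ∈ Q, a * b = b * a := fun H Q _ a _ b =>
    comm_of_commutator_eq_bot ((h.sub H).comm fun q i j => by
      obtain ⟨k, e⟩ := Q.isPGroup'.exists_card_eq
      rw [(Nat.prime_dvd_prime_iff_eq i hp.out).mp (i.dvd_of_dvd_pow (e ▸ j))]; omega) a b
  obtain ⟨P⟩ : Nonempty (Sylow p G) := inferInstance
  have pe : ∀ (x : G), ∀ y ∈ (P : Subgroup G), ∃ k, orderOf (x * y * x⁻¹) = p ^ k := fun x y a => by
    obtain ⟨k, e⟩ := IsPGroup.iff_orderOf.mp P.isPGroup' ⟨y, a⟩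
    exact ⟨k, by rw [← e, ← orderOf_coe]; exact (MulAut.conj x).orderOf_eq y⟩
  have A : ∀ H : Subgroup G, H ≠ ⊤ → (P : Subgroup G) ≤ H → ∀ w ∈ H, (∃ k, orderOf w = p ^ k) → w ∈ (P : Subgroup G) :=
    fun H a b w c ⟨k, d⟩ => by
      have := ih' H a (P.subtype b)
      exact FGS.mem_sylow_of_normal (P.subtype b) (x := ⟨w, c⟩) (k := k) (by rw [← d, ← orderOf_coe])
  have hM : ∀ M : Subgroup G, M.Normal → (P : Subgroup G) ≤ M → M = ⊤ := fun M a b => by
    by_contra c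
    exact hP (FGS.isPClosed_of_normal P ⟨fun y i x => A M c b _ (a.conj_mem y (b i) x) (pe x y i)⟩)
  have cP : ∀ a ∈ (P : Subgroup G), ∀ b ∈ (P : Subgroup G), a * b = b * a := fun a i b j =>
    congrArg Subtype.val (ab ⊤ (P.subtype le_top) ⟨a, trivial⟩ i ⟨b, trivial⟩ j)
  obtain ⟨χ, d, a, b, c, f⟩ := h
  by_cases hc : commutator G = ⊤
  swap
  · have s2 := psolv_of_pcl (ih' _ hc)
    have s3 : IsPSolvable p (G ⧸ commutator G) :=
      Core.isPSolvable_of_solvable p (inferInstanceAs (Group.IsSolvable (Abelianization G)))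
    have := (ito_lin (Core.IsPSolvable.extension (commutator G) s2 s3) a f b (by omega) hP).1
    omega
  have := PGrp.isMulCommutative_iff_forall.mpr cP
  have hZ : (P : Subgroup G) ⊓ center G = ⊥ := by
    rw [← Transfer.inf_commutator_inf_center_eq_bot P.card_coprime_index, hc, inf_top_eq]
  have hC : ∀ g, g ∉ center G → centralizer {g} ≠ ⊤ := fun g i j =>
    i (mem_center_iff.mpr fun x => mem_centralizer_singleton_iff.mp (j.ge trivial))
  have hC' : ∀ y ∈ (P : Subgroup G), y ≠ 1 → ∀ w, w * y = y * w → (∃ k, orderOf w = p ^ k) → w ∈ (P : Subgroup G) :=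
    fun y i j w k => A _ (hC y fun e => j (hZ.le ⟨i, e⟩)) (fun x l => mem_centralizer_singleton_iff.mpr (cP _ l _ i)) w
      (mem_centralizer_singleton_iff.mpr k)
  obtain ⟨ψ, u, v, w⟩ : ∃ ψ, Irr ⊤ ψ ∧ inn ⊤ χ ψ ≠ 0 ∧ ¬ Ker ⊤ ψ := by
    by_contra! i
    exact hP (FGS.isPClosed_of_isPGroup fun x => ⟨0, by simpa using f x (a.inv.ker_of le_rfl i x trivial)⟩)
  obtain ⟨k, -, i⟩ := u.deg
  have j := (a.deg_le u v b i).trans c
  have key := ft_card cP hZ (fun g i x ⟨y, y1, y2, y3⟩ ⟨z, z1, z2, z3⟩ => ?_) u i (fun e => w (by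
    rw [← hc]; exact u.chr.ker_comm (by simp [i, e]))) hM
  · have l : Nat.card P < (n + 1) ^ 2 := key.trans_le (Nat.pow_le_pow_left (by omega) 2)
    rcases h' with e | ⟨-, e⟩
    · refine hP (FGS.isPClosed_of_not_dvd fun o => ?_)
      exact (l.trans_le e).not_ge (Nat.le_of_dvd Nat.card_pos (P.dvd_card_of_dvd_card o))
    · refine hP (pcl_of_surj (e ⊤ fun o => ?_) (f := (⊤ : Subgroup G).subtype) fun x => ⟨⟨x, trivial⟩, rfl⟩)
      rw [card_top] at o
      exact (l.trans (Nat.pow_lt_pow_left hn two_ne_zero)).not_ge (Nat.le_of_dvd Nat.card_pos (P.pow_dvd_card_of_pow_dvd_card o))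
  · have o : x⁻¹ * z * x⁻¹⁻¹ ∈ centralizer {g} := mem_centralizer_singleton_iff.mpr (by
      rw [inv_inv, ← mul_left_cancel_iff (a := x), ← mul_right_cancel_iff (a := x⁻¹)]
      simpa [mul_assoc] using z3)
    obtain ⟨Q⟩ : Nonempty (Sylow p (centralizer {g})) := inferInstance
    have := ih' _ (hC g i) Q
    have m : ∀ w (hw : w ∈ centralizer {g}), (∃ k, orderOf w = p ^ k) → ⟨w, hw⟩ ∈ Q := fun w hw ⟨k, e⟩ =>
      FGS.mem_sylow_of_normal Q (k := k) (by rw [← e, ← orderOf_coe])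
    have r := hC' y y1 y2 _ (congrArg Subtype.val (ab _ Q _ (m _ o (pe _ z z1)) _
      (m y (mem_centralizer_singleton_iff.mpr y3) (by simpa using pe 1 y y1)))) (pe _ z z1)
    refine inv_mem_iff.mp (mem_normalizer_fintype fun t ht => hC' _ r (fun e => z2 (conj_eq_one_iff.mp e)) _ ?_ (pe _ t ht))
    simp only [mul_assoc, inv_inv, mul_inv_cancel_left, mul_left_cancel_iff]
    rw [← mul_assoc, cP _ ht _ z1, mul_assoc]

end Cfsg.Agent.Isaacs
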