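import Mathlib
import Cfsg.Agent.Isaacs.FTh
import Cfsg.Agent.Isaacs.GlRel

/-! Elements at which all nonlinear characters vanish. -/

open scoped ComplexConjugate

namespace Cfsg.Agent.Isaacs
open Cfsg.Agent.Char Cfsg.Agent.Core Subgroup

variable {G : Type*} [Group G] [Finite G] {g d : G}

theorem sum_of_vanish (h : ∀ χ, Irr ⊤ χ → χ 1 ≠ 1 → χ g = 0) (hd : d ∈ commutator G) :
    ∑ χ : IrrCharacter G, χ.1 (g * d) * conj (χ.1 g) = (commutator G).index := by
  classical
  rw [← card_irr_degree_one, Nat.card_eq_fintype_card, Fintype.card_subtype, Finset.card_filter]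
  push_cast
  refine Finset.sum_congr rfl fun χ _ => ?_
  have a := irr_top.mpr χ.2
  split_ifs with e
  · rw [a.chr.mul_of_eq' trivial (a.chr.ker_comm e d hd) trivial, a.chr.mul_conj e trivial]
  · rw [h _ a e, map_zero, mul_zero]

theorem conj_of_vanish (h : ∀ χ, Irr ⊤ χ → χ 1 ≠ 1 → χ g = 0) (hd : d ∈ commutator G) : IsConj (g * d) g := by
  by_contra e
  have := sum_of_vanish h hd
  rw [sum_irr_mul_conj_of_not_isConj e] at this
  exact index_ne_zero_of_finite (Nat.cast_eq_zero.mp this.symm)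

theorem card_cent_of_vanish (h : ∀ χ, Irr ⊤ χ → χ 1 ≠ 1 → χ g = 0) :
    Nat.card (centralizer ({g} : Set G)) = (commutator G).index := by
  have := sum_of_vanish h (one_mem _)
  rw [mul_one, sum_irr_mul_conj_of_isConj (IsConj.refl g)] at this
  exact_mod_cast this

theorem eq_one_of_nat (h : ∀ χ, Irr ⊤ χ → ∃ n : ℕ, χ 1 * χ g = n) : g = 1 := by
  by_contra e
  choose f hf using fun χ : IrrCharacter G => h _ (irr_top.mpr χ.2)
  have := sum_irr_one_mul_of_ne e
  simp only [hf] at this
  norm_cast at this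
  have := (hf ⟨_, isIrr_one⟩).trans (Nat.cast_eq_zero.mpr (Finset.sum_eq_zero_iff.mp this _ (Finset.mem_univ _)))
  simp at this

end Cfsg.Agent.Isaacs
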