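import Mathlib
import Cfsg.Agent.Isaacs.RealCh
import Cfsg.Agent.Isaacs.GlRel
import Cfsg.Agent.Isaacs.CD4
import Cfsg.Agent.Isaacs.Cop
import Cfsg.Agent.Core.SylowOf

/-! Real characters of odd degree of solvable groups and Sylow 2-subgroups. -/

set_option autoImplicit false

namespace Cfsg.Agent.Isaacs

open Cfsg Cfsg.Agent.Char Cfsg.Agent.Core Subgroup
open scoped ComplexConjugate commutatorElement Pointwise

variable {G : Type*} [Group G] {H K L M N P Q T X : Subgroup G} {θ φ ψ χ η ξ μ l : G → ℂ} {p : ℕ}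

/-- real valued on a subgroup -/
def Rl (H : Subgroup G) (θ : G → ℂ) : Prop := ∀ x ∈ H, conj (θ x) = θ x

/-- degree prime to `p` -/
def PD (p : ℕ) (θ : G → ℂ) : Prop := ∃ d : ℕ, ¬ p ∣ d ∧ θ 1 = d

/-- real irreducible of odd degree -/
structure RO (H : Subgroup G) (θ : G → ℂ) : Prop where
  irr : Irr H θ
  rl : Rl H θ
  od : PD 2 θ

theorem Rl.eqv (h : Rl H θ) : Eqv H (fun x => conj (θ x)) θ := h

theorem Rl.mono (h : Rl H θ) (hl : L ≤ H) : Rl L θ := fun x i => h x (hl i)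

theorem Rl.congr (h : Rl H θ) (e : Eqv H θ φ) : Rl H φ := fun x i => by rw [← e x i]; exact h x i

theorem RO.congr (h : RO H θ) (e : Eqv H θ φ) : RO H φ := ⟨h.irr.congr e, h.rl.congr e, by unfold PD; rw [← e.one]; exact h.od⟩

theorem RO.cjg (h : RO H θ) {g : G} (hg : g ∈ normalizer (H : Set G)) : RO H (cj g θ) :=
  ⟨h.irr.cjg hg, h.rl.eqv.cjg hg, by unfold PD; rw [cj_at_one]; exact h.od⟩

theorem PD.of_mul {k : ℕ} (h : PD p χ) (hθ : Chr H θ) (e : χ 1 = k * θ 1) : PD p θ := by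
  obtain ⟨d, a, b⟩ := h
  obtain ⟨m, c⟩ := hθ.deg
  rw [b, c, ← Nat.cast_mul, Nat.cast_inj] at e
  exact ⟨m, fun i => a (e ▸ i.mul_left k), c⟩

theorem PD.mul {k : ℕ} (h : PD p θ) (hp : p.Prime) (hk : ¬ p ∣ k) (e : χ 1 = k * θ 1) : PD p χ := by
  obtain ⟨d, a, b⟩ := h
  exact ⟨k * d, hp.not_dvd_mul hk a, by rw [e, b, Nat.cast_mul]⟩

theorem pd_one (hp : p.Prime) (e : θ 1 = 1) : PD p θ := ⟨1, hp.not_dvd_one, by rw [e, Nat.cast_one]⟩

variable [Finite G]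

theorem Rl.inn_left (h : Rl H φ) (hθ : Gen H θ) (hφ : Gen H φ) : inn H (fun x => conj (θ x)) φ = inn H θ φ :=
  h.eqv.symm.inn_right.trans (hθ.inn_map _ hφ)

theorem Rl.inn_right (h : Rl H θ) (hθ : Gen H θ) (hφ : Gen H φ) : inn H θ (fun x => conj (φ x)) = inn H θ φ :=
  h.eqv.symm.inn_left.trans (hθ.inn_map _ hφ)

theorem Chr.exists_pd (d : ℕ) : ∀ θ, Chr K θ → θ 1 = d → ¬ p ∣ d → ∃ ψ, Irr K ψ ∧ inn K θ ψ ≠ 0 ∧ PD p ψ := by
  induction d using Nat.strong_induction_on with | _ d ih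
  intro θ h hd e
  obtain ⟨ψ, a, b⟩ := h.inv.exists_irr' (by rw [hd, Nat.cast_ne_zero]; rintro rfl; simp at e)
  obtain ⟨k, k0, c⟩ := a.deg
  have f := h.deg_le a b hd c
  by_cases g : p ∣ k
  · obtain ⟨η, u, v, w⟩ := ih (d - k) (by omega) _ (h.sub_constit a b) (by rw [Pi.sub_apply, hd, c, Nat.cast_sub f])
      fun i => e ((Nat.dvd_sub_iff_left f g).mp i)
    exact ⟨η, u, h.constit_sub a b u v, w⟩
  exact ⟨ψ, a, b, k, g, c⟩

theorem Chr.exists_ro (d : ℕ) : ∀ θ, Chr K θ → Rl K θ → θ 1 = d → ¬ 2 ∣ d → ∃ ψ, RO K ψ ∧ inn K θ ψ ≠ 0 := by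
  induction d using Nat.strong_induction_on with | _ d ih
  intro θ h r hd e
  obtain ⟨ψ, a, b, k, g, c⟩ := h.exists_pd d θ hd e
  by_cases s : Rl K ψ
  · exact ⟨ψ, ⟨a, s, k, g, c⟩, b⟩
  have i : inn K (θ - ψ) (fun x => conj (ψ x)) ≠ 0 := by
    rwa [inn_sub_left, r.inn_right h.gen a.gen, a.inn_eq_zero a.cnj fun j => s j.symm, sub_zero]
  have j := (h.sub_constit a b).sub_constit a.cnj i
  obtain ⟨m, o⟩ := j.deg
  have t : d = m + k + k := by
    simp only [Pi.sub_apply, hd, c, map_natCast, sub_sub, sub_eq_iff_eq_add] at o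
    exact_mod_cast o.trans (add_assoc _ _ _).symm
  obtain ⟨η, u, v⟩ := ih m (by omega) _ j (fun x i => by simp [r x i, sub_right_comm]) o (by omega)
  exact ⟨η, u, h.constit_sub a b u.irr ((h.sub_constit a b).constit_sub a.cnj i u.irr v)⟩

theorem Chr.unique_over (h : Chr K ξ) (hl : M ≤ K) (hμ : Irr M μ) (e : inn M ξ μ = 1) : ∃ χ, Irr K χ ∧ inn K ξ χ = 1 ∧
    inn M χ μ = 1 ∧ ∀ η, Irr K η → inn K ξ η ≠ 0 → inn M η μ ≠ 0 → Eqv K η χ := by
  obtain ⟨χ, a, b, c⟩ := h.inv.exists_between hl (e ▸ one_ne_zero)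
  obtain ⟨u, i⟩ := h.inn_nat a.chr
  obtain ⟨v, j⟩ := (a.chr.res hl).inn_nat hμ.chr
  have k : u * v ≤ 1 := ((h.sub_mult a).res hl).inn_le hμ.chr (by rw [inn_smul_left, i, j, Nat.cast_mul]) (e.trans Nat.cast_one.symm)
  rw [i, Nat.cast_ne_zero] at b
  rw [j, Nat.cast_ne_zero] at c
  obtain ⟨rfl, rfl⟩ := mul_eq_one.mp (k.antisymm (Nat.pos_of_ne_zero (mul_ne_zero b c)))
  rw [Nat.cast_one] at i j
  refine ⟨χ, a, i, j, fun η s t w => by_contra fun o => (h.sub_constit a (i ▸ one_ne_zero)).over_trans hl s hμ.chr ?_ w ?_⟩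
  · rwa [inn_sub_left, a.inn_eq_zero s fun r => o r.symm, sub_zero]
  rw [inn_sub_left, e, j, sub_self]

theorem rl_iff_pw (h : Gen H θ) : Eqv H (pw (Nat.card G - 1) θ) θ ↔ Rl H θ := forall₂_congr fun x j => by
  rw [← h.apply_inv j, pw, eq_inv_of_mul_eq_one_left (by
    rw [← pow_succ, Nat.sub_add_cancel Nat.card_pos, pow_card_eq_one'] : x ^ (Nat.card G - 1) * x = 1)]

theorem cop_pred : (Nat.card G - 1).Coprime (Nat.card G) := by
  nth_rw 2 [← Nat.sub_add_cancel (Nat.card_pos (α := G))]; simp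

theorem sq_pred : (Nat.card G - 1) ^ 2 ^ 1 ≡ 1 [MOD Nat.card G] := by
  have a : (Nat.card G - 1 + 1) = Nat.card G := Nat.sub_add_cancel Nat.card_pos
  generalize Nat.card G - 1 = m at a
  rw [← a]
  exact Nat.ModEq.add_right_cancel' ((m + 1) * 2) (by
    rw [show m ^ 2 ^ 1 + (m + 1) * 2 = 1 + (m + 1) * (m + 1) by ring]; simp [Nat.ModEq])

theorem Irr.rl_under (h : Irr K χ) (r : Rl K χ) (hn : K ≤ normalizer (L : Set G)) (hl : L ≤ K) (ho : ¬ 2 ∣ L.relIndex K)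
    (hθ : Irr L θ) (e : inn L χ θ ≠ 0) : Rl L θ :=
  (rl_iff_pw hθ.gen).mp (h.fix_under cop_pred Nat.prime_two sq_pred hn hl ho ((rl_iff_pw h.gen).mpr r) hθ e)

theorem Irr.pd_under (h : Irr K χ) (r : PD p χ) (hn : K ≤ normalizer (L : Set G)) (hl : L ≤ K)
    (hθ : Irr L θ) (e : inn L χ θ ≠ 0) : PD p θ :=
  have ⟨_, _, b⟩ := h.deg_dvd_rel hn hl hθ e; r.of_mul hθ.chr b

theorem Irr.pd_over (h : Irr K χ) (hp : p.Prime) (hn : K ≤ normalizer (L : Set G)) (hl : L ≤ K) (ho : ¬ p ∣ L.relIndex K)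
    (hθ : Irr L θ) (e : inn L χ θ ≠ 0) (r : PD p θ) : PD p χ :=
  have ⟨_, a, b⟩ := h.deg_dvd_rel hn hl hθ e; r.mul hp (fun i => ho (i.trans a)) b

theorem RO.under (h : RO K χ) (hn : K ≤ normalizer (L : Set G)) (hl : L ≤ K) (ho : ¬ 2 ∣ L.relIndex K)
    (hθ : Irr L θ) (e : inn L χ θ ≠ 0) : RO L θ :=
  ⟨hθ, h.irr.rl_under h.rl hn hl ho hθ e, h.irr.pd_under h.od hn hl hθ e⟩

theorem Irr.res_of_pd (h : Irr K χ) (hp : p.Prime) (r : PD p χ) (hn : K ≤ normalizer (L : Set G)) (hl : L ≤ K) {k : ℕ}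
    (e : L.relIndex K = p ^ k) : Irr L χ :=
  have ⟨_, a, b⟩ := r; h.res_of_coprime hn hl b (e ▸ ((hp.coprime_iff_not_dvd.mpr a).symm.pow_right k))

theorem Irr.rl_over (h : Irr N φ) (hr : Rl N φ) (hn : K ≤ normalizer (N : Set G)) (hl : N ≤ K) (ho : ¬ 2 ∣ N.relIndex K) :
    ∃ χ, Irr K χ ∧ inn N χ φ = 1 ∧ Rl K χ ∧ ∀ η, Irr K η → inn N η φ ≠ 0 → Rl K η → Eqv K η χ := by
  have := normal_sub hn
  have a : (Nat.card G - 1 + 1) = Nat.card G := Nat.sub_add_cancel Nat.card_pos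
  have s : SolvMod N K := solvMod_of_quot' (S0205.result (Nat.odd_iff.mpr (Nat.two_dvd_ne_zero.mp ho)))
  have l : N ≤ stab N φ ⊓ K := le_inf h.inv.le_stab hl
  have o := Nat.odd_iff.mpr (Nat.two_dvd_ne_zero.mp ho)
  obtain ⟨ψ, u1, u2, u3, u4, -⟩ := h.fix_over cop_pred sq_pred (fun _ _ _ i => a ▸ i) _ l (inf_le_right.trans hn)
    (s.mono le_rfl inf_le_right) (o.of_dvd_nat (relIndex_dvd_of_norm inf_le_right hn)) ((rl_iff_pw h.gen).mpr hr)
  obtain ⟨χ, -, -, -, -, v⟩ := h.fix_over cop_pred sq_pred (fun _ _ _ i => a ▸ i) K hl hn s o ((rl_iff_pw h.gen).mpr hr)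
  have w := h.ind_of_stab hn l inf_le_right le_rfl u1 u2
  have y := (h.inn_ind_stab hn l inf_le_right rfl u1 u2).trans
    ((u4 (inv_stab.mono inf_le_left le_rfl)).inn_left.trans h.inn_self)
  have z : Rl K (ind (stab N φ ⊓ K) K ψ) := fun x _ => by
    rw [← congrFun (ind_map (starRingEnd ℂ)) x, ind_congr ((rl_iff_pw u1.gen).mp u3).eqv]
  exact ⟨_, w, y, z, fun η i j k => (v η i j ((rl_iff_pw i.gen).mpr k)).trans
    (v _ w (y ▸ one_ne_zero) ((rl_iff_pw w.gen).mpr z)).symm⟩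

/-- The relation between the real linear characters of `P` and the real odd-degree characters of `X`. -/
structure RS (X P : Subgroup G) : Prop where
  ex : ∀ l, Irr P l → l 1 = 1 → Rl P l → ∃ χ, RO X χ ∧ inn P χ l = 1 ∧ ∀ η, RO X η → inn P η l ≠ 0 → Eqv X η χ
  rl : ∀ χ l, RO X χ → Irr P l → l 1 = 1 → inn P χ l ≠ 0 → Rl P l
  cn : ∀ χ l m, RO X χ → Irr P l → l 1 = 1 → inn P χ l ≠ 0 → Irr P m → m 1 = 1 → inn P χ m ≠ 0 →
    ∃ n ∈ X ⊓ normalizer (P : Set G), Eqv P m (cj n l)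

theorem RS.odd (h : RS M P) (hP : IsSylowOf 2 P M) (hl : M ≤ X) (hn : X ≤ normalizer (M : Set G))
    (ho : ¬ 2 ∣ M.relIndex X) : RS X P where
  ex l a b c := by
    obtain ⟨μ, d, e, f⟩ := h.ex l a b c
    obtain ⟨χ, u, v, w, y⟩ := d.irr.rl_over d.rl hn hl ho
    have r : RO X χ := ⟨u, w, u.pd_over Nat.prime_two hn hl ho d.irr (v ▸ one_ne_zero) d.od⟩
    have s := (u.chr.res hl).sub_constit d.irr (v ▸ one_ne_zero)
    refine ⟨χ, r, by_contra fun i => ?_, fun η i j => ?_⟩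
    · obtain ⟨ψ, j, k, o⟩ := s.inv.exists_between hP.le (θ := l) (by rwa [inn_sub_left, e, sub_ne_zero])
      rw [(f ψ (r.under hn hl ho j ((u.chr.res hl).constit_sub d.irr (v ▸ one_ne_zero) j k)) o).inn_right, inn_sub_left, v,
        d.irr.inn_self, sub_self] at k
      exact k rfl
    obtain ⟨ψ, k, o, t⟩ := (i.irr.inv.mono hl hl).exists_between hP.le j
    exact y η i.irr ((f ψ (i.under hn hl ho k o) t).inn_right ▸ o) i.rl
  rl χ l a b c d :=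
    have ⟨ψ, k, o, t⟩ := (a.irr.inv.mono hl hl).exists_between hP.le d
    h.rl ψ l (a.under hn hl ho k o) b c t
  cn χ l m a b c d e f g := by
    obtain ⟨ψ, k, o, t⟩ := (a.irr.inv.mono hl hl).exists_between hP.le d
    obtain ⟨φ, k', o', t'⟩ := (a.irr.inv.mono hl hl).exists_between hP.le g
    obtain ⟨x, i, j⟩ := a.irr.exists_cj hn hl k k' o o'
    obtain ⟨y, u, v⟩ := hP.exists_mul_normalizer (hn i)
    have w : Eqv M φ (cj (y⁻¹ * x) ψ) := j.trans (by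
      simpa [cj_cj] using (inv_iff_eqv.mp k.inv y u).cjg (mul_mem (inv_mem (le_normalizer u)) (hn i)))
    obtain ⟨n, r, s⟩ := h.cn φ (cj (y⁻¹ * x) l) m (a.under hn hl ho k' o') (b.cjg v) ((cj_at_one _).trans c)
      (by rwa [(w.mono hP.le).inn_left, inn_cj v]) e f t'
    exact ⟨y⁻¹ * x * n, ⟨X.mul_mem (X.mul_mem (X.inv_mem (hl u)) i) (hl r.1), mul_mem v r.2⟩, cj_cj (θ := l) _ _ ▸ s⟩

theorem exists_ext_lin (hn : P ≤ normalizer (M : Set G)) (hψ : Irr P ψ) (hμ : Irr M μ) (hi : Inv P M μ)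
    (e : inn (P ⊓ M) μ ψ = 1) : ∃ χ, Irr (M ⊔ P) χ ∧ inn P χ ψ = 1 ∧ Eqv M χ μ ∧
      ∀ η, Irr (M ⊔ P) η → inn P η ψ ≠ 0 → inn M η μ ≠ 0 → Eqv (M ⊔ P) η χ := by
  obtain ⟨χ, a, b, c, d⟩ := (hψ.chr.indc le_sup_right).unique_over le_sup_left hμ (by
    rw [(ind_res_sup hψ.inv hn).inn_left, ← ind_inf, inn_ind_left inf_le_right hμ.inv, ← inn_conj, e, map_one])
  rw [inn_ind_left le_sup_right a.inv] at b
  refine ⟨χ, a, by rw [← inn_conj, b, map_one], ?_, fun η i j => d η i (by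
    rw [inn_ind_left le_sup_right i.inv]; exact inn_ne_comm j)⟩
  simpa [c] using a.res_smul (sup_le le_normalizer hn) le_sup_left hμ (hμ.inv.sup hi le_normalizer hn) (c ▸ one_ne_zero)

theorem RS.even (h : RS M (P ⊓ M)) (hP : IsSylowOf 2 P (M ⊔ P)) (hn : P ≤ normalizer (M : Set G)) : RS (M ⊔ P) P := by
  have hX : M ⊔ P ≤ normalizer (M : Set G) := sup_le le_normalizer hn
  have hQ : P ≤ normalizer ((P ⊓ M : Subgroup G) : Set G) := le_normalizer_inf le_normalizer hn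
  have q : ∀ {l}, Irr P l → l 1 = 1 → Irr (P ⊓ M) l := fun a b => (a.chr.res inf_le_left).irr_of_one b
  obtain ⟨k, hk⟩ := relIndex_eq_pow Nat.prime_two hn fun x i => have ⟨k, j⟩ := hP.isPGroup ⟨x, i⟩
    ⟨k, (show x ^ 2 ^ k = 1 from congrArg Subtype.val j).symm ▸ one_mem M⟩
  rw [← relIndex_sup_of_le_normalizer hn] at hk
  have r : ∀ {χ}, RO (M ⊔ P) χ → RO M χ := fun a =>
    ⟨a.irr.res_of_pd Nat.prime_two a.od hX le_sup_left hk, a.rl.mono le_sup_left, a.od⟩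
  have s : ∀ {χ l}, RO (M ⊔ P) χ → Irr P l → l 1 = 1 → inn P χ l ≠ 0 → inn (P ⊓ M) χ l ≠ 0 := fun a b c d =>
    (a.irr.chr.res le_sup_right).over_trans inf_le_left b (q b c).chr d (q b c).inn_self_ne
  have t : ∀ {χ l m}, RO (M ⊔ P) χ → Irr P l → l 1 = 1 → inn P χ l ≠ 0 → Irr P m → inn P χ m ≠ 0 →
      Eqv (P ⊓ M) m l → Eqv P m l := fun a b c d e f g => by
    obtain ⟨μ, -, v, w⟩ := h.ex _ (q b c) c (h.rl _ _ (r a) (q b c) c (s a b c d))
    obtain ⟨ψ, -, -, -, y⟩ := (a.irr.chr.res le_sup_right).unique_over inf_le_left (q b c)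
      (((w _ (r a) (s a b c d)).mono inf_le_right).inn_left.trans v)
    exact (y _ e f (g.inn_left ▸ (q b c).inn_self_ne)).trans (y _ b d (q b c).inn_self_ne).symm
  refine ⟨fun l a b c => ?_, fun χ l a b c d => t a b c d b.cnj (by
    rwa [(a.rl.mono le_sup_right).inn_right (a.irr.gen.res le_sup_right) b.gen]) (h.rl _ _ (r a) (q b c) c (s a b c d)),
    fun χ l m a b c d e f g => ?_⟩
  · obtain ⟨μ, u, v, w⟩ := h.ex _ (q a b) b (c.mono inf_le_left)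
    obtain ⟨χ, d, e, f, g⟩ := exists_ext_lin hn a u.irr (inv_iff_eqv.mpr fun x i => w _ (u.cjg (hn i)) (by
      rw [← ((inv_iff_eqv.mp a.inv x i).mono inf_le_left).inn_right, inn_cj (hQ i), v]; exact one_ne_zero)) v
    refine ⟨χ, ⟨d, g _ d.cnj ?_ ?_, by unfold PD; rw [f.one]; exact u.od⟩, e, fun η i j => g η i.irr j ?_⟩
    · rw [c.inn_left (d.gen.res le_sup_right) a.gen, e]; exact one_ne_zero
    · rw [u.rl.inn_left (d.gen.res le_sup_left) u.irr.gen, f.inn_left]; exact u.irr.inn_self_ne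
    rw [(w η (r i) (s i a b j)).inn_left]; exact u.irr.inn_self_ne
  obtain ⟨n, i, j⟩ := h.cn χ l m (r a) (q b c) c (s a b c d) (q e f) f (s a e f g)
  have u : P ≤ stab (P ⊓ M) m ⊓ (M ⊔ P) := le_inf ((le_stab hQ).mpr (e.inv.mono le_rfl inf_le_left)) le_sup_right
  have v := hP.conj_of_mem_normalizer (le_normalizer (inv_mem (mem_sup_left i.1)))
  obtain ⟨z, w, y⟩ := (v.of_le (le_inf (conj_smul_le_iff.mpr fun x o => by
    rw [stab_congr j, mem_stab_cj i.2]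
    simpa [mul_assoc] using (le_stab hQ).mpr (b.inv.mono le_rfl inf_le_left) o) v.le) inf_le_right).exists_conj_eq
      (hP.of_le u inf_le_right)
  rw [smul_smul, ← map_mul, conj_smul_eq_iff_mem_normalizer] at y
  have o : n * z⁻¹ ∈ normalizer (P : Set G) := by simpa using inv_mem y
  have x := mul_mem (mem_sup_left i.1 : n ∈ M ⊔ P) ((M ⊔ P).inv_mem w.2)
  refine ⟨_, ⟨x, o⟩, (t a e f g (b.cjg o) (by rwa [(a.irr.inv.mono le_rfl le_sup_right).inn_cj o x]) ?_).symm⟩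
  rw [← cj_cj]
  exact (j.symm.cjg (inv_mem w.1.1)).trans ((stab _ m).inv_mem w.1).2

theorem rs_of_solv (X : Subgroup G) (hs : Group.IsSolvable X) : ∀ P, IsSylowOf 2 P X → RS X P := by
  induction X using WellFoundedLT.induction with | _ X ih
  intro P hP
  rcases eq_or_ne X ⊥ with rfl | e
  · obtain rfl := le_bot_iff.mp hP.le
    exact ⟨fun l a b c => ⟨l, ⟨a, c, pd_one Nat.prime_two b⟩, a.inn_self, fun η i => i.irr.eqv a⟩,
      fun χ l a b _ d => a.rl.congr (a.irr.eqv b d), fun χ l m a b _ d e _ g =>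
        ⟨1, one_mem _, by rw [cj_one]; exact (a.irr.eqv e g).symm.trans (a.irr.eqv b d)⟩⟩
  obtain ⟨M, -, a, b, c⟩ := (solvMod_of_solv hs).exists_prime (bot_lt_iff_ne_bot.mpr e) norm_top
  have n := norm_of_comm_le a.le b
  by_cases d : 2 ∣ M.relIndex X
  · have f := hP.sup_eq_of_relIndex_eq_pow a.le (n := 1) (((Nat.prime_dvd_prime_iff_eq Nat.prime_two c).mp d).symm)
    exact f ▸ (ih M a (solvable_of_le a.le hs) _ (hP.inf_of_normal a.le (hP.le.trans n))).even (f.symm ▸ hP) (hP.le.trans n)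
  have f := hP.of_le (fun x i => have ⟨k, j⟩ := hP.isPGroup ⟨x, i⟩; le_of_normal_sylow Nat.prime_two n d (hP.le i) (k := k)
    ((show x ^ 2 ^ k = 1 from congrArg Subtype.val j).symm ▸ one_mem M)) a.le
  exact (ih M a (solvable_of_le a.le hs) P f).odd f a.le n d

theorem relIndex_sup_pow (hp : p.Prime) (hP : IsPGroup p P) (hn : P ≤ normalizer (M : Set G)) :
    ∃ k, M.relIndex (M ⊔ P) = p ^ k := by
  rw [relIndex_sup_of_le_normalizer hn]
  exact relIndex_eq_pow hp hn fun x i => have ⟨k, j⟩ := hP ⟨x, i⟩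
    ⟨k, (show x ^ p ^ k = 1 from congrArg Subtype.val j).symm ▸ one_mem M⟩

theorem Irr.one_of_pd (h : Irr P l) (hp : p.Prime) (hP : IsPGroup p P) (e : PD p l) : l 1 = 1 :=
  have ⟨_, a⟩ := relIndex_sup_pow (M := ⊥) hp hP norm_top
  (irr_bot_iff (h.chr.res bot_le)).mp (h.res_of_pd hp e norm_top bot_le (bot_sup_eq P ▸ a))

theorem RO.exists_lin (h : RO X χ) (hP : IsSylowOf 2 P X) : ∃ l, Irr P l ∧ l 1 = 1 ∧ Rl P l ∧ inn P χ l ≠ 0 :=
  have ⟨d, a, b⟩ := h.od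
  have ⟨l, c, e⟩ := (h.irr.chr.res hP.le).exists_ro d χ (h.rl.mono hP.le) b a
  ⟨l, c.irr, c.irr.one_of_pd Nat.prime_two hP.isPGroup c.od, c.rl, e⟩

theorem RS.unique (h : RS X P) (a : RO X χ) (b : RO X η) (hl : Irr P l) (h1 : l 1 = 1) (c : inn P χ l ≠ 0)
    (d : inn P η l ≠ 0) : Eqv X χ η :=
  have ⟨_, _, _, e⟩ := h.ex l hl h1 (h.rl χ l a hl h1 c); (e χ a c).trans (e η b d).symm

theorem card_ro {Y : Subgroup G} (h : RS X P) (h' : RS Y P) (hX : IsSylowOf 2 P X) (hY : IsSylowOf 2 P Y)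
    (e : X ⊓ normalizer (P : Set G) = Y ⊓ normalizer (P : Set G)) :
    Nat.card {χ : IrrCharacter X // RO X (ez X χ)} = Nat.card {χ : IrrCharacter Y // RO Y (ez Y χ)} := by
  have a : ∀ {X Y : Subgroup G}, RS Y P → IsSylowOf 2 P X → P ≤ Y → ∀ χ, RO X χ → ∃ ψ : {χ : IrrCharacter Y // RO Y (ez Y χ)},
      ∃ l, Irr P l ∧ l 1 = 1 ∧ inn P χ l ≠ 0 ∧ inn P (ez Y ψ.1) l ≠ 0 := fun h hX hY χ i => by
    obtain ⟨l, a, b, c, d⟩ := i.exists_lin hX
    obtain ⟨ψ, u, v, -⟩ := h.ex l a b c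
    exact ⟨⟨⟨_, u.irr⟩, u.congr eqv_ez.symm⟩, l, a, b, d, ((eqv_ez.mono hY).inn_left.trans v).trans_ne one_ne_zero⟩
  have b : ∀ {X Y : Subgroup G}, RS X P → RS Y P → P ≤ Y → X ⊓ normalizer (P : Set G) ≤ Y → ∀ χ l m, RO X χ →
      ∀ ψ φ : {χ : IrrCharacter Y // RO Y (ez Y χ)}, Irr P l ∧ l 1 = 1 ∧ inn P χ l ≠ 0 ∧ inn P (ez Y ψ.1) l ≠ 0 →
        Irr P m ∧ m 1 = 1 ∧ inn P χ m ≠ 0 ∧ inn P (ez Y φ.1) m ≠ 0 → ψ = φ :=
    fun h h' hY e χ l m i ψ φ ⟨a, b, c, d⟩ ⟨u, v, w, y⟩ => by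
      obtain ⟨n, j, k⟩ := h.cn χ l m i a b c u v w
      exact Subtype.ext (irr_ez_eq (h'.unique ψ.2 φ.2 u v (by
        rwa [k.inn_right, (ψ.2.irr.inv.mono le_rfl hY).inn_cj j.2 (e j)]) y))
  exact card_eq_of_rel (fun χ ψ => ∃ l, Irr P l ∧ l 1 = 1 ∧ inn P (ez X χ.1) l ≠ 0 ∧ inn P (ez Y ψ.1) l ≠ 0)
    (fun χ => a h' hX hY.le _ χ.2) (fun ψ => (a h hY hX.le _ ψ.2).imp fun _ ⟨l, u, v, w, y⟩ => ⟨l, u, v, y, w⟩)
    (fun χ ψ φ ⟨l, i⟩ ⟨m, j⟩ => b h h' hY.le (e.le.trans inf_le_left) _ l m χ.2 ψ φ i j)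
    fun ψ φ χ ⟨l, u, v, w, y⟩ ⟨m, u', v', w', y'⟩ => b h' h hX.le (e.ge.trans inf_le_left) _ l m χ.2 ψ φ ⟨u, v, y, w⟩
      ⟨u', v', y', w'⟩

omit [Finite G] in
theorem inf_eq_of_odd (hp : p.Prime) (hP : IsPGroup p P) (hn : M ≤ normalizer (L : Set G)) (hn' : P ≤ normalizer (L : Set G))
    (hl : L ≤ M) (ho : ¬ p ∣ L.relIndex M) : (L ⊔ P) ⊓ M = L := by
  refine le_antisymm (fun x i => ?_) (le_inf le_sup_left hl)
  obtain ⟨a, u, b, v, rfl⟩ := (mem_sup_of_le_normalizer hn').mp i.1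
  obtain ⟨k, j⟩ := hP ⟨b, v⟩
  exact mul_mem u (le_of_normal_sylow hp hn ho ((mul_mem_cancel_left (hl u)).mp i.2) (k := k)
    ((show b ^ p ^ k = 1 from congrArg Subtype.val j).symm ▸ one_mem L))

theorem mem_of_comm [Fact p.Prime] (hP : IsSylowOf p P ⊤) [L.Normal] {k : G} (h : ∀ x ∈ P, x * k * x⁻¹ * k⁻¹ ∈ L) :
    k ∈ L ⊔ normalizer (P : Set G) := by
  obtain ⟨y, a, b⟩ := ((hP.conj_of_mem_normalizer (g := k) (norm_top (A := ⊤) trivial)).of_le (conj_smul_le_iff.mpr fun x i => by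
    simpa [mul_assoc] using mul_mem (mem_sup_right i : x ∈ L ⊔ P) (mem_sup_left (h _ (inv_mem i)))) le_top).exists_conj_eq
      (hP.of_le le_sup_right le_top)
  rw [smul_smul, ← map_mul, conj_smul_eq_iff_mem_normalizer] at b
  exact (mul_mem_cancel_left (sup_le_sup_left le_normalizer L a)).mp (mem_sup_right b)

theorem rl_of_selfnorm [Group.IsSolvable G] (hP : IsSylowOf 2 P ⊤) (hN : normalizer (P : Set G) = P)
    (h1 : ∀ l, Irr P l → PD 2 l → Rl P l) (M : Subgroup G) : M.Normal → ∀ χ, Irr (M ⊔ P) χ → PD 2 χ → Rl (M ⊔ P) χ := by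
  induction M using WellFoundedLT.induction with | _ M ih
  intro _ χ h r
  rcases eq_or_ne M ⊥ with rfl | e
  · rw [bot_sup_eq] at h ⊢; exact h1 χ h r
  obtain ⟨L, -, c⟩ := exists_chief_below (A := ⊤) (bot_lt_iff_ne_bot.mpr e) norm_top norm_top
  have := normal_of_le_normalizer c.nL
  have ab := c.comm_le norm_top (solvMod_of_solv inferInstance)
  obtain ⟨q, hq, -, k, -, hk⟩ := c.exists_prime ab
  by_cases o : 2 ∣ L.relIndex M
  · obtain rfl := (Nat.prime_dvd_prime_iff_eq Nat.prime_two hq).mp (Nat.prime_two.dvd_of_dvd_pow (hk ▸ o))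
    have : M ⊔ P = L ⊔ P := by
      rw [← (hP.inf_of_normal le_top norm_top).sup_eq_of_relIndex_eq_pow c.lt.le hk, sup_assoc, sup_eq_right.mpr (inf_le_left : P ⊓ M ≤ P)]
    rw [this] at h ⊢
    exact ih L c.lt inferInstance χ h r
  have y : L ⊔ P ≤ M ⊔ P := sup_le_sup_right c.lt.le P
  obtain ⟨_, s⟩ := relIndex_sup_pow (M := M) Nat.prime_two hP.isPGroup norm_top
  obtain ⟨_, t⟩ := relIndex_sup_pow (M := L) Nat.prime_two hP.isPGroup norm_top
  have hM := h.res_of_pd Nat.prime_two r norm_top le_sup_left s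
  obtain ⟨d, d1, d2⟩ := r
  obtain ⟨ψ, a, b, f⟩ := (h.chr.res y).exists_pd d χ d2 d1
  have g := ih L c.lt inferInstance ψ a f
  have hL := a.res_of_pd Nat.prime_two f norm_top le_sup_left t
  have i : Inv P L ψ := a.inv.mono le_sup_right le_sup_left
  set T := stab L ψ ⊓ M with hT
  have l : L ≤ T := le_inf hL.inv.le_stab c.lt.le
  have n : P ≤ normalizer (T : Set G) := le_normalizer_inf (i.norm_stab norm_top) norm_top
  have o' : ¬ 2 ∣ L.relIndex T := fun j => o (j.trans (relIndex_dvd_of_norm inf_le_right norm_top))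
  obtain ⟨φ, u1, u2, u3, u4⟩ := hL.rl_over (g.mono le_sup_left) norm_top l o'
  have u5 : Eqv L φ ψ := by
    simpa [u2] using u1.res_smul norm_top l hL (inv_stab.mono inf_le_left le_rfl) (u2 ▸ one_ne_zero)
  obtain ⟨β, v1, v2, v3, v4⟩ := hL.exists_param norm_top c.lt.le hT norm_top norm_top i u1.chr u5
    (inv_iff_eqv.mpr fun x j => u4 _ (u1.cjg (n j)) (by
      rw [← (inv_iff_eqv.mp i x j).inn_right, inn_cj (norm_top (A := ⊤) trivial), u2]; exact one_ne_zero) (u3.eqv.cjg (n j)))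
    hM ((h.chr.res y).over_trans le_sup_left a hL.chr b hL.inn_self_ne) (h.inv.mono le_sup_right le_sup_left)
  have w := inf_eq_of_odd Nat.prime_two hP.isPGroup norm_top norm_top c.lt.le o
  have v5 := (gd_ker (D := L) Nat.prime_two hP.isPGroup l norm_top norm_top n o' fun k => ⟨fun j => ⟨l j, fun x _ =>
    mul_mem (this.conj_mem k j x) (inv_mem j)⟩, fun j => w.le ⟨hN ▸ mem_of_comm hP j.2, j.1.2⟩⟩).inj β (fun _ => 1) (fun _ => 1)
    1 1 ⟨v1, v2, v3⟩ ⟨irr_one, fun _ _ => rfl, inv_const 1⟩ ⟨irr_one, fun _ _ => rfl⟩ (v2.inn_one.trans ((v1.one_of_ker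
      (v2.mono ((commutator_mono inf_le_right inf_le_right).trans ab))).trans Int.cast_one.symm))
      (irr_one.inn_self.trans Int.cast_one.symm) (by decide) (by decide)
  rw [ind_congr (φ := φ) fun x j => by simp [v5 x j]] at v4
  obtain ⟨η, -, -, -, z⟩ := exists_ext_lin (M := M) norm_top a hM (h.inv.mono y le_sup_left) (by
    rw [w, (v4.mono c.lt.le).inn_left, hL.inn_ind_stab norm_top l inf_le_right hT u1 (u2 ▸ one_ne_zero), u2])
  rw [← sup_assoc, sup_eq_left.mpr c.lt.le] at z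
  have m : Rl M χ := Rl.congr (fun x _ => by rw [← congrFun (ind_map (starRingEnd ℂ)) x, ind_congr u3.eqv]) v4.symm
  exact (z _ h.cnj (by rwa [g.inn_left (h.gen.res y) a.gen]) (by
    rw [m.inn_left hM.gen hM.gen]; exact hM.inn_self_ne)).trans (z _ h b hM.inn_self_ne).symm

omit [Finite G] in
theorem ro_ez {α : IrrCharacter H} : RO H (ez H α) ↔ (∀ g, (α.1 g).im = 0) ∧ Odd (charDegree α.1) :=
  ⟨fun ⟨_, a, d, b, c⟩ => ⟨fun g => Complex.conj_eq_iff_im.mp (by simpa using a g g.2), by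
    rw [ez_deg, Nat.cast_inj] at c; exact c ▸ Nat.odd_iff.mpr (Nat.two_dvd_ne_zero.mp b)⟩, fun ⟨a, b⟩ =>
      ⟨irr_ez.mpr α.2, fun x i => by rw [ez_mem _ i]; exact Complex.conj_eq_iff_im.mpr (a _), _, b.not_two_dvd_nat, ez_deg α⟩⟩

theorem all_rl_iff [Group.IsSolvable G] (hP : IsSylowOf 2 P ⊤) : (∀ χ : G → ℂ, Irr ⊤ χ → PD 2 χ → Rl ⊤ χ) ↔
    (∀ x ∈ P, x ^ 2 ∈ ⁅P, P⁆) ∧ normalizer (P : Set G) = P := by
  have r := rs_of_solv ⊤ inferInstance P hP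
  have k : ∀ {H : Subgroup G} {l}, P ≤ H → Irr H l → PD 2 l → ∃ χ, Irr ⊤ χ ∧ inn H χ l ≠ 0 ∧ PD 2 χ := fun {H l} i a b => by
    obtain ⟨d, u, v⟩ := b.mul Nat.prime_two (fun j => hP.not_dvd (j.trans (relIndex_dvd_of_le_left ⊤ i))) (ind_one (K := ⊤))
    obtain ⟨χ, c, e, f⟩ := (a.chr.indc le_top).exists_pd d _ v u
    exact ⟨χ, c, inn_ne_comm (inn_ind_left le_top c.inv ▸ e), f⟩
  refine ⟨fun h => ⟨fun x i => by_contra fun j => ?_, le_antisymm (fun x i => by_contra fun j => ?_) le_normalizer⟩,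
    fun ⟨a, b⟩ χ => ?_⟩
  · obtain ⟨l, a, b, c⟩ := exists_irr_not_ker (le_normalizer_commutator le_normalizer le_normalizer) (commutator_le_self P)
      (pow_mem i 2) j
    have d := a.one_of_ker b
    obtain ⟨χ, u, v, w⟩ := k le_rfl a (pd_one Nat.prime_two d)
    rw [sq, a.chr.map_mul d i i, d, ← a.chr.mul_conj d i, r.rl χ l ⟨u, h χ u w, w⟩ a d v x i] at c
    exact c rfl
  · obtain ⟨l, a, b, c⟩ := exists_irr_not_ker le_rfl le_normalizer i j
    have d : inn P l (fun _ => 1) ≠ 0 := b.inn_one ▸ a.one_ne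
    obtain ⟨χ, u, v, w⟩ := k le_normalizer a (a.pd_over Nat.prime_two le_rfl le_normalizer
      (hP.of_le le_normalizer le_top).not_dvd irr_one d (pd_one Nat.prime_two rfl))
    have e := r.unique ⟨u, h χ u w, w⟩ ⟨irr_one, fun _ _ => map_one _, pd_one Nat.prime_two rfl⟩ irr_one rfl
      ((u.chr.res le_top).over_trans le_normalizer a chr_one v d) irr_one.inn_self_ne
    have f := irr_one.eqv a ((e.mono le_top).inn_left ▸ v)
    exact c ((f x i).symm.trans f.one)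
  simpa using rl_of_selfnorm hP b (fun l u v x i => by
    have d := u.one_of_pd Nat.prime_two hP.isPGroup v
    have e := u.chr.ker_comm d _ (a x i)
    rw [sq, u.chr.map_mul d i i, d, ← u.chr.mul_conj d i] at e
    exact (mul_left_cancel₀ (u.chr.ne_zero d i) e).symm) ⊤ inferInstance χ

end Cfsg.Agent.Isaacs
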