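import Mathlib
import Cfsg.Agent.Isaacs.Real2
import Cfsg.Agent.Isaacs.Count
import Cfsg.Agent.Isaacs.Tri

/-! Counting characters over a character of a normal subgroup; the commutator form of a character triple. -/

set_option autoImplicit false

namespace Cfsg.Agent.Isaacs

open Cfsg Cfsg.Agent.Char Cfsg.Agent.Core Subgroup
open scoped ComplexConjugate commutatorElement Pointwise

variable {G : Type*} [Group G] {H K L M N P Q T U : Subgroup G} {θ φ ψ χ η ξ μ : G → ℂ} {p : ℕ}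
  {X Y : (G → ℂ) → Prop} {x y z : G} {c : ℂ}

/-- number of restrictions to `H` of functions with property `X` -/
noncomputable def cnt (H : Subgroup G) (X : (G → ℂ) → Prop) : ℕ := Nat.card {α : H → ℂ // ∃ θ, X θ ∧ (fun x : H => θ x) = α}

theorem cnt_rel {G' : Type*} [Group G'] {H' : Subgroup G'} {Y : (G' → ℂ) → Prop} (R : (G → ℂ) → (G' → ℂ) → Prop)
    (h1 : ∀ θ, X θ → ∃ φ, Y φ ∧ R θ φ) (h2 : ∀ φ, Y φ → ∃ θ, X θ ∧ R θ φ)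
    (h3 : ∀ θ θ' φ φ', X θ → X θ' → Y φ → Y φ' → R θ φ → R θ' φ' → (Eqv H θ θ' ↔ Eqv H' φ φ')) :
    cnt H X = cnt H' Y :=
  card_eq_of_rel (fun α β => ∃ θ φ, X θ ∧ Y φ ∧ R θ φ ∧ (fun x : H => θ x) = α.1 ∧ (fun x : H' => φ x) = β.1)
    (fun ⟨_, θ, a, b⟩ => have ⟨φ, u, v⟩ := h1 θ a; ⟨⟨_, φ, u, rfl⟩, θ, φ, a, u, v, b, rfl⟩)
    (fun ⟨_, φ, a, b⟩ => have ⟨θ, u, v⟩ := h2 φ a; ⟨⟨_, θ, u, rfl⟩, θ, φ, u, a, v, rfl, b⟩)
    (fun _ _ _ ⟨_, _, a, b, c, d, e⟩ ⟨_, _, a', b', c', d', e'⟩ => Subtype.ext (e.symm.trans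
      (((h3 _ _ _ _ a a' b b' c c').mp (eqv_iff.mpr (d.trans d'.symm))).eq.trans e')))
    fun _ _ _ ⟨_, _, a, b, c, d, e⟩ ⟨_, _, a', b', c', d', e'⟩ => Subtype.ext (d.symm.trans
      (((h3 _ _ _ _ a a' b b' c c').mpr (eqv_iff.mpr (e.trans e'.symm))).eq.trans d'))

theorem cnt_congr (h : ∀ θ, X θ ↔ Y θ) : cnt H X = cnt H Y := by rw [funext fun θ => propext (h θ)]

theorem cnt_eq_zero (h : ∀ θ, ¬ X θ) : cnt H X = 0 := Nat.card_eq_zero.mpr (.inl ⟨fun ⟨_, θ, a, _⟩ => h θ a⟩)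

theorem cnt_eq_card (h : ∀ θ, X θ → Irr H θ) (h' : ∀ θ φ, X θ → Eqv H θ φ → X φ) :
    cnt H X = Nat.card {χ : IrrCharacter H // X (ez H χ)} :=
  card_eq_of_rel (fun α β => α.1 = β.1.1) (fun ⟨_, θ, a, b⟩ => ⟨⟨⟨_, h θ a⟩, h' _ _ a eqv_ez.symm⟩, b.symm⟩)
    (fun β => ⟨⟨_, _, β.2, ez_res _⟩, rfl⟩) (fun _ _ _ a b => Subtype.ext (Subtype.ext (a.symm.trans b)))
    fun _ _ _ a b => Subtype.ext (a.trans b.symm)

theorem cnt_top (h : ∀ θ, X θ → Irr ⊤ θ) : cnt ⊤ X = Nat.card {χ : IrrCharacter G // X χ} :=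
  card_eq_of_rel (fun α β => α.1 = fun x : (⊤ : Subgroup G) => β.1.1 x) (fun ⟨_, θ, a, b⟩ => ⟨⟨⟨_, irr_top.mp (h θ a)⟩, a⟩, b.symm⟩)
    (fun β => ⟨⟨_, _, β.2, rfl⟩, rfl⟩) (fun _ _ _ a b => Subtype.ext (Subtype.ext (eqv_top.mp (eqv_iff.mpr (a.symm.trans b)))))
    fun _ _ _ a b => Subtype.ext (a.trans b.symm)

variable [Finite G]

theorem cnt_finite (h : ∀ θ, X θ → Irr H θ) : Finite {α : H → ℂ // ∃ θ, X θ ∧ (fun x : H => θ x) = α} :=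
  .of_injective (fun α => (⟨α.1, have ⟨θ, a, b⟩ := α.2; b ▸ h θ a⟩ : IrrCharacter H)) fun _ _ e =>
    Subtype.ext (congrArg (·.1) e)

theorem cnt_fib {I : Type*} (R R' : I → (G → ℂ) → Prop) (E : I → I → Prop) (hX : ∀ θ, X θ → Irr H θ) (hY : ∀ θ, Y θ → Irr K θ)
    (h1 : ∀ θ, X θ → ∃ i, R i θ) (h1' : ∀ θ, Y θ → ∃ i, R' i θ) (h2 : ∀ θ i j, X θ → R i θ → (R j θ ↔ E i j))
    (h2' : ∀ θ i j, Y θ → R' i θ → (R' j θ ↔ E i j)) (h3 : ∀ θ φ i, Eqv H θ φ → R i θ → R i φ)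
    (h3' : ∀ θ φ i, Eqv K θ φ → R' i θ → R' i φ) (h : ∀ i, cnt H (fun θ => X θ ∧ R i θ) = cnt K fun θ => Y θ ∧ R' i θ) :
    cnt H X = cnt K Y := by
  have k : ∀ {H : Subgroup G} {X : (G → ℂ) → Prop} {R : I → (G → ℂ) → Prop}, (∀ θ i j, X θ → R i θ → (R j θ ↔ E i j)) →
      (∀ θ φ i, Eqv H θ φ → R i θ → R i φ) → ∀ S i, i ∈ S → S = {j | E i j} →
      Nat.card {α : {α : H → ℂ // ∃ θ, X θ ∧ (fun x : H => θ x) = α} // {j | R j (ez H α.1)} = S} =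
        cnt H fun θ => X θ ∧ R i θ := fun {H X R} a b S i u v =>
    card_eq_of_rel (fun α β => α.1.1 = β.1) (fun ⟨⟨_, θ, c, d⟩, e⟩ => ⟨⟨_, θ, ⟨c, b _ _ _ (d ▸ eqv_ez) (e.ge u)⟩, d⟩, rfl⟩)
      (fun ⟨_, θ, c, d⟩ => ⟨⟨⟨_, θ, c.1, d⟩, v ▸ Set.ext fun j => .trans ⟨b _ _ _ (d ▸ eqv_ez), b _ _ _ (d ▸ eqv_ez.symm)⟩
        (a θ i j c.1 c.2)⟩, rfl⟩) (fun _ _ _ a b => Subtype.ext (a.symm.trans b))
      fun _ _ _ a b => Subtype.ext (Subtype.ext (a.trans b.symm))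
  have l : ∀ {H : Subgroup G} {X : (G → ℂ) → Prop} {R : I → (G → ℂ) → Prop}, (∀ θ, X θ → ∃ i, R i θ) →
      (∀ θ i j, X θ → R i θ → (R j θ ↔ E i j)) → (∀ θ φ i, Eqv H θ φ → R i θ → R i φ) → ∀ S, ¬ (∃ i ∈ S, S = {j | E i j}) →
      Nat.card {α : {α : H → ℂ // ∃ θ, X θ ∧ (fun x : H => θ x) = α} // {j | R j (ez H α.1)} = S} = 0 :=
    fun {H X R} o a b S u => Nat.card_eq_zero.mpr (.inl ⟨fun ⟨⟨_, θ, c, d⟩, e⟩ => have ⟨i, f⟩ := o θ c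
      u ⟨i, e.le (b _ _ _ (d ▸ eqv_ez.symm) f), e ▸ Set.ext fun j => .trans ⟨b _ _ _ (d ▸ eqv_ez), b _ _ _ (d ▸ eqv_ez.symm)⟩
        (a θ i j c f)⟩⟩)
  have := cnt_finite hX
  have := cnt_finite hY
  refine Nat.card_congr (Equiv.ofFiberEquiv (f := fun α => {j | R j (ez H α.1)}) (g := fun α => {j | R' j (ez K α.1)})
    fun S => (Finite.card_eq.mp ?_).some)
  by_cases e : ∃ i ∈ S, S = {j | E i j}
  · obtain ⟨i, a, b⟩ := e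
    exact (k h2 h3 S i a b).trans ((h i).trans (k h2' h3' S i a b).symm)
  exact (l h1 h2 h3 S e).trans (l h1' h2' h3' S e).symm

/-- irreducible of `p'`-degree lying over `θ` -/
def Op (p : ℕ) (K N : Subgroup G) (θ χ : G → ℂ) : Prop := Irr K χ ∧ inn N χ θ ≠ 0 ∧ PD p χ

omit [Finite G] in
theorem PD.congr (h : PD p θ) (e : θ 1 = φ 1) : PD p φ := by unfold PD; rw [← e]; exact h

theorem Op.congr (h : Op p K N θ χ) (hl : N ≤ K) (e : Eqv K χ ψ) : Op p K N θ ψ :=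
  ⟨h.1.congr e, (e.mono hl).inn_left ▸ h.2.1, h.2.2.congr e.one⟩

theorem cnt_clifford (hp : p.Prime) (hn : K ≤ normalizer (N : Set G)) (hl : N ≤ K) (hθ : Irr N θ) (hT : T = stab N θ ⊓ K)
    (hc : ¬ p ∣ T.relIndex K) : cnt K (Op p K N θ) = cnt T (Op p T N θ) := by
  have l : N ≤ T := hT ▸ le_inf hθ.inv.le_stab hl
  have m : T ≤ K := hT ▸ inf_le_right
  refine cnt_rel (fun χ ψ => Eqv K (ind T K ψ) χ) (fun χ ⟨a, b, c⟩ => ?_) (fun ψ ⟨a, b, c⟩ => ⟨_, ⟨hθ.ind_of_stab hn l m hT.ge a b,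
    hθ.inn_ind_stab hn l m hT a b ▸ b, c.mul hp hc ind_one⟩, .refl _ _⟩) fun χ χ' ψ ψ' a a' b b' c c' => ⟨fun e => ?_, fun e =>
      c.symm.trans (ind_congr (K := K) e ▸ c')⟩
  · obtain ⟨ψ, u, v, w⟩ := hθ.exists_ind_of_stab hn l m hT.ge a b
    exact ⟨ψ, ⟨u, v, c.of_mul u.chr (w.one.symm.trans ind_one)⟩, w⟩
  refine hθ.eqv_of_stab hn l m hT b.1 b'.1 b.2.1 b'.2.1 a.1 ?_ ?_
  · rw [← inn_ind_right m a.1.inv, c.inn_right]; exact a.1.inn_self_ne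
  rw [← inn_ind_right m a.1.inv, (c'.trans e.symm).inn_right]; exact a.1.inn_self_ne

theorem Tri.cnt_eq {Γ Q : Type*} [Group Γ] [Group Q] [Finite Γ] [Finite Q] (t : Tri K N θ Γ Q) (hθ : Irr N θ) (hN : N ≤ H)
    (hH : H ≤ K) {Y : (Q → ℂ) → Prop} (h : ∀ χ α, Irr H χ → Irr (t.bar H) α → t.Corr H χ α → (X χ ↔ Y α)) :
    cnt H (fun χ => Irr H χ ∧ inn N χ θ ≠ 0 ∧ X χ) = cnt (t.bar H) fun α => Irr (t.bar H) α ∧ inn t.Z α t.μ ≠ 0 ∧ Y α :=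
  cnt_rel (t.Corr H) (fun χ ⟨a, b, c⟩ => have ⟨α, u, v⟩ := t.down hN hH a hθ b
    ⟨α, ⟨u, v.inn_mu hN ▸ b, (h χ α a u v).mp c⟩, v⟩) (fun α ⟨a, b, c⟩ => have ⟨χ, u, v⟩ := t.up hN hH a b
    ⟨χ, ⟨u, (v.inn_mu hN).symm ▸ b, (h χ α u a v).mpr c⟩, v⟩) fun _ _ _ _ _ _ _ _ a b => ⟨a.eqv' b hN hH, a.eqv b hH⟩

/-- `c` is the value of the commutator form of `θ` at `(x, y)` -/
def Frm (N : Subgroup G) (θ : G → ℂ) (x y : G) (c : ℂ) : Prop :=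
  ∃ χ, Chr (N ⊔ zpowers y) χ ∧ Eqv N χ θ ∧ ∀ n ∈ N, χ (x * (n * y) * x⁻¹) = c * χ (n * y)

/-- the commutator form -/
noncomputable def frm (N : Subgroup G) (θ : G → ℂ) (x y : G) : ℂ := Classical.epsilon (Frm N θ x y)

omit [Finite G] in
theorem Frm.mono (h : Frm N θ x y c) (hl : L ≤ N) : Frm L θ x y c :=
  have ⟨χ, a, b, d⟩ := h; ⟨χ, a.res (sup_le_sup_right hl _), b.mono hl, fun n i => d n (hl i)⟩

omit [Finite G] in
theorem Frm.congr (h : Frm N θ x y c) (e : Eqv N θ φ) : Frm N φ x y c :=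
  have ⟨χ, a, b, d⟩ := h; ⟨χ, a, b.trans e, d⟩

theorem Tri.frm_iff {Γ Q : Type*} [Group Γ] [Group Q] [Finite Γ] [Finite Q] (t : Tri K N θ Γ Q) (hθ : Irr N θ)
    (hn : K ≤ normalizer (N : Set G)) (hi : Inv K N θ) {γ δ : Γ} (h : ⁅t.π γ, t.π δ⁆ ∈ N) :
    Frm N θ (t.π γ) (t.π δ) c ↔ c = t.μ ⁅t.ρ γ, t.ρ δ⁆ := by
  have m : ∀ γ, t.π γ ∈ K := fun γ => t.range.le ⟨γ, rfl⟩
  have l : N ⊔ zpowers (t.π δ) ≤ K := sup_le t.le (zpowers_le.mpr (m δ))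
  have j : t.π δ ∈ N ⊔ zpowers (t.π δ) := mem_sup_right (mem_zpowers _)
  have z : ⁅t.ρ γ, t.ρ δ⁆ ∈ t.Z := by rwa [← map_commutatorElement, ← mem_comap, ← t.comap, mem_comap, map_commutatorElement]
  have k : ∀ χ, Chr (N ⊔ zpowers (t.π δ)) χ → Eqv N χ θ → ∀ n ∈ N,
      χ (t.π γ * (n * t.π δ) * (t.π γ)⁻¹) = t.μ ⁅t.ρ γ, t.ρ δ⁆ * χ (n * t.π δ) := fun χ a b n i => by
    obtain ⟨α, u, v⟩ := t.down le_sup_left l (a.irr_of_res le_sup_left (hθ.congr b.symm)) hθ (b.inn_left ▸ hθ.inn_self_ne)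
    obtain ⟨ν, rfl⟩ := t.exists_pre (t.le i)
    have w : α 1 = 1 := mul_right_cancel₀ hθ.one_ne (by rw [← v.deg, b.one, one_mul])
    have o : t.π (ν * δ) ∈ N ⊔ zpowers (t.π δ) := map_mul t.π ν δ ▸ mul_mem (mem_sup_left i) j
    have s : t.ρ ν ∈ t.Z := by rwa [← mem_comap, ← t.comap]
    have r : t.ρ (γ * (ν * δ) * γ⁻¹) = ⁅t.ρ γ, t.ρ δ⁆ * t.ρ (ν * δ) := by
      simp only [map_mul, map_inv, ← mem_center_iff.mp (t.central s), commutatorElement_def]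
      rw [← mul_assoc (t.ρ γ), mul_assoc _ (t.ρ ν), ← mem_center_iff.mp (t.central s)]; group
    have q := (t.mem_bar le_sup_left).mpr o
    rw [← map_mul, ← map_inv, ← map_mul, ← map_mul, v _ o, v _ ((t.mem_bar le_sup_left).mp (r ▸ mul_mem (t.le_bar' z) q)), r,
      u.chr.map_mul w (t.le_bar' z) q, t.chr.inv γ trivial _ trivial, mul_assoc,
      ((v.mono le_sup_left).eqv' t.corr_self le_rfl t.le b) _ (t.bar_self ▸ z)]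
  refine ⟨fun ⟨χ, a, b, d⟩ => by_contra fun e => ?_, fun e => ?_⟩
  · have := a.inn_sh_self (l.trans hn) le_sup_left (hθ.congr b.symm) j
    rw [Eqv.inn_left (φ := 0) fun n i => (mul_eq_zero.mp (by
      rw [sub_mul, sh, ← d n i, k χ a b n i, sub_self])).resolve_left (sub_ne_zero.mpr e), inn_zero_left] at this
    exact zero_ne_one this
  obtain ⟨χ, a, b⟩ := hθ.exists_ext_cyc (l.trans hn) le_sup_left (hi.mono l le_rfl) le_rfl j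
  exact ⟨χ, a.chr, b, e ▸ k χ a.chr b⟩

theorem Tri.frm_eq {Γ Q : Type*} [Group Γ] [Group Q] [Finite Γ] [Finite Q] (t : Tri K N θ Γ Q) (hθ : Irr N θ)
    (hn : K ≤ normalizer (N : Set G)) (hi : Inv K N θ) {γ δ : Γ} (h : ⁅t.π γ, t.π δ⁆ ∈ N) :
    frm N θ (t.π γ) (t.π δ) = t.μ ⁅t.ρ γ, t.ρ δ⁆ :=
  (t.frm_iff hθ hn hi h).mp (Classical.epsilon_spec ⟨_, (t.frm_iff hθ hn hi h).mpr rfl⟩)

theorem Irr.frm_iff (hθ : Irr N θ) (hx : x ∈ stab N θ) (hy : y ∈ stab N θ) (h : ⁅x, y⁆ ∈ N) :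
    Frm N θ x y c ↔ c = frm N θ x y := by
  obtain ⟨Γ, Q, _, _, _, _, ⟨t⟩⟩ := hθ.exists_tri stab_le hθ.inv.le_stab inv_stab
  obtain ⟨γ, rfl⟩ := t.exists_pre hx
  obtain ⟨δ, rfl⟩ := t.exists_pre hy
  rw [t.frm_iff hθ stab_le inv_stab h, t.frm_eq hθ stab_le inv_stab h]

theorem Irr.frm_mul (hθ : Irr N θ) (hx : x ∈ stab N θ) (hy : y ∈ stab N θ) (hz : z ∈ stab N θ) (h : ⁅x, y⁆ ∈ N)
    (h' : ⁅x, z⁆ ∈ N) : frm N θ x (y * z) = frm N θ x y * frm N θ x z := by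
  obtain ⟨Γ, Q, _, _, _, _, ⟨t⟩⟩ := hθ.exists_tri stab_le hθ.inv.le_stab inv_stab
  obtain ⟨γ, rfl⟩ := t.exists_pre hx
  obtain ⟨δ, rfl⟩ := t.exists_pre hy
  obtain ⟨ε, rfl⟩ := t.exists_pre hz
  have z : ∀ {γ δ}, ⁅t.π γ, t.π δ⁆ ∈ N → ⁅t.ρ γ, t.ρ δ⁆ ∈ t.Z := fun h => by
    rwa [← map_commutatorElement, ← mem_comap, ← t.comap, mem_comap, map_commutatorElement]
  rw [← map_mul, t.frm_eq hθ stab_le inv_stab h, t.frm_eq hθ stab_le inv_stab h', t.frm_eq hθ stab_le inv_stab (by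
    rw [map_mul, show ∀ a b c : G, ⁅a, b * c⁆ = ⁅a, b⁆ * (b * ⁅a, c⁆ * b⁻¹) from fun _ _ _ => by group]
    exact mul_mem h (conj_mem stab_le hy h')), ← t.lin.map_mul t.one (z h) (z h'), map_mul,
    show ∀ a b c : Q, ⁅a, b * c⁆ = ⁅a, b⁆ * (b * ⁅a, c⁆ * b⁻¹) from fun _ _ _ => by group,
    mem_center_iff.mp (t.central (z h')), mul_inv_cancel_right]

theorem Irr.frm_swap (hθ : Irr N θ) (hx : x ∈ stab N θ) (hy : y ∈ stab N θ) (h : ⁅x, y⁆ ∈ N) :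
    frm N θ y x = (frm N θ x y)⁻¹ := by
  obtain ⟨Γ, Q, _, _, _, _, ⟨t⟩⟩ := hθ.exists_tri stab_le hθ.inv.le_stab inv_stab
  obtain ⟨γ, rfl⟩ := t.exists_pre hx
  obtain ⟨δ, rfl⟩ := t.exists_pre hy
  have z : ⁅t.ρ γ, t.ρ δ⁆ ∈ t.Z := by
    rwa [← map_commutatorElement, ← mem_comap, ← t.comap, mem_comap, map_commutatorElement]
  rw [t.frm_eq hθ stab_le inv_stab h, t.frm_eq hθ stab_le inv_stab (commutatorElement_inv (t.π γ) _ ▸ inv_mem h),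
    ← commutatorElement_inv]
  exact eq_inv_of_mul_eq_one_left (by rw [← t.lin.map_mul t.one (inv_mem z) z, inv_mul_cancel, t.one])

theorem Irr.frm_self (hθ : Irr N θ) (hx : x ∈ stab N θ) : frm N θ x x = 1 := by
  obtain ⟨Γ, Q, _, _, _, _, ⟨t⟩⟩ := hθ.exists_tri stab_le hθ.inv.le_stab inv_stab
  obtain ⟨γ, rfl⟩ := t.exists_pre hx
  rw [t.frm_eq hθ stab_le inv_stab (by simp), commutatorElement_self, t.one]

theorem cnt_central {Z : Subgroup G} (hZ : Z ≤ center G) (h : Chr Z μ) (h1 : μ 1 = 1) :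
    (cnt ⊤ fun χ => Irr ⊤ χ ∧ inn Z χ μ ≠ 0 : ℂ) =
      inn ⊤ (fun a : G => inn ⊤ (fun b : G => ind Z ⊤ μ ⁅a, b⁆) fun _ => 1) fun _ => 1 := by
  classical
  have := Fintype.ofFinite G
  have a : (Nat.card G : ℂ) ≠ 0 := card_ne_zero
  rw [cnt_top fun _ i => i.1, Nat.card_eq_fintype_card, Fintype.card_subtype, Finset.card_filter, inn_top, classInner_one_right]
  simp only [inn_top, classInner_one_right]
  rw [← Finset.mul_sum, ← Fintype.sum_prod_type', Finset.sum_congr rfl fun x _ => classFun_apply_eq_sum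
    (inv_top_top.mp ind_inv) _, Finset.sum_comm, Finset.mul_sum, Finset.mul_sum, Nat.cast_sum]
  refine Finset.sum_congr rfl fun χ _ => ?_
  have b := irr_top.mpr χ.2
  simp only [commutatorElement_def]
  rw [← Finset.mul_sum, sum_commutator χ.2, ← inn_top, inn_ind_left le_top b.inv, ← (b.chr.res le_top).inn_comm h]
  by_cases e : inn Z χ.1 μ = 0
  · simp [e]
  have d := (b.res_smul (norm_of_le_center hZ) le_top (h.irr_of_one h1) (inv_of_le_center hZ) e).one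
  rw [if_pos ⟨b, e⟩, d, Pi.smul_apply, h1]
  field_simp
  simp [e]

open Classical in
theorem cnt_eq_frm (hθ : Irr N θ) (hn : K ≤ normalizer (N : Set G)) (hi : Inv K N θ) (hK : N ⊔ H = K) :
    (cnt K fun χ => Irr K χ ∧ inn N χ θ ≠ 0 : ℂ) = N.relIndex K *
      inn H (fun x => inn H (fun y => if ⁅x, y⁆ ∈ N then frm N θ x y else 0) fun _ => 1) fun _ => 1 := by
  have l : N ≤ K := hK ▸ le_sup_left
  have m : H ≤ K := hK ▸ le_sup_right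
  obtain ⟨Γ, Q, _, _, _, _, ⟨t⟩⟩ := hθ.exists_tri hn l hi
  have a := t.cnt_eq (X := fun _ => True) (Y := fun _ => True) hθ l le_rfl fun _ _ _ _ _ => .rfl
  have b : (H.comap t.π).map t.ρ = ⊤ := by
    rw [← t.bar_top, ← congrArg t.bar hK, t.bar_sup l m, t.bar_self]; exact (sup_eq_right.mpr t.le_bar').symm
  simp only [and_true, t.bar_top] at a
  rw [a, cnt_central t.central t.lin t.one, ← b, ← inn_map, ← inn_comap t.π (t.range.symm ▸ m), ← inn_smul_left]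
  refine Eqv.inn_left fun γ _ => ?_
  rw [← inn_map, Pi.smul_apply, ← inn_comap t.π (t.range.symm ▸ m), smul_eq_mul, ← inn_smul_left]
  refine Eqv.inn_left fun δ _ => ?_
  have z : ⁅t.ρ γ, t.ρ δ⁆ ∈ t.Z ↔ ⁅t.π γ, t.π δ⁆ ∈ N := by
    rw [← map_commutatorElement, ← mem_comap, ← t.comap, mem_comap, map_commutatorElement]
  rw [b, Pi.smul_apply]
  split_ifs with i
  · rw [t.frm_eq hθ hn hi i, t.inv_mu.ind_res t.norm_Z le_top _ (z.mpr i), ← t.bar_top, t.relIndex_Z le_rfl]; rfl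
  rw [ind_eq_zero_of_normal t.norm_Z (mt z.mp i), smul_zero]

end Cfsg.Agent.Isaacs
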