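import Mathlib
import Cfsg.Agent.Isaacs.Cop
import Cfsg.Agent.FGS.FT

/-! Coprime action on characters without solvability hypotheses. -/

set_option autoImplicit false

open scoped ComplexConjugate commutatorElement

namespace Cfsg.Agent.Isaacs

open Cfsg Cfsg.Agent.Char Subgroup

variable {G : Type*} [Group G] [Finite G] {A B C D H K L M N P S T U Z : Subgroup G}
  {θ φ ψ χ η β ξ : G → ℂ} {p : ℕ}

theorem Irr.exists_inv_over_cop (hn : S ≤ normalizer (K : Set G))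
    (hc : (Nat.card S).Coprime (Nat.card K)) (hSN : S ≤ normalizer (N : Set G))
    (hK : K ≤ normalizer (N : Set G)) (hl : N ≤ K) (h : Irr N θ) (hi : Inv S N θ) :
    ∃ χ, Irr K χ ∧ inn N χ θ ≠ 0 ∧ Inv S K χ :=
  (FGS.solvable_or_of_coprime hc).elim (fun hs => h.exists_inv_over hs K hn hc hSN hK hl hi)
    fun hs => h.exists_inv_over_solv K hn hSN hK hl (solvMod_of_solv hs) (cop_rel hc) hi

theorem Chr.exists_inv_over_central [K.Normal] (hZ : Z ≤ center G) (hl : Z ≤ K)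
    (hc : K.index.Coprime (Z.relIndex K)) (h : Chr Z θ) (h1 : θ 1 = 1) :
    ∃ χ, Irr K χ ∧ inn Z χ θ ≠ 0 ∧ Inv ⊤ K χ := by
  obtain ⟨L, Y, _, a1, a2, a3, a4⟩ := central_split hZ hl
  have hd : (Nat.card L).Coprime (Nat.card Y) := Nat.coprime_of_dvd fun q hq a b =>
    hq.one_lt.ne' (Nat.eq_one_of_dvd_coprimes a4 b (a3 q hq a))
  have hc' : (Nat.card L).Coprime (L.relIndex ⊤) := by
    rw [← relIndex_mul_relIndex L K ⊤ (a2 ▸ le_sup_left) le_top, ← a2, relIndex_sup_cop norm_top hd, a2,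
      relIndex_top_right]
    exact hd.mul_right (Nat.coprime_of_dvd fun q hq a b =>
      hq.one_lt.ne' (Nat.eq_one_of_dvd_coprimes hc b (a3 q hq a)))
  obtain ⟨S, -, -, b1, b2⟩ := Core.exists_complement_in L ⊤ le_top norm_top hc'
  have hZ' := (inf_le_left (b := L)).trans hZ
  have hθ := (h.res (inf_le_left (b := L))).irr_of_one h1
  obtain ⟨ψ, c1, c2, c3⟩ := hθ.exists_inv_over_cop norm_top (b2 ▸ hc'.symm)
    (norm_of_le_center hZ') (norm_of_le_center hZ') inf_le_right (inv_of_le_center hZ')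
  obtain ⟨χ, d1, d2⟩ := c1.exists_prod_lin (h.res a1) h1 (Core.disjoint_of_coprime hd)
    (norm_of_le_center (a1.trans hZ)) norm_top
  have c4 := b1 ▸ c1.inv.sup c3 norm_top norm_top
  refine ⟨χ, a2 ▸ d1, ?_, fun a _ x hx => ?_⟩
  · rw [(h.irr_of_one h1).inn_of_smul (c := inn (Z ⊓ L) ψ θ) fun x hx => ?_]
    · exact c2
    obtain ⟨u, hu, y, hy, rfl⟩ := (Core.mem_sup_of_le_normalizer norm_top).mp (a2.ge (hl hx))
    have h2 := (Z.mul_mem_cancel_right (a1 hy)).mp hx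
    rw [d2 u hu y hy, c1.res_smul (norm_of_le_center hZ') inf_le_right hθ (inv_of_le_center hZ') c2 u
      ⟨h2, hu⟩, Pi.smul_apply, Pi.smul_apply, h.map_mul h1 h2 (a1 hy), smul_mul_assoc]
  · obtain ⟨u, hu, y, hy, rfl⟩ := (Core.mem_sup_of_le_normalizer norm_top).mp (a2.ge hx)
    rw [show a * (u * y) * a⁻¹ = a * u * a⁻¹ * y by
      rw [mul_assoc _ a⁻¹, mem_center_iff.mp (hZ (a1 hy)) a⁻¹]; group,
      d2 _ (conj_mem norm_top (mem_top a) hu) y hy, d2 u hu y hy, c4 a trivial u hu]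

/-- Isaacs 13.31. -/
theorem Irr.exists_inv_over_layers (hM : M ≤ normalizer (K : Set G)) (hN : M ≤ normalizer (N : Set G))
    (hl : N ≤ K) (hK : K ≤ M) (hc : (K.relIndex M).Coprime (N.relIndex K)) (h : Irr N θ)
    (hi : Inv M N θ) : ∃ χ, Irr K χ ∧ inn N χ θ ≠ 0 ∧ Inv M K χ := by
  obtain ⟨Γ, Q, _, _, _, _, ⟨t⟩⟩ := h.exists_tri hN (hl.trans hK) hi
  have := Core.normal_of_le_normalizer (t.bar_top ▸ t.bar_norm hM)
  obtain ⟨α, a1, a2, a3⟩ := t.lin.exists_inv_over_central t.central (t.le_bar hl)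
    (by rwa [t.index_bar hl, t.relIndex_Z hK]) t.one
  obtain ⟨χ, b1, b2⟩ := t.up hl hK a1 a2
  exact ⟨χ, b1, by rwa [b2.inn_mu hl], b2.inv hK le_rfl hM (a3.mono le_top le_rfl)⟩

end Cfsg.Agent.Isaacs
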