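import Mathlib
import Cfsg.Agent.Perm.Multi
import Cfsg.Agent.Perm.PFixed
import Cfsg.Agent.Perm.Prim
import Cfsg.Agent.Perm.PrimeDegree

set_option autoImplicit false
set_option linter.unusedSectionVars false

namespace Cfsg.Agent.Isaacs.DP

open MulAction Cfsg.Agent.Perm

variable {G Ω : Type*} [Group G] [Finite G] [Finite Ω] [MulAction G Ω] {p : ℕ}

theorem steiner (hp : 0 < p) (hΩ : Nat.card Ω = p ^ 2 + 1) (l : Ω → Ω → Set Ω)
    (h1 : ∀ a b, a ≠ b → a ∈ l a b) (h2 : ∀ a b, a ≠ b → b ∈ l a b)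
    (h3 : ∀ a b, a ≠ b → p + 1 ≤ (l a b).ncard)
    (h4 : ∀ a b, a ≠ b → ∀ c ∈ l a b, ∀ d ∈ l a b, c ≠ d → l c d = l a b)
    {a b : Ω} (hab : a ≠ b) (x : Ω) : x ∈ l a b := by
  classical
  by_contra hx
  have := Fintype.ofFinite Ω
  have hne : ∀ y ∈ l a b, x ≠ y := fun y hy h => hx (h ▸ hy)
  set L := (l a b).toFinset with hL
  let t : Ω → Finset Ω := fun y => (l x y).toFinset.erase x
  have hdis : (L : Set Ω).PairwiseDisjoint t := by
    intro y hy y' hy' hyy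
    simp only [hL, Set.coe_toFinset] at hy hy'
    rw [Function.onFun, Finset.disjoint_left]
    intro z hz hz'
    simp only [t, Finset.mem_erase, Set.mem_toFinset] at hz hz'
    have e1 := h4 x y (hne y hy) x (h1 _ _ (hne y hy)) z hz.2 hz.1.symm
    have e2 := h4 x y' (hne y' hy') x (h1 _ _ (hne y' hy')) z hz'.2 hz.1.symm
    have m1 : y' ∈ l x y := by rw [← e1, e2]; exact h2 _ _ (hne y' hy')
    have e3 := h4 x y (hne y hy) y (h2 _ _ (hne y hy)) y' m1 hyy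
    have e4 := h4 a b hab y hy y' hy' hyy
    exact hx (by rw [← e4, e3]; exact h1 _ _ (hne y hy))
  have hc := Finset.card_biUnion hdis
  have hsub : L.biUnion t ⊆ Finset.univ.erase x := by
    intro z hz
    obtain ⟨y, -, hz⟩ := Finset.mem_biUnion.1 hz
    exact Finset.mem_erase.2 ⟨(Finset.mem_erase.1 hz).1, Finset.mem_univ _⟩
  have hle := Finset.card_le_card hsub
  rw [Finset.card_erase_of_mem (Finset.mem_univ _), Finset.card_univ, ← Nat.card_eq_fintype_card,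
    hΩ, hc] at hle
  have hge : L.card * p ≤ ∑ y ∈ L, (t y).card := by
    rw [← smul_eq_mul]
    apply Finset.card_nsmul_le_sum
    intro y hy
    simp only [hL, Set.mem_toFinset] at hy
    have := h3 x y (hne y hy)
    rw [Set.ncard_eq_toFinset_card'] at this
    simp only [t]
    rw [Finset.card_erase_of_mem (by simpa using h1 _ _ (hne y hy))]
    omega
  have := h3 a b hab
  rw [Set.ncard_eq_toFinset_card', ← hL] at this
  have h5 : (p + 1) * p ≤ L.card * p := Nat.mul_le_mul_right _ this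
  simp only [Nat.add_sub_cancel] at hle
  nlinarith

theorem steinerC (hp : 0 < p) (hΩ : Nat.card Ω = p ^ 2 + 1)
    (two : ∀ a b c d : Ω, a ≠ b → c ≠ d → ∃ g : G, g • a = c ∧ g • b = d)
    (Cn : G → Ω → Prop) (hC : ∀ h g c, Cn g c → Cn (h * g * h⁻¹) (h • c))
    {a b : Ω} (hab : a ≠ b) (hcard : p + 1 ≤ {c | ∀ g, Cn g a → Cn g b → Cn g c}.ncard)
    {g : G} (ha : Cn g a) (hb : Cn g b) (c : Ω) : Cn g c := by
  have hC' : ∀ h g c, Cn g (h • c) → Cn (h⁻¹ * g * h) c := fun h g c hc => by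
    simpa using hC h⁻¹ g _ hc
  let l : Ω → Ω → Set Ω := fun a b => {c | ∀ g, Cn g a → Cn g b → Cn g c}
  let D : Ω → Ω → Set G := fun a b => {g | Cn g a ∧ Cn g b}
  have hD : ∀ a b c d, a ≠ b → c ≠ d → (D c d).ncard ≤ (D a b).ncard := by
    intro a b c d hab hcd
    obtain ⟨h, rfl, rfl⟩ := two a b c d hab hcd
    refine Set.ncard_le_ncard_of_injOn (fun g => h⁻¹ * g * h) ?_ ?_
    · intro g hg; exact ⟨hC' _ _ _ hg.1, hC' _ _ _ hg.2⟩
    · intro g _ g' _ e; simpa using e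
  have := steiner hp hΩ l (fun _ _ _ _ h _ => h) (fun _ _ _ _ _ h => h) ?_ ?_ hab c
  · exact this g ha hb
  · intro c d hcd
    obtain ⟨h, rfl, rfl⟩ := two a b c d hab hcd
    refine hcard.trans (Set.ncard_le_ncard_of_injOn (fun x => h • x) ?_ ?_)
    · intro x hx g h1 h2
      have := hC h _ _ (hx _ (hC' _ _ _ h1) (hC' _ _ _ h2))
      simpa [mul_assoc] using this
    · intro x _ y _ e; simpa using e
  · intro a b hab c hc d hd hcd
    have e : D a b = D c d := Set.eq_of_subset_of_ncard_le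
      (fun g hg => ⟨hc g hg.1 hg.2, hd g hg.1 hg.2⟩) (hD a b c d hab hcd)
    ext x
    constructor
    · intro hx g h1 h2
      have : g ∈ D c d := e ▸ ⟨h1, h2⟩
      exact hx g this.1 this.2
    · intro hx g h1 h2
      have : g ∈ D a b := e ▸ ⟨h1, h2⟩
      exact hx g this.1 this.2

theorem steinerQ [FaithfulSMul G Ω] (hp : 0 < p) (hΩ : Nat.card Ω = p ^ 2 + 1)
    (two : ∀ a b c d : Ω, a ≠ b → c ≠ d → ∃ g : G, g • a = c ∧ g • b = d)
    (Q : G → Prop) (hQ : ∀ h g, Q g → Q (h * g * h⁻¹))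
    {a b : Ω} (hab : a ≠ b)
    (hcard : p + 1 ≤ {c : Ω | ∀ g, Q g → g • a = a → g • b = b → g • c = c}.ncard)
    {g : G} (hg : Q g) (ha : g • a = a) (hb : g • b = b) : g = 1 := by
  refine eq_one_of_forall_smul (α := Ω) fun c => ?_
  refine (steinerC hp hΩ two (fun g c => Q g ∧ g • c = c) ?_ hab ?_ ⟨hg, ha⟩ ⟨hg, hb⟩ c).2
  · intro h g c hc
    exact ⟨hQ h g hc.1, by simp [mul_smul, hc.2]⟩
  · refine hcard.trans (Set.ncard_le_ncard (fun c hc g h1 h2 => ⟨h1.1, hc g h1.1 h1.2 h2.2⟩))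

structure Sys (G Ω : Type*) [Group G] [MulAction G Ω] (p : ℕ) where
  T : Ω → Ω → Ω → Prop
  two : ∀ a b c d : Ω, a ≠ b → c ≠ d → ∃ g : G, g • a = c ∧ g • b = d
  card : Nat.card Ω = p ^ 2 + 1
  smul : ∀ (g : G) a b c, T a b c → T (g • a) (g • b) (g • c)
  ne : ∀ {a b c}, T a b c → b ≠ a
  refl : ∀ {a b}, b ≠ a → T a b b
  symm : ∀ {a b c}, T a b c → T a c b
  trans : ∀ {a b c d}, T a b c → T a c d → T a b d
  ncard : ∀ {a b}, b ≠ a → {c | T a b c}.ncard = p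

theorem dvd_of_classes {α : Type*} (s : Set α) (hs : s.Finite) (r : α → α → Prop)
    (h0 : ∀ x y, x ∈ s → r x y → y ∈ s) (h1 : ∀ x ∈ s, r x x) (h2 : ∀ x y, r x y → r y x)
    (h3 : ∀ x y z, r x y → r y z → r x z) (m : ℕ) (hm : ∀ x ∈ s, {y | r x y}.ncard = m) :
    m ∣ s.ncard := by
  classical
  rw [Set.ncard_eq_toFinset_card s hs,
    Finset.card_eq_sum_card_image (fun x => {y | r x y}) hs.toFinset]
  apply Finset.dvd_sum
  intro B hB
  obtain ⟨x, hx, rfl⟩ := Finset.mem_image.1 hB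
  rw [Set.Finite.mem_toFinset] at hx
  rw [← hm x hx, ← Set.ncard_coe_finset]
  apply dvd_of_eq
  congr 1
  ext y
  simp only [Set.mem_ofPred_eq, Finset.coe_filter, Set.Finite.mem_toFinset]
  constructor
  · intro h
    refine ⟨h0 x y hx h, ?_⟩
    ext z
    exact ⟨fun h' => h3 _ _ _ h h', fun h' => h3 _ _ _ (h2 _ _ h) h'⟩
  · rintro ⟨hy, e⟩
    have : y ∈ {z | r y z} := h1 y hy
    rw [e] at this
    exact this

theorem ncard_ne (hΩ : Nat.card Ω = p ^ 2 + 1) (a : Ω) : {x | x ≠ a}.ncard = p ^ 2 := by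
  have := Set.ncard_add_ncard_compl ({a} : Set Ω)
  rw [Set.ncard_singleton, hΩ] at this
  have e : {x | x ≠ a} = ({a} : Set Ω)ᶜ := by ext x; simp
  rw [e]; omega

theorem exists_sys (hp : p.Prime) (hΩ : Nat.card Ω = p ^ 2 + 1)
    (two : ∀ a b c d : Ω, a ≠ b → c ≠ d → ∃ g : G, g • a = c ∧ g • b = d) (a0 : Ω)
    (hn : ¬ IsPreprimitive (stabilizer G a0) (SubMulAction.ofStabilizer G a0)) :
    Nonempty (Sys G Ω p) := by
  have hmem : ∀ x : Ω, x ∈ SubMulAction.ofStabilizer G a0 ↔ x ≠ a0 := fun x =>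
    SubMulAction.mem_ofStabilizer_iff G a0
  have htr : IsPretransitive (stabilizer G a0) (SubMulAction.ofStabilizer G a0) := ⟨fun x y => by
    obtain ⟨g, h1, h2⟩ := two a0 x a0 y ((hmem _).1 x.2).symm ((hmem _).1 y.2).symm
    exact ⟨⟨g, h1⟩, Subtype.ext h2⟩⟩
  have := mt isPreprimitive_of_rel hn
  push Not at this
  obtain ⟨r, hr, hinv, u, v, huv, hruv, x0, y0, hxy⟩ := this
  let R : Ω → Ω → Prop := fun x y => ∃ (hx : x ≠ a0) (hy : y ≠ a0),
    r ⟨x, (hmem _).2 hx⟩ ⟨y, (hmem _).2 hy⟩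
  have hR : ∀ g : G, g • a0 = a0 → ∀ x y, R x y → R (g • x) (g • y) := by
    rintro g hg x y ⟨hx, hy, h⟩
    refine ⟨fun e => hx (smul_left_cancel g (e.trans hg.symm)),
      fun e => hy (smul_left_cancel g (e.trans hg.symm)), ?_⟩
    exact hinv ⟨g, hg⟩ _ _ h
  let T : Ω → Ω → Ω → Prop := fun a b c => ∃ g : G, g • a = a0 ∧ R (g • b) (g • c)
  have hT : ∀ a b c (g : G), g • a = a0 → T a b c → R (g • b) (g • c) := by
    rintro a b c g hg ⟨h, h1, h2⟩
    have := hR (g * h⁻¹) (by rw [mul_smul, ← h1, inv_smul_smul, hg, h1]) _ _ h2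
    simpa [mul_smul] using this
  have hex : ∀ a, ∃ g : G, g • a = a0 := by
    intro a
    by_cases h : a = a0
    · exact ⟨1, by simp [h]⟩
    · obtain ⟨g, h1, -⟩ := two a a0 a0 a h (Ne.symm h)
      exact ⟨g, h1⟩
  have Tsm : ∀ (g : G) a b c, T a b c → T (g • a) (g • b) (g • c) := by
    rintro g a b c ⟨h, h1, h2⟩
    exact ⟨h * g⁻¹, by simpa [mul_smul] using h1, by simpa [mul_smul] using h2⟩
  have Tne : ∀ {a b c}, T a b c → b ≠ a := by
    rintro a b c ⟨h, h1, h2, -⟩ rfl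
    exact h2 h1
  have Trefl : ∀ {a b}, b ≠ a → T a b b := by
    intro a b hb
    obtain ⟨g, hg⟩ := hex a
    have : g • b ≠ a0 := fun e => hb (smul_left_cancel g (e.trans hg.symm))
    exact ⟨g, hg, this, this, hr.refl _⟩
  have Tsymm : ∀ {a b c}, T a b c → T a c b := by
    rintro a b c ⟨h, h1, h2, h3, h4⟩
    exact ⟨h, h1, h3, h2, hr.symm h4⟩
  have Ttrans : ∀ {a b c d}, T a b c → T a c d → T a b d := by
    rintro a b c d ⟨h, h1, h2, h3, h4⟩ h5
    obtain ⟨h6, h7, h8⟩ := hT _ _ _ h h1 h5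
    exact ⟨h, h1, h2, h7, hr.trans h4 h8⟩
  have hu : (u : Ω) ≠ a0 := (hmem _).1 u.2
  have hle : ∀ a b c d, b ≠ a → d ≠ c → {x | T a b x}.ncard ≤ {x | T c d x}.ncard := by
    intro a b c d h1 h2
    obtain ⟨g, rfl, rfl⟩ := two a b c d h1.symm h2.symm
    refine Set.ncard_le_ncard_of_injOn (fun x => g • x) (fun x hx => Tsm g _ _ _ hx) ?_
    intro x _ y _ e; simpa using e
  set m := {x | T a0 u x}.ncard with hm
  have hmm : ∀ {a b}, b ≠ a → {x | T a b x}.ncard = m := fun h =>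
    le_antisymm (hle _ _ _ _ h hu) (hle _ _ _ _ hu h)
  have hdvd : m ∣ p ^ 2 := by
    rw [← ncard_ne hΩ a0]
    exact dvd_of_classes _ (Set.toFinite _) (T a0) (fun x y _ h => Tne (Tsymm h))
      (fun x hx => Trefl hx) (fun _ _ => Tsymm) (fun _ _ _ => Ttrans) m (fun x hx => hmm hx)
  have h2m : 1 < m := by
    rw [hm, Set.one_lt_ncard]
    refine ⟨u, Trefl hu, v, ⟨1, one_smul _ _, ?_⟩, fun e => huv (Subtype.ext e)⟩
    simp only [one_smul]
    exact ⟨hu, (hmem _).1 v.2, hruv⟩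
  have hm2 : m < p ^ 2 := by
    rw [← hmm ((hmem _).1 x0.2), ← ncard_ne hΩ a0]
    refine Set.ncard_lt_ncard ⟨fun x hx => Tne (Tsymm hx), fun h => hxy ?_⟩
    have := hT _ _ _ 1 (one_smul _ _) (h ((hmem _).1 y0.2))
    simp only [one_smul] at this
    exact this.2.2
  obtain ⟨i, hi, hmi⟩ := (Nat.dvd_prime_pow hp).1 hdvd
  have hmp : m = p := by
    interval_cases i
    · rw [pow_zero] at hmi; omega
    · simpa using hmi
    · omega
  exact ⟨⟨T, two, hΩ, Tsm, Tne, Trefl, Tsymm, Ttrans, fun h => (hmm h).trans hmp⟩⟩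

namespace Sys
variable (Y : Sys G Ω p)

theorem smul' (g : G) {a b c : Ω} (h : Y.T (g • a) (g • b) (g • c)) : Y.T a b c := by
  simpa using Y.smul g⁻¹ _ _ _ h

theorem ne' {a b c : Ω} (h : Y.T a b c) : c ≠ a := Y.ne (Y.symm h)

def F (a b : Ω) : Set Ω := {x | x = a ∨ Y.T a b x}

def X (a b : Ω) : Set Ω := {x | Y.T a b x ∧ x ≠ b}

theorem ncard_F {a b : Ω} (h : b ≠ a) : (Y.F a b).ncard = p + 1 := by
  have : Y.F a b = insert a {x | Y.T a b x} := rfl
  rw [this, Set.ncard_insert_of_notMem (s := {x | Y.T a b x}) (fun h => Y.ne' h rfl), Y.ncard h]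

theorem ncard_X {a b : Ω} (h : b ≠ a) : (Y.X a b).ncard = p - 1 := by
  have : Y.X a b = {x | Y.T a b x} \ {b} := rfl
  rw [this, Set.ncard_sdiff_singleton_of_mem (s := {x | Y.T a b x}) (Y.refl h), Y.ncard h]

theorem F_smul (g : G) {a b x : Ω} : g • x ∈ Y.F (g • a) (g • b) ↔ x ∈ Y.F a b := by
  constructor
  · rintro (h | h)
    · exact Or.inl (smul_left_cancel g h)
    · exact Or.inr (Y.smul' g h)
  · rintro (h | h)
    · exact Or.inl (by rw [h])
    · exact Or.inr (Y.smul g _ _ _ h)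

theorem X_smul (g : G) {a b x : Ω} : g • x ∈ Y.X (g • a) (g • b) ↔ x ∈ Y.X a b :=
  ⟨fun h => ⟨Y.smul' g h.1, fun e => h.2 (by rw [e])⟩,
    fun h => ⟨Y.smul g _ _ _ h.1, fun e => h.2 (smul_left_cancel g e)⟩⟩

theorem F_eq {a b c : Ω} (h : Y.T a b c) : Y.F a c = Y.F a b := by
  ext x
  exact or_congr Iff.rfl ⟨fun h' => Y.trans h h', fun h' => Y.trans (Y.symm h) h'⟩

theorem exists_not_T (hp : 1 < p) {a b : Ω} (h : b ≠ a) : ∃ c, c ≠ a ∧ ¬ Y.T a b c := by
  by_contra hc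
  push Not at hc
  have := Set.ncard_le_ncard (s := {x | x ≠ a}) (t := {c | Y.T a b c}) hc
  rw [Y.ncard h, ncard_ne Y.card] at this
  nlinarith

theorem st2 (hp : 1 < p) {a b : Ω} (hab : b ≠ a) {g : G} (hg : ∀ x ∈ Y.F a b, g • x ∈ Y.F a b) :
    g • a = a := by
  by_contra hga
  have hT : Y.T a b (g • a) := (hg a (Or.inl rfl)).resolve_left hga
  have heq : ∀ (h : G) c d, d ≠ c → (∀ x ∈ Y.F c d, h • x ∈ Y.F a b) →
      Y.F (h • c) (h • d) = Y.F a b := by
    intro h c d hcd hh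
    refine Set.eq_of_subset_of_ncard_le ?_ ?_
    · intro x hx
      have := hh (h⁻¹ • x) ((Y.F_smul h).1 (by simpa using hx))
      simpa using this
    · rw [Y.ncard_F hab, Y.ncard_F (fun e => hcd (smul_left_cancel h e))]
  have key : ∀ c ∈ Y.F a b, ∀ d ∈ Y.F a b, c ≠ d → Y.F c d = Y.F a b := by
    have k1 : ∀ c ∈ Y.F a b, ∃ d, d ≠ c ∧ Y.F c d = Y.F a b := by
      rintro c (rfl | hc)
      · exact ⟨b, hab, rfl⟩
      · obtain ⟨h, h1, h2⟩ := Y.two a (g • a) a c (Y.ne' hT).symm (Y.ne' hc).symm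
        have e1 : Y.F a c = Y.F a b := Y.F_eq hc
        have e2 : Y.F a (g • a) = Y.F a b := Y.F_eq hT
        refine ⟨(h * g) • b, fun e => hab (smul_left_cancel (h * g) (by rw [e, mul_smul, h2])), ?_⟩
        have := heq (h * g) a b hab (fun x hx => by
          rw [mul_smul, ← e1, ← h2]
          nth_rewrite 1 [← h1]
          rw [Y.F_smul, e2]
          exact hg x hx)
        rwa [mul_smul, h2] at this
    intro c hc d hd hcd
    obtain ⟨d', h1, h2⟩ := k1 c hc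
    rw [← h2] at hd ⊢
    exact Y.F_eq (hd.resolve_left hcd.symm)
  obtain ⟨x, hx1, hx2⟩ := Y.exists_not_T hp hab
  have := steiner (by omega) Y.card Y.F (fun _ _ _ => Or.inl rfl)
    (fun _ _ h => Or.inr (Y.refl h.symm)) (fun _ _ h => (Y.ncard_F h.symm).ge) ?_ hab.symm x
  · exact this.elim hx1 hx2
  · intro a' b' h c hc d hd hcd
    obtain ⟨k, rfl, rfl⟩ := Y.two a b a' b' hab.symm h
    have := key (k⁻¹ • c) ((Y.F_smul k).1 (by simpa using hc)) (k⁻¹ • d)
      ((Y.F_smul k).1 (by simpa using hd)) (fun e => hcd (smul_left_cancel _ e))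
    ext x
    rw [← Y.F_smul k⁻¹, this, ← Y.F_smul k, smul_inv_smul]

theorem X_ne (hp : 1 < p) {a b : Ω} (hab : b ≠ a) : Y.X a b ≠ Y.X b a := by
  intro e
  obtain ⟨g, h1, h2⟩ := Y.two a b b a hab.symm hab
  have := Y.st2 hp hab (g := g) (by
    rintro x (rfl | hx)
    · rw [h1]; exact Or.inr (Y.refl hab)
    · by_cases hxb : x = b
      · rw [hxb, h2]; exact Or.inl rfl
      · have : g • x ∈ Y.X (g • a) (g • b) := (Y.X_smul g).2 ⟨hx, hxb⟩
        rw [h1, h2, ← e] at this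
        exact Or.inr this.1)
  exact hab (h1.symm.trans this)

variable [FaithfulSMul G Ω]

theorem card_two (Y : Sys G Ω 2) (h2 : IsMultiplyPretransitive G Ω 2) : Nat.card G = 20 := by
  rw [card_of_sharp h2 (sharp_of_forall ?_) (by rw [Y.card]; norm_num), Y.card]
  · rfl
  intro x hx g hg
  have hab : x 0 ≠ x 1 := fun e => absurd (hx e) (by decide)
  refine steinerQ (p := 2) (by norm_num) Y.card Y.two (fun _ => True) (fun _ _ _ => trivial) hab ?_
    trivial (hg 0) (hg 1)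
  rw [← Y.ncard_F hab.symm]
  refine Set.ncard_le_ncard ?_
  rintro c (rfl | hc) g - h1 h2
  · exact h1
  · by_cases hcb : c = x 1
    · rw [hcb, h2]
    · have h3 := Y.ncard_X hab.symm
      obtain ⟨y, hy⟩ := Set.ncard_eq_one.1 h3
      have m1 : c ∈ Y.X (x 0) (x 1) := ⟨hc, hcb⟩
      have m2 := (Y.X_smul g).2 m1
      rw [h1, h2, hy] at m2
      rw [hy] at m1
      exact m2.trans m1.symm

include Y in
theorem step0 [hp : Fact p.Prime] {a b : Ω} (hab : b ≠ a) {g : G} {k : ℕ} (hg : g ^ p ^ k = 1)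
    (ha : g • a = a) (hb : g • b = b) : g = 1 := by
  refine steinerQ hp.out.pos Y.card Y.two (fun g => ∃ k, g ^ p ^ k = 1) ?_ hab.symm ?_ ⟨k, hg⟩ ha hb
  · rintro h g ⟨k, hk⟩
    exact ⟨k, by rw [conj_pow, hk]; simp⟩
  rw [← Y.ncard_F hab]
  refine Set.ncard_le_ncard ?_
  rintro c (rfl | hc) g ⟨k, hk⟩ h1 h2
  · exact h1
  · have hS : ∀ x ∈ {x | Y.T a b x}, g • x ∈ {x | Y.T a b x} := fun x hx => by
      have := Y.smul g _ _ _ hx
      rwa [h1, h2] at this
    have h3 := ncard_modEq_fixedBy hk _ (Set.toFinite _) hS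
    rw [Y.ncard hab] at h3
    have h4 : p ∣ {x | x ∈ {x | Y.T a b x} ∧ g • x = x}.ncard :=
      (Nat.modEq_zero_iff_dvd).1 (h3.symm.trans (Nat.modEq_zero_iff_dvd.2 dvd_rfl))
    have h5 : 0 < {x | x ∈ {x | Y.T a b x} ∧ g • x = x}.ncard :=
      (Set.ncard_pos).2 ⟨b, Y.refl hab, h2⟩
    have h6 := Set.eq_of_subset_of_ncard_le (s := {x | x ∈ {x | Y.T a b x} ∧ g • x = x})
      (t := {x | Y.T a b x}) (fun x hx => hx.1) (by rw [Y.ncard hab]; exact Nat.le_of_dvd h5 h4)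
    have : c ∈ {x | x ∈ {x | Y.T a b x} ∧ g • x = x} := by rw [h6]; exact hc
    exact this.2

end Sys

end Cfsg.Agent.Isaacs.DP
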