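import Mathlib
import Cfsg.Agent.Isaacs.DP1
import Cfsg.Agent.Perm.Burnside

set_option autoImplicit false
set_option linter.unusedSectionVars false

namespace Cfsg.Agent.Isaacs.DP

open MulAction Cfsg.Agent.Perm

variable {G Ω : Type*} [Group G] [Finite G] [Finite Ω] [MulAction G Ω] {p : ℕ}
  [FaithfulSMul G Ω] [hp : Fact p.Prime]

structure Loc (Y : Sys G Ω p) (a : Ω) where
  S : Subgroup G
  t : ZMod p → G
  fix : ∀ s ∈ S, s • a = a
  comm : ∀ s ∈ S, ∀ u ∈ S, s * u = u * s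
  card : Nat.card S = p ^ 2
  trans : ∀ x y : Ω, x ≠ a → y ≠ a → ∃ s ∈ S, s • x = y
  t_mem : ∀ j, t j ∈ S
  t_add : ∀ i j, t (i + j) = t i * t j
  t_inj : ∀ j, t j = 1 → j = 0
  blk : ∀ x y : Ω, x ≠ a → (Y.T a x y ↔ ∃ j, t j • x = y)
  pow_mem : ∀ s ∈ S, ∃ e, s ^ p = t e

theorem smul_ne {g : G} {a x : Ω} (h : g • a = a) (hx : x ≠ a) : g • x ≠ a :=
  fun e => hx (smul_left_cancel g (e.trans h.symm))

theorem Sys.exists_loc (Y : Sys G Ω p) (a : Ω) : Nonempty (Loc Y a) := by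
  classical
  obtain ⟨b, hb⟩ : ∃ b, b ≠ a := by
    have := (Set.ncard_pos (s := {x | x ≠ a})).1
      (by rw [ncard_ne Y.card]; exact pow_pos hp.out.pos 2)
    exact this
  have hd : p ^ 2 ∣ Nat.card (stabilizer G a) := by
    have h1 := index_stabilizer (stabilizer G a) b
    have h2 : orbit (stabilizer G a) b = {x | x ≠ a} := by
      ext x
      constructor
      · rintro ⟨g, rfl⟩; exact smul_ne g.2 hb
      · intro hx
        obtain ⟨g, h1, h2⟩ := Y.two a b a x hb.symm (Ne.symm hx)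
        exact ⟨⟨g, h1⟩, h2⟩
    rw [h2, ncard_ne Y.card] at h1
    rw [← h1]; exact Subgroup.index_dvd_card _
  obtain ⟨S0, hS0⟩ := Sylow.exists_subgroup_card_pow_prime p hd
  set S := S0.map (stabilizer G a).subtype with hS
  have hcard : Nat.card S = p ^ 2 := by
    rw [hS, Subgroup.card_map_of_injective (Subgroup.subtype_injective _), hS0]
  have hfix : ∀ s ∈ S, s • a = a := by
    rintro _ ⟨s, -, rfl⟩; exact s.2
  have hcomm : ∀ s ∈ S, ∀ u ∈ S, s * u = u * s := fun s hs u hu =>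
    congrArg Subtype.val
      ((IsPGroup.isMulCommutative_of_card_eq_prime_sq hcard).is_comm.comm ⟨s, hs⟩ ⟨u, hu⟩)
  have hfree : ∀ s ∈ S, ∀ x, x ≠ a → s • x = x → s = 1 := fun s hs x hx h => by
    refine Y.step0 hx (k := 2) ?_ (hfix s hs) h
    have := pow_card_eq_one' (x := (⟨s, hs⟩ : S))
    rw [hcard] at this
    exact congrArg Subtype.val this
  have hinj : ∀ x, x ≠ a → ∀ s ∈ S, ∀ u ∈ S, s • x = u • x → s = u := fun x hx s hs u hu h => by
    have := hfree (u⁻¹ * s) (S.mul_mem (S.inv_mem hu) hs) x hx (by rw [mul_smul, h, inv_smul_smul])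
    exact (inv_mul_eq_one.1 this).symm
  have htr : ∀ x y, x ≠ a → y ≠ a → ∃ s ∈ S, s • x = y := by
    intro x y hx hy
    have h1 : (fun s : G => s • x) '' (S : Set G) = {x | x ≠ a} := by
      refine Set.eq_of_subset_of_ncard_le ?_ ?_
      · rintro _ ⟨s, hs, rfl⟩; exact smul_ne (hfix s hs) hx
      · rw [Set.InjOn.ncard_image (fun s hs u hu h => hinj x hx s hs u hu h), ncard_ne Y.card,
          ← hcard]
        rfl
    have : y ∈ (fun s : G => s • x) '' (S : Set G) := h1 ▸ hy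
    exact this
  let P : Subgroup G :=
    { carrier := {s | s ∈ S ∧ Y.T a b (s • b)}
      mul_mem' := fun {s u} hs hu => ⟨S.mul_mem hs.1 hu.1, by
        have := Y.smul s _ _ _ hu.2
        rw [hfix s hs.1] at this
        rw [mul_smul]; exact Y.trans hs.2 this⟩
      one_mem' := ⟨S.one_mem, by rw [one_smul]; exact Y.refl hb⟩
      inv_mem' := fun {s} hs => ⟨S.inv_mem hs.1, by
        have := Y.smul s⁻¹ _ _ _ hs.2
        rw [hfix _ (S.inv_mem hs.1), inv_smul_smul] at this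
        exact Y.symm this⟩ }
  have hPS : P ≤ S := fun s hs => hs.1
  have hP : Nat.card P = p := by
    have h1 : (fun s : G => s • b) '' (P : Set G) = {x | Y.T a b x} := by
      ext x
      constructor
      · rintro ⟨s, hs, rfl⟩; exact hs.2
      · intro hx
        obtain ⟨s, hs, rfl⟩ := htr b x hb (Y.ne' hx)
        exact ⟨s, ⟨hs, hx⟩, rfl⟩
    have h2 := Y.ncard hb
    rw [← h1, Set.InjOn.ncard_image (fun s hs u hu h => hinj b hb s hs.1 u hu.1 h)] at h2
    exact h2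
  obtain ⟨τ, hτ, hPτ⟩ := exists_zpowers_eq_of_card_prime P hP
  have hmem : ∀ s, s ∈ P ↔ ∃ j : ZMod p, τ ^ j.val = s := by
    intro s
    rw [hPτ, mem_zpowers_iff_mem_range_orderOf, hτ]
    simp only [Finset.mem_image, Finset.mem_range]
    constructor
    · rintro ⟨i, hi, rfl⟩
      exact ⟨i, by rw [ZMod.val_cast_of_lt hi]⟩
    · rintro ⟨j, rfl⟩
      exact ⟨j.val, ZMod.val_lt j, rfl⟩
  refine ⟨⟨S, fun j => τ ^ j.val, hfix, hcomm, hcard, htr, fun j => hPS ((hmem _).2 ⟨j, rfl⟩),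
    ?_, ?_, ?_, ?_⟩⟩
  · intro i j
    rw [ZMod.val_add, ← pow_add]
    have := pow_mod_orderOf τ (i.val + j.val)
    rwa [hτ] at this
  · intro j hj
    have := orderOf_dvd_of_pow_eq_one hj
    rw [hτ] at this
    exact (ZMod.val_eq_zero j).1 (Nat.eq_zero_of_dvd_of_lt this (ZMod.val_lt j))
  · intro x y hx
    obtain ⟨v, hv, rfl⟩ := htr b x hb hx
    constructor
    · intro h
      obtain ⟨w, hw, rfl⟩ := htr _ y hx (Y.ne' h)
      have : w ∈ P := ⟨hw, Y.smul' v (by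
        rw [hfix v hv, ← mul_smul, hcomm v hv w hw, mul_smul]; exact h)⟩
      obtain ⟨j, rfl⟩ := (hmem _).1 this
      exact ⟨j, rfl⟩
    · rintro ⟨j, rfl⟩
      have h1 := (hmem _).2 ⟨j, rfl⟩
      have := Y.smul v _ _ _ h1.2
      rwa [hfix v hv, ← mul_smul, hcomm v hv _ h1.1, mul_smul] at this
  · intro s hs
    have : (P.subgroupOf S).Normal := ⟨fun n hn g => by
      have : g * n * g⁻¹ = n := Subtype.ext (by
        simp only [Subgroup.coe_mul, Subgroup.coe_inv]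
        rw [hcomm _ g.2 _ n.2, mul_inv_cancel_right])
      rwa [this]⟩
    have h1 := Subgroup.pow_index_mem (P.subgroupOf S) ⟨s, hs⟩
    have h2 := Subgroup.card_mul_index (P.subgroupOf S)
    rw [Nat.card_congr (Subgroup.subgroupOfEquivOfLe hPS).toEquiv, hP, hcard, pow_two] at h2
    rw [Nat.eq_of_mul_eq_mul_left hp.out.pos h2] at h1
    obtain ⟨j, hj⟩ := (hmem _).1 h1
    exact ⟨j, hj.symm⟩

def Sys.K (Y : Sys G Ω p) (a : Ω) : Subgroup G where
  carrier := {g | g • a = a ∧ ∀ x, x ≠ a → Y.T a x (g • x)}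
  mul_mem' := fun {g h} hg hh => ⟨by rw [mul_smul, hh.1, hg.1], fun x hx => by
    rw [mul_smul]; exact Y.trans (hh.2 x hx) (hg.2 _ (smul_ne hh.1 hx))⟩
  one_mem' := ⟨one_smul _ _, fun x hx => by rw [one_smul]; exact Y.refl hx⟩
  inv_mem' := fun {g} hg => by
    have h1 : g⁻¹ • a = a := by rw [inv_smul_eq_iff, hg.1]
    refine ⟨h1, fun x hx => Y.symm ?_⟩
    simpa using hg.2 _ (smul_ne h1 hx)

theorem Sys.K_conj (Y : Sys G Ω p) {a : Ω} {k : G} (hk : k ∈ Y.K a) (h : G) :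
    h * k * h⁻¹ ∈ Y.K (h • a) := by
  refine ⟨by simp [mul_smul, hk.1], fun x hx => Y.smul' h⁻¹ ?_⟩
  have := hk.2 (h⁻¹ • x) (fun e => hx (by rw [← e, smul_inv_smul]))
  simpa [mul_smul] using this

theorem Sys.K_conj' (Y : Sys G Ω p) {a : Ω} {k h : G} (hk : k ∈ Y.K a) (ha : h • a = a) :
    h⁻¹ * k * h ∈ Y.K a := by
  have := Y.K_conj hk h⁻¹
  rwa [inv_inv, inv_smul_eq_iff.2 ha.symm] at this

namespace Loc
variable {Y : Sys G Ω p} {a : Ω} (L : Loc Y a)

theorem pow_sq {s : G} (hs : s ∈ L.S) : s ^ p ^ 2 = 1 := by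
  have := pow_card_eq_one' (x := (⟨s, hs⟩ : L.S))
  rw [L.card] at this
  exact congrArg Subtype.val this

theorem free {s : G} (hs : s ∈ L.S) {x : Ω} (hx : x ≠ a) (h : s • x = x) : s = 1 :=
  Y.step0 hx (L.pow_sq hs) (L.fix s hs) h

theorem inj {s u : G} (hs : s ∈ L.S) (hu : u ∈ L.S) {x : Ω} (hx : x ≠ a) (h : s • x = u • x) :
    s = u := by
  have := L.free (L.S.mul_mem (L.S.inv_mem hu) hs) hx (by rw [mul_smul, h, inv_smul_smul])
  exact (inv_mul_eq_one.1 this).symm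

theorem t_zero : L.t 0 = 1 := by
  have := L.t_add 0 0
  rw [add_zero] at this
  exact left_eq_mul.1 this

theorem t_neg (j : ZMod p) : L.t (-j) = (L.t j)⁻¹ :=
  eq_inv_of_mul_eq_one_left (by rw [← L.t_add, neg_add_cancel, L.t_zero])

theorem t_pow (j : ZMod p) (n : ℕ) : L.t j ^ n = L.t (n * j) := by
  induction n with
  | zero => simp [L.t_zero]
  | succ n ih => rw [pow_succ, ih, ← L.t_add]; congr 1; push_cast; ring

theorem t_pow_p (j : ZMod p) : L.t j ^ p = 1 := by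
  rw [L.t_pow, ZMod.natCast_self, zero_mul, L.t_zero]

theorem t_inj' {i j : ZMod p} (h : L.t i = L.t j) : i = j :=
  sub_eq_zero.1 (L.t_inj _ (by rw [sub_eq_add_neg, L.t_add, L.t_neg, h, mul_inv_cancel]))

theorem t_smul_inj {i j : ZMod p} {x : Ω} (hx : x ≠ a) (h : L.t i • x = L.t j • x) : i = j :=
  L.t_inj' (L.inj (L.t_mem i) (L.t_mem j) hx h)

theorem t_K (j : ZMod p) : L.t j ∈ Y.K a :=
  ⟨L.fix _ (L.t_mem j), fun x hx => (L.blk x _ hx).2 ⟨j, rfl⟩⟩

theorem dich {b : Ω} (hb : b ≠ a) :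
    (∀ g ∈ Y.K a, g ^ p = 1 → ∃ j, ∀ x, Y.T a b x → g • x = L.t j • x) ∨
    (∀ c d, c ∈ Y.X a b → d ∈ Y.X a b → ∃ k ∈ Y.K a, k • b = b ∧ k • c = d) := by
  let B : SubMulAction (Y.K a) Ω :=
    { carrier := {x | Y.T a b x}
      smul_mem' := fun k x hx => Y.trans hx (k.2.2 x (Y.ne' hx)) }
  let f : ZMod p → B := fun j => ⟨L.t j • b, (L.blk b _ hb).2 ⟨j, rfl⟩⟩
  have hf : Function.Bijective f := ⟨fun i j h => L.t_smul_inj hb (congrArg Subtype.val h),
    fun x => by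
      obtain ⟨j, hj⟩ := (L.blk b x hb).1 x.2
      exact ⟨j, Subtype.ext hj⟩⟩
  let e := (Equiv.ofBijective f hf).symm
  have he : ∀ j (x : B), e ((⟨L.t j, L.t_K j⟩ : Y.K a) • x) = e x + j := by
    intro j x
    obtain ⟨i, rfl⟩ := hf.2 x
    have h1 : ∀ i, e (f i) = i := fun i => (Equiv.ofBijective f hf).symm_apply_apply i
    rw [h1, ← h1 (i + j)]
    congr 1
    apply Subtype.ext
    change L.t j • L.t i • b = L.t (i + j) • b
    rw [add_comm, L.t_add, mul_smul]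
  rcases affine_or_two_trans (he 1) with h | h
  · left
    intro g hg hgp
    obtain ⟨α, β, h⟩ := h ⟨g, hg⟩
    have h1 : ∀ (n : ℕ) (x y : B), e ((⟨g, hg⟩ : Y.K a) ^ n • x) - e ((⟨g, hg⟩ : Y.K a) ^ n • y) =
        α ^ n * (e x - e y) := by
      intro n x y
      induction n with
      | zero => simp
      | succ n ih => rw [pow_succ', mul_smul, mul_smul, h, h, pow_succ', mul_assoc, ← ih]; ring
    have h2 := h1 p (e.symm 1) (e.symm 0)
    have h3 : (⟨g, hg⟩ : Y.K a) ^ p = 1 := Subtype.ext hgp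
    rw [h3, ZMod.pow_card] at h2
    simp only [one_smul, Equiv.apply_symm_apply, sub_zero, mul_one] at h2
    refine ⟨β, fun x hx => ?_⟩
    have h4 := h ⟨x, hx⟩
    rw [← h2, one_mul, ← he] at h4
    exact congrArg Subtype.val (e.injective h4)
  · right
    intro c d hc hd
    obtain ⟨k, h1, h2⟩ := two_trans h (a := ⟨b, Y.refl hb⟩) (b := ⟨c, hc.1⟩) (c := ⟨b, Y.refl hb⟩)
      (d := ⟨d, hd.1⟩) (fun e => hc.2 (congrArg Subtype.val e).symm)
      (fun e => hd.2 (congrArg Subtype.val e).symm)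
    exact ⟨k, k.2, congrArg Subtype.val h1, congrArg Subtype.val h2⟩

theorem ncard_ge {v : G} (hv : v ∈ L.S) (h1 : v ≠ 1) {x : Ω} (hx : x ≠ a) {A : Set Ω} (ha : a ∈ A)
    (hA : ∀ i : ℕ, v ^ i • x ∈ A) : p + 1 ≤ A.ncard := by
  have ho : p ≤ orderOf v := by
    obtain ⟨i, hi, h⟩ := (Nat.dvd_prime_pow hp.out).1 (orderOf_dvd_of_pow_eq_one (L.pow_sq hv))
    rcases i with _ | i
    · exact absurd (orderOf_eq_one_iff.1 (by simpa using h)) h1
    · rw [h]; exact Nat.le_of_dvd (pow_pos hp.out.pos _) (dvd_pow_self p (by omega))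
  have h2 : ((fun i : ℕ => v ^ i • x) '' Set.Iio p).ncard = p := by
    rw [Set.InjOn.ncard_image, Set.ncard_eq_toFinset_card']
    · simp
    · intro i hi j hj h
      exact pow_injOn_Iio_orderOf (lt_of_lt_of_le hi ho) (lt_of_lt_of_le hj ho)
        (L.inj (L.S.pow_mem hv i) (L.S.pow_mem hv j) hx h)
  rw [← h2, ← Set.ncard_insert_of_notMem (a := a)]
  · refine Set.ncard_le_ncard ?_
    rintro y (rfl | ⟨i, -, rfl⟩)
    · exact ha
    · exact hA i
  · rintro ⟨i, -, h⟩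
    exact smul_ne (L.fix _ (L.S.pow_mem hv i)) hx h

end Loc

theorem Sys.fix3 (Y : Sys G Ω p) {a b y : Ω} (hb : b ≠ a) (hy : y ≠ a) (hyb : y ≠ b)
    (h : ∀ g : G, g • a = a → g • b = b → g • y = y) {g : G} (h1 : g • a = a) (h2 : g • b = b) :
    g = 1 := by
  obtain ⟨L⟩ := Y.exists_loc a
  obtain ⟨v, hv, rfl⟩ := L.trans b y hb hy
  refine steinerQ hp.out.pos Y.card Y.two (fun _ => True) (fun _ _ _ => trivial) hb.symm ?_
    trivial h1 h2
  refine L.ncard_ge hv (fun e => hyb (by rw [e, one_smul])) hb (fun g _ h _ => h) ?_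
  intro i
  induction i with
  | zero => intro g _ _ h; simpa using h
  | succ i ih =>
    intro g _ h1 h2
    have := ih (v⁻¹ * g * v) trivial
      (by rw [mul_smul, mul_smul, L.fix v hv, h1, L.fix _ (L.S.inv_mem hv)])
      (by rw [mul_smul, mul_smul, h g h1 h2, inv_smul_smul])
    rw [mul_smul, mul_smul, inv_smul_eq_iff] at this
    rw [pow_succ', mul_smul, this]

end Cfsg.Agent.Isaacs.DP
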