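import Mathlib
import Cfsg.Agent.Isaacs.DP2

set_option autoImplicit false
set_option linter.unusedSectionVars false

namespace Cfsg.Agent.Isaacs.DP

open MulAction Cfsg.Agent.Perm

section Alg
variable {p : ℕ} [hp : Fact p.Prime]

def cc (D : Finset (ZMod p)) : ℕ → ZMod p → ℤ
  | 0 => fun y => if y = 0 then 1 else 0
  | m + 1 => fun y => ∑ d ∈ D, cc D m (y - d)

theorem cc_sum {R : Type*} [CommRing R] (ψ : ZMod p → R) (h0 : ψ 0 = 1)
    (h : ∀ x y, ψ (x + y) = ψ x * ψ y) (D : Finset (ZMod p)) (m : ℕ) :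
    ∑ y, (cc D m y : R) * ψ y = (∑ d ∈ D, ψ d) ^ m := by
  induction m with
  | zero => simp [cc, h0]
  | succ m ih =>
    simp only [cc, Int.cast_sum, Finset.sum_mul]
    rw [Finset.sum_comm, pow_succ, ← ih, Finset.mul_sum]
    refine Finset.sum_congr rfl fun d _ => ?_
    rw [Finset.sum_mul, ← Equiv.sum_comp (Equiv.addRight d)]
    refine Finset.sum_congr rfl fun y _ => ?_
    simp [h, mul_assoc]

theorem cc_mod (D : Finset (ZMod p)) (y : ZMod p) :
    (cc D p y : ZMod p) = if y = 0 then (D.card : ZMod p) else 0 := by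
  haveI : CharP (AddMonoidAlgebra (ZMod p) (ZMod p)) p :=
    charP_of_injective_algebraMap' (ZMod p) p
  have := cc_sum (R := AddMonoidAlgebra (ZMod p) (ZMod p)) (fun y => AddMonoidAlgebra.single y 1)
    rfl (fun x y => by rw [AddMonoidAlgebra.single_mul_single, one_mul]) D p
  rw [sum_pow_char] at this
  simp only [AddMonoidAlgebra.single_pow, one_pow, nsmul_eq_mul, ZMod.natCast_self, zero_mul,
    Finset.sum_const, ← zsmul_eq_mul] at this
  have h2 := congrArg (fun f => f.coeff y) this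
  simp [Finsupp.single_apply, AddMonoidAlgebra.natCast_def] at h2
  rw [h2]
  simp [eq_comm]

theorem lin {ζ : ℂ} (hζ : IsPrimitiveRoot ζ p) (α : ZMod p → ℤ) :
    ∑ y, α y * ζ ^ y.val = 0 ↔ ∀ i j, α i = α j := by
  obtain ⟨n, rfl⟩ : ∃ n, p = n + 1 := ⟨p - 1, by have := hp.out.pos; omega⟩
  exact IsPrimitiveRoot.sum_eq_zero_iff_forall_eq_int hp.out hζ α

theorem exists_ne2 (hp2 : p ≠ 2) (u v : ZMod p) : ∃ y, y ≠ u ∧ y ≠ v := by
  by_contra h
  push Not at h
  have : (Finset.univ : Finset (ZMod p)) ⊆ {u, v} := fun y _ => by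
    by_cases hy : y = u
    · simp [hy]
    · simp [h y hy]
  have h1 := (Finset.card_le_card this).trans Finset.card_le_two
  rw [Finset.card_univ, ZMod.card] at h1
  have := hp.out.two_le
  omega

theorem schur (hp2 : p ≠ 2) (D : Finset (ZMod p)) (h1 : D.Nonempty) (h2 : D ≠ Finset.univ)
    (e : ZMod p) (h : ∀ y y', y ≠ e → y' ≠ e → cc D p y = cc D p y') :
    ∃ μ, D = {μ} ∨ D = {μ}ᶜ := by
  have hD : (D.card : ZMod p) ≠ 0 := by
    intro h0
    have h3 := (ZMod.natCast_eq_zero_iff _ _).1 h0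
    have h4 := Finset.card_lt_card (Finset.ssubset_univ_iff.2 h2)
    rw [Finset.card_univ, ZMod.card] at h4
    exact absurd (Nat.le_of_dvd h1.card_pos h3) (by omega)
  have he : e = 0 := by
    by_contra he
    obtain ⟨y, hy1, hy2⟩ := exists_ne2 hp2 e 0
    have := congrArg (Int.cast : ℤ → ZMod p) (h y 0 hy1 (Ne.symm he))
    rw [cc_mod, cc_mod, if_neg hy2, if_pos rfl] at this
    exact hD this.symm
  subst he
  have hζ := Complex.isPrimitiveRoot_exp p hp.out.ne_zero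
  set ζ := Complex.exp (2 * Real.pi * Complex.I / p)
  let ψ : ZMod p → ℂ := fun y => ζ ^ y.val
  have ψ0 : ψ 0 = 1 := by simp [ψ]
  have ψa : ∀ x y, ψ (x + y) = ψ x * ψ y := fun x y => by
    simp only [ψ]
    rw [ZMod.val_add, ← pow_add]
    conv_rhs => rw [← Nat.mod_add_div (x.val + y.val) p, pow_add, pow_mul, hζ.pow_eq_one, one_pow,
      mul_one]
  have ψs : ∑ y, ψ y = 0 := by simpa using (lin hζ fun _ => 1).2 fun _ _ => rfl
  have hl : ∀ j : ZMod p, j ≠ 0 → (∑ d ∈ D, ψ (j * d)) ^ p = cc D p 0 - cc D p 1 := by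
    intro j hj
    rw [← cc_sum (fun y => ψ (j * y)) (by simpa using ψ0) (fun x y => by rw [mul_add, ψa])]
    have h3 : ∑ y, ψ (j * y) = 0 := by
      rw [← ψs]; exact Equiv.sum_comp (Equiv.mulLeft₀ j hj) ψ
    have h4 : ∀ y, (cc D p y : ℂ) * ψ (j * y) =
        cc D p 1 * ψ (j * y) + if y = 0 then ((cc D p 0 : ℂ) - cc D p 1) else 0 := by
      intro y
      split_ifs with hy
      · rw [hy, mul_zero, ψ0]; ring
      · rw [h y 1 hy one_ne_zero, add_zero]
    simp only [h4, Finset.sum_add_distrib, ← Finset.mul_sum, h3]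
    simp
  have hind : ∀ E : Finset (ZMod p),
      ∑ y, ((if y ∈ E then 1 else 0 : ℤ) : ℂ) * ζ ^ y.val = ∑ d ∈ E, ψ d := by
    intro E
    simp [ψ]
  have hl1 : ∑ d ∈ D, ψ d ≠ 0 := by
    intro h0
    have := (lin hζ fun y => if y ∈ D then 1 else 0).1 ((hind D).trans h0)
    obtain ⟨u, hu⟩ := h1
    obtain ⟨v, hv⟩ : ∃ v, v ∉ D := by
      by_contra hc; push Not at hc; exact h2 (Finset.eq_univ_of_forall hc)
    simpa [hu, hv] using this u v
  have key : ∀ (j : ZMod p) (hj : j ≠ 0), ∃ c, D.map (Equiv.mulLeft₀ j hj).toEmbedding =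
      D.map (Equiv.addRight c).toEmbedding := by
    intro j hj
    have h3 : ((∑ d ∈ D, ψ (j * d)) / ∑ d ∈ D, ψ d) ^ p = 1 := by
      have := hl 1 one_ne_zero
      simp only [one_mul] at this
      rw [div_pow, hl j hj, ← this, div_self (pow_ne_zero _ hl1)]
    obtain ⟨c, hc, h4⟩ := hζ.eq_pow_of_pow_eq_one h3
    refine ⟨c, ?_⟩
    set A := D.map (Equiv.mulLeft₀ j hj).toEmbedding with hA
    set B := D.map (Equiv.addRight (c : ZMod p)).toEmbedding with hB
    have h5 : ∑ d ∈ A, ψ d = ∑ d ∈ B, ψ d := by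
      rw [hA, hB, Finset.sum_map, Finset.sum_map]
      simp only [Equiv.coe_toEmbedding, Equiv.mulLeft₀_apply, Equiv.coe_addRight, ψa,
        ← Finset.sum_mul]
      rw [eq_div_iff hl1] at h4
      rw [← h4, mul_comm]
      simp [ψ, ZMod.val_cast_of_lt hc]
    have h6 := (lin hζ fun y => (if y ∈ A then 1 else 0) - (if y ∈ B then 1 else 0)).1 (by
      simp only [Int.cast_sub, sub_mul, Finset.sum_sub_distrib, hind, h5, sub_self])
    refine Finset.eq_of_subset_of_card_le (fun y hy => ?_) (by simp [hA, hB])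
    by_contra hyB
    have hBe : B.Nonempty := h1.map
    obtain ⟨z, hz⟩ := hBe
    have := h6 y z
    simp only [hy, hyB, hz, if_true, if_false] at this
    split_ifs at this <;> omega
  set μ := (∑ d ∈ D, d) / D.card with hμ
  have key2 : ∀ j : ZMod p, j ≠ 0 → ∀ d ∈ D, j * (d - μ) + μ ∈ D := by
    intro j hj d hd
    obtain ⟨c, hc⟩ := key j hj
    have h3 := congrArg (fun E => ∑ d ∈ E, d) hc
    simp only [Finset.sum_map, Equiv.coe_toEmbedding, Equiv.mulLeft₀_apply, Equiv.coe_addRight,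
      Finset.sum_add_distrib, Finset.sum_const, nsmul_eq_mul] at h3
    have h3' : j * ∑ d ∈ D, d = ∑ d ∈ D, j * d := Finset.mul_sum _ _ _
    have h4 : j * d ∈ D.map (Equiv.addRight c).toEmbedding := by
      rw [← hc]; exact Finset.mem_map_of_mem _ hd
    obtain ⟨d', hd', h5⟩ := Finset.mem_map.1 h4
    simp only [Equiv.coe_toEmbedding, Equiv.coe_addRight] at h5
    have : j * (d - μ) + μ = d' := by
      rw [hμ]; field_simp; linear_combination (-(D.card : ZMod p)) * h5 - h3 - h3'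
    rwa [this]
  refine ⟨μ, ?_⟩
  by_cases h3 : ∀ d ∈ D, d = μ
  · left
    exact Finset.eq_singleton_iff_nonempty_unique_mem.2 ⟨h1, h3⟩
  · right
    push Not at h3
    obtain ⟨d, hd, hdμ⟩ := h3
    have h4 : ∀ y, y ≠ μ → y ∈ D := by
      intro y hy
      have := key2 ((y - μ) / (d - μ)) (div_ne_zero (sub_ne_zero.2 hy) (sub_ne_zero.2 hdμ)) d hd
      rwa [div_mul_cancel₀ _ (sub_ne_zero.2 hdμ), sub_add_cancel] at this
    ext y
    simp only [Finset.mem_compl, Finset.mem_singleton]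
    refine ⟨fun hy e => h2 (Finset.eq_univ_of_forall fun z => ?_), h4 y⟩
    by_cases hz : z = μ
    · rw [hz, ← e]; exact hy
    · exact h4 z hz

end Alg

variable {G Ω : Type*} [Group G] [Finite G] [Finite Ω] [MulAction G Ω] {p : ℕ}
  [FaithfulSMul G Ω] [hp : Fact p.Prime]

namespace Sys
variable (Y : Sys G Ω p)

def I : Prop := ∀ a b c d, c ∈ Y.X a b → d ∈ Y.X a b → ∃ k ∈ Y.K a, k • b = b ∧ k • c = d

theorem I_of {a b : Ω} (hb : b ≠ a)
    (h : ∀ c d, c ∈ Y.X a b → d ∈ Y.X a b → ∃ k ∈ Y.K a, k • b = b ∧ k • c = d) : Y.I := by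
  intro a' b' c d hc hd
  obtain ⟨g, rfl, rfl⟩ := Y.two a b a' b' hb.symm (Y.ne hc.1).symm
  obtain ⟨k, hk, h1, h2⟩ := h (g⁻¹ • c) (g⁻¹ • d) ((Y.X_smul g).1 (by simpa using hc))
    ((Y.X_smul g).1 (by simpa using hd))
  exact ⟨g * k * g⁻¹, Y.K_conj hk g, by simp [mul_smul, h1], by simp [mul_smul, h2]⟩

variable {Y}

theorem fixE (hp2 : p ≠ 2) (hI : Y.I) {a b c : Ω} (hb : b ≠ a) (hc : c ≠ a) :
    ∃ y, Y.T a c y ∧ ∀ k ∈ Y.K a, k • b = b → k • y = y := by
  classical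
  obtain ⟨L⟩ := Y.exists_loc a
  obtain ⟨s, hs, rfl⟩ := L.trans b c hb hc
  have hst : ∀ j (x : Ω), s • L.t j • x = L.t j • s • x := fun j x => by
    rw [← mul_smul, L.comm s hs _ (L.t_mem j), mul_smul]
  set D := Finset.univ.filter fun y => ∃ k ∈ Y.K a, k • b = b ∧ k • s • b = L.t y • s • b with hD
  have hmD : ∀ y, y ∈ D ↔ ∃ k ∈ Y.K a, k • b = b ∧ k • s • b = L.t y • s • b := by simp [hD]
  have hED : ∀ k ∈ Y.K a, k • b = b → ∀ y, ∃ y', k • L.t y • s • b = L.t y' • s • b ∧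
      (y ∈ D → y' ∈ D) := by
    intro k hk hkb y
    obtain ⟨y', hy'⟩ := (L.blk _ _ hc).1 (((Y.K a).mul_mem hk (L.t_K y)).2 _ hc)
    refine ⟨y', by rw [hy', mul_smul], fun hy => ?_⟩
    obtain ⟨k', h1, h2, h3⟩ := (hmD _).1 hy
    exact (hmD _).2 ⟨k * k', (Y.K a).mul_mem hk h1, by rw [mul_smul, h2, hkb],
      by rw [mul_smul, h3, hy', mul_smul]⟩
  have inv : ∀ k ∈ Y.K a, ∀ x, x ≠ a → ∀ d ∈ D, ∃ d' ∈ D,
      k • s • L.t d • x = s • L.t d' • k • x := by
    intro k hk x hx d hd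
    obtain ⟨v, hv, rfl⟩ := L.trans b x hb hx
    have hk' := Y.K_conj' hk (L.fix v hv)
    obtain ⟨j, hj⟩ := (L.blk _ _ hb).1 (hk'.2 b hb)
    obtain ⟨d', h1, h2⟩ := hED ((L.t j)⁻¹ * (v⁻¹ * k * v))
      ((Y.K a).mul_mem ((Y.K a).inv_mem (L.t_K j)) hk') (by rw [mul_smul, ← hj, inv_smul_smul]) d
    refine ⟨d', h2 hd, ?_⟩
    have e1 : k • v • b = v • L.t j • b := by rw [hj]; simp [mul_smul]
    simp only [mul_smul, inv_smul_eq_iff] at h1
    have e2 : s • L.t d • v • b = v • L.t d • s • b := by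
      simp only [← mul_smul]
      congr 1
      rw [L.comm _ (L.t_mem d) v hv, ← mul_assoc, L.comm s hs v hv, mul_assoc,
        L.comm s hs _ (L.t_mem d)]
    rw [e1, e2, h1]
    simp only [← mul_smul]
    congr 1
    rw [L.comm _ (L.t_mem d') s hs, ← mul_assoc v, ← mul_assoc s,
      L.comm _ (L.S.mul_mem hv (L.t_mem j)) _ (L.S.mul_mem hs (L.t_mem d'))]
  have cinv : ∀ m, ∀ k ∈ Y.K a, ∀ x, x ≠ a → ∀ y y',
      k • s ^ m • L.t y • x = s ^ m • L.t y' • k • x → cc D m y = cc D m y' := by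
    intro m
    induction m with
    | zero =>
      intro k hk x hx y y' h
      simp only [pow_zero, one_smul] at h
      have : y = 0 ↔ y' = 0 := by
        constructor
        · rintro rfl
          rw [L.t_zero, one_smul] at h
          exact L.t_inj _ (L.free (L.t_mem _) (smul_ne hk.1 hx) h.symm)
        · rintro rfl
          rw [L.t_zero, one_smul] at h
          exact L.t_inj _ (L.free (L.t_mem _) hx (smul_left_cancel k h))
      simp only [cc, this]
    | succ m ih =>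
      intro k hk x hx y y' h
      choose φ hφ1 hφ2 using inv k hk x hx
      have hinj : ∀ d hd d' hd', φ d hd = φ d' hd' → d = d' := fun d hd d' hd' e => by
        have := hφ2 d hd
        rw [e, ← hφ2 d' hd'] at this
        exact L.t_smul_inj hx (smul_left_cancel s (smul_left_cancel k this))
      have hm : ∀ (y d : ZMod p) (x : Ω),
          s ^ m • L.t (y - d) • s • L.t d • x = s ^ (m + 1) • L.t y • x := fun y d x => by
        rw [← hst, ← mul_smul (L.t _), ← L.t_add, sub_add_cancel, pow_succ, mul_smul]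
      simp only [cc]
      refine Finset.sum_bij φ hφ1 hinj (fun b hb => ?_) (fun d hd => ?_)
      · obtain ⟨d, hd, e⟩ := Finset.surj_on_of_inj_on_of_card_le φ hφ1
          (fun a b ha hb => hinj a ha b hb) le_rfl b hb
        exact ⟨d, hd, e.symm⟩
      · refine ih k hk (s • L.t d • x)
          (smul_ne (L.fix s hs) (smul_ne (L.fix _ (L.t_mem d)) hx)) _ _ ?_
        rw [hm, h, hφ2 d hd, hm]
  obtain ⟨e, he⟩ := L.pow_mem s hs
  have hX : ∀ y, y ≠ -e → L.t e • L.t y • b ∈ Y.X a b := fun y hy => by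
    rw [← mul_smul, ← L.t_add]
    refine ⟨(L.blk _ _ hb).2 ⟨_, rfl⟩, fun h => hy ?_⟩
    exact eq_neg_of_add_eq_zero_right (L.t_inj _ (L.free (L.t_mem _) hb h))
  have hne : D ≠ Finset.univ := by
    intro hDu
    let E := Y.K a ⊓ stabilizer G b
    have h1 := index_stabilizer E (s • b)
    have h2 : orbit E (s • b) = {x | Y.T a (s • b) x} := by
      ext x
      constructor
      · rintro ⟨k, rfl⟩; exact k.2.1.2 _ hc
      · intro hx
        obtain ⟨j, rfl⟩ := (L.blk _ _ hc).1 hx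
        obtain ⟨k, h1, h2, h3⟩ := (hmD j).1 (hDu ▸ Finset.mem_univ _)
        exact ⟨⟨k, h1, h2⟩, h3⟩
    rw [h2, Y.ncard hc] at h1
    obtain ⟨g, hg⟩ := exists_prime_orderOf_dvd_card' (G := E) p
      (by rw [← h1]; exact Subgroup.index_dvd_card _)
    have h3 : (g : G) = 1 := Y.step0 hb (k := 1)
      (by rw [pow_one, ← hg, ← Subgroup.coe_pow, pow_orderOf_eq_one]; rfl) g.2.1.1 g.2.2
    rw [show g = 1 from Subtype.ext h3, orderOf_one] at hg
    exact hp.out.one_lt.ne hg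
  obtain ⟨μ, hμ⟩ := schur hp2 D
    ⟨0, (hmD 0).2 ⟨1, (Y.K a).one_mem, one_smul _ _, by rw [L.t_zero]⟩⟩ hne (-e) (by
      intro y y' hy hy'
      obtain ⟨k, hk, h1, h2⟩ := hI a b _ _ (hX y hy) (hX y' hy')
      exact cinv p k hk b hb y y' (by rw [he, h1, h2]))
  refine ⟨L.t μ • s • b, (L.blk _ _ hc).2 ⟨μ, rfl⟩, fun k hk hkb => ?_⟩
  obtain ⟨y', h1, h2⟩ := hED k hk hkb μ
  rcases hμ with hμ | hμ
  · rw [hμ, Finset.mem_singleton, Finset.mem_singleton] at h2
    rw [h1, h2 rfl]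
  · obtain ⟨y'', h3, h4⟩ := hED k⁻¹ ((Y.K a).inv_mem hk) (inv_smul_eq_iff.2 hkb.symm) y'
    rw [← h1, inv_smul_smul] at h3
    rw [← L.t_smul_inj hc h3, hμ] at h4
    have : y' = μ := by simpa using h4
    rw [h1, this]

theorem exists_two (hp2 : p ≠ 2) {a b : Ω} (hb : b ≠ a) (c : Ω) : ∃ d ∈ Y.X a b, d ≠ c := by
  have := hp.out.two_le
  exact Set.exists_ne_of_one_lt_ncard (by rw [Y.ncard_X hb]; omega) c

theorem of_fix_eq (hp2 : p ≠ 2) (hI : Y.I) {a b v : Ω} (hT : Y.T a b v)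
    (h : ∀ k ∈ Y.K a, k • b = b → k • v = v) : v = b := by
  by_contra hv
  obtain ⟨d, hd, hdv⟩ := exists_two (Y := Y) hp2 (Y.ne hT) v
  obtain ⟨k, hk, h1, h2⟩ := hI a b v d ⟨hT, hv⟩ hd
  exact hdv (h2.symm.trans (h k hk h1))

theorem fix_symm (hp2 : p ≠ 2) (hI : Y.I) {a b v : Ω} (hb : b ≠ a) (hv : v ≠ a)
    (h : ∀ k ∈ Y.K a, k • b = b → k • v = v) : ∀ k ∈ Y.K a, k • v = v → k • b = b := by
  obtain ⟨y, h1, h2⟩ := fixE hp2 hI hv hb
  rwa [of_fix_eq hp2 hI h1 fun k hk hkb => h2 k hk (h k hk hkb)] at h2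

theorem classify (hp2 : p ≠ 2) (hI : Y.I) {a b : Ω} (hb : b ≠ a) (W : Set Ω)
    (hW : W.ncard = p - 1) (ha : a ∉ W) (hbW : b ∉ W)
    (hinv : ∀ g : G, g • a = a → g • b = b → ∀ w ∈ W, g • w ∈ W) :
    W = Y.X a b ∨ W = {v | (v ≠ a ∧ ∀ k ∈ Y.K a, k • b = b → k • v = v) ∧ v ≠ b} := by
  by_cases h1 : ∃ w ∈ W, Y.T a b w
  · left
    obtain ⟨w, hw, hT⟩ := h1
    refine (Set.eq_of_subset_of_ncard_le (fun x hx => ?_) (by rw [hW, Y.ncard_X hb])).symm
    obtain ⟨k, hk, h2, rfl⟩ := hI a b w x ⟨hT, fun e => hbW (e ▸ hw)⟩ hx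
    exact hinv k hk.1 h2 w hw
  right
  obtain ⟨L⟩ := Y.exists_loc a
  set V := {v | v ≠ a ∧ ∀ k ∈ Y.K a, k • b = b → k • v = v} with hV
  have hVc : V.ncard ≤ p := by
    have h2 := Set.ncard_le_ncard_of_injOn (s := (Set.univ : Set (ZMod p)) ×ˢ V)
      (t := {x | x ≠ a}) (fun q => L.t q.1 • q.2)
      (fun q hq => smul_ne (L.fix _ (L.t_mem _)) hq.2.1) (by
        rintro ⟨i, v⟩ ⟨-, hv⟩ ⟨j, w⟩ ⟨-, hw⟩ e
        simp only at e hv hw
        have h3 : Y.T a v w := Y.trans ((L.blk _ _ hv.1).2 ⟨i, e⟩)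
          (Y.symm ((L.blk _ _ hw.1).2 ⟨j, rfl⟩))
        have h4 : w = v := of_fix_eq hp2 hI h3 fun k hk hkv =>
          hw.2 k hk (fix_symm hp2 hI hb hv.1 hv.2 k hk hkv)
        subst h4
        rw [L.t_smul_inj hv.1 e])
    rw [Set.ncard_prod, Set.ncard_univ, Nat.card_zmod, ncard_ne Y.card, pow_two] at h2
    exact Nat.le_of_mul_le_mul_left h2 hp.out.pos
  refine Set.eq_of_subset_of_ncard_le (t := V \ {b}) (fun w hw => ?_) (by
    rw [Set.ncard_sdiff_singleton_of_mem (show b ∈ V from ⟨hb, fun _ _ h => h⟩)]; omega)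
  have hwa : w ≠ a := fun e => ha (e ▸ hw)
  refine ⟨⟨hwa, ?_⟩, fun e => hbW (e ▸ hw)⟩
  obtain ⟨y, h2, h3⟩ := fixE hp2 hI hb hwa
  by_cases hyw : w = y
  · rwa [hyw]
  exfalso
  have hya := Y.ne' h2
  have h4 : Y.X a y = W := by
    refine Set.eq_of_subset_of_ncard_le (fun x hx => ?_) (by rw [hW, Y.ncard_X hya])
    obtain ⟨k, hk, h5, rfl⟩ := hI a y w x ⟨Y.symm h2, hyw⟩ hx
    exact hinv k hk.1 (fix_symm hp2 hI hb hya h3 k hk h5) w hw
  obtain ⟨c, hc, -⟩ := exists_two (Y := Y) hp2 hb a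
  obtain ⟨d, hd, hdc⟩ := exists_two (Y := Y) hp2 hb c
  obtain ⟨k, hk, h5, h6⟩ := hI a b c d hc hd
  refine hdc ?_
  rw [← h6, Y.fix3 hb hya (fun e => h1 ⟨w, hw, e ▸ Y.symm h2⟩) ?_ hk.1 h5, one_smul]
  intro g g1 g2
  by_contra hg
  have h7 : g • w ∈ Y.X a y := h4 ▸ hinv g g1 g2 w hw
  have h8 := Y.smul g _ _ _ h2
  rw [g1] at h8
  have h9 : g • y ∈ W := h4 ▸ ⟨Y.trans h7.1 h8, hg⟩
  have := hinv g⁻¹ (inv_smul_eq_iff.2 g1.symm) (inv_smul_eq_iff.2 g2.symm) _ h9
  rw [inv_smul_smul, ← h4] at this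
  exact this.2 rfl

theorem ncard_Z {a b : Ω} (hb : b ≠ a) : {c | Y.T c a b}.ncard = p - 1 := by
  classical
  have := Fintype.ofFinite Ω
  have hle : ∀ x y, x ≠ a → y ≠ a → {c | Y.T c a x}.ncard ≤ {c | Y.T c a y}.ncard := by
    intro x y hx hy
    obtain ⟨g, h1, rfl⟩ := Y.two a x a y hx.symm hy.symm
    refine Set.ncard_le_ncard_of_injOn (fun c => g • c) (fun c hc => ?_) ?_
    · have := Y.smul g _ _ _ hc
      rwa [h1] at this
    · intro x _ y _ e; simpa using e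
  set U := Finset.univ.filter fun x => x ≠ a with hU
  have hUc : U.card = p ^ 2 := by
    rw [← ncard_ne Y.card a, ← Set.ncard_coe_finset]; congr 1; ext; simp [hU]
  have := Finset.sum_card_bipartiteAbove_eq_sum_card_bipartiteBelow (s := U) (t := U)
    (fun x c => Y.T c a x)
  rw [Finset.sum_const_nat (m := {c | Y.T c a b}.ncard), Finset.sum_const_nat (m := p - 1),
    hUc] at this
  · exact Nat.eq_of_mul_eq_mul_left (pow_pos hp.out.pos 2) this
  · intro c hc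
    simp only [hU, Finset.mem_filter, Finset.mem_univ, true_and] at hc
    rw [← Y.ncard_X hc.symm, ← Set.ncard_coe_finset]
    congr 1; ext x
    simp [hU, X, and_comm]
  · intro x hx
    simp only [hU, Finset.mem_filter, Finset.mem_univ, true_and] at hx
    rw [le_antisymm (hle b x hb hx) (hle x b hx hb), ← Set.ncard_coe_finset]
    congr 1; ext c
    simp only [hU, Finset.coe_filter, Finset.bipartiteAbove, Finset.mem_filter, Finset.mem_univ,
      true_and, Set.mem_ofPred_eq]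
    exact ⟨fun h => h.2, fun h => ⟨(Y.ne h).symm, h⟩⟩

theorem not_I (hp2 : p ≠ 2) : ¬ Y.I := by
  intro hI
  have : Nonempty Ω := (Nat.card_pos_iff.1 (by rw [Y.card]; omega)).1
  obtain ⟨a⟩ := this
  obtain ⟨b, hb⟩ : ∃ b, b ≠ a := by
    have := (Set.ncard_pos (s := {x | x ≠ a})).1
      (by rw [ncard_ne Y.card]; exact pow_pos hp.out.pos 2)
    exact this
  have hX := Y.X_ne hp.out.one_lt hb
  obtain ⟨g, g1, g2⟩ := Y.two a b b a hb.symm hb
  have hsw : ∀ u v, g • u = v → g • v = u → {c | Y.T c a b} = Y.X u v → Y.X u v = Y.X v u := by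
    intro u v h1 h2 h
    refine Set.eq_of_subset_of_ncard_le (fun x hx => ?_) ?_
    · have h3 : g⁻¹ • x ∈ Y.X u v := by
        rw [← h] at hx ⊢
        refine Y.smul' g ?_
        rw [smul_inv_smul, g1, g2]; exact Y.symm hx
      have := (Y.X_smul g).2 h3
      rwa [h1, h2, smul_inv_smul] at this
    · by_cases e : u = v
      · rw [e]
      · rw [Y.ncard_X e, Y.ncard_X (Ne.symm e)]
  have h1 := classify hp2 hI hb (Y.X b a) (Y.ncard_X hb.symm) (fun h => h.2 rfl)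
    (fun h => Y.ne' h.1 rfl) (fun g g1 g2 w hw => by
      have := (Y.X_smul g).2 hw
      rwa [g1, g2] at this)
  have h2 := classify hp2 hI hb {c | Y.T c a b} (ncard_Z hb) (fun h => Y.ne h rfl)
    (fun h => Y.ne' h rfl) (fun g g1 g2 w hw => by
      have := Y.smul g _ _ _ hw
      rwa [g1, g2] at this)
  rcases h2 with h2 | h2
  · exact hX (hsw a b g1 g2 h2)
  · exact hX (hsw b a g2 g1 (h2.trans (h1.resolve_left hX.symm).symm)).symm

end Sys

end Cfsg.Agent.Isaacs.DP
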