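import Mathlib
import Cfsg.Agent.Isaacs.DP3

set_option autoImplicit false
set_option linter.unusedSectionVars false

namespace Cfsg.Agent.Isaacs.DP

open MulAction Cfsg.Agent.Perm

variable {G Ω : Type*} [Group G] [Finite G] [Finite Ω] [MulAction G Ω] {p : ℕ}
  [FaithfulSMul G Ω] [hp : Fact p.Prime]

def Sys.Cn (Y : Sys G Ω p) (g : G) (c : Ω) : Prop :=
  g • c = c ∧ ∀ u ∈ Y.K c, u ^ p = 1 → g * u = u * g

theorem Sys.Cn_conj (Y : Sys G Ω p) (h g : G) (c : Ω) (hc : Y.Cn g c) :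
    Y.Cn (h * g * h⁻¹) (h • c) := by
  refine ⟨by simp [mul_smul, hc.1], fun u hu hup => ?_⟩
  have h1 := Y.K_conj hu h⁻¹
  rw [inv_smul_smul] at h1
  have := hc.2 _ h1 (by rw [conj_pow, hup]; simp)
  calc h * g * h⁻¹ * u = h * (g * (h⁻¹ * u * h⁻¹⁻¹)) * h⁻¹ := by group
    _ = _ := by rw [this]; group

namespace Loc
variable {Y : Sys G Ω p} {a : Ω} (L : Loc Y a)

theorem exists_ne (_L : Loc Y a) : ∃ b, b ≠ a := by
  have := (Set.ncard_pos (s := {x | x ≠ a})).1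
    (by rw [ncard_ne Y.card]; exact pow_pos hp.out.pos 2)
  exact this

theorem K_p (hI : ¬ Y.I) {u : G} (hu : u ∈ Y.K a) (hup : u ^ p = 1) : ∃ i, u = L.t i := by
  have h0 : ∀ b, b ≠ a → ∃ j, ∀ x, Y.T a b x → u • x = L.t j • x := fun b hb =>
    ((L.dich hb).resolve_right fun h => hI (Y.I_of hb h)) u hu hup
  obtain ⟨b, hb⟩ := L.exists_ne
  obtain ⟨i, hi⟩ := h0 b hb
  refine ⟨i, (inv_mul_eq_one.1 (Y.step0 hb (k := 1) ?_ ?_ ?_)).symm⟩
  · rw [pow_one]
    refine eq_one_of_forall_smul (α := Ω) fun x => ?_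
    by_cases hx : x = a
    · rw [hx]; exact ((Y.K a).pow_mem ((Y.K a).mul_mem ((Y.K a).inv_mem (L.t_K i)) hu) p).1
    obtain ⟨j, hj⟩ := h0 x hx
    have : ∀ n : ℕ, ((L.t i)⁻¹ * u) ^ n • x = L.t (n * (j - i)) • x := by
      intro n
      induction n with
      | zero => simp [L.t_zero]
      | succ n ih =>
        rw [pow_succ', mul_smul, ih, mul_smul, hj _ ((L.blk _ _ hx).2 ⟨_, rfl⟩), ← L.t_neg,
          ← mul_smul, ← mul_smul, ← L.t_add, ← L.t_add]
        congr 2; push_cast; ring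
    rw [this, ZMod.natCast_self, zero_mul, L.t_zero, one_smul]
  · exact ((Y.K a).mul_mem ((Y.K a).inv_mem (L.t_K i)) hu).1
  · rw [mul_smul, hi b (Y.refl hb), inv_smul_smul]

theorem norm_t (hI : ¬ Y.I) {g : G} (hg : g • a = a) :
    ∃ i, ∀ j, g * L.t j * g⁻¹ = L.t (j * i) := by
  have h1 := Y.K_conj (L.t_K 1) g
  rw [hg] at h1
  obtain ⟨i, hi⟩ := L.K_p hI h1 (by rw [conj_pow, L.t_pow_p]; simp)
  refine ⟨i, fun j => ?_⟩
  have : L.t j = L.t 1 ^ j.val := by rw [L.t_pow]; simp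
  rw [this, ← conj_pow, hi, L.t_pow]; simp

theorem Cn_iff (hI : ¬ Y.I) {g : G} : Y.Cn g a ↔ g • a = a ∧ ∀ j, g * L.t j = L.t j * g :=
  and_congr Iff.rfl ⟨fun h j => h _ (L.t_K j) (L.t_pow_p j), fun h u hu hup => by
    obtain ⟨i, rfl⟩ := L.K_p hI hu hup
    exact h i⟩

theorem act (hI : ¬ Y.I) {g : G} {b : Ω} (hg : g • a = a) (hb : g • b = b) :
    ∃ i, (∀ j, g * L.t j * g⁻¹ = L.t (j * i)) ∧ ∀ j, g • L.t j • b = L.t (j * i) • b := by
  obtain ⟨i, hi⟩ := L.norm_t hI hg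
  refine ⟨i, hi, fun j => ?_⟩
  rw [← hi, mul_smul, mul_smul, inv_smul_eq_iff.2 hb.symm]

end Loc

namespace Sys
variable {Y : Sys G Ω p}

theorem SR (hI : ¬ Y.I) {a b c : Ω} (hc : c ∈ Y.X a b) {g : G} (h1 : g • a = a) (h2 : g • b = b)
    (h3 : g • c = c) : Y.Cn g a := by
  obtain ⟨L⟩ := Y.exists_loc a
  have hb := Y.ne hc.1
  obtain ⟨j, rfl⟩ := (L.blk _ _ hb).1 hc.1
  obtain ⟨i, hi, hi'⟩ := L.act hI h1 h2
  have hj : j ≠ 0 := fun e => hc.2 (by rw [e, L.t_zero, one_smul])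
  have : i = 1 := by
    have := L.t_smul_inj hb ((hi' j).symm.trans h3)
    exact mul_left_cancel₀ hj (this.trans (mul_one j).symm)
  refine (L.Cn_iff hI).2 ⟨h1, fun j => ?_⟩
  have := hi j
  subst i
  rw [mul_one] at this
  exact mul_inv_eq_iff_eq_mul.1 this

theorem Cn_fix (hI : ¬ Y.I) {a b x : Ω} {g : G} (h : Y.Cn g a) (hb : g • b = b) (hx : Y.T a b x) :
    g • x = x := by
  obtain ⟨L⟩ := Y.exists_loc a
  obtain ⟨j, rfl⟩ := (L.blk _ _ (Y.ne hx)).1 hx
  rw [← mul_smul, ((L.Cn_iff hI).1 h).2, mul_smul, hb]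

theorem Cn_two (hI : ¬ Y.I) {a b : Ω} (hb : b ≠ a) {g : G} (h1 : Y.Cn g a) (h2 : Y.Cn g b) :
    g = 1 := by
  refine eq_one_of_forall_smul (α := Ω) fun c =>
    (steinerC hp.out.pos Y.card Y.two Y.Cn Y.Cn_conj hb.symm ?_ h1 h2 c).1
  rw [← Y.ncard_F hb]
  refine Set.ncard_le_ncard ?_
  rintro c (rfl | hc) g h1 h2
  · exact h1
  · obtain ⟨L⟩ := Y.exists_loc a
    obtain ⟨j, rfl⟩ := (L.blk _ _ hb).1 hc
    have := Y.Cn_conj (L.t j) g b h2
    rwa [← ((L.Cn_iff hI).1 h1).2, mul_inv_cancel_right] at this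

def C (Y : Sys G Ω p) (a : Ω) : Subgroup G where
  carrier := {g | Y.Cn g a}
  mul_mem' := fun {g h} hg hh => ⟨by rw [mul_smul, hh.1, hg.1], fun u hu hup => by
    rw [mul_assoc, hh.2 u hu hup, ← mul_assoc, hg.2 u hu hup, mul_assoc]⟩
  one_mem' := ⟨one_smul _ _, fun u _ _ => by simp⟩
  inv_mem' := fun {g} hg => ⟨inv_smul_eq_iff.2 hg.1.symm, fun u hu hup =>
    (Commute.inv_left (hg.2 u hu hup) : Commute g⁻¹ u)⟩

end Sys

namespace Loc
variable {Y : Sys G Ω p} {a : Ω} (L : Loc Y a)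

theorem normS (hp2 : p ≠ 2) (hI : ¬ Y.I) {g s : G} (hg : g • a = a) (hs : s ∈ L.S) :
    g * s * g⁻¹ ∈ L.S := by
  obtain ⟨b, hb⟩ := L.exists_ne
  obtain ⟨y, hy, -⟩ := Sys.exists_two (Y := Y) hp2 hb.symm a
  have hSC : L.S ≤ Y.C a := fun s hs =>
    (L.Cn_iff hI).2 ⟨L.fix s hs, fun j => L.comm s hs _ (L.t_mem j)⟩
  have h1 : (stabilizer (Y.C a) b).index ≤ p ^ 2 := by
    rw [index_stabilizer, ← ncard_ne Y.card a]
    refine Set.ncard_le_ncard ?_
    rintro _ ⟨k, rfl⟩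
    exact smul_ne k.2.1 hb
  have h2 : Nat.card (stabilizer (Y.C a) b) ≤ p - 1 := by
    rw [← Y.ncard_X hb.symm]
    refine Set.ncard_le_ncard_of_injOn (s := (stabilizer (Y.C a) b : Set (Y.C a)))
      (fun m => (m : G) • y) (fun m hm => ?_) (fun m hm m' hm' e => ?_)
    · have := (Y.X_smul (m : G)).2 hy
      rwa [show (m : G) • b = b from hm, m.2.1] at this
    · have h3 : (m'⁻¹ * m) • b = b := (stabilizer (Y.C a) b).mul_mem
        ((stabilizer (Y.C a) b).inv_mem hm') hm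
      have := Sys.Cn_two hI hb (m'⁻¹ * m).2 (Sys.SR hI hy h3 (m'⁻¹ * m).2.1 (by
        simp only at e
        rw [Subgroup.coe_mul, mul_smul, e]; simp))
      exact (inv_mul_eq_one.1 (Subtype.ext this)).symm
  have h3 := Subgroup.card_mul_index (stabilizer (Y.C a) b)
  have h4 := Subgroup.card_mul_index (L.S.subgroupOf (Y.C a))
  have h5 : Nat.card (L.S.subgroupOf (Y.C a)) = p ^ 2 := by
    rw [Nat.card_congr (Subgroup.subgroupOfEquivOfLe hSC).toEquiv, L.card]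
  have h6 : (L.S.subgroupOf (Y.C a)).index ≤ p - 1 := by
    rw [h5, ← h3] at h4
    refine Nat.le_of_mul_le_mul_left ?_ (pow_pos hp.out.pos 2)
    rw [h4, mul_comm]
    exact Nat.mul_le_mul h1 h2
  have h7 : 0 < (L.S.subgroupOf (Y.C a)).index := Nat.pos_of_ne_zero Subgroup.index_ne_zero_of_finite
  have hp1 := hp.out.one_lt
  let P : Sylow p (Y.C a) := (IsPGroup.of_card h5).toSylow
    (fun h => absurd (Nat.le_of_dvd h7 h) (by omega))
  have h8 : Nat.card (Sylow p (Y.C a)) = 1 := by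
    have h9 : Nat.card (Sylow p (Y.C a)) ≤ p - 1 := (Nat.le_of_dvd h7 P.card_dvd_index).trans h6
    have := card_sylow_modEq_one p (Y.C a)
    rwa [Nat.ModEq, Nat.mod_eq_of_lt (by omega), Nat.mod_eq_of_lt hp1] at this
  haveI : Subsingleton (Sylow p (Y.C a)) := (Nat.card_eq_one_iff_unique.1 h8).1
  have hm : g * s * g⁻¹ ∈ Y.C a := by
    have := Y.Cn_conj g s a (hSC hs)
    rwa [hg] at this
  obtain ⟨Q, hQ⟩ := (isPGroup_zpowers_of_pow (g := (⟨_, hm⟩ : Y.C a)) (p := p) (k := 2)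
    (Subtype.ext (by
      change (g * s * g⁻¹) ^ p ^ 2 = 1
      rw [conj_pow, L.pow_sq hs]; simp))).exists_le_sylow
  rw [Subsingleton.elim Q P] at hQ
  exact hQ (Subgroup.mem_zpowers _)

theorem fixC (hp2 : p ≠ 2) (hI : ¬ Y.I) {h : G} {d x : Ω} (h1 : h • a = a) (h2 : h • d = d)
    (h3 : h • x = x) (hd : d ≠ a) (hx : x ≠ a) : ∃ s ∈ L.S, h * s = s * h ∧ s • d = x := by
  obtain ⟨s, hs, rfl⟩ := L.trans d x hd hx
  refine ⟨s, hs, mul_inv_eq_iff_eq_mul.1 (L.inj (L.normS hp2 hI h1 hs) hs hd ?_), rfl⟩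
  rw [mul_smul, mul_smul, inv_smul_eq_iff.2 h2.symm, h3]

theorem gen {U : Subgroup G} (hU : U ≤ L.S) (h1 : ∀ j, L.t j ∈ U) {s : G} (hs : s ∈ U)
    (h2 : ∀ j, s ≠ L.t j) : U = L.S := by
  have h3 : p + 1 ≤ Nat.card U := by
    have : (insert s (Set.range L.t)).ncard = p + 1 := by
      rw [Set.ncard_insert_of_notMem (s := Set.range L.t) (fun ⟨j, hj⟩ => h2 j hj.symm),
        Set.ncard_range_of_injective (fun _ _ => L.t_inj'), Nat.card_zmod]
    rw [← this]
    refine Set.ncard_le_ncard (t := (U : Set G)) ?_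
    rintro x (rfl | ⟨j, rfl⟩)
    · exact hs
    · exact h1 j
  have h4 := Subgroup.card_dvd_of_le hU
  rw [L.card] at h4
  obtain ⟨i, hi, h5⟩ := (Nat.dvd_prime_pow hp.out).1 h4
  refine Subgroup.eq_of_le_of_card_ge hU ?_
  rw [L.card]
  have := hp.out.one_lt
  interval_cases i
  · rw [pow_zero] at h5; omega
  · rw [pow_one] at h5; omega
  · exact h5.ge

end Loc

namespace Sys
variable {Y : Sys G Ω p}

theorem M_one (hp2 : p ≠ 2) (hI : ¬ Y.I) {a b : Ω} (hb : b ≠ a) {h : G} (h1 : Y.Cn h a)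
    (h2 : h • b = b) : h = 1 := by
  by_contra hh
  obtain ⟨L⟩ := Y.exists_loc a
  obtain ⟨L'⟩ := Y.exists_loc b
  have hF : ∀ x, x ∈ Y.F a b ↔ h • x = x := by
    intro x
    constructor
    · rintro (rfl | hx)
      · exact h1.1
      · exact Cn_fix hI h1 h2 hx
    · intro hx
      by_cases hxa : x = a
      · exact Or.inl hxa
      obtain ⟨s, hs, h3, rfl⟩ := L.fixC hp2 hI h1.1 h2 hx hb hxa
      by_contra h4
      have := L.gen (U := L.S ⊓ Subgroup.centralizer {h}) inf_le_left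
        (fun j => ⟨L.t_mem j, Subgroup.mem_centralizer_singleton_iff.2
          (((L.Cn_iff hI).1 h1).2 j).symm⟩)
        ⟨hs, Subgroup.mem_centralizer_singleton_iff.2 h3.symm⟩
        (fun j e => h4 (Or.inr ((L.blk _ _ hb).2 ⟨j, by rw [e]⟩)))
      refine hh (eq_one_of_forall_smul (α := Ω) fun y => ?_)
      by_cases hy : y = a
      · rw [hy, h1.1]
      obtain ⟨v, hv, rfl⟩ := L.trans b y hb hy
      rw [← this] at hv
      rw [← mul_smul, ← Subgroup.mem_centralizer_singleton_iff.1 hv.2, mul_smul, h2]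
  obtain ⟨x, hx, -⟩ := exists_two (Y := Y) hp2 hb a
  obtain ⟨s, hs, h3, h4⟩ := L'.fixC hp2 hI h2 h1.1 ((hF x).1 (Or.inr hx.1)) hb.symm hx.2
  have := Y.st2 hp.out.one_lt hb (g := s) fun y hy => by
    rw [hF] at hy ⊢
    rw [← mul_smul, h3, mul_smul, hy]
  exact Y.ne' hx.1 (h4.symm.trans this)

theorem SR' (hp2 : p ≠ 2) (hI : ¬ Y.I) {a b c : Ω} (hc : c ∈ Y.X a b) {g : G} (h1 : g • a = a)
    (h2 : g • b = b) (h3 : g • c = c) : g = 1 :=
  M_one hp2 hI (Y.ne hc.1) (SR hI hc h1 h2 h3) h2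

theorem three (hp2 : p ≠ 2) (hI : ¬ Y.I) {a b c : Ω} (hb : b ≠ a) (hc : c ≠ a) (hcb : c ≠ b)
    {g : G} (h1 : g • a = a) (h2 : g • b = b) (h3 : g • c = c) : g = 1 := by
  obtain ⟨L⟩ := Y.exists_loc a
  have hT : ∀ (h : G) j, h • a = a → h • b = b → h * L.t j = L.t j * h → h = 1 ∨ j = 0 := by
    intro h j a1 a2 a3
    by_cases hj : j = 0
    · exact Or.inr hj
    refine Or.inl (SR' hp2 hI (c := L.t j • b) ⟨(L.blk _ _ hb).2 ⟨j, rfl⟩,
      fun e => hj (L.t_inj _ (L.free (L.t_mem j) hb e))⟩ a1 a2 ?_)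
    rw [← mul_smul, a3, mul_smul, a2]
  have hcomm : ∀ h h' : G, h • a = a → h • b = b → h' • a = a → h' • b = b → h * h' = h' * h := by
    intro h h' a1 a2 a3 a4
    obtain ⟨i, hi, -⟩ := L.act hI a1 a2
    obtain ⟨i', hi', -⟩ := L.act hI a3 a4
    have := hT ((h' * h)⁻¹ * (h * h')) 1 (by simp [mul_smul, a1, a3, inv_smul_eq_iff])
      (by simp [mul_smul, a2, a4, inv_smul_eq_iff]) (by
        have e1 : h * h' * L.t 1 * (h * h')⁻¹ = h' * h * L.t 1 * (h' * h)⁻¹ := by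
          calc h * h' * L.t 1 * (h * h')⁻¹ = h * (h' * L.t 1 * h'⁻¹) * h⁻¹ := by group
            _ = h' * (h * L.t 1 * h⁻¹) * h'⁻¹ := by rw [hi', hi, hi, hi', mul_right_comm]
            _ = _ := by group
        calc (h' * h)⁻¹ * (h * h') * L.t 1
            = (h' * h)⁻¹ * (h * h' * L.t 1 * (h * h')⁻¹) * (h * h') := by group
          _ = _ := by rw [e1]; group)
    exact (inv_mul_eq_one.1 (this.resolve_right one_ne_zero)).symm
  by_contra hg
  obtain ⟨u, hu, hgu, rfl⟩ := L.fixC hp2 hI h1 h2 h3 hb hc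
  refine hg (steinerQ hp.out.pos Y.card Y.two
    (fun g => ∃ x y z : Ω, x ≠ y ∧ x ≠ z ∧ y ≠ z ∧ g • x = x ∧ g • y = y ∧ g • z = z) ?_ hb.symm ?_
    ⟨a, b, _, hb.symm, hc.symm, hcb.symm, h1, h2, h3⟩ h1 h2)
  · rintro h g ⟨x, y, z, a1, a2, a3, a4, a5, a6⟩
    exact ⟨h • x, h • y, h • z, by simpa, by simpa, by simpa, by simp [mul_smul, a4],
      by simp [mul_smul, a5], by simp [mul_smul, a6]⟩
  refine L.ncard_ge hu (fun e => hcb (by rw [e, one_smul])) hb (fun g _ h _ => h) ?_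
  rintro n h' ⟨x, y, z, a1, a2, a3, a4, a5, a6⟩ b1 b2
  by_cases hh' : h' = 1
  · rw [hh', one_smul]
  obtain ⟨w, w1, w2, w3⟩ : ∃ w, w ≠ a ∧ w ≠ b ∧ h' • w = w := by
    by_contra hc
    push Not at hc
    have := hc x; have := hc y; have := hc z
    by_cases x = a <;> by_cases y = a <;> by_cases z = a <;> simp_all
  obtain ⟨u', hu', hc', rfl⟩ := L.fixC hp2 hI b1 b2 w3 hb w1
  let W : Subgroup G :=
    { carrier := {x | ∃ j, ∃ v ∈ L.S, h' * v = v * h' ∧ x = L.t j * v}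
      mul_mem' := by
        rintro _ _ ⟨i, v, v1, v2, rfl⟩ ⟨j, w, w1, w2, rfl⟩
        refine ⟨i + j, v * w, L.S.mul_mem v1 w1, (Commute.mul_right v2 w2 : Commute h' (v * w)), ?_⟩
        rw [L.t_add, mul_assoc, ← mul_assoc v, L.comm v v1 _ (L.t_mem j)]; group
      one_mem' := ⟨0, 1, L.S.one_mem, by simp, by simp [L.t_zero]⟩
      inv_mem' := by
        rintro _ ⟨i, v, v1, v2, rfl⟩
        refine ⟨-i, v⁻¹, L.S.inv_mem v1, (Commute.inv_right v2 : Commute h' v⁻¹), ?_⟩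
        rw [L.t_neg, ← L.comm v v1 _ (L.t_mem i), mul_inv_rev] }
  have hW : W = L.S := L.gen (by
      rintro _ ⟨i, v, v1, -, rfl⟩; exact L.S.mul_mem (L.t_mem i) v1)
    (fun j => ⟨j, 1, L.S.one_mem, by simp, by simp⟩) (s := u')
    ⟨0, u', hu', hc', by simp [L.t_zero]⟩ (fun j e => by
      rcases hT h' j b1 b2 (e ▸ hc') with h | h
      · exact hh' h
      · exact w2 (by rw [e, h, L.t_zero, one_smul]))
  have hm : u ^ n ∈ W := hW ▸ L.S.pow_mem hu n
  obtain ⟨j, v, v1, v2, hv⟩ := hm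
  have e1 : g * u ^ n * g⁻¹ = u ^ n := by
    rw [mul_inv_eq_iff_eq_mul]; exact (Commute.pow_right hgu n : Commute g (u ^ n))
  obtain ⟨i, hi, -⟩ := L.act hI h1 h2
  have e2 : L.t (j * i - j) = v * (g * v * g⁻¹)⁻¹ := by
    rw [sub_eq_neg_add, L.t_add, L.t_neg, ← hi, eq_mul_inv_iff_mul_eq, mul_assoc,
      inv_mul_eq_iff_eq_mul, ← hv, ← e1, hv]
    group
  have e3 : Commute h' (g * v * g⁻¹) := by
    have c1 : Commute h' g := hcomm h' g b1 b2 h1 h2
    exact (c1.mul_right v2).mul_right c1.inv_right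
  have e4 : j * i - j = 0 := (hT h' _ b1 b2 (by
    rw [e2]; exact (Commute.mul_right v2 e3.inv_right : Commute h' _))).resolve_left hh'
  have e5 : j = 0 := (hT g j h1 h2 (by
    rw [← mul_inv_eq_iff_eq_mul, hi, sub_eq_zero.1 e4])).resolve_left hg
  rw [hv, e5, L.t_zero, one_mul, ← mul_smul, v2, mul_smul, b2]

theorem false_of_odd (Y : Sys G Ω p) (hp2 : p ≠ 2) : False := by
  classical
  have hI : ¬ Y.I := not_I hp2
  have := Fintype.ofFinite Ω
  have := Fintype.ofFinite G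
  have hodd : Odd p := hp.out.odd_of_ne_two hp2
  have : Nonempty Ω := (Nat.card_pos_iff.1 (by rw [Y.card]; omega)).1
  obtain ⟨c⟩ := this
  haveI : Fact (Nat.Prime 2) := ⟨Nat.prime_two⟩
  by_cases hA : ∃ (τ : G) (x : Ω), τ ≠ 1 ∧ τ ^ 2 = 1 ∧ τ • x = x
  · obtain ⟨τ, x, h1, h2, h3⟩ := hA
    obtain ⟨y, hy, h4⟩ : ∃ y, y ≠ x ∧ τ • y = y := by
      have := ncard_modEq_fixedBy (p := 2) (k := 1) (g := τ) (by simpa using h2) {y | y ≠ x}
        (Set.toFinite _) (fun y hy => smul_ne h3 hy)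
      rw [ncard_ne Y.card] at this
      by_contra hc
      push Not at hc
      have e : {y | y ∈ {y | y ≠ x} ∧ τ • y = y} = ∅ := by
        ext y; simpa using hc y
      rw [e, Set.ncard_empty] at this
      exact (Nat.not_even_iff_odd.2 (hodd.pow (n := 2)))
        (even_iff_two_dvd.2 (Nat.modEq_zero_iff_dvd.1 this))
    have hI2 : ∀ u v : Ω, u ≠ v → ∃ g : G, g ≠ 1 ∧ g * g = 1 ∧ g • u = u ∧ g • v = v := by
      intro u v huv
      obtain ⟨h, rfl, rfl⟩ := Y.two x y u v hy.symm huv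
      refine ⟨h * τ * h⁻¹, by simpa using h1, ?_, by simp [mul_smul, h3], by simp [mul_smul, h4]⟩
      rw [← pow_two, conj_pow, h2]; simp
    set U := Finset.univ.filter fun x => x ≠ c with hU
    have hUc : U.card = p ^ 2 := by
      rw [← ncard_ne Y.card c, ← Set.ncard_coe_finset]; congr 1; ext; simp [hU]
    set J := Finset.univ.filter fun g : G => g • c ≠ c ∧ g • g • c = c with hJ
    have hJc : J.card ≤ (p - 1) * U.card := by
      refine Finset.card_le_mul_card_image_of_maps_to (f := fun g : G => g • c)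
        (fun g hg => by simp only [hJ, hU, Finset.mem_filter] at hg ⊢; exact ⟨by simp, hg.2.1⟩) _ ?_
      intro d hd
      simp only [hU, Finset.mem_filter, Finset.mem_univ, true_and] at hd
      obtain ⟨z, hz, -⟩ := exists_two (Y := Y) hp2 hd c
      rw [← Y.ncard_X hd.symm, ← Set.ncard_coe_finset]
      refine Set.ncard_le_ncard_of_injOn (fun g => g • z) (fun g hg => ?_) (fun g hg g' hg' e => ?_)
      · simp only [hJ, Finset.coe_filter, Finset.mem_filter, Set.mem_ofPred_eq] at hg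
        have := (Y.X_smul g).2 hz
        rwa [← hg.2, hg.1.2.2, hg.2] at this
      · simp only [hJ, Finset.coe_filter, Finset.mem_filter, Set.mem_ofPred_eq] at hg hg' e
        refine (inv_mul_eq_one.1 (SR' hp2 hI hz ?_ ?_ ?_)).symm
        · rw [mul_smul, hg.2, ← hg'.2, inv_smul_smul]
        · rw [mul_smul, inv_smul_eq_iff]
          rw [← hg.2, hg.1.2.2, hg.2, ← hg'.2, hg'.1.2.2]
        · rw [mul_smul, e, inv_smul_smul]
    have h5 := Finset.card_mul_le_card_mul (s := U) (t := J) (m := p ^ 2 - 1) (n := 2)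
      (fun x g => g • x = x) (by
        intro u hu
        choose! f f1 f2 f3 f4 using hI2 u
        rw [← hUc, ← Finset.card_erase_of_mem hu]
        simp only [hU, Finset.mem_filter, Finset.mem_univ, true_and] at hu
        refine Finset.card_le_card_of_injOn f (fun v hv => ?_) (fun v hv w hw e => ?_)
        · simp only [hU, Finset.coe_erase, Finset.coe_filter, Finset.mem_univ, true_and,
            Set.mem_sdiff, Set.mem_ofPred_eq, Set.mem_singleton_iff] at hv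
          have hv' := Ne.symm hv.2
          simp only [hJ, Finset.bipartiteAbove, Finset.coe_filter, Finset.mem_filter,
            Finset.mem_univ, true_and, Set.mem_ofPred_eq]
          refine ⟨⟨fun e => f1 v hv' (three hp2 hI hv.2 hu.symm (Ne.symm hv.1) (f3 v hv')
            (f4 v hv') e), ?_⟩, f3 v hv'⟩
          rw [← mul_smul, f2 v hv', one_smul]
        · simp only [hU, Finset.coe_erase, Finset.coe_filter, Finset.mem_univ, true_and,
            Set.mem_sdiff, Set.mem_ofPred_eq, Set.mem_singleton_iff] at hv hw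
          by_contra hvw
          exact f1 v (Ne.symm hv.2) (three hp2 hI hv.2 hw.2 (Ne.symm hvw) (f3 v (Ne.symm hv.2))
            (f4 v (Ne.symm hv.2)) (e ▸ f4 w (Ne.symm hw.2)))) (by
        intro g hg
        by_contra h
        obtain ⟨x, hx, y, hy, z, hz, a1, a2, a3⟩ := Finset.two_lt_card.1 (not_le.1 h)
        simp only [Finset.bipartiteBelow, Finset.mem_filter] at hx hy hz
        simp only [hJ, Finset.mem_filter] at hg
        exact hg.2.1 (by rw [three hp2 hI a1.symm a2.symm a3.symm hx.2 hy.2 hz.2, one_smul]))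
    rw [hUc] at h5 hJc
    have h6 : p ^ 2 * (p ^ 2 - 1) ≤ p ^ 2 * ((p - 1) * 2) := by nlinarith
    have h7 := Nat.le_of_mul_le_mul_left h6 (pow_pos hp.out.pos 2)
    obtain ⟨q, rfl⟩ : ∃ q, p = q + 2 := ⟨p - 2, by have := hp.out.two_le; omega⟩
    have : (q + 2) ^ 2 = q ^ 2 + 4 * q + 4 := by ring
    omega
  · push Not at hA
    let φ := Equiv.Perm.sign.comp (toPermHom G Ω)
    have hS : ∀ a (L : Loc Y a), ∀ s ∈ L.S, s ∈ φ.ker := by
      intro a L s hs
      have := congrArg φ (L.pow_sq hs)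
      rw [map_pow, map_one] at this
      rcases Int.units_eq_one_or (φ s) with h | h
      · exact h
      · rw [h, (hodd.pow).neg_one_pow] at this
        exact absurd this (by decide)
    obtain ⟨L⟩ := Y.exists_loc c
    obtain ⟨a, ha⟩ := L.exists_ne
    obtain ⟨b, hb, -⟩ := exists_two (Y := Y) hp2 ha c
    obtain ⟨L'⟩ := Y.exists_loc b
    obtain ⟨s1, hs1, e1⟩ := L.trans a b ha (Y.ne' hb.1)
    obtain ⟨s2, hs2, e2⟩ := L'.trans (s1 • b) a
      (fun e => hb.2 (smul_left_cancel s1 (e.trans e1.symm))) (Ne.symm hb.2)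
    have g1 : (s2 * s1) • a = b := by rw [mul_smul, e1, L'.fix _ hs2]
    have g2 : (s2 * s1) • b = a := by rw [mul_smul, e2]
    have hg : s2 * s1 ∈ φ.ker := φ.ker.mul_mem (hS _ L' _ hs2) (hS _ L _ hs1)
    have h2 : 2 ∣ Nat.card (Subgroup.zpowers (s2 * s1)) := by
      rw [Nat.card_zpowers]
      by_contra h
      obtain ⟨k, hk⟩ := Nat.odd_iff.2 (Nat.two_dvd_ne_zero.1 h)
      have : ((s2 * s1) ^ 2) ^ k • a = a :=
        (stabilizer G a).pow_mem (by rw [mem_stabilizer_iff, pow_two, mul_smul, g1, g2]) k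
      have h3 := pow_orderOf_eq_one (s2 * s1)
      rw [hk, pow_succ', pow_mul] at h3
      exact hb.2 (by rw [← g1, ← this, ← mul_smul, h3, one_smul, this])
    obtain ⟨τ, hτ⟩ := exists_prime_orderOf_dvd_card' 2 h2
    have hτ1 : (τ : G) ≠ 1 := fun e => by
      rw [show τ = 1 from Subtype.ext e, orderOf_one] at hτ; exact absurd hτ (by decide)
    have hτ2 : (τ : G) ^ 2 = 1 := by rw [← Subgroup.coe_pow, ← hτ, pow_orderOf_eq_one]; rfl
    have h3 : φ τ = 1 := (Subgroup.zpowers_le_of_mem hg) τ.2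
    have h4 := Equiv.Perm.sign_of_pow_two_eq_one (σ := toPermHom G Ω τ)
      (by rw [← map_pow, hτ2, map_one])
    have h5 : Fintype.card (Function.fixedPoints (toPermHom G Ω τ)) = 0 :=
      Fintype.card_eq_zero_iff.2 ⟨fun x => hA _ x hτ1 hτ2 x.2⟩
    obtain ⟨k, rfl⟩ := hodd
    rw [h5, ← Nat.card_eq_fintype_card, Y.card, show ((2 * k + 1) ^ 2 + 1 - 0) / 2 =
      2 * (k ^ 2 + k) + 1 by
        rw [show (2 * k + 1) ^ 2 + 1 - 0 = 2 * (2 * (k ^ 2 + k) + 1) by rw [Nat.sub_zero]; ring]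
        simp, Odd.neg_one_pow ⟨_, rfl⟩] at h4
    exact absurd (h3.symm.trans h4) (by decide)

end Sys

end Cfsg.Agent.Isaacs.DP
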