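import Mathlib
import Cfsg.Agent.Isaacs.GlRel
import Cfsg.Agent.Isaacs.PmOne
import Cfsg.Agent.Isaacs.CopFT

/-! Invariant characters above an abelian section acted on without fixed points. -/

set_option autoImplicit false

open scoped ComplexConjugate commutatorElement

namespace Cfsg.Agent.Isaacs

open Cfsg Cfsg.Agent.Char Subgroup

variable {G : Type*} [Group G] [Finite G] {A B C D H K L M N P Q S T U V W Z : Subgroup G}
  {θ φ ψ χ η β ξ μ : G → ℂ} {p : ℕ} {X Y X' Y' : (G → ℂ) → Prop}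

/-- `A`-invariant irreducible characters of `K` over `θ`. -/
def Ov (A N : Subgroup G) (θ : G → ℂ) (K : Subgroup G) (χ : G → ℂ) : Prop :=
  Irr K χ ∧ Inv A K χ ∧ inn N χ θ ≠ 0

theorem ne_of_not_dvd {z : ℂ} {a : ℤ} (e : z = a) (h : ¬ (p : ℤ) ∣ a) : z ≠ 0 := fun e' =>
  h (by rw [show a = 0 from Int.cast_eq_zero.mp (e.symm.trans e')]; exact dvd_zero _)

theorem not_dvd_pm (hp : p.Prime) {ε n : ℤ} (h : ε = 1 ∨ ε = -1) : ¬ (p : ℤ) ∣ ε + p * n := fun e => by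
  have := Int.natCast_dvd.mp ((Int.dvd_add_left (dvd_mul_right _ _)).mp e)
  rcases h with rfl | rfl <;> exact hp.one_lt.ne' (Nat.dvd_one.mp this)

theorem GD.restrict (h : GD p X Y K C) (hp : p.Prime) (h1 : ∀ χ, X' χ → X χ) (h2 : ∀ χ, Y' χ → Y χ)
    (h3 : ∀ χ ξ, X χ → Y ξ → inn C χ ξ ≠ 0 → (X' χ ↔ Y' ξ)) : GD p X' Y' K C where
  ex χ hχ := by
    obtain ⟨ξ, a1, ⟨ε, n, a2, a3⟩, a4⟩ := h.ex χ (h1 χ hχ)
    exact ⟨ξ, (h3 χ ξ (h1 χ hχ) a1 (ne_of_not_dvd a3 (not_dvd_pm hp a2))).mp hχ, ⟨ε, n, a2, a3⟩,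
      fun η hη => a4 η (h2 η hη)⟩
  inj χ ψ ξ a b a1 a2 a3 := h.inj χ ψ ξ a b (h1 _ a1) (h1 _ a2) (h2 _ a3)
  surj ξ hξ := by
    obtain ⟨χ, a1, a, a2, a3⟩ := h.surj ξ (h2 ξ hξ)
    exact ⟨χ, (h3 χ ξ a1 (h2 ξ hξ) (ne_of_not_dvd a2 a3)).mpr hξ, a, a2, a3⟩

theorem GD.glue (h1 : Q ≤ C) (h2 : C ≤ K) (hK : K ≤ normalizer (Q : Set G))
    (hA : A ≤ normalizer (Q : Set G))
    (un : ∀ χ, Irr K χ → Inv A K χ → ∃ θ, Irr Q θ ∧ inn Q χ θ ≠ 0 ∧ Inv A Q θ)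
    (un' : ∀ χ, Irr C χ → Inv A C χ → ∃ θ, Irr Q θ ∧ inn Q χ θ ≠ 0 ∧ Inv A Q θ)
    (cjr : ∀ θ, Irr Q θ → Inv A Q θ → ∀ k ∈ K, Inv A Q (cj k θ) → ∃ c ∈ C, Eqv Q (cj k θ) (cj c θ))
    (g : ∀ θ, Irr Q θ → Inv A Q θ → GD p (Ov A Q θ K) (Ov A Q θ C) K C) :
    GD p (fun χ => Irr K χ ∧ Inv A K χ) (fun ξ => Irr C ξ ∧ Inv A C ξ) K C := by
  have ov : ∀ {χ ξ θ}, Irr K χ → Irr C ξ → Irr Q θ → inn C χ ξ ≠ 0 → inn Q ξ θ ≠ 0 → inn Q χ θ ≠ 0 :=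
    fun a b c d e => (a.chr.res h2).over_trans h1 b c.chr d e
  refine ⟨fun χ ⟨a, b⟩ => ?_, fun χ ψ ξ m n ⟨a1, a2⟩ ⟨b1, b2⟩ ⟨c1, c2⟩ e1 e2 e3 e4 => ?_, fun ξ ⟨a, b⟩ => ?_⟩
  · obtain ⟨θ, a1, a2, a3⟩ := un χ a b
    obtain ⟨ξ, ⟨b1, b2, -⟩, b3, b4⟩ := (g θ a1 a3).ex χ ⟨a, b, a2⟩
    refine ⟨ξ, ⟨b1, b2⟩, b3, fun η ⟨c1, c2⟩ e => ?_⟩
    by_cases h0 : inn C χ η = 0
    · exact ⟨0, by simpa using h0⟩
    obtain ⟨φ, d1, d2, d3⟩ := un' η c1 c2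
    obtain ⟨k, hk, d4⟩ := a.exists_cj hK (h1.trans h2) a1 d1 a2 (ov a c1 d1 h0 d2)
    obtain ⟨c, hc', d5⟩ := cjr θ a1 a3 k hk (d3.congr hA d4)
    refine b4 η ⟨c1, c2, ?_⟩ e
    rwa [(d4.trans d5).inn_right, (c1.inv.mono le_rfl h1).inn_cj (hK (h2 hc')) hc'] at d2
  · obtain ⟨θ, d1, d2, d3⟩ := un' ξ c1 c2
    exact (g θ d1 d3).inj χ ψ ξ m n ⟨a1, a2, ov a1 c1 d1 (ne_of_not_dvd e1 e3) d2⟩
      ⟨b1, b2, ov b1 c1 d1 (ne_of_not_dvd e2 e4) d2⟩ ⟨c1, c2, d2⟩ e1 e2 e3 e4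
  · obtain ⟨θ, d1, d2, d3⟩ := un' ξ a b
    obtain ⟨χ, ⟨c1, c2, -⟩, c3⟩ := (g θ d1 d3).surj ξ ⟨a, b, d2⟩
    exact ⟨χ, ⟨c1, c2⟩, c3⟩

theorem Ov.exists_ind (h : Ov A L θ K χ) (hn : K ≤ normalizer (L : Set G)) (hl : L ≤ K) (hθ : Irr L θ)
    (hA : A ≤ normalizer (L : Set G)) (hK : A ≤ normalizer (K : Set G)) (hi : Inv A L θ) :
    ∃ ψ, Ov A L θ (stab L θ ⊓ K) ψ ∧ Eqv K χ (ind (stab L θ ⊓ K) K ψ) := by
  have h1 : L ≤ stab L θ ⊓ K := le_inf hθ.inv.le_stab hl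
  have hAT := Core.le_normalizer_inf (hi.norm_stab hA) hK
  obtain ⟨ψ, a1, a2, a3⟩ := hθ.exists_ind_of_stab hn h1 inf_le_right le_rfl h.1 h.2.2
  have a4 : inn (stab L θ ⊓ K) χ ψ ≠ 0 := by
    rw [← inn_ind_right inf_le_right h.1.inv, a3.inn_right]; exact h.1.inn_self_ne
  exact ⟨ψ, ⟨a1, inv_iff_eqv.mpr fun a ha => hθ.eqv_of_stab hn h1 inf_le_right rfl (a1.cjg (hAT ha)) a1
    (by rwa [← inn_conj, hi.inn_cj (hA ha) ha, inn_conj]) a2 h.1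
    (by rwa [(h.2.1.mono le_rfl inf_le_right).inn_cj (hAT ha) ha]) a4, a2⟩, a3.symm⟩

theorem Ov.indc (h : Ov A L θ (stab L θ ⊓ K) ψ) (hn : K ≤ normalizer (L : Set G)) (hl : L ≤ K)
    (hθ : Irr L θ) (hA : A ≤ normalizer (L : Set G)) (hK : A ≤ normalizer (K : Set G)) (hi : Inv A L θ) :
    Ov A L θ K (ind (stab L θ ⊓ K) K ψ) :=
  have h1 : L ≤ stab L θ ⊓ K := le_inf hθ.inv.le_stab hl
  ⟨hθ.ind_of_stab hn h1 inf_le_right le_rfl h.1 h.2.2,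
    h.2.1.indc (Core.le_normalizer_inf (hi.norm_stab hA) hK) hK,
    by rw [hθ.inn_ind_stab hn h1 inf_le_right rfl h.1 h.2.2]; exact h.2.2⟩

theorem GD.clifford (h1 : L ≤ C) (h2 : C ≤ K) (hn : K ≤ normalizer (L : Set G)) (hθ : Irr L θ)
    (hA : A ≤ normalizer (L : Set G)) (hK : A ≤ normalizer (K : Set G)) (hC : A ≤ normalizer (C : Set G))
    (hi : Inv A L θ)
    (g : GD p (Ov A L θ (stab L θ ⊓ K)) (Ov A L θ (stab L θ ⊓ C)) (stab L θ ⊓ K) (stab L θ ⊓ C)) :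
    GD p (Ov A L θ K) (Ov A L θ C) K C :=
  g.transport (fun χ ψ => Eqv K χ (ind (stab L θ ⊓ K) K ψ)) (fun χ ψ => Eqv C χ (ind (stab L θ ⊓ C) C ψ))
    (fun _ h => h.exists_ind hn (h1.trans h2) hθ hA hK hi)
    (fun _ h => ⟨_, h.indc hn (h1.trans h2) hθ hA hK hi, .refl _ _⟩)
    (fun _ h => h.exists_ind (h2.trans hn) h1 hθ hA hC hi)
    (fun _ h => ⟨_, h.indc (h2.trans hn) h1 hθ hA hC hi, .refl _ _⟩)
    (fun _ _ _ _ a b c d => by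
      rw [inn_congr (c.mono h2) d, inn_ind_right inf_le_right (ind_inv.mono h2 h2),
        hθ.inn_ind_stab' hn (le_inf hθ.inv.le_stab (h1.trans h2)) inf_le_right rfl a.1 a.2.2
          (le_inf hθ.inv.le_stab h1) (inf_le_inf_left _ h2) b.1 b.2.2])
    (fun _ _ _ _ a b c => a.trans (ind_congr c ▸ b.symm)) fun _ _ _ _ a b c => a.trans (ind_congr c ▸ b.symm)

theorem GD.tri {Γ R : Type*} [Group Γ] [Group R] [Finite Γ] [Finite R] (t : Tri M L θ Γ R) (hθ : Irr L θ)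
    (h1 : L ≤ C) (h2 : C ≤ K) (h3 : K ≤ M) (hA : A ≤ M) (hK : A ≤ normalizer (K : Set G))
    (hC : A ≤ normalizer (C : Set G))
    (g : GD p (Ov (t.bar A) t.Z t.μ (t.bar K)) (Ov (t.bar A) t.Z t.μ (t.bar C)) (t.bar K) (t.bar C)) :
    GD p (Ov A L θ K) (Ov A L θ C) K C := by
  have dn : ∀ {H}, L ≤ H → H ≤ M → A ≤ normalizer (H : Set G) → ∀ ψ, Ov A L θ H ψ →
      ∃ α, Ov (t.bar A) t.Z t.μ (t.bar H) α ∧ t.Corr H ψ α := fun a b c ψ h => by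
    obtain ⟨α, a1, a2⟩ := t.down a b h.1 hθ h.2.2
    exact ⟨α, ⟨a1, a2.inv' a b c h.2.1, by rw [← a2.inn_mu a]; exact h.2.2⟩, a2⟩
  have up : ∀ {H}, L ≤ H → H ≤ M → A ≤ normalizer (H : Set G) → ∀ α, Ov (t.bar A) t.Z t.μ (t.bar H) α →
      ∃ ψ, Ov A L θ H ψ ∧ t.Corr H ψ α := fun a b c α h => by
    obtain ⟨ψ, a1, a2⟩ := t.up a b h.1 h.2.2
    exact ⟨ψ, ⟨a1, a2.inv b hA c h.2.1, by rw [a2.inn_mu a]; exact h.2.2⟩, a2⟩
  exact g.transport (t.Corr K) (t.Corr C) (dn (h1.trans h2) h3 hK) (up (h1.trans h2) h3 hK)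
    (dn h1 (h2.trans h3) hC) (up h1 (h2.trans h3) hC)
    (fun _ _ _ _ _ _ a b => (a.mono h2).inn_eq b h1 (h2.trans h3)) (fun _ _ _ _ a b => a.eqv b h3)
    fun _ _ _ _ a b => a.eqv b (h2.trans h3)

theorem GD.map_iff {R : Type*} [Group R] [Finite R] (f : G →* R) {μ : R → ℂ} (hf : f.ker ⊓ K = ⊥)
    (h1 : Z ≤ C) (h2 : C ≤ K) (hK : A ≤ normalizer (K : Set G)) (hC : A ≤ normalizer (C : Set G)) :
    GD p (Ov (A.map f) (Z.map f) μ (K.map f)) (Ov (A.map f) (Z.map f) μ (C.map f)) (K.map f) (C.map f) ↔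
      GD p (Ov A Z (fun x => μ (f x)) K) (Ov A Z (fun x => μ (f x)) C) K C := by
  have dn : ∀ {H}, Z ≤ H → H ≤ K → A ≤ normalizer (H : Set G) → ∀ ψ, Ov A Z (fun x => μ (f x)) H ψ →
      ∃ α, Ov (A.map f) (Z.map f) μ (H.map f) α ∧ Eqv H ψ fun x => α (f x) := fun {H} a b c ψ h => by
    obtain ⟨α, a1, a2⟩ := h.1.exists_push f (ker_bot.mono (hf ▸ inf_le_inf_left _ b))
    have a3 : Eqv H ψ fun x => α (f x) := fun x hx => (a2 x hx).symm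
    exact ⟨α, ⟨a1, (inv_map_iff f).mpr (h.2.1.congr c a3), by
      rw [← inn_map, ← (a3.mono a).inn_left]; exact h.2.2⟩, a3⟩
  have up : ∀ {H} α, Ov (A.map f) (Z.map f) μ (H.map f) α →
      ∃ ψ, Ov A Z (fun x => μ (f x)) H ψ ∧ Eqv H ψ fun x => α (f x) := fun α h =>
    ⟨_, ⟨h.1.of_map f, (inv_map_iff f).mp h.2.1, by rw [inn_map]; exact h.2.2⟩, .refl _ _⟩
  have e : ∀ {a a' b b'}, Eqv K a (fun x => b (f x)) → Eqv C a' (fun x => b' (f x)) →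
      inn C a a' = inn (C.map f) b b' := fun a b => by rw [inn_congr (a.mono h2) b, inn_map]
  exact ⟨fun g => g.transport (fun a b => Eqv K a fun x => b (f x)) (fun a b => Eqv C a fun x => b (f x))
      (dn (h1.trans h2) le_rfl hK) up (dn h1 h2 hC) up (fun _ _ _ _ _ _ => e)
      (fun _ _ _ _ a b c => a.trans (((eqv_map_iff f).mp c).trans b.symm))
      fun _ _ _ _ a b c => a.trans (((eqv_map_iff f).mp c).trans b.symm),
    fun g => g.transport (fun b a => Eqv K a fun x => b (f x)) (fun b a => Eqv C a fun x => b (f x))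
      up (dn (h1.trans h2) le_rfl hK) up (dn h1 h2 hC) (fun _ _ _ _ _ _ a b => (e a b).symm)
      (fun _ _ _ _ a b c => (eqv_map_iff f).mpr (a.symm.trans (c.trans b)))
      fun _ _ _ _ a b c => (eqv_map_iff f).mpr (a.symm.trans (c.trans b))⟩

theorem Inv.of_constit (h : Inv M M χ) (hA : A ≤ normalizer (M : Set G))
    (e : ∀ η, Irr M η → inn M χ η ≠ 0 → Inv A M η) : Inv A M χ := fun a ha x hx => by
  rw [h.expand x hx, h.expand _ (conj_mem hA ha hx)]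
  simp only [Finset.sum_apply, Pi.smul_apply, smul_eq_mul]
  refine Finset.sum_congr rfl fun ψ _ => ?_
  by_cases c : inn M χ (ez M ψ) = 0
  · rw [c, zero_mul, zero_mul]
  · rw [e _ (irr_ez.mpr ψ.2) c a ha x hx]

/-- Isaacs, Problem 13.13. -/
theorem Irr.inv_of_cent (h : Irr M χ) (hM : K ⊔ H = M) (hn : H ≤ normalizer (K : Set G))
    (hA : A ≤ normalizer (K : Set G)) (hH : H ≤ centralizer (A : Set G))
    (hc : (Nat.card A).Coprime (Nat.card M)) (hθ : Irr K θ) (hi : Inv A K θ) (hi' : Inv H K θ)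
    (e : inn K χ θ ≠ 0) : Inv A M χ := by
  subst hM
  intro a ha g hg
  obtain ⟨k, hk, s, hs, rfl⟩ := (Core.mem_sup_of_le_normalizer hn).mp hg
  have h1 : zpowers s ≤ H := zpowers_le.mpr hs
  have h2 : K ⊔ zpowers s ≤ K ⊔ H := sup_le_sup_left h1 _
  have h3 : K ⊔ H ≤ normalizer (K : Set G) := sup_le le_normalizer hn
  have h4 : A ≤ normalizer ((K ⊔ zpowers s : Subgroup G) : Set G) := Core.le_normalizer_sup hA
    ((le_centralizer_iff.mp (h1.trans hH)).trans (centralizer_le_normalizer _))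
  have h5 := commutator_sup_zpowers (hn hs)
  obtain ⟨ψ, a1, a2, a3⟩ := hθ.exists_inv_over_abel h4 hA le_sup_left h5
    ((hc.coprime_dvd_left (Core.relIndex_dvd_card' _ _)).coprime_dvd_right
      ((Core.relIndex_dvd_card' _ _).trans (card_dvd_of_le h2))) hi
  refine (h.inv.mono h2 h2).of_constit h4 (fun η b1 b2 => ?_) a ha _ (mul_mem_sup hk (mem_zpowers s))
  obtain ⟨ν, c1, c2⟩ := b1.exists_under le_sup_left
  have c3 := hθ.eqv_of_smul c1 (h.res_smul h3 le_sup_left hθ (hθ.inv.sup hi' le_normalizer hn) e)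
    ((h.chr.res h2).over_trans le_sup_left b1 c1.chr b2 c2)
  obtain ⟨β, d1, d2, d3, d4⟩ := a1.exists_lin le_sup_left h5 b1 ((a1.chr.res le_sup_left).inn_ne_of_common
    (b1.chr.res le_sup_left) hθ a2 (by rwa [← c3.inn_right]))
  refine (Inv.mul (fun a ha x hx => ?_) a3).congr h4 d4.symm
  obtain ⟨k, hk, y, hy, rfl⟩ := (Core.mem_sup_of_le_normalizer (h1.trans hn)).mp hx
  have := conj_mem hA ha hk
  rw [show a * (k * y) * a⁻¹ = a * k * a⁻¹ * y by rw [mul_assoc _ a⁻¹, hH (h1 hy) _ (inv_mem ha)]; group,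
    d1.chr.mul_of_eq (mem_sup_left this) (d3 _ this) (mem_sup_right hy),
    d1.chr.mul_of_eq (mem_sup_left hk) (d3 _ hk) (mem_sup_right hy)]

theorem Ov.unique (h : Ov A Z μ K θ) (h' : Ov A Z μ K φ) (hμ : Irr Z μ) (hl : Z ≤ K) (hab : ⁅K, K⁆ ≤ Z)
    (hA : A ≤ normalizer (K : Set G)) (hc : (Nat.card A).Coprime (Nat.card K))
    (hf : K ⊓ centralizer (A : Set G) ≤ Z) : Eqv K φ θ := by
  obtain ⟨β, d1, d2, d3, d4⟩ := h.1.exists_lin hl hab h'.1 ((h.1.chr.res hl).inn_ne_of_common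
    (h'.1.chr.res hl) hμ h.2.2 h'.2.2)
  let V : Subgroup G :=
    { carrier := {x | x ∈ K ∧ ∀ a ∈ A, β (a * x * a⁻¹) = β x}
      mul_mem' := fun {x y} hx hy => ⟨mul_mem hx.1 hy.1, fun a ha => by
        rw [← conj_mul, d1.chr.map_mul d2 (conj_mem hA ha hx.1) (conj_mem hA ha hy.1), hx.2 a ha, hy.2 a ha,
          d1.chr.map_mul d2 hx.1 hy.1]⟩
      one_mem' := ⟨one_mem _, fun a _ => by simp⟩
      inv_mem' := fun {x} hx => ⟨inv_mem hx.1, fun a ha => by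
        rw [← conj_inv, d1.gen.apply_inv (conj_mem hA ha hx.1), hx.2 a ha, d1.gen.apply_inv hx.1]⟩ }
  have v1 : V ≤ K := fun x hx => hx.1
  have v2 : A ≤ normalizer (V : Set G) := le_norm fun a ha x hx => ⟨conj_mem hA ha hx.1, fun b hb => by
    rw [hx.2 a ha, ← hx.2 _ (mul_mem hb ha)]; simp only [mul_assoc, mul_inv_rev]⟩
  have v3 : ⁅V, A⁆ ≤ kerS K β := commutator_le.mpr fun x hx a ha => by
    have := conj_mem hA ha (inv_mem hx.1)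
    rw [show ⁅x, a⁆ = x * (a * x⁻¹ * a⁻¹) by group]
    exact d1.chr.mem_kerS.mpr ⟨mul_mem hx.1 this, by
      rw [d1.chr.map_mul d2 hx.1 this, (V.inv_mem hx).2 a ha, ← d1.chr.map_mul d2 hx.1 (inv_mem hx.1),
        mul_inv_cancel]⟩
  intro x hx
  by_cases h0 : θ x = 0
  · rw [d4 x hx, Pi.mul_apply, h0, mul_zero]
  have hc' := Core.coprime_of_le_right hc v1
  obtain ⟨y, hy, c, hc, e⟩ := Core.exists_commutator_mul_centralizer A V v2 hc'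
    (FGS.solvable_or_of_coprime hc') x ⟨hx, fun a ha => mul_right_cancel₀ h0 (by
      have := d4 _ (conj_mem hA ha hx)
      rwa [h'.2.1 a ha x hx, d4 x hx, Pi.mul_apply, Pi.mul_apply, h.2.1 a ha x hx, eq_comm] at this)⟩
  have h1 := hf ⟨v1 hc.1, hc.2⟩
  rw [d4 x hx, Pi.mul_apply, show β x = 1 by
    rw [e, d1.chr.mul_of_eq (kerS_le (v3 hy)) (d1.chr.ker_kerS _ (v3 hy)) (hl h1), d3 c h1, d2], one_mul]

theorem Ov.iff_over (h : Ov A Z μ K θ) (hμ : Irr Z μ) (hl : Z ≤ K) (hab : ⁅K, K⁆ ≤ Z)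
    (hA : A ≤ normalizer (K : Set G)) (hM : K ⊔ H = M) (hn : H ≤ normalizer (K : Set G))
    (hH : H ≤ centralizer (A : Set G)) (hZ : M ≤ centralizer (Z : Set G))
    (hc : (Nat.card A).Coprime (Nat.card M)) (hf : K ⊓ centralizer (A : Set G) ≤ Z) :
    Ov A Z μ M χ ↔ Irr M χ ∧ inn K χ θ ≠ 0 := by
  have h1 : K ≤ M := hM ▸ le_sup_left
  have h2 : H ≤ M := hM ▸ le_sup_right
  have h3 := Core.coprime_of_le_right hc h1
  refine ⟨fun ⟨a, b, c⟩ => ⟨a, ?_⟩, fun ⟨a, b⟩ => ⟨a, a.inv_of_cent hM hn hA hH hc h.1 h.2.1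
    (inv_iff_eqv.mpr fun x hx => h.unique ⟨h.1.cjg (hn hx), h.2.1.cj_norm
      (centralizer_le_normalizer _ (hH hx)) (hn hx), ?_⟩ hμ hl hab hA h3 hf) b,
    (a.chr.res h1).over_trans hl h.1 hμ.chr b h.2.2⟩⟩
  · obtain ⟨φ, a1, a2, a3⟩ := a.exists_inv_under b (hM ▸ Core.le_normalizer_sup hA
      ((le_centralizer_iff.mp hH).trans (centralizer_le_normalizer _))) hA (hM ▸ sup_le le_normalizer hn) h1
      (cop_rel hc) ((FGS.solvable_or_of_coprime hc).imp solvMod_of_solv solvMod_of_solv)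
    obtain ⟨ν, b1, b2⟩ := a1.exists_under hl
    have b3 := hμ.eqv_of_smul b1 (a.res_smul (hZ.trans (centralizer_le_normalizer _)) (hl.trans h1) hμ
      (inv_of_centralizer hZ) c) ((a.chr.res h1).over_trans hl a1 b1.chr a2 b2)
    rwa [← (h.unique ⟨a1, a3, by rwa [← b3.inn_right]⟩ hμ hl hab hA h3 hf).inn_right]
  · rw [Eqv.inn_left (inv_iff_eqv.mp (inv_of_centralizer hZ) x (h2 hx))]; exact h.2.2

/-- The correspondence in the presence of a suitable `p`-group. -/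
theorem gd_of_pgroup (hp : p.Prime) (hP : IsPGroup p P) (hμ : Irr Z μ) (hl : Z ≤ K) (hl' : Z ≤ H)
    (hab : ⁅K, K⁆ ≤ Z) (hA : A ≤ normalizer (K : Set G)) (hM : K ⊔ H = M)
    (hn : H ≤ normalizer (K : Set G)) (hH : H ≤ centralizer (A : Set G))
    (hZ : M ≤ centralizer (Z : Set G)) (hAZ : A ≤ centralizer (Z : Set G))
    (hc : (Nat.card A).Coprime (Nat.card M)) (hf : K ⊓ centralizer (A : Set G) ≤ Z)
    (hPK : P ≤ normalizer (K : Set G)) (hPA : P ≤ normalizer (A : Set G)) (hM' : ¬ p ∣ Nat.card M)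
    (hPH : M ⊓ centralizer (P : Set G) = H) (hf' : K ⊓ H ≤ Z) :
    GD p (Ov A Z μ M) (Ov A Z μ H) M H := by
  have h1 : K ≤ M := hM ▸ le_sup_left
  have h2 : H ≤ M := hM ▸ le_sup_right
  have h3 : H ≤ centralizer (P : Set G) := hPH ▸ inf_le_right
  have h4 : P ≤ centralizer (Z : Set G) := le_centralizer_iff.mp (hl'.trans h3)
  have h5 := Core.coprime_of_le_right hc h1
  obtain ⟨θ, a1, a2, a3⟩ := hμ.exists_inv_over_abel hA (hAZ.trans (centralizer_le_normalizer _)) hl hab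
    ((h5.coprime_dvd_left (Core.relIndex_dvd_card' _ _)).coprime_dvd_right (Core.relIndex_dvd_card' _ _))
    (inv_of_centralizer hAZ)
  have a4 : Ov A Z μ K θ := ⟨a1, a3, a2⟩
  have a5 : Ov P Z μ K θ := ⟨a1, inv_iff_eqv.mpr fun x hx => a4.unique ⟨a1.cjg (hPK hx),
    a3.cj_norm (hPA hx) (hPK hx), by
      rwa [Eqv.inn_left (inv_iff_eqv.mp (inv_of_centralizer h4) x hx)]⟩ hμ hl hab hA h5 hf, a2⟩
  have e : ∀ χ, Ov A Z μ M χ ↔ Ov P Z μ M χ := fun χ =>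
    (a4.iff_over hμ hl hab hA hM hn hH hZ hc hf).trans (a5.iff_over hμ hl hab hPK hM hn h3 hZ
      (cop_of_not_dvd hp hP hM') ((le_inf inf_le_left (hPH ▸ inf_le_inf_right _ h1)).trans hf')).symm
  have g := (glData_pgroup hp hM' P hP (hM ▸ Core.le_normalizer_sup hPK
    ((le_centralizer_iff.mp h3).trans (centralizer_le_normalizer _)))).gd hp inf_le_left
  rw [hPH] at g
  refine g.restrict hp (fun χ h => ⟨h.1, ((e χ).mp h).2.1⟩) (fun χ h => ⟨h.1, inv_bot⟩)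
    fun χ ξ a b c => ⟨fun h => ⟨b.1, inv_of_centralizer (le_centralizer_iff.mp hH), ?_⟩,
      fun h => (e χ).mpr ⟨a.1, a.2, (a.1.chr.res h2).over_trans hl' b.1 hμ.chr c h.2.2⟩⟩
  obtain ⟨ν, b1, b2⟩ := b.1.exists_under hl'
  rwa [← (hμ.eqv_of_smul b1 (a.1.res_smul (hZ.trans (centralizer_le_normalizer _)) (hl.trans h1) hμ
    (inv_of_centralizer hZ) h.2.2) ((a.1.chr.res h2).over_trans hl' b.1 b1.chr c b2)).inn_right]

end Cfsg.Agent.Isaacs
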