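import Mathlib
import Cfsg.Agent.Isaacs.Cnt
import Cfsg.Agent.Isaacs.OddCorr
import Cfsg.Agent.BG.Quo
import Cfsg.Agent.Core.CoprimeGen

/-! The Okuyama-Wajima argument: the Glauberman correspondence preserves commutator forms. -/

set_option autoImplicit false

namespace Cfsg.Agent.Isaacs

open Cfsg Cfsg.Agent.Char Cfsg.Agent.Core Subgroup Cfsg.Agent.BG Cfsg.Agent.BG.QuoApi
open scoped ComplexConjugate commutatorElement Pointwise

variable {G : Type*} [Group G] {A B C H K L M N P Q R T U W : Subgroup G} {θ φ ψ χ η ξ μ β : G → ℂ} {p : ℕ}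
  {x y z : G} {c : ℂ}

theorem GlP.mul (h : GlP p C χ β) (hη : Gen C η) : GlP p C (η * χ) (η * β) := by
  obtain ⟨ε, a, Δ, b, c⟩ := h
  exact ⟨ε, a, _, hη.mul b, fun x i => by simp [c x i]; ring⟩

theorem frm_congr [Finite G] (e : Eqv N θ φ) : frm N θ x y = frm N φ x y :=
  congrArg Classical.epsilon (funext fun _ => propext ⟨fun h => h.congr e, fun h => h.congr e.symm⟩)

variable [Finite G]

theorem exists_cocyclic (hA : ⁅A, A⁆ ≤ centralizer (R : Set G)) (hn : A ≤ normalizer (R : Set G))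
    (hc : (Nat.card A).Coprime (Nat.card R)) (h : ¬ R ≤ L) :
    ∃ B, ⁅A, A⁆ ≤ B ∧ (∃ a ∈ A, B ⊔ zpowers a = A) ∧ ¬ R ⊓ centralizer (B : Set G) ≤ L := by
  by_contra! k
  set D := A ⊓ centralizer (R : Set G)
  have a : A ≤ normalizer (D : Set G) := le_normalizer_inf le_normalizer (le_normalizer_centralizer hn)
  have b : R ≤ normalizer (D : Set G) := (le_centralizer_iff.mp inf_le_right).trans (centralizer_le_normalizer _)
  have c : ⁅A, A⁆ ≤ D := le_inf (commutator_le_self A) hA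
  have d : ∀ x ∈ D, x ∈ R → x = 1 := fun x i => eq_one_of_mem_of_coprime hc i.1
  have := (quo_le_quo_iff' b (inf_le_left.trans b)).mp (le_of_centralizers_cocyclic (L := quo D (R ⊓ L))
    ((isMulCommutative_quo_iff a).mpr c) (quo_le_normalizer hn) (coprime_quo hc D) fun B i ⟨_, ⟨u, v, rfl⟩, w⟩ => by
      have l := (coquo_le_iff (inf_le_left : D ≤ A)).mpr i
      rintro _ ⟨⟨r, s, rfl⟩, t⟩
      refine mk_mem_quo ⟨s, k (coquo D B) (c.trans (le_coquo B)) ⟨u, v, le_antisymm (sup_le l (zpowers_le.mpr v)) ?_⟩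
        ⟨s, fun x j => ?_⟩⟩
      · rw [← quo_le_quo_iff a ((le_coquo B).trans le_sup_left), quo_sup (coquo_le_normalizer B) (zpowers_le.mpr u.2),
          quo_coquo, quo_zpowers, w]
      obtain ⟨m, o⟩ := mem_coquo.mp j
      refine commutatorElement_eq_one_iff_mul_comm.mp (d _ (quoMk_eq_one_iff (x := ⁅(⟨x, m⟩ : normalizer (D : Set G)), r⁆).mp ?_)
        (mul_mem (conj_mem hn (l j) s) (inv_mem s)))
      rw [map_commutatorElement, commutatorElement_eq_one_iff_mul_comm]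
      exact t _ o)
  refine h fun x i => ?_
  obtain ⟨u, v, w, y, rfl⟩ := (mem_sup_of_le_normalizer' (inf_le_left.trans b)).mp (this i)
  rw [d w y ((R.mul_mem_cancel_left v.1).mp i), mul_one]
  exact v.2

theorem GlP.le_stab (e : GlP p C θ φ) (hp : p.Prime) (hφ : Irr C φ) (hl : C ≤ K) (h : A ≤ stab K θ)
    (hn : A ≤ normalizer (C : Set G)) : A ≤ stab C φ := fun _ i =>
  ⟨hn i, ((e.cjg (hn i)).congr ((h i).2.symm.mono hl) (.refl _ _)).unique e hp (hφ.cjg (hn i)) hφ⟩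

theorem Irr.eqv_of_cyc (h : Irr U ξ) (hφ : Irr C φ) (h1 : U ≤ C ⊔ zpowers y) (h2 : C ⊔ zpowers y ≤ U) (hy : y ∈ stab C φ)
    (e : inn C ξ φ ≠ 0) : Eqv C ξ φ := by
  have q := h1.trans (sup_le hφ.inv.le_stab (zpowers_le.mpr hy))
  obtain ⟨η, e1, e2⟩ := hφ.exists_ext_cyc (q.trans stab_le) (le_sup_left.trans h2) (inv_stab.mono q le_rfl) h1
    (h2 (mem_sup_right (mem_zpowers y)))
  obtain ⟨γ, g1, g2, g3, g4⟩ := h.exists_lin (le_sup_left.trans h2) ((commutator_mono h1 h1).trans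
    (commutator_sup_zpowers hy.1)) e1 (e2.inn_right.trans_ne e)
  exact fun z q => by rw [← e2 z q, g4 z (h2 (mem_sup_left q)), Pi.mul_apply, g3 z q, g2, one_mul]

theorem frm_base (hp : p.Prime) (hW : ¬ p ∣ Nat.card W) (hK : K ≤ W) (hyW : y ∈ W) (hQ : IsPGroup p Q)
    (hn : Q ≤ normalizer (K : Set G)) (hC : C = K ⊓ centralizer (Q : Set G)) (hθ : Irr K θ) (hi : Inv Q K θ) (hφ : Irr C φ)
    (e : GlP p C θ φ) (hx : x ∈ stab K θ) (hy : y ∈ stab K θ) (hx' : x ∈ normalizer (Q : Set G))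
    (hy' : y ∈ centralizer (Q : Set G)) (h : ⁅x, y⁆ ∈ K) : ∃ c, Frm K θ x y c ∧ Frm C φ x y c := by
  subst hC
  have j : y ∈ K ⊔ zpowers y := mem_sup_right (mem_zpowers _)
  have a : zpowers y ≤ stab K θ := zpowers_le.mpr hy
  have l : K ⊔ zpowers y ≤ stab K θ := sup_le hθ.inv.le_stab a
  have w : ¬ p ∣ Nat.card ↥(K ⊔ zpowers y) := fun i => hW (i.trans (card_dvd_of_le (sup_le hK (zpowers_le.mpr hyW))))
  have c : zpowers y ≤ centralizer (Q : Set G) := zpowers_le.mpr hy'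
  have n : Q ≤ normalizer ((K ⊔ zpowers y : Subgroup G) : Set G) :=
    le_normalizer_sup hn ((le_centralizer_iff.mp c).trans (centralizer_le_normalizer _))
  have m : x ∈ normalizer ((K ⊔ zpowers y : Subgroup G) : Set G) := mem_normalizer_fintype
    (conj_smul_le_iff.mp (by
      rw [smul_sup, conj_smul_eq_iff_mem_normalizer.mpr hx.1, Core.conj_smul_eq_map, MonoidHom.map_zpowers]
      exact sup_le le_sup_left (zpowers_le.mpr (by simpa [commutatorElement_def] using mul_mem (mem_sup_left h) j))))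
  obtain ⟨χ, u, v⟩ := hθ.exists_ext_cyc (l.trans stab_le) le_sup_left (inv_stab.mono l le_rfl) le_rfl j
  have i := u.inv_of_cent rfl (a.trans stab_le) hn c (cop_of_not_dvd hp hQ w) hθ hi (inv_stab.mono a le_rfl)
    (v.inn_left ▸ hθ.inn_self_ne)
  obtain ⟨ξ, r, -, s⟩ := (glData_pgroup hp w Q hQ n).ex χ u i
  obtain ⟨β, b1, b2, b3, b4⟩ := (u.chr.cjg m).exists_lin (l.trans stab_le) le_sup_left u.chr (hθ.congr v.symm)
    ((v.cjg hx.1).trans (hx.2.trans v.symm))
  have o := le_normalizer_inf (zpowers_le.mpr m) (zpowers_le.mpr (normalizer_le_normalizer_centralizer _ hx')) (mem_zpowers x)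
  have t := ((s.cjg o).congr (b4.symm.mono inf_le_left) (.refl _ _)).unique (s.mul (b1.gen.res inf_le_left)) hp (r.cjg o)
    (r.lin_mul (b1.chr.res inf_le_left) b2)
  have f : K ⊓ centralizer (Q : Set G) ⊔ zpowers y ≤ (K ⊔ zpowers y) ⊓ centralizer (Q : Set G) :=
    le_inf (sup_le_sup_right inf_le_left _) (sup_le inf_le_right c)
  have g := GlP.over hp w hQ hn (l.trans stab_le) le_sup_left u i hθ hi hφ s e (v.inn_left ▸ hθ.inn_self_ne)
  refine ⟨β y, ⟨χ, u.chr, v, fun k q => (b4 _ (mul_mem (mem_sup_left q) j)).trans ?_⟩, ξ, r.chr.res f, ?_, fun k q =>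
    (t _ (f (mul_mem (mem_sup_left q) (mem_sup_right (mem_zpowers y))))).trans ?_⟩
  · rw [Pi.mul_apply, b1.chr.mul_of_eq (mem_sup_left q) (b3 k q) j]
  · exact r.eqv_of_cyc hφ (fun z q => by
      obtain ⟨k, k1, b, k2, rfl⟩ := (mem_sup_of_le_normalizer (a.trans stab_le)).mp q.1
      exact mul_mem (mem_sup_left ⟨k1, (Subgroup.mul_mem_cancel_right _ (c k2)).mp q.2⟩) (mem_sup_right k2)) f
      (e.le_stab hp hφ inf_le_left a (le_normalizer_inf (a.trans stab_le) (c.trans le_normalizer)) (mem_zpowers y)) g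
  rw [Pi.mul_apply, b1.chr.mul_of_eq (mem_sup_left q.1) (b3 k q.1) j]

omit [Finite G] in
theorem comm_in (h : ⁅A, A⁆ ≤ N) (hx : x ∈ A) (hy : y ∈ A) : ⁅x, y⁆ ∈ N := h (commutator_mem_commutator hx hy)

theorem frm_ext {a : G} (hθ : Irr K θ) (hφ : Irr C φ) (h1 : A ≤ stab K θ) (h2 : A ≤ stab C φ) (h3 : ⁅A, A⁆ ≤ K) (h4 : ⁅A, A⁆ ≤ C)
    (hB : ⁅A, A⁆ ≤ B) (ha : B ⊔ zpowers a = A) (h : ∀ x ∈ A, ∀ y ∈ B, frm K θ x y = frm C φ x y) :
    ∀ x ∈ A, ∀ y ∈ A, frm K θ x y = frm C φ x y := by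
  have l : B ≤ A := ha ▸ le_sup_left
  have m : a ∈ A := ha ▸ mem_sup_right (mem_zpowers a)
  have k : ∀ x ∈ A, frm K θ x a = frm C φ x a → ∀ y ∈ A, frm K θ x y = frm C φ x y := fun x i e y j => by
    obtain ⟨b, u, _, v, rfl⟩ := (mem_sup_of_le_normalizer ((zpowers_le.mpr m).trans (norm_of_comm_le l hB))).mp (ha.ge j)
    obtain ⟨n, rfl⟩ := (mem_powers_iff_mem_zpowers.mpr v)
    clear j v
    induction n with
    | zero => simpa using h x i b u
    | succ n ih =>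
      have w := mul_mem (l u) (pow_mem m n)
      simp only [pow_succ, ← mul_assoc] at ih ⊢
      rw [hθ.frm_mul (h1 i) (h1 w) (h1 m) (comm_in h3 i w) (comm_in h3 i m), hφ.frm_mul (h2 i) (h2 w) (h2 m) (comm_in h4 i w)
        (comm_in h4 i m), ih, e]
  exact fun x i => k x i (by rw [hθ.frm_swap (h1 m) (h1 i) (comm_in h3 m i), hφ.frm_swap (h2 m) (h2 i) (comm_in h4 m i),
    k a m ((hθ.frm_self (h1 m)).trans (hφ.frm_self (h2 m)).symm) x i])

theorem frm_ow (hp : p.Prime) (hW : ¬ p ∣ Nat.card W) (hA : A ≤ W) (hQ : IsPGroup p Q) (hAQ : A ≤ normalizer (Q : Set G))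
    (K : Subgroup G) : ∀ C θ φ, K ≤ W → C = K ⊓ centralizer (Q : Set G) → ⁅A, A⁆ ≤ C → Irr K θ → Q ≤ stab K θ →
      A ≤ stab K θ → Irr C φ → GlP p C θ φ → ∀ x ∈ A, ∀ y ∈ A, frm K θ x y = frm C φ x y := by
  have := Fact.mk hp
  induction K using WellFoundedLT.induction with | _ K ih
  rintro C θ φ hK hC ab hθ h1 h2 hφ e
  by_cases c : Q ≤ centralizer (K : Set G)
  · rw [inf_eq_left.mpr (le_centralizer_iff.mp c)] at hC
    subst hC
    exact fun x _ y _ => frm_congr (GlP.refl.unique e hp hθ hφ)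
  obtain ⟨R, ⟨r1, r2, r3⟩, r4⟩ := (Set.toFinite {R | R ≤ Q ∧ Q ⊔ A ≤ normalizer (R : Set G) ∧
    ¬ R ≤ centralizer (K : Set G)}).exists_minimal ⟨Q, le_rfl, sup_le le_normalizer hAQ, c⟩
  have r5 := commutator_lt_of_isPGroup (hQ.to_le r1) hQ (le_sup_left.trans r2) (by rintro rfl; exact r3 bot_le)
  have r6 : ⁅R, Q⁆ ≤ centralizer (K : Set G) := by_contra fun i => r5.not_ge (r4 ⟨r5.le.trans r1,
    le_normalizer_commutator r2 (sup_le le_normalizer hAQ), i⟩ r5.le)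
  obtain ⟨B, b1, ⟨a, -, b2⟩, b3⟩ := exists_cocyclic (ab.trans (hC.le.trans (inf_le_right.trans (centralizer_le r1))))
    (le_sup_right.trans r2) (cop_of_not_dvd hp (hQ.to_le r1) fun i => hW (i.trans (card_dvd_of_le hA))).symm r3
  set S := R ⊓ centralizer (B : Set G)
  have s1 : S ≤ Q := inf_le_left.trans r1
  have l : B ≤ A := b2 ▸ le_sup_left
  have s2 : A ≤ normalizer (S : Set G) :=
    le_normalizer_inf (le_sup_right.trans r2) (le_normalizer_centralizer (norm_of_comm_le l b1))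
  have k : ¬ p ∣ Nat.card K := fun i => hW (i.trans (card_dvd_of_le hK))
  have n := h1.trans stab_le
  obtain ⟨β, u, -, v⟩ := (glData_pgroup hp k S (hQ.to_le s1) (s1.trans n)).ex θ hθ (inv_stab.mono (s1.trans h1) le_rfl)
  have d : C ≤ K ⊓ centralizer (S : Set G) := hC ▸ inf_le_inf_left _ (centralizer_le s1)
  have f : C = K ⊓ centralizer (S : Set G) ⊓ centralizer (Q : Set G) :=
    le_antisymm (le_inf d (hC ▸ inf_le_right)) (hC ▸ inf_le_inf_right _ inf_le_left)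
  have g : Q ≤ normalizer ((K ⊓ centralizer (S : Set G) : Subgroup G) : Set G) := le_norm fun q i z j =>
    ⟨conj_mem n i j.1, fun r o => by
      have w := r6 (commutator_mem_commutator (inv_mem o.1) (inv_mem i)) z j.1
      have : q⁻¹ * r * q * z = z * (q⁻¹ * r * q) := by
        rw [show q⁻¹ * r * q = r * ⁅r⁻¹, q⁻¹⁆ by group, mul_assoc, ← w, ← mul_assoc, j.2 r o, mul_assoc]
      calc _ = q * (q⁻¹ * r * q * z) * q⁻¹ := by group
        _ = _ := by rw [this]; group⟩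
  have t1 := v.le_stab hp u inf_le_left h1 g
  have t2 := v.le_stab hp u inf_le_left h2 (le_normalizer_inf (h2.trans stab_le) (le_normalizer_centralizer s2))
  obtain ⟨ξ, w1, -, w2⟩ := (glData_pgroup hp (fun i => k (i.trans (card_dvd_of_le inf_le_left))) Q hQ g).ex β u
    (inv_stab.mono t1 le_rfl)
  rw [← f] at w1 w2
  intro x i y j
  rw [← ih _ (lt_of_le_of_ne inf_le_left fun o => b3 (le_centralizer_iff.mp (o.ge.trans inf_le_right))) C β φ
    (inf_le_left.trans hK) f ab u t1 t2 hφ (w2.congr (.refl _ _) ((v.trans d w2).unique e hp w1 hφ)) x i y j]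
  refine frm_ext hθ u h2 t2 (ab.trans (d.trans inf_le_left)) (ab.trans d) b1 b2 (fun x i y j => ?_) x i y j
  have o := comm_in ab i (l j)
  obtain ⟨c, c1, c2⟩ := frm_base hp hW hK (hA (l j)) (hQ.to_le s1) (s1.trans n) rfl hθ (inv_stab.mono (s1.trans h1) le_rfl) u v
    (h2 i) (h2 (l j)) (s2 i) (le_centralizer_iff.mp inf_le_right j) (d o).1
  exact ((hθ.frm_iff (h2 i) (h2 (l j)) (d o).1).mp c1).symm.trans ((u.frm_iff (t2 i) (t2 (l j)) (d o)).mp c2)

omit [Finite G] in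
theorem comm_two (hx : x ∈ normalizer (C : Set G)) (hy : y ∈ normalizer (C : Set G)) (h : ⁅x, y⁆ ∈ C) :
    ⁅zpowers x ⊔ zpowers y, zpowers x ⊔ zpowers y⁆ ≤ C := by
  have a := zpowers_le.mpr hx
  have b := zpowers_le.mpr hy
  have c : Commute (quoMk C ⟨x, hx⟩) (quoMk C ⟨y, hy⟩) := by
    rw [← commutatorElement_eq_one_iff_commute, ← map_commutatorElement]; exact quoMk_eq_one_iff.mpr h
  rw [← quo_le_centralizer_iff (sup_le a b) (sup_le a b), quo_sup a b, quo_zpowers ⟨x, hx⟩, quo_zpowers ⟨y, hy⟩]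
  exact sup_le (le_centralizer_iff.mp (sup_le (zpowers_le.mpr fun t i => (comm_zpowers rfl t i).symm)
    (zpowers_le.mpr fun t i => (comm_zpowers c.symm t i).symm))) (le_centralizer_iff.mp (sup_le
      (zpowers_le.mpr fun t i => (comm_zpowers c t i).symm) (zpowers_le.mpr fun t i => (comm_zpowers rfl t i).symm)))

end Cfsg.Agent.Isaacs
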