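import Mathlib
import Cfsg.Agent.Isaacs.OW
import Cfsg.Agent.Isaacs.Berger
import Cfsg.Agent.Core.PSolvable

/-! The McKay equality for `p`-solvable groups: the central case. -/

set_option autoImplicit false

namespace Cfsg.Agent.Isaacs

open Cfsg Cfsg.Agent.Char Cfsg.Agent.Core Subgroup
open scoped ComplexConjugate commutatorElement Pointwise

variable {G : Type*} [Group G] [Finite G] {A B C H K L M N P Q S T U X Z : Subgroup G} {θ φ ψ χ η ξ μ β ψ' φ' : G → ℂ}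
  {p : ℕ} {x y z : G}

theorem Irr.frm_mono (hθ : Irr N θ) (hL : Irr L θ) (hl : L ≤ N) (hx : x ∈ stab N θ) (hy : y ∈ stab N θ)
    (hx' : x ∈ normalizer (L : Set G)) (hy' : y ∈ normalizer (L : Set G)) (h : ⁅x, y⁆ ∈ L) : frm N θ x y = frm L θ x y :=
  (hL.frm_iff ⟨hx', hx.2.mono hl⟩ ⟨hy', hy.2.mono hl⟩ h).mp (((hθ.frm_iff hx hy (hl h)).mpr rfl).mono hl)

theorem Irr.over_center (h : Irr X χ) (hψ : Irr H ψ) (hZ : Z ≤ center G) (h1 : Z ≤ H) (h2 : H ≤ X) (e : inn H χ ψ ≠ 0)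
    (hμ : Irr Z μ) : inn Z χ μ ≠ 0 ↔ inn Z ψ μ ≠ 0 := by
  refine ⟨fun i => ?_, (h.chr.res h2).over_trans h1 hψ hμ.chr e⟩
  obtain ⟨ν, a, b⟩ := hψ.exists_under h1
  exact (hμ.eqv_of_smul a (h.res_smul (norm_of_le_center hZ) (h1.trans h2) hμ (inv_of_le_center hZ) i)
    ((h.chr.res h2).over_trans h1 hψ a.chr e b)).inn_right ▸ b

theorem Irr.ratio_center (h : Irr X χ) (hψ : Irr H ψ) (h2 : H ≤ X) (e : inn H χ ψ ≠ 0) (hz : z ∈ center G) (h1 : z ∈ H) :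
    χ z * ψ 1 = ψ z * χ 1 := by
  have a := zpowers_le.mpr hz
  have b := zpowers_le.mpr h1
  obtain ⟨ν, c, d⟩ := hψ.exists_under b
  have u := hψ.res_smul (norm_of_le_center a) b c (inv_of_le_center a) d
  have v := h.res_smul (norm_of_le_center a) (b.trans h2) c (inv_of_le_center a) ((h.over_center hψ a b h2 e c).mpr d)
  rw [u z (mem_zpowers z), v z (mem_zpowers z), u.one, v.one]
  simp only [Pi.smul_apply, smul_eq_mul]; ring

theorem Irr.over_center_iff (h : Irr X χ) (hZ : Z ≤ center G) (h1 : Z ≤ X) (hμ : Chr Z μ) (e : μ 1 = 1) :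
    inn Z χ μ ≠ 0 ↔ ∀ z ∈ Z, χ z = χ 1 * μ z := by
  refine ⟨fun i z j => ?_, fun i => by
    rw [Eqv.inn_left (φ := χ 1 • μ) i, inn_smul_left, (hμ.irr_of_one e).inn_self, mul_one]; exact h.one_ne⟩
  simpa [e, mul_comm] using h.ratio_center (hμ.irr_of_one e) h1 i (hZ j) j

theorem Canon.apply_center (h : Canon K M θ) (hl : K ≤ M) (hp : p.Prime) (hK : ¬ p ∣ Nat.card K) {j k : ℕ}
    (hM : K.relIndex M = p ^ j) (hz : z ∈ center G) (hzM : z ∈ M) (e : z ^ p ^ k = 1) : θ z = θ 1 := by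
  by_cases i : z ∈ K
  · have : z ∈ (⊥ : Subgroup G) := mem_of_pow_pow (a := p ^ k) (b := Nat.card K) e
      (congrArg Subtype.val (pow_card_eq_one' (x := (⟨z, i⟩ : K)))) ((hp.coprime_iff_not_dvd.mpr hK).pow_left k)
    rw [mem_bot.mp this]
  have a := h.irr hl
  obtain ⟨d, -, b⟩ := a.deg
  have c : ∀ g ∈ M, θ (z * g) = θ z / θ 1 * θ g := fun g j => by
    rw [div_mul_eq_mul_div, ← a.chr.mul_of_norm hzM j (a.norm_of_center hzM hz), mul_div_cancel_right₀ _ a.one_ne]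
  have f : ∀ n : ℕ, θ (z ^ n) = (θ z / θ 1) ^ n * θ 1 := fun n => by
    induction n with
    | zero => simp
    | succ n ih => rw [pow_succ', c _ (pow_mem hzM n), ih, pow_succ', mul_assoc]
  have g : (θ z / θ 1) ^ p ^ k = 1 := mul_right_cancel₀ a.one_ne (by rw [← f, e, one_mul])
  have u := Det.detChar_of_scalar a.chr b (z := ⟨z, hzM⟩) (c := θ z / θ 1) (fun o => by simp [o, hp.ne_zero] at g)
    fun g => c g g.2
  have v : (θ z / θ 1) ^ (d * dord M θ) = 1 := by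
    rw [pow_mul, ← u]; exact congrFun (pow_orderOf_eq_one (detChar fun x : M => θ x)) _
  have w : ¬ p ∣ dord M θ := hp.coprime_iff_not_dvd.mp (h.cop.coprime_dvd_left (hM ▸ dvd_pow_self p (by
    rintro rfl; exact i (relIndex_eq_one.mp hM hzM))))
  have := pow_gcd_eq_one.mpr ⟨g, v⟩
  rwa [(hp.coprime_iff_not_dvd.mpr (hp.not_dvd_mul (fun o => hK (o.trans (h.res.deg_dvd b))) w)).pow_left k, pow_one,
    div_eq_one_iff_eq a.one_ne] at this

/-- the correspondence between characters of `p'`-degree of `K S` and of `S C_K(S)` -/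
def Cor (p : ℕ) (K S : Subgroup G) (ψ φ : G → ℂ) : Prop := ∃ β θ η, (Irr (K ⊔ S) β ∧ β 1 = 1 ∧ Ker K β) ∧ Canon K (K ⊔ S) θ ∧
  (Chr (S ⊔ K ⊓ centralizer (S : Set G)) η ∧ Irr (K ⊓ centralizer (S : Set G)) η ∧ Ker S η) ∧
  GlP p (K ⊓ centralizer (S : Set G)) θ η ∧ Eqv (K ⊔ S) ψ (β * θ) ∧ Eqv (S ⊔ K ⊓ centralizer (S : Set G)) φ (β * η)

omit [Finite G] in
theorem cor_le : S ⊔ K ⊓ centralizer (S : Set G) ≤ K ⊔ S := sup_le le_sup_right (inf_le_left.trans le_sup_left)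

omit [Finite G] in
theorem cor_norm : K ⊓ centralizer (S : Set G) ≤ normalizer (S : Set G) := inf_le_right.trans (centralizer_le_normalizer _)

omit [Finite G] in
theorem cor_norm' : S ⊔ K ⊓ centralizer (S : Set G) ≤ normalizer ((K ⊓ centralizer (S : Set G) : Subgroup G) : Set G) :=
  sup_le ((le_centralizer_iff.mp inf_le_right).trans (centralizer_le_normalizer _)) le_normalizer

theorem Cor.spec (h : Cor p K S ψ φ) : Irr (K ⊔ S) ψ ∧ Irr K ψ ∧ Irr (S ⊔ K ⊓ centralizer (S : Set G)) φ ∧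
    Irr (K ⊓ centralizer (S : Set G)) φ ∧ GlP p (K ⊓ centralizer (S : Set G)) ψ φ := by
  obtain ⟨β, θ, η, ⟨a, b, c⟩, d, ⟨e, f, g⟩, i, j, k⟩ := h
  have u : Eqv K ψ θ := fun x o => by simp [j x (mem_sup_left o), c x o, b]
  have v : Eqv (K ⊓ centralizer (S : Set G)) η φ := fun x o => by simp [k x (mem_sup_right o), c x o.1, b]
  exact ⟨((d.irr le_sup_left).lin_mul a.chr b).congr j.symm, d.res.congr u.symm,
    ((e.irr_of_res le_sup_right f).lin_mul (a.chr.res cor_le) b).congr k.symm, f.congr v, i.congr (u.mono inf_le_left) v⟩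

theorem Cor.cjg (h : Cor p K S ψ φ) (hx : x ∈ normalizer (K : Set G)) (hx' : x ∈ normalizer (S : Set G)) :
    Cor p K S (cj x ψ) (cj x φ) := by
  obtain ⟨β, θ, η, ⟨a, b, c⟩, d, ⟨e, f, g⟩, i, j, k⟩ := h
  have l := zpowers_le.mpr hx
  have m := zpowers_le.mpr hx'
  have u := le_normalizer_sup l m (mem_zpowers x)
  have v := le_normalizer_inf l (le_normalizer_centralizer m)
  have w := le_normalizer_sup m v (mem_zpowers x)
  exact ⟨cj x β, cj x θ, cj x η, ⟨a.cjg u, cj_at_one x ▸ b, fun y o => cj_at_one (θ := β) x ▸ c _ (conj_mem le_rfl hx o)⟩,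
    ⟨d.chr.cjg u, d.res.cjg hx, d.chr.dord_cj u ▸ d.cop⟩, ⟨e.cjg w, f.cjg (v (mem_zpowers x)),
      fun y o => cj_at_one (θ := η) x ▸ g _ (conj_mem le_rfl hx' o)⟩, i.cjg (v (mem_zpowers x)), j.cjg u, k.cjg w⟩

section
variable (hp : p.Prime) (hK : ¬ p ∣ Nat.card K) (hS : IsPGroup p S) (hn : S ≤ normalizer (K : Set G))
include hp hK hS hn

theorem cor_cop : (Nat.card K).Coprime (K.relIndex (K ⊔ S)) :=
  have ⟨k, a⟩ := relIndex_sup_pow hp hS hn; a ▸ (hp.coprime_iff_not_dvd.mpr hK).symm.pow_right k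

omit hn in
theorem cor_ker : Ker (K ⊓ S) θ ∧ Ker (S ⊓ (K ⊓ centralizer (S : Set G))) θ :=
  ⟨fun _ i => by rw [eq_one_of_mem_of_coprime (cop_of_not_dvd hp hS hK) i.2 i.1],
    fun _ i => by rw [eq_one_of_mem_of_coprime (cop_of_not_dvd hp hS hK) i.1 i.2.1]⟩

theorem exists_cor (h : Irr (K ⊔ S) ψ) (e : PD p ψ) : ∃ φ, Cor p K S ψ φ := by
  have n := sup_le le_normalizer hn
  obtain ⟨k, a⟩ := relIndex_sup_pow hp hS hn
  have b := h.res_of_pd hp e n le_sup_left a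
  obtain ⟨θ, c, d⟩ := b.exists_canon n le_sup_left (cor_cop hp hK hS hn) (h.inv.mono le_rfl le_sup_left)
  obtain ⟨β, b1, b2, b3, b4⟩ := h.chr.exists_lin n le_sup_left c.chr c.res d.symm
  obtain ⟨ξ, u, -, v⟩ := (glData_pgroup hp hK S hS hn).ex θ c.res (c.chr.inv.mono le_sup_right le_sup_left)
  obtain ⟨η, w1, w2, w3⟩ := u.exists_lift cor_norm (cor_ker hp hK hS).2
  exact ⟨_, β, θ, η, ⟨b1, b2, b3⟩, c, ⟨w1.chr, u.congr w3.symm, w2⟩, v.congr (.refl _ _) w3.symm, b4, .refl _ _⟩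

theorem exists_cor' (h : Irr (S ⊔ K ⊓ centralizer (S : Set G)) φ) (e : PD p φ) : ∃ ψ, Cor p K S ψ φ := by
  have n := sup_le le_normalizer hn
  obtain ⟨k, a⟩ := relIndex_sup_pow hp hS (le_sup_left.trans (cor_norm' (K := K)))
  rw [sup_comm] at a
  have b := h.res_of_pd hp e cor_norm' le_sup_right a
  obtain ⟨η, w1, w2, w3⟩ := b.exists_lift cor_norm (cor_ker hp hK hS).2
  obtain ⟨γ, g1, g2, g3, g4⟩ := h.chr.exists_lin cor_norm' le_sup_right w1.chr (b.congr w3.symm) w3.symm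
  obtain ⟨β, b1, b2, b3⟩ := ((g1.chr.res le_sup_left).irr_of_one g2).exists_lift hn (cor_ker hp hK hS).1
  obtain ⟨χ, u, v, w⟩ := (glData_pgroup hp hK S hS hn).surj φ b inv_bot
  obtain ⟨θ, c, d⟩ := u.exists_canon n le_sup_left (cor_cop hp hK hS hn) (u.inv.sup v le_normalizer hn)
  have f : Eqv (S ⊔ K ⊓ centralizer (S : Set G)) γ β := by
    rw [sup_comm] at g1 ⊢
    exact g1.chr.eqv_sup (b1.chr.res (sup_le_sup_right inf_le_left S)) (le_sup_left.trans cor_norm') g3 (b2.mono inf_le_left) b3.symm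
  exact ⟨_, β, θ, η, ⟨b1, b3.one.trans g2, b2⟩, c, ⟨w1.chr, b.congr w3.symm, w2⟩, w.congr (d.mono inf_le_left) w3.symm,
    .refl _ _, g4.trans fun x i => by simp [f x i]⟩

theorem Cor.eqv_iff (h : Cor p K S ψ φ) (h' : Cor p K S ψ' φ') :
    Eqv (K ⊔ S) ψ ψ' ↔ Eqv (S ⊔ K ⊓ centralizer (S : Set G)) φ φ' := by
  have n := sup_le le_normalizer hn
  obtain ⟨β, θ, η, ⟨a, b, c⟩, d, ⟨e, f, g⟩, i, j, k⟩ := h
  obtain ⟨β', θ', η', ⟨a', b', c'⟩, d', ⟨e', f', g'⟩, i', j', k'⟩ := h'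
  have s : Eqv (K ⊔ S) θ θ' ↔ Eqv (S ⊔ K ⊓ centralizer (S : Set G)) η η' :=
    ⟨fun o => e.eqv_sup e' cor_norm g g' (i.unique (i'.congr (o.mono (le_sup_right.trans cor_le)) (.refl _ _)) hp f f'),
      fun o => d.unique n le_sup_left (cor_cop hp hK hS hn) d' ((glData_pgroup hp hK S hS hn).inj _ _ _ d.res
        (d.chr.inv.mono le_sup_right le_sup_left) d'.res (d'.chr.inv.mono le_sup_right le_sup_left) f i
          (i'.congr (.refl _ _) (o.symm.mono le_sup_right)))⟩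
  refine ⟨fun o => ?_, fun o => ?_⟩
  · have r := j.symm.trans (o.trans j')
    have u := d.unique n le_sup_left (cor_cop hp hK hS hn) d' fun x w => by
      simpa [c x w, c' x w, b, b'] using r x (mem_sup_left w)
    have v := a.eqv_of_mul n le_sup_left c a' c' d.chr d.res (r.trans fun x w => by simp [u x w])
    exact k.trans (Eqv.trans (fun x w => by simp [v x (cor_le w), s.mp u x w]) k'.symm)
  have r := k.symm.trans (o.trans k')
  have u := e.eqv_sup e' cor_norm g g' fun x w => by simpa [c x w.1, c' x w.1, b, b'] using r x (mem_sup_right w)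
  have v := a.chr.eqv_sup a'.chr hn c c' ((((a.chr.res cor_le).irr_of_one b).eqv_of_mul cor_norm' le_sup_right
    (c.mono inf_le_left) ((a'.chr.res cor_le).irr_of_one b') (c'.mono inf_le_left) e f
      (r.trans fun x w => by simp [u x w])).mono le_sup_left)
  exact j.trans (Eqv.trans (fun x w => by simp [v x w, s.mpr u x w]) j'.symm)

theorem Cor.over_iff (h : Cor p K S ψ φ) (hZ : Z ≤ center G) (hZ' : Z ≤ Z ⊓ K ⊔ Z ⊓ S) (hμ : Chr Z μ) (h1 : μ 1 = 1) :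
    inn Z ψ μ ≠ 0 ↔ inn Z φ μ ≠ 0 := by
  obtain ⟨s1, s2, s3, s4, s5⟩ := h.spec
  obtain ⟨β, θ, η, ⟨a, b, c⟩, d, ⟨e, f, g⟩, i, j, k⟩ := h
  have l : Z ⊓ K ≤ K ⊓ centralizer (S : Set G) := le_inf inf_le_right (inf_le_left.trans (hZ.trans (center_le_centralizer _)))
  have m : Z ≤ S ⊔ K ⊓ centralizer (S : Set G) := hZ'.trans (sup_le (l.trans le_sup_right) (inf_le_right.trans le_sup_left))
  obtain ⟨n, o⟩ := relIndex_sup_pow hp hS hn
  have u : ∀ z ∈ Z, ψ z * φ 1 = φ z * ψ 1 := fun z r => by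
    obtain ⟨x, v, y, w, rfl⟩ := (mem_sup_of_le_normalizer (norm_of_le_center (inf_le_left.trans hZ))).mp (hZ' r)
    obtain ⟨t, q⟩ := hS ⟨y, w.2⟩
    have e1 := s2.ratio_center s4 inf_le_left (s5.ne hp s4) (hZ v.1) (l v)
    have e2 := s1.chr.mul_of_norm (cor_le (m v.1)) (cor_le (m w.1)) (s1.norm_of_center (cor_le (m v.1)) (hZ v.1))
    have e3 := s3.chr.mul_of_norm (m v.1) (m w.1) (s3.norm_of_center (m v.1) (hZ v.1))
    have e4 : ψ y = β y * ψ 1 := by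
      rw [j y (mem_sup_right w.2), j.one, Pi.mul_apply, Pi.mul_apply, b, one_mul,
        d.apply_center le_sup_left hp hK o (hZ w.1) (mem_sup_right w.2) (congrArg Subtype.val q)]
    have e5 : φ y = β y * φ 1 := by rw [k y (mem_sup_left w.2), k.one, Pi.mul_apply, Pi.mul_apply, b, one_mul, g y w.2]
    refine mul_right_cancel₀ (mul_ne_zero s1.one_ne s3.one_ne) ?_
    linear_combination φ 1 * φ 1 * e2 - ψ 1 * ψ 1 * e3 + φ 1 * φ 1 * ψ x * e4 - ψ 1 * ψ 1 * φ x * e5 + β y * ψ 1 * φ 1 * e1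
  rw [s1.over_center_iff hZ (m.trans cor_le) hμ h1, s3.over_center_iff hZ m hμ h1]
  exact forall₂_congr fun z r => ⟨fun v => mul_right_cancel₀ s1.one_ne (by rw [← u z r, v]; ring),
    fun v => mul_right_cancel₀ s3.one_ne (by rw [u z r, v]; ring)⟩

theorem cor_inf : (K ⊔ S) ⊓ normalizer (S : Set G) ≤ S ⊔ K ⊓ centralizer (S : Set G) := fun x i => by
  obtain ⟨k, a, s, b, rfl⟩ := (mem_sup_of_le_normalizer hn).mp i.1
  have c := (Subgroup.mul_mem_cancel_right _ (le_normalizer b)).mp i.2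
  refine mul_mem (mem_sup_right ⟨a, fun t j => commutatorElement_eq_one_iff_mul_comm.mp (eq_one_of_mem_of_coprime
    (cop_of_not_dvd hp hS hK) ?_ (mul_mem (conj_mem hn j a) (inv_mem a)))⟩) (mem_sup_left b)
  simpa [commutatorElement_def, mul_assoc] using mul_mem j (conj_mem le_rfl c (inv_mem j))

end

theorem Cor.cnt_eq [K.Normal] (hp : p.Prime) (hK : ¬ p ∣ Nat.card K) (hS : IsSylowOf p S ⊤) (hN : N = normalizer (S : Set G))
    (hG : K ⊔ N = ⊤) (h : Cor p K S ψ φ) :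
    cnt ⊤ (Op p ⊤ (K ⊔ S) ψ) = cnt N (Op p N (S ⊔ K ⊓ centralizer (S : Set G)) φ) := by
  have := Fact.mk hp
  obtain ⟨s1, s2, s3, s4, s5⟩ := h.spec
  set C := K ⊓ centralizer (S : Set G) with hC
  have n1 : ⊤ ≤ normalizer ((K ⊔ S : Subgroup G) : Set G) :=
    hG ▸ sup_le (le_sup_left.trans le_normalizer) (le_normalizer_sup norm_top hN.le)
  have n2 : N ≤ normalizer (C : Set G) := le_normalizer_inf norm_top (le_normalizer_centralizer hN.le)
  have n3 : N ≤ normalizer ((S ⊔ C : Subgroup G) : Set G) := le_normalizer_sup hN.le n2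
  have l : S ⊔ C ≤ N := hN ▸ sup_le le_normalizer cor_norm
  set T := stab (K ⊔ S) ψ ⊓ ⊤
  set T' := stab (S ⊔ C) φ ⊓ N
  have t1 : K ⊔ S ≤ T := le_inf s1.inv.le_stab le_top
  have t2 : S ⊔ C ≤ T' := le_inf s3.inv.le_stab l
  have t3 : ∀ n ∈ N, n ∈ T ↔ n ∈ T' := fun n i =>
    have := Cor.eqv_iff hp hK hS.isPGroup norm_top (h.cjg (norm_top (A := ⊤) trivial) (hN ▸ i)) h
    ⟨fun j => ⟨⟨n3 i, this.mp j.1.2⟩, i⟩, fun j => ⟨⟨n1 trivial, this.mpr j.1.2⟩, trivial⟩⟩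
  have t4 : K ⊔ S ⊔ T' = T := le_antisymm (sup_le t1 fun n i => (t3 n i.2).mpr i) fun g i => by
    obtain ⟨k, a, n, b, rfl⟩ := (mem_sup_of_le_normalizer norm_top).mp (hG.ge (mem_top g))
    exact mul_mem (mem_sup_left (mem_sup_left a)) (mem_sup_right ((t3 n b).mp
      ((Subgroup.mul_mem_cancel_left _ (t1 (mem_sup_left a))).mp i)))
  have d : ∀ {X Y : Subgroup G}, S ≤ X → X ≤ Y → ¬ p ∣ X.relIndex Y := fun a b i =>
    (hS.of_le (a.trans b) le_top).not_dvd (i.trans (relIndex_dvd_of_le_left _ a))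
  have e : ∀ {X Y : Subgroup G} {θ}, S ≤ X → X ≤ Y → Y ≤ normalizer (X : Set G) → Irr X θ → PD p θ →
      cnt Y (Op p Y X θ) = cnt Y fun χ => Irr Y χ ∧ inn X χ θ ≠ 0 := fun a b c u v =>
    cnt_congr fun χ => and_congr_right fun i => and_iff_left_of_imp fun j => i.pd_over hp c b (d a b) u j v
  have f : ∀ {X : Subgroup G} {θ}, X ≤ K → Irr X θ → PD p θ := fun a b => have ⟨m, _, c⟩ := b.deg
    ⟨m, fun i => hK (i.trans ((b.deg_dvd c).trans (card_dvd_of_le a))), c⟩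
  obtain ⟨H, h1, -, h3, h4⟩ := exists_complement_in S T' (le_sup_left.trans t2) (inf_le_right.trans hN.le)
    (hS.of_le (le_sup_left.trans t2) le_top).coprime_relIndex
  have h5 : ¬ p ∣ Nat.card H := h4 ▸ d le_rfl (le_sup_left.trans t2)
  have h6 : H ≤ N := h1.trans inf_le_right
  have h7 : H ≤ T := h1.trans (t4 ▸ le_sup_right)
  rw [cnt_clifford hp n1 le_top s1 rfl (d (le_sup_right.trans t1) le_top), cnt_clifford hp n3 l s3 rfl
    (d (le_sup_left.trans t2) inf_le_right), e le_sup_right t1 (le_top.trans n1) s1 (f le_rfl s2),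
    e le_sup_left t2 (inf_le_right.trans n3) s3 (f inf_le_left s4), ← Nat.cast_inj (R := ℂ),
    cnt_eq_frm (H := H) (K := T) s1 (le_top.trans n1) (inv_stab.mono inf_le_left le_rfl)
      (by rw [← t4, ← h3, sup_assoc K S (S ⊔ H), sup_left_idem, sup_assoc]),
    cnt_eq_frm (H := H) (K := T') s3 (inf_le_right.trans n3) (inv_stab.mono inf_le_left le_rfl) (le_antisymm (sup_le t2 h1)
      (h3.ge.trans (sup_le_sup_right le_sup_left H)))]
  have g : ∀ x ∈ N, x ∈ K ⊔ S ↔ x ∈ S ⊔ C := fun x i =>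
    ⟨fun j => cor_inf hp hK hS.isPGroup norm_top ⟨j, hN ▸ i⟩, fun j => cor_le j⟩
  congr 1
  · rw [← t4, relIndex_sup_of_le_normalizer (le_top.trans n1), ← inf_relIndex_right, ← inf_relIndex_right (S ⊔ C)]
    congr 2
    exact Subgroup.ext fun x => and_congr_left fun i => g x i.2
  refine Eqv.inn_left fun x i => Eqv.inn_left fun y j => ?_
  have o : ⁅x, y⁆ ∈ H := comm_in (commutator_le_self H) i j
  by_cases r : ⁅x, y⁆ ∈ S ⊔ C
  swap
  · rw [if_neg r, if_neg (mt (g _ (h6 o)).mp r)]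
  rw [if_pos r, if_pos (cor_le r)]
  obtain ⟨k, u⟩ := relIndex_sup_pow hp hS.isPGroup (le_sup_left.trans (cor_norm' (K := K)))
  have v : ⁅x, y⁆ ∈ C := mem_of_pow_pow (pow_relIndex_mem cor_norm' r) (b := Nat.card H)
    ((show ⁅x, y⁆ ^ Nat.card H = 1 from congrArg Subtype.val (pow_card_eq_one' (x := (⟨_, o⟩ : H)))).symm ▸ one_mem C)
    (by rw [sup_comm, u]; exact (hp.coprime_iff_not_dvd.mpr h5).pow_left k)
  have w : zpowers x ⊔ zpowers y ≤ H := sup_le (zpowers_le.mpr i) (zpowers_le.mpr j)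
  rw [s1.frm_mono s2 le_sup_left (h7 i).1 (h7 j).1 (norm_top (A := ⊤) trivial) (norm_top (A := ⊤) trivial) v.1,
    s3.frm_mono s4 le_sup_right (h1 i).1 (h1 j).1 (n2 (h6 i)) (n2 (h6 j)) v]
  have r : T ≤ stab K ψ := fun a b => ⟨norm_top (A := ⊤) trivial, b.1.2.mono le_sup_left⟩
  exact frm_ow (W := K ⊔ H) hp (fun a => hp.not_dvd_mul hK h5 (a.trans (card_sup_dvd norm_top))) (w.trans le_sup_right)
    hS.isPGroup (w.trans (h6.trans hN.le)) K C ψ φ le_sup_left rfl (comm_two (n2 (h6 i)) (n2 (h6 j)) v) s2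
    (le_sup_right.trans (t1.trans r)) (w.trans (h7.trans r)) s4 s5 x (mem_sup_left (mem_zpowers x)) y (mem_sup_right (mem_zpowers y))

theorem mckay_central [K.Normal] (hp : p.Prime) (hK : ¬ p ∣ Nat.card K) (hS : IsSylowOf p S ⊤) (hN : N = normalizer (S : Set G))
    (hG : K ⊔ N = ⊤) (hZ : Z ≤ center G) (hZ' : Z ≤ Z ⊓ K ⊔ Z ⊓ S) (hμ : Chr Z μ) (h1 : μ 1 = 1) :
    cnt ⊤ (Op p ⊤ Z μ) = cnt N (Op p N Z μ) := by
  set C := K ⊓ centralizer (S : Set G) with hC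
  have n1 : ⊤ ≤ normalizer ((K ⊔ S : Subgroup G) : Set G) :=
    hG ▸ sup_le (le_sup_left.trans le_normalizer) (le_normalizer_sup norm_top hN.le)
  have n3 : N ≤ normalizer ((S ⊔ C : Subgroup G) : Set G) :=
    le_normalizer_sup hN.le (le_normalizer_inf norm_top (le_normalizer_centralizer hN.le))
  have l : S ⊔ C ≤ N := hN ▸ sup_le le_normalizer cor_norm
  have m : Z ≤ S ⊔ C := hZ'.trans (sup_le ((le_inf inf_le_right (inf_le_left.trans (hZ.trans (center_le_centralizer _)))).trans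
    le_sup_right) (inf_le_right.trans le_sup_left))
  have k : ∀ {ψ φ ψ' φ' n}, n ∈ N → Cor p K S ψ φ → Cor p K S ψ' φ' →
      (Eqv (K ⊔ S) ψ' (cj n ψ) ↔ Eqv (S ⊔ C) φ' (cj n φ)) := fun i a b =>
    Cor.eqv_iff hp hK hS.isPGroup norm_top b (a.cjg (norm_top (A := ⊤) trivial) (hN ▸ i))
  refine cnt_fib (fun (i : (G → ℂ) × (G → ℂ)) χ => Cor p K S i.1 i.2 ∧ inn (K ⊔ S) χ i.1 ≠ 0)
    (fun i χ => Cor p K S i.1 i.2 ∧ inn (S ⊔ C) χ i.2 ≠ 0)
    (fun i j => Cor p K S j.1 j.2 ∧ ∃ n ∈ N, Eqv (K ⊔ S) j.1 (cj n i.1)) (fun _ a => a.1) (fun _ a => a.1)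
    (fun χ a => ?_) (fun χ a => ?_) (fun χ i j a b => and_congr_right fun c => ⟨fun d => ?_, fun ⟨n, u, v⟩ => ?_⟩)
    (fun χ i j a b => and_congr_right fun c => ⟨fun d => ?_, fun ⟨n, u, v⟩ => ?_⟩)
    (fun _ _ _ e a => ⟨a.1, (e.mono le_top).inn_left ▸ a.2⟩) (fun _ _ _ e a => ⟨a.1, (e.mono l).inn_left ▸ a.2⟩) fun i => ?_
  · obtain ⟨ψ, u, v⟩ := a.1.exists_under (L := K ⊔ S) le_top
    obtain ⟨φ, w⟩ := exists_cor hp hK hS.isPGroup norm_top u (a.1.pd_under a.2.2 n1 le_top u v)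
    exact ⟨(ψ, φ), w, v⟩
  · obtain ⟨φ, u, v⟩ := a.1.exists_under l
    obtain ⟨ψ, w⟩ := exists_cor' hp hK hS.isPGroup norm_top u (a.1.pd_under a.2.2 n3 l u v)
    exact ⟨(ψ, φ), w, v⟩
  · obtain ⟨g, -, e⟩ := a.1.exists_cj n1 le_top b.1.spec.1 c.spec.1 b.2 d
    obtain ⟨k, u, n, v, rfl⟩ := (mem_sup_of_le_normalizer norm_top).mp (hG.ge (mem_top g))
    exact ⟨n, v, e.trans (cj_cj (θ := i.1) k n ▸ (inv_iff_eqv.mp b.1.spec.1.inv k (mem_sup_left u)).cjg (n1 trivial))⟩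
  · rw [v.inn_right, (a.1.inv.mono le_rfl le_top).inn_cj (n1 trivial) trivial]; exact b.2
  · exact (a.1.exists_cj n3 l b.1.spec.2.2.1 c.spec.2.2.1 b.2 d).imp fun n e => ⟨e.1, (k e.1 b.1 c).mpr e.2⟩
  · rw [((k u b.1 c).mp v).inn_right, (a.1.inv.mono le_rfl l).inn_cj (n3 u) u]; exact b.2
  by_cases c : Cor p K S i.1 i.2
  swap
  · rw [cnt_eq_zero fun _ a => c a.2.1, cnt_eq_zero fun _ a => c a.2.1]
  have e := Cor.over_iff hp hK hS.isPGroup norm_top c hZ hZ' hμ h1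
  have u : ∀ χ, Irr ⊤ χ → inn (K ⊔ S) χ i.1 ≠ 0 → (inn Z χ μ ≠ 0 ↔ inn Z i.1 μ ≠ 0) := fun χ a b =>
    a.over_center c.spec.1 hZ (m.trans cor_le) le_top b (hμ.irr_of_one h1)
  have v : ∀ χ, Irr N χ → inn (S ⊔ C) χ i.2 ≠ 0 → (inn Z χ μ ≠ 0 ↔ inn Z i.1 μ ≠ 0) := fun χ a b =>
    (a.over_center c.spec.2.2.1 hZ m l b (hμ.irr_of_one h1)).trans e.symm
  by_cases d : inn Z i.1 μ = 0
  · rw [cnt_eq_zero fun χ a => (u χ a.1.1 a.2.2).mp a.1.2.1 d, cnt_eq_zero fun χ a => (v χ a.1.1 a.2.2).mp a.1.2.1 d]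
  exact (cnt_congr fun χ => ⟨fun a => ⟨a.1.1, a.2.2, a.1.2.2⟩, fun a => ⟨⟨a.1, (u χ a.1 a.2.1).mpr d, a.2.2⟩, c, a.2.1⟩⟩).trans
    ((c.cnt_eq hp hK hS hN hG).trans (cnt_congr fun χ => ⟨fun a => ⟨⟨a.1, (v χ a.1 a.2.1).mpr d, a.2.2⟩, c, a.2.1⟩,
      fun a => ⟨a.1.1, a.2.2, a.1.2.2⟩⟩))

theorem mckay_central' [M.Normal] (hp : p.Prime) (hZ : Z ≤ center G) (hμ : Chr Z μ) (h1 : μ 1 = 1) (hM : Z ≤ M)
    (hc : ¬ p ∣ Z.relIndex M) (hP : Z ≤ P) {a : ℕ} (ha : Z.relIndex P = p ^ a) (hi : ¬ p ∣ P.relIndex ⊤)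
    (hG : M ⊔ normalizer (P : Set G) = ⊤) :
    cnt ⊤ (Op p ⊤ Z μ) = cnt (normalizer (P : Set G)) (Op p (normalizer (P : Set G)) Z μ) := by
  have := Fact.mk hp
  obtain ⟨S, hS⟩ := exists_isSylowOf p P
  have b := hS.sup_eq_of_relIndex_eq_pow hP ha
  have c : ∀ {X : Subgroup G}, Z ≤ normalizer (X : Set G) := fun {X} => hZ.trans (center_le_normalizer _)
  have d : normalizer (P : Set G) = normalizer (S : Set G) := le_antisymm (fun g i => by
    obtain ⟨k, u, v⟩ := hS.exists_mul_normalizer i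
    simpa using mul_mem (sup_le c le_normalizer (b.ge u)) v) (b ▸ le_normalizer_sup (norm_of_le_center hZ) le_rfl)
  obtain ⟨L, Y, u, v, w, y, -⟩ := central_split hZ hM
  have hT := hS.trans le_top hi
  have e := hT.inf_of_normal (le_top (a := Z)) (norm_of_le_center hZ)
  obtain ⟨H, h1', -, h3, h4⟩ := exists_complement_in (S ⊓ Z) Z inf_le_right c e.coprime_relIndex
  refine mckay_central (K := pPrimeCore p G) hp (not_dvd_card_pPrimeCore hp) hT d (eq_top_iff.mpr (hG.ge.trans (sup_le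
    (w.ge.trans (sup_le ((le_pPrimeCore u (hp.coprime_iff_not_dvd.mpr fun i => hc (y p hp i)).symm).trans le_sup_left)
      ((v.trans c).trans le_sup_right))) le_sup_right))) hZ (h3.ge.trans (sup_le ((inf_comm S Z).le.trans le_sup_right)
        ((le_inf h1' (le_pPrimeCore (normal_of_le_normalizer (norm_of_le_center (h1'.trans hZ)))
          (hp.coprime_iff_not_dvd.mpr (h4 ▸ e.not_dvd)).symm)).trans le_sup_left))) hμ h1

theorem cnt_op_zero (hn : K ≤ normalizer (L : Set G)) (hl : L ≤ K) (hθ : Irr L θ) (h : ¬ PD p θ) : cnt K (Op p K L θ) = 0 :=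
  cnt_eq_zero fun _ a => h (a.1.pd_under a.2.2 hn hl hθ a.2.1)

theorem Tri.cnt_op {Γ Q : Type*} [Group Γ] [Group Q] [Finite Γ] [Finite Q] (t : Tri K N θ Γ Q) (hp : p.Prime) (hθ : Irr N θ)
    (h : PD p θ) (hN : N ≤ H) (hH : H ≤ K) : cnt H (Op p H N θ) = cnt (t.bar H) (Op p (t.bar H) t.Z t.μ) :=
  t.cnt_eq hθ hN hH fun χ α _ b c => have ⟨d, _, v⟩ := h; have ⟨m, _, w⟩ := b.deg
    ⟨fun ⟨k, i, j⟩ => ⟨m, fun o => i (by
      rw [c.deg, v, w, ← Nat.cast_mul, Nat.cast_inj] at j; exact j ▸ o.mul_right d), w⟩, fun ⟨k, i, j⟩ => h.mul hp i (j ▸ c.deg)⟩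

theorem mckay_step (hp : p.Prime) (hL : X ≤ normalizer (L : Set G)) (hM : X ≤ normalizer (M : Set G)) (h1 : L ≤ M) (h2 : M ≤ X)
    (hS : IsSylowOf p S X) (hX : X ≤ normalizer ((M ⊔ S : Subgroup G) : Set G)) (hc : ¬ p ∣ L.relIndex M) (hθ : Irr L θ)
    (hi : Inv S L θ) (hN : N = X ⊓ normalizer ((L ⊔ S : Subgroup G) : Set G)) : cnt X (Op p X L θ) = cnt N (Op p N L θ) := by
  have := Fact.mk hp
  have a : L ⊔ S ≤ N := hN ▸ le_inf (sup_le (h1.trans h2) hS.le) le_normalizer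
  have b : N ≤ X := hN ▸ inf_le_left
  by_cases e : PD p θ
  swap
  · rw [cnt_op_zero hL (h1.trans h2) hθ e, cnt_op_zero (b.trans hL) (le_sup_left.trans a) hθ e]
  have c : L ⊔ S ≤ stab L θ := sup_le hθ.inv.le_stab ((le_stab (hS.le.trans hL)).mpr hi)
  have d : ∀ {U Y : Subgroup G}, L ⊔ S ≤ U → U ≤ Y → Y ≤ X → ¬ p ∣ U.relIndex Y := fun a b c i =>
    (hS.of_le ((le_sup_right.trans a).trans b) c).not_dvd (i.trans (relIndex_dvd_of_le_left _ (le_sup_right.trans a)))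
  set T := stab L θ ⊓ X
  have f : L ⊔ S ≤ T := le_inf c (a.trans b)
  have g : stab L θ ⊓ N ≤ T := inf_le_inf_left _ b
  have l : L ≤ T := le_sup_left.trans f
  obtain ⟨Γ, Q, _, _, _, _, ⟨t⟩⟩ := hθ.exists_tri (inf_le_right.trans hL) l (inv_stab.mono inf_le_left le_rfl)
  have u : t.bar (stab L θ ⊓ N) = normalizer ((t.bar (L ⊔ S) : Subgroup Q) : Set Q) := by
    obtain ⟨H, v1, v2, v3⟩ := t.exists_bar (t.le_bar'.trans (le_normalizer (H := t.bar (L ⊔ S))))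
    exact le_antisymm (t.bar_norm (inf_le_right.trans (hN.le.trans inf_le_right))) (v3.ge.trans (t.bar_mono (le_inf
      (v2.trans inf_le_left) (hN.ge.trans' (le_inf (v2.trans inf_le_right) (t.norm_of_bar le_sup_left f v2 v3.le))))))
  have m : T ≤ normalizer ((M ⊓ T : Subgroup G) : Set G) := le_normalizer_inf (inf_le_right.trans hM) le_normalizer
  have := normal_of_le_normalizer (t.bar_top ▸ t.bar_norm m)
  obtain ⟨k, hk⟩ := relIndex_sup_pow hp hS.isPGroup (hS.le.trans hL)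
  rw [cnt_clifford hp hL (h1.trans h2) hθ rfl (d f inf_le_right le_rfl), cnt_clifford hp (b.trans hL) (le_sup_left.trans a) hθ rfl
    (d (le_inf c a) inf_le_right b), t.cnt_op hp hθ e l le_rfl, t.cnt_op hp hθ e (le_sup_left.trans (le_inf c a)) g, u, t.bar_top]
  refine mckay_central' (M := t.bar (M ⊓ T)) hp t.central t.lin t.one t.le_bar' ?_ t.le_bar' ((t.relIndex_Z f).trans hk) ?_ ?_
  · rw [t.relIndex_Z inf_le_right]
    exact fun i => hc (i.trans (relIndex_dvd_of_norm inf_le_left (h2.trans hL)))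
  · rw [relIndex_top_right, t.index_bar le_sup_left]
    exact d le_rfl f inf_le_right
  rw [← u, ← t.bar_sup inf_le_right g, ← t.bar_top]
  refine congrArg t.bar (le_antisymm (sup_le inf_le_right g) fun x i => ?_)
  have s : S ≤ T := le_sup_right.trans f
  obtain ⟨y, v, w⟩ := (hS.of_le (le_inf le_sup_right s : S ≤ (M ⊔ S) ⊓ T) (inf_le_right.trans inf_le_right)).exists_mul_normalizer
    (le_normalizer_inf (inf_le_right.trans hX) le_normalizer i)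
  obtain ⟨q, q1, r, r1, rfl⟩ := (mem_sup_of_le_normalizer (hS.le.trans hM)).mp v.1
  have o := T.mul_mem (T.inv_mem v.2) i
  rw [← mul_inv_cancel_left (q * r) x]
  exact mul_mem (mul_mem (mem_sup_left ⟨q1, (T.mul_mem_cancel_right (s r1)).mp v.2⟩) (mem_sup_right (le_inf c a (mem_sup_right r1))))
    (mem_sup_right ⟨o.1, hN ▸ ⟨o.2, le_normalizer_sup (zpowers_le.mpr (hL o.2)) (zpowers_le.mpr w) (mem_zpowers _)⟩⟩)

theorem Chr.exists_inv_constit (h : Chr N χ) (hp : p.Prime) (hS : IsPGroup p S) (hn : S ≤ normalizer (N : Set G))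
    (hi : Inv S N χ) (e : PD p χ) : ∃ θ, Irr N θ ∧ Inv S N θ ∧ inn N χ θ ≠ 0 := by
  classical
  by_contra! a
  obtain ⟨n, b⟩ := h.gen.cong_fixed hp hi hS hn bot_le norm_top chr_one.gen (inv_const 1)
  obtain ⟨d, u, v⟩ := e
  rw [Finset.sum_eq_zero fun θ i => by rw [a _ (irr_ez.mpr θ.2) (Finset.mem_filter.mp i).2, zero_mul], inn_bot, v, map_one,
    mul_one, zero_add] at b
  exact u (Int.natCast_dvd_natCast.mp ⟨n, by exact_mod_cast b⟩)

theorem exists_cj_norm [Fact p.Prime] (hS : IsSylowOf p S X) (hn : X ≤ normalizer (M : Set G)) (h : Inv S M θ) (h' : Inv S M φ)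
    (hx : x ∈ X) (e : Eqv M φ (cj x θ)) : ∃ n ∈ X ⊓ normalizer (S : Set G), Eqv M φ (cj n θ) := by
  have u : S ≤ stab M φ ⊓ X := le_inf ((le_stab (hS.le.trans hn)).mpr h') hS.le
  have v := hS.conj_of_mem_normalizer (le_normalizer (inv_mem hx))
  obtain ⟨z, w, y⟩ := (v.of_le (le_inf (conj_smul_le_iff.mpr fun x o => by
    rw [stab_congr e, mem_stab_cj (hn hx)]
    simpa [mul_assoc] using (le_stab (hS.le.trans hn)).mpr h o) v.le) inf_le_right).exists_conj_eq (hS.of_le u inf_le_right)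
  rw [smul_smul, ← map_mul, conj_smul_eq_iff_mem_normalizer] at y
  refine ⟨x * z⁻¹, ⟨X.mul_mem hx (X.inv_mem w.2), by simpa using inv_mem y⟩, .symm ?_⟩
  rw [← cj_cj]
  exact (e.symm.cjg (inv_mem w.1.1)).trans ((stab _ φ).inv_mem w.1).2

theorem mckay_glue [L.Normal] [M.Normal] (hp : p.Prime) (hS : IsSylowOf p S ⊤) (h1 : L ≤ M) (h2 : M ≤ N)
    (hN : normalizer (S : Set G) ≤ N) (h : ∀ μ, Irr M μ → Inv S M μ → cnt ⊤ (Op p ⊤ M μ) = cnt N (Op p N M μ))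
    (hθ : Irr L θ) (hi : Inv S L θ) : cnt ⊤ (Op p ⊤ L θ) = cnt N (Op p N L θ) := by
  have := Fact.mk hp
  have a : ∀ {X χ}, N ≤ X → Op p X L θ χ → ∃ μ, (Irr M μ ∧ Inv S M μ) ∧ inn M χ μ ≠ 0 := fun l i =>
    have ⟨μ, u, v, w⟩ := (i.1.chr.res (h2.trans l)).exists_inv_constit hp hS.isPGroup norm_top
      (i.1.inv.mono (le_normalizer.trans (hN.trans l)) (h2.trans l)) i.2.2
    ⟨μ, ⟨u, v⟩, w⟩
  have b : ∀ {X U : Subgroup G} [U.Normal] {χ μ ν}, N ≤ X → U ≤ X → Irr X χ → Irr U μ → Inv S U μ → inn U χ μ ≠ 0 → Irr U ν →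
      Inv S U ν → (inn U χ ν ≠ 0 ↔ ∃ n ∈ normalizer (S : Set G), Eqv U ν (cj n μ)) := fun l m c d e f u v =>
    ⟨fun i => have ⟨g, j, k⟩ := c.exists_cj norm_top m d u f i
      (exists_cj_norm (hS.of_le (le_normalizer.trans (hN.trans l)) le_top) norm_top e v j k).imp fun _ r => ⟨r.1.2, r.2⟩,
      fun ⟨n, i, j⟩ => by rwa [j.inn_right, (c.inv.mono le_rfl m).inn_cj (norm_top (A := ⊤) trivial) (l (hN i))]⟩
  have c : ∀ {X χ μ}, N ≤ X → Irr M μ → Inv S M μ → Op p X M μ χ →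
      (inn L χ θ ≠ 0 ↔ ∃ n ∈ normalizer (S : Set G), inn L μ (cj n θ) ≠ 0) := fun l u v w => ⟨fun i => by
    obtain ⟨ν, d, e, f⟩ := (u.chr.res h1).exists_inv_constit hp hS.isPGroup norm_top (v.mono le_rfl h1)
      (w.1.pd_under w.2.2 norm_top (h2.trans l) u w.2.1)
    obtain ⟨n, j, k⟩ := (b l (h1.trans (h2.trans l)) w.1 hθ hi i d e).mp
      ((w.1.chr.res (h2.trans l)).over_trans h1 u d.chr w.2.1 f)
    exact ⟨n, j, k.inn_right ▸ f⟩, fun ⟨n, i, j⟩ => by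
      rw [← (w.1.inv.mono le_rfl (h1.trans (h2.trans l))).inn_cj (norm_top (A := ⊤) trivial) (l (hN i))]
      exact (w.1.chr.res (h2.trans l)).over_trans h1 u (hθ.cjg (norm_top (A := ⊤) trivial)).chr w.2.1 j⟩
  refine cnt_fib (fun μ χ => (Irr M μ ∧ Inv S M μ) ∧ inn M χ μ ≠ 0) (fun μ χ => (Irr M μ ∧ Inv S M μ) ∧ inn M χ μ ≠ 0)
    (fun μ ν => (Irr M ν ∧ Inv S M ν) ∧ ∃ n ∈ normalizer (S : Set G), Eqv M ν (cj n μ)) (fun _ i => i.1) (fun _ i => i.1)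
    (fun χ => a le_top) (fun χ => a le_rfl) (fun χ μ ν u v => and_congr_right fun w => b le_top le_top u.1 v.1.1 v.1.2 v.2 w.1 w.2)
    (fun χ μ ν u v => and_congr_right fun w => b le_rfl h2 u.1 v.1.1 v.1.2 v.2 w.1 w.2)
    (fun _ _ _ e i => ⟨i.1, (e.mono le_top).inn_left ▸ i.2⟩) (fun _ _ _ e i => ⟨i.1, (e.mono h2).inn_left ▸ i.2⟩) fun μ => ?_
  by_cases d : (Irr M μ ∧ Inv S M μ) ∧ ∃ n ∈ normalizer (S : Set G), inn L μ (cj n θ) ≠ 0
  · have e : ∀ {X : Subgroup G}, N ≤ X → cnt X (fun χ => Op p X L θ χ ∧ (Irr M μ ∧ Inv S M μ) ∧ inn M χ μ ≠ 0) =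
        cnt X (Op p X M μ) := fun l => cnt_congr fun χ => ⟨fun i => ⟨i.1.1, i.2.2, i.1.2.2⟩, fun i =>
          ⟨⟨i.1, (c l d.1.1 d.1.2 i).mpr d.2, i.2.2⟩, d.1, i.2.1⟩⟩
    rw [e le_top, e le_rfl, h μ d.1.1 d.1.2]
  have e : ∀ {X : Subgroup G}, N ≤ X → cnt X (fun χ => Op p X L θ χ ∧ (Irr M μ ∧ Inv S M μ) ∧ inn M χ μ ≠ 0) = 0 :=
    fun l => cnt_eq_zero fun χ i => d ⟨i.2.1, (c l i.2.1.1 i.2.1.2 ⟨i.1.1, i.2.2, i.1.2.2⟩).mp i.1.2.1⟩
  rw [e le_top, e le_rfl]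

theorem mckay_rel (hp : p.Prime) (hG : IsPSolvable p G) (hS : IsSylowOf p S ⊤) (L : Subgroup G) : L.Normal → ∀ θ, Irr L θ →
    Inv S L θ → cnt ⊤ (Op p ⊤ L θ) =
      cnt (normalizer ((L ⊔ S : Subgroup G) : Set G)) (Op p (normalizer ((L ⊔ S : Subgroup G) : Set G)) L θ) := by
  have := Fact.mk hp
  induction L using WellFoundedGT.induction with | _ L ih
  intro _ θ hθ hi
  rcases eq_or_ne L ⊤ with rfl | e
  · rw [top_sup_eq, normalizer_eq_top]
  have := (QuotientGroup.nontrivial_iff (N := L)).mpr e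
  obtain ⟨R, r1, r2, r3⟩ := IsPSolvable.exists_normal (IsPSolvable.quotient hG L)
  set M := R.comap (QuotientGroup.mk' L)
  have a : L ≤ M := QuotientGroup.le_comap_mk' L R
  have b : L.relIndex M = Nat.card R := by
    rw [relIndex_eq_card_map_mk', map_comap_eq_self_of_surjective (QuotientGroup.mk'_surjective L)]
  have c : L < M := a.lt_of_ne fun i => r2 (card_eq_one.mp (by rw [← b, ← i, relIndex_self]))
  have d : normalizer (S : Set G) ≤ normalizer ((M ⊔ S : Subgroup G) : Set G) := le_normalizer_sup norm_top le_rfl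
  rw [mckay_glue hp hS a (le_sup_left.trans le_normalizer) d (ih M c inferInstance) hθ hi]
  rcases r3 with r3 | r3
  · obtain ⟨k, hk⟩ := r3.exists_card_eq
    have : M ⊔ S = L ⊔ S := by
      rw [← (hS.inf_of_normal le_top norm_top).sup_eq_of_relIndex_eq_pow a (b.trans hk), sup_assoc,
        sup_eq_right.mpr (inf_le_left : S ⊓ M ≤ S)]
    rw [this]
  refine mckay_step hp norm_top norm_top a (le_sup_left.trans le_normalizer) (hS.of_le (le_normalizer.trans d) le_top) le_rfl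
    (b ▸ hp.coprime_iff_not_dvd.mp r3.symm) hθ hi (inf_eq_right.mpr ?_).symm
  rw [show M ⊔ S = M ⊔ (L ⊔ S) by rw [← sup_assoc, sup_eq_left.mpr a]]
  exact le_normalizer_sup norm_top le_rfl

end Cfsg.Agent.Isaacs
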