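import Mathlib
import Cfsg.Agent.Isaacs.RealCh
import Cfsg.Agent.Isaacs.GlS
import Cfsg.Agent.Char.BrauerPerm

/-! Real characters and real classes under automorphism groups. -/

set_option autoImplicit false

namespace Cfsg.Agent.Isaacs

open Cfsg Cfsg.Agent.Char Subgroup Finset
open scoped ComplexConjugate commutatorElement

theorem card_quot_mul {G X Z : Type*} [Group G] [Fintype G] [MulAction G X] [Finite X] (S : SubMulAction G X) (f : Z → S)
    (hf : f.Surjective) (r : Z → Z → Prop) (hr : ∀ a b, r a b ↔ ∃ g : G, g • (f a).1 = f b) :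
    Nat.card (Quot r) * Nat.card G = ∑ g : G, Nat.card {x // x ∈ S ∧ g • x = x} := by
  classical
  have := Fintype.ofFinite S
  have := Fintype.ofFinite (MulAction.orbitRel.Quotient G S)
  have k : ∀ a b, (Quotient.mk _ (f a) : MulAction.orbitRel.Quotient G S) = Quotient.mk _ (f b) ↔ r b a := fun a b =>
    Quotient.eq.trans ((exists_congr fun g => Subtype.ext_iff).trans (hr b a).symm)
  rw [Nat.card_eq_of_bijective (Quot.lift (fun z => (Quotient.mk _ (f z) : MulAction.orbitRel.Quotient G S)) fun a b i =>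
    ((k b a).mpr i).symm) ⟨by rintro ⟨a⟩ ⟨b⟩ i; exact (Quot.sound ((k a b).mp i)).symm,
      fun x => x.inductionOn fun x => have ⟨z, j⟩ := hf x; ⟨Quot.mk _ z, congrArg _ j⟩⟩,
    Nat.card_eq_fintype_card, Nat.card_eq_fintype_card, ← MulAction.sum_card_fixedBy_eq_card_orbits_mul_card_group]
  exact sum_congr rfl fun g _ => Nat.card_eq_fintype_card.symm.trans (Nat.card_congr
    ⟨fun x => ⟨x.1.1, x.1.2, congrArg Subtype.val x.2⟩, fun x => ⟨⟨x.1, x.2.1⟩, Subtype.ext x.2.2⟩, fun _ => rfl, fun _ => rfl⟩)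

theorem smul_invol_iff {G X : Type*} [Group G] [MulAction G X] {c : X → X} (hc : ∀ x, c (c x) = x) {g : G}
    (h : ∀ x, c (g • x) = g • c x) {m : ℕ} (hm : Odd m) {x : X} (e : g ^ m • x = x) : g • c x = x ↔ c x = x ∧ g • x = x := by
  refine ⟨fun i => ?_, fun ⟨i, j⟩ => by rw [i, j]⟩
  have a : g • x = c x := by rw [← congrArg c i, h, hc]
  have b : g ^ 2 ∈ MulAction.stabilizer G x := by rw [MulAction.mem_stabilizer_iff, sq, mul_smul, a, i]
  have d : g • x = x := mem_of_pow_pow (H := MulAction.stabilizer G x) b e (Nat.coprime_two_left.mpr hm)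
  exact ⟨a ▸ d, d⟩

variable {G : Type*} [Group G] {K P : Subgroup G} {p : ℕ}

/-- inversion of conjugacy classes -/
def clInv : ConjClasses G → ConjClasses G :=
  Quotient.map (·⁻¹) fun _ _ h => have ⟨c, e⟩ := isConj_iff.mp h; isConj_iff.mpr ⟨c, by simp [← e, mul_assoc]⟩

theorem clInv_inv (C : ConjClasses G) : clInv (clInv C) = C := C.inductionOn fun x => congrArg ConjClasses.mk (inv_inv x)

/-- action on the classes of a normal subgroup -/
@[reducible] def clAct (K : Subgroup G) [K.Normal] : MulAction G (ConjClasses K) where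
  smul g := ConjClasses.map (MulAut.conjNormal g : MulAut K).toMonoidHom
  one_smul C := C.inductionOn fun x => congrArg ConjClasses.mk (by simp)
  mul_smul a b C := C.inductionOn fun x => congrArg ConjClasses.mk (by simp)

variable [Finite G]

/-- action on the irreducible characters of a normal subgroup -/
@[reducible] def irrActN (K : Subgroup G) [K.Normal] : MulAction G (IrrCharacter K) where
  smul g χ := ⟨fun x => χ.1 (MulAut.conjNormal g⁻¹ x), isIrr_comp_equiv _ χ.2⟩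
  one_smul χ := Subtype.ext (funext fun x => congrArg χ.1 (by simp))
  mul_smul a b χ := Subtype.ext (funext fun x => congrArg χ.1 (by simp))

theorem card_real_orbits (K : Subgroup G) [K.Normal] (ho : Odd K.index) :
    Nat.card (Quot fun θ η : {θ : IrrCharacter K // ∀ k, (θ.1 k).im = 0} =>
      ∃ g : G, ∀ k k' : K, (k' : G) = g * k * g⁻¹ → η.1.1 k' = θ.1.1 k) =
    Nat.card (Quot fun x y : {x : K // IsConj x x⁻¹} => ∃ g : G, (y.1 : G) = g * x.1 * g⁻¹) := by
  have := Fintype.ofFinite G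
  letI := clAct K
  letI := irrActN K
  let c : IrrCharacter K → IrrCharacter K := fun χ => ⟨fun x => conj (χ.1 x), isIrr_conj χ.2⟩
  have a : ∀ χ, c χ = χ ↔ ∀ k, (χ.1 k).im = 0 := fun χ => Subtype.ext_iff.trans conj_eq_self_iff_im
  have b : ∀ (g : G) C, clInv (g • C : ConjClasses K) = g • clInv C := fun g C =>
    C.inductionOn fun x => congrArg ConjClasses.mk (map_inv _ x).symm
  refine Nat.eq_of_mul_eq_mul_right (Nat.card_pos (α := G)) ((card_quot_mul
    (⟨{χ | c χ = χ}, fun g χ i => (a _).mpr fun k => (a _).mp i _⟩ : SubMulAction G (IrrCharacter K))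
    (fun θ => ⟨θ.1, (a _).mpr θ.2⟩) (fun θ => ⟨⟨θ.1, (a _).mp θ.2⟩, rfl⟩) _ fun θ η => exists_congr fun g =>
      ⟨fun i => Subtype.ext (funext fun x => (i _ x (by simp [mul_assoc])).symm), fun i k k' j =>
        (congrFun (congrArg Subtype.val i) k').symm.trans (congrArg θ.1.1 (Subtype.ext (by simp [j, mul_assoc])))⟩).trans
    ((sum_congr rfl fun g _ => ?_).trans (card_quot_mul
      (⟨{C | clInv C = C}, fun g C i => (b g C).trans (congrArg _ i)⟩ : SubMulAction G (ConjClasses K))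
      (fun x : {x : K // IsConj x x⁻¹} => ⟨.mk x.1, (ConjClasses.mk_eq_mk_iff_isConj.mpr x.2).symm⟩)
      (by rintro ⟨⟨x⟩, i⟩; exact ⟨⟨x, ConjClasses.mk_eq_mk_iff_isConj.mp i.symm⟩, rfl⟩) _ fun x y =>
        ⟨fun ⟨g, i⟩ => ⟨g, congrArg ConjClasses.mk (Subtype.ext i.symm)⟩, fun ⟨g, i⟩ => ?_⟩).symm))
  · have d : ∀ x : K, IsConj (MulAut.conjNormal (g ^ K.index) x) x := fun x =>
      (isConj_iff.mpr ⟨(⟨_, K.pow_index_mem g⟩ : K), rfl⟩).symm
    refine (Nat.card_congr (Equiv.subtypeEquivRight fun χ => (smul_invol_iff (c := c) (fun χ => by simp [c])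
      (fun _ => rfl) ho (Subtype.ext (funext fun x => classFun_isConj (irr_classFun χ) ?_))).symm)).trans
      ((BrauerPerm.card_fixed_eq (fun χ => g • c χ) ((Function.Involutive.toPerm _ clInv_inv).trans (MulAction.toPerm g))
        fun χ x y i => ?_).trans (Nat.card_congr (Equiv.subtypeEquivRight fun C => smul_invol_iff clInv_inv (b g) ho
          (C.inductionOn fun x => ConjClasses.mk_eq_mk_iff_isConj.mpr (d x)))))
    · simpa using (d (MulAut.conjNormal (g ^ K.index)⁻¹ x)).symm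
    have j := (MulAut.conjNormal g⁻¹ : MulAut K).toMonoidHom.map_isConj (ConjClasses.mk_eq_mk_iff_isConj.mp i)
    refine (congrArg conj (classFun_isConj (irr_classFun χ) j)).trans ?_
    rw [← isChar_inv (isIrr_isChar χ.2)]
    simp
  obtain ⟨k, j⟩ := isConj_iff.mp (ConjClasses.mk_eq_mk_iff_isConj.mp i)
  exact ⟨k * g, by simp [← j, mul_assoc]⟩

theorem GlP.cnj {C : Subgroup G} {χ β : G → ℂ} (h : GlP p C χ β) : GlP p C (fun x => conj (χ x)) fun x => conj (β x) := by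
  obtain ⟨ε, a, Δ, b, c⟩ := h
  exact ⟨ε, a, _, b.cnj, fun x i => by simp [c x i]⟩

theorem card_real_inv (hp : p.Prime) (hP : IsPGroup p P) (hK : ¬ p ∣ Nat.card K) (hn : P ≤ normalizer (K : Set G)) :
    Nat.card {θ : IrrCharacter K // (∀ k, (θ.1 k).im = 0) ∧ Inv P K (ez K θ)} =
      Nat.card {θ : IrrCharacter ↥(K ⊓ centralizer (P : Set G)) // ∀ k, (θ.1 k).im = 0} := by
  have h := glData_pgroup hp hK P hP hn
  have r : ∀ {H : Subgroup G} {θ : G → ℂ}, (∀ k : H, (θ k).im = 0) ↔ Eqv H (fun x => conj (θ x)) θ :=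
    Subtype.forall.trans (forall₂_congr fun _ _ => Complex.conj_eq_iff_im.symm)
  refine card_eq_of_rel (fun χ β => GlP p (K ⊓ centralizer (P : Set G)) (ez K χ.1) (ez _ β.1.1)) (fun χ => ?_) (fun β => ?_)
    (fun χ β γ h1 h2 => Subtype.ext (irr_ez_eq (h1.unique h2 hp (irr_ez.mpr β.1.2) (irr_ez.mpr γ.1.2))))
    fun χ ψ β h1 h2 => Subtype.ext (irr_ez_eq (h.inj _ _ _ (irr_ez.mpr χ.1.2) χ.2.2
      (irr_ez.mpr ψ.1.2) ψ.2.2 (irr_ez.mpr β.1.2) h1 h2))
  · obtain ⟨β, h1, -, h3⟩ := h.ex _ (irr_ez.mpr χ.1.2) χ.2.2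
    exact ⟨⟨⟨_, h1⟩, r.mpr ((h3.cnj.congr ((r.mp (by simpa using χ.2.1)).symm.mono inf_le_left) (.refl _ _)).unique h3 hp
      h1.cnj h1)⟩, h3.congr (.refl _ _) eqv_ez.symm⟩
  · obtain ⟨χ, h1, h2, h3⟩ := h.surj _ (irr_ez.mpr β.1.2) inv_bot
    exact ⟨⟨⟨_, h1⟩, r.mpr (h.inj _ _ _ h1.cnj (h2.map _) h1 h2 (irr_ez.mpr β.1.2) (h3.cnj.congr (.refl _ _)
      (r.mp (by simpa using β.2))) h3), h2.congr hn eqv_ez.symm⟩, h3.congr (eqv_ez.mono inf_le_left) (.refl _ _)⟩

theorem exists_fix_conj (hP : Group.IsSolvable P) (hc : (Nat.card P).Coprime (Nat.card K)) (hn : P ≤ normalizer (K : Set G))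
    {g : K} (h : ∀ x ∈ P, ∀ k' : K, (k' : G) = x * g * x⁻¹ → ConjClasses.mk k' = ConjClasses.mk g) :
    ∃ c : K, IsConj g c ∧ c.1 ∈ centralizer (P : Set G) := by
  obtain ⟨k, hk, h⟩ := @Core.exists_fixed_of_smul_mem_orbit G _ _ G
    (MulAction.compHom G (MulAut.conj : G →* MulAut G)) P K hn hc (Or.inl hP) g fun a ha => by
      obtain ⟨k, hk⟩ := isConj_iff.mp (ConjClasses.mk_eq_mk_iff_isConj.mp (h a ha ⟨_, conj_mem hn ha g.2⟩ rfl).symm)
      exact ⟨k, k.2, congrArg Subtype.val hk⟩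
  exact ⟨_, isConj_iff.mpr ⟨(⟨k, hk⟩ : K), rfl⟩, fun a ha => mul_inv_eq_iff_eq_mul.mp (h a ha)⟩

theorem isConj_cent (hP : Group.IsSolvable P) (hc : (Nat.card P).Coprime (Nat.card K)) (hn : P ≤ normalizer (K : Set G))
    {c d : ↥(K ⊓ centralizer (P : Set G))} (h : IsConj (inclusion inf_le_left c : K) (inclusion inf_le_left d)) : IsConj c d := by
  obtain ⟨k, hk⟩ := isConj_iff.mp h
  have h1 : (k : G) * c * (k : G)⁻¹ = d := congrArg Subtype.val hk
  obtain ⟨z, hz, h3⟩ := @Core.exists_centralizer_smul_eq G _ _ G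
    (MulAction.compHom G (MulAut.conj : G →* MulAut G)) P K hn hc (Or.inl hP) c k k.2
    (fun a ha => mul_inv_eq_iff_eq_mul.mpr (c.2.2 a ha)) fun a ha => by
      change a * (k * c * (k : G)⁻¹) * a⁻¹ = k * c * (k : G)⁻¹
      rw [h1]; exact mul_inv_eq_iff_eq_mul.mpr (d.2.2 a ha)
  exact isConj_iff.mpr ⟨⟨z, hz⟩, Subtype.ext (h3.trans h1)⟩

omit [Finite G] in
theorem real_of_mk_eq {x y : G} (e : ConjClasses.mk y = ConjClasses.mk x) (h : IsConj x x⁻¹) : IsConj y y⁻¹ :=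
  ConjClasses.mk_eq_mk_iff_isConj.mp (e.trans ((ConjClasses.mk_eq_mk_iff_isConj.mpr h).trans (congrArg clInv e).symm))

theorem card_real_cl (hP : Group.IsSolvable P) (hc : (Nat.card P).Coprime (Nat.card K)) (hn : P ≤ normalizer (K : Set G)) :
    Nat.card {C : ConjClasses ↥(K ⊓ centralizer (P : Set G)) // ∀ g, ConjClasses.mk g = C → IsConj g g⁻¹} =
    Nat.card {c : ConjClasses K // (∀ k : K, ConjClasses.mk k = c → IsConj k k⁻¹) ∧ ∀ k : K, ConjClasses.mk k = c →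
      ∀ x ∈ P, ∀ k' : K, (k' : G) = x * k * x⁻¹ → ConjClasses.mk k' = c} := by
  refine card_eq_of_rel (fun L C => ∃ c, ConjClasses.mk c = L.1 ∧
    ConjClasses.mk (inclusion inf_le_left c) = C.1) ?_ ?_ ?_ ?_
  · rintro ⟨⟨c⟩, i⟩
    refine ⟨⟨ConjClasses.mk (inclusion inf_le_left c), fun k j => real_of_mk_eq j ((inclusion _).map_isConj (i c rfl)),
      fun g h s hs g' e => ?_⟩, c, rfl, rfl⟩
    obtain ⟨k, hk⟩ := isConj_iff.mp (ConjClasses.mk_eq_mk_iff_isConj.mp h)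
    refine ConjClasses.mk_eq_mk_iff_isConj.mpr (isConj_iff.mpr ⟨⟨_, conj_mem hn hs k.2⟩, Subtype.ext ?_⟩)
    have h1 : (k : G) * g * (k : G)⁻¹ = c := congrArg Subtype.val hk
    change s * k * s⁻¹ * g' * (s * k * s⁻¹)⁻¹ = (c : G)
    rw [e, ← mul_inv_cancel_right (c : G) s, ← c.2.2 s hs, ← h1]; group
  · rintro ⟨⟨g⟩, i, j⟩
    obtain ⟨c, a, b⟩ := exists_fix_conj hP hc hn (j g rfl)
    have d := (ConjClasses.mk_eq_mk_iff_isConj.mpr a).symm
    exact ⟨⟨.mk ⟨c, c.2, b⟩, fun k e => real_of_mk_eq e (isConj_cent hP hc hn (i c d))⟩, _, rfl, d⟩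
  · rintro _ K K' ⟨c, h0, h⟩ ⟨c', h1, h2⟩
    exact Subtype.ext (h.symm.trans ((ConjClasses.mk_eq_mk_iff_isConj.mpr ((inclusion _).map_isConj
      (ConjClasses.mk_eq_mk_iff_isConj.mp (h0.trans h1.symm)))).trans h2))
  · rintro _ _ K ⟨c, h0, h⟩ ⟨c', h1, h2⟩
    exact Subtype.ext (h0.symm.trans ((ConjClasses.mk_eq_mk_iff_isConj.mpr (isConj_cent hP hc hn
      (ConjClasses.mk_eq_mk_iff_isConj.mp (h.trans h2.symm)))).trans h1))

end Cfsg.Agent.Isaacs
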