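import Mathlib
import Cfsg.Agent.Isaacs.McKay
import Cfsg.Agent.Isaacs.RealCh3

/-! Groups whose real irreducible characters have degree prime to `p` (Isaacs and Navarro). -/

set_option autoImplicit false

namespace Cfsg.Agent.Isaacs

open Cfsg Cfsg.Agent.Char Cfsg.Agent.Core Subgroup
open scoped ComplexConjugate commutatorElement Pointwise

variable {G : Type*} [Group G] {C H K L M N P Q T U X : Subgroup G} {θ φ ψ χ η ξ μ l : G → ℂ} {p : ℕ} {g t x : G}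

/-- the subgroup generated by the `p`-elements -/
abbrev pel (p : ℕ) (G : Type*) [Group G] : Subgroup G := closure {g : G | ∃ k : ℕ, orderOf g = p ^ k}

instance pel_normal : (pel p G).Normal := ⟨fun x hx g => by
  induction hx using closure_induction with
  | mem x h => exact subset_closure (h.imp fun k e => ((MulAut.conj g).orderOf_eq x).trans e)
  | one => simp
  | mul x y _ _ a b => simpa [mul_assoc] using mul_mem a b
  | inv x _ a => simpa [mul_assoc] using inv_mem a⟩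

theorem pel_le (h : ∀ t, ∀ k, t ^ p ^ k = 1 → t ∈ X) : pel p G ≤ X :=
  (closure_le _).mpr fun t ⟨k, e⟩ => h t k (e ▸ pow_orderOf_eq_one t)

theorem le_pel [Fact p.Prime] (h : IsPGroup p P) : P ≤ pel p G := fun x i =>
  subset_closure ((IsPGroup.iff_orderOf.mp h ⟨x, i⟩).imp fun _ e => (orderOf_coe (⟨x, i⟩ : P)).trans e)

variable [Finite G]

theorem pel_index [Fact p.Prime] : ¬ p ∣ (pel p G).relIndex U := fun h =>
  (default : Sylow p G).not_dvd_index (h.trans ((relIndex_dvd_index_of_normal _ _).trans (index_dvd_of_le (le_pel (Sylow.isPGroup' _)))))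

theorem exists_cj_conj (hab : ⁅N, N⁆ ≤ M) (k : ℕ) : ∀ t, t ∈ normalizer (N : Set G) → t ∈ normalizer (M : Set G) →
    t ^ 2 ^ k = 1 → ∀ μ, Irr N μ → Ker M μ → ¬ Eqv N (cj t μ) μ →
      ∃ l, Irr N l ∧ l 1 = 1 ∧ Ker M l ∧ ¬ Ker N l ∧ ∃ j : ℕ, Eqv N (cj (t ^ j) l) fun x => conj (l x) := by
  induction k with
  | zero => intro t _ _ e μ _ _ h; rw [pow_zero, pow_one] at e; exact (h (by rw [e, cj_one]; exact .refl _ _)).elim
  | succ k ih =>
    intro t a b e μ c d h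
    by_cases f : Eqv N (cj (t ^ 2) μ) μ
    · have i := c.one_of_ker (d.mono hab)
      have j : (cj t μ * fun x => conj (μ x)) 1 = 1 := by simp [cj, i]
      refine ⟨_, ((c.chr.cjg a).mul c.chr.cnj).irr_of_one j, j, fun x o => ?_, fun o => h fun x r => ?_, 1, fun x o => ?_⟩
      · simp [cj, d x o, d _ (conj_mem le_rfl b o)]
      · exact mul_right_cancel₀ (c.chr.cnj.ne_zero (by simp [i]) r) (((o x r).trans j).trans (c.chr.mul_conj i r).symm)
      · simp [cj, ← f x o, sq, mul_assoc, mul_comm]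
    obtain ⟨l, u, v, w, y, j, z⟩ := ih (t ^ 2) (pow_mem a 2) (pow_mem b 2) (by rw [← pow_mul, ← pow_succ', e]) μ c d f
    exact ⟨l, u, v, w, y, 2 * j, pow_mul t 2 j ▸ z⟩

theorem exists_cj_conj' (hab : ⁅N, N⁆ ≤ M) (hl : M ≤ N) (hN : t ∈ normalizer (N : Set G)) (hM : t ∈ normalizer (M : Set G))
    {k : ℕ} (e : t ^ 2 ^ k = 1) (hx : x ∈ N) (h : t * x * t⁻¹ * x⁻¹ ∉ M) :
    ∃ l, Irr N l ∧ l 1 = 1 ∧ Ker M l ∧ ¬ Ker N l ∧ ∃ j : ℕ, Eqv N (cj (t ^ j) l) fun x => conj (l x) := by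
  have a := conj_mem le_rfl hN hx
  obtain ⟨μ, b, c, d⟩ := exists_irr_not_ker (norm_of_comm_le hl hab) hl (mul_mem a (inv_mem hx)) h
  have i := b.one_of_ker (c.mono hab)
  refine exists_cj_conj hab k t hN hM e μ b c fun f => d ?_
  rw [b.chr.map_mul i a (inv_mem hx), ← cj_apply t μ, f x hx, ← b.chr.map_mul i hx (inv_mem hx), mul_inv_cancel]

theorem Irr.exists_rl_over (hθ : Irr N θ) (hn : K ≤ normalizer (N : Set G)) (hl : N ≤ K) (hg : g ∈ K)
    (e : Eqv N (cj g θ) fun x => conj (θ x)) (d : ℕ) : ∀ ξ, Chr K ξ → Rl K ξ → inn N ξ θ = d → ¬ 2 ∣ d →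
      ∃ χ, Irr K χ ∧ Rl K χ ∧ inn N χ θ ≠ 0 := by
  induction d using Nat.strong_induction_on with | _ d ih
  intro ξ h r hd o
  obtain ⟨ψ, a, b, c⟩ := h.inv.exists_between hl (θ := θ) (by rw [hd, Nat.cast_ne_zero]; omega)
  by_cases s : Rl K ψ
  · exact ⟨ψ, a, s, c⟩
  have i : inn K (ξ - ψ) (fun x => conj (ψ x)) ≠ 0 := by
    rwa [inn_sub_left, r.inn_right h.gen a.gen, a.inn_eq_zero a.cnj fun j => s j.symm, sub_zero]
  have j := (h.sub_constit a b).sub_constit a.cnj i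
  obtain ⟨m, u⟩ := (j.res hl).inn_nat hθ.chr
  obtain ⟨k, v⟩ := (a.chr.res hl).inn_nat hθ.chr
  have w : inn N (fun x => conj (ψ x)) θ = k := by
    rw [← v, ← (a.inv.mono le_rfl hl).inn_cj (hn hg) hg, e.inn_right, ← (a.gen.res hl).inn_map (starRingEnd ℂ) hθ.cnj.gen]
    simp
  have y : d = m + k + k := by
    rw [inn_sub_left, inn_sub_left, hd, v, w, sub_sub, sub_eq_iff_eq_add] at u
    exact_mod_cast u.trans (add_assoc _ _ _).symm
  rw [v, Nat.cast_ne_zero] at c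
  exact ih m (by omega) _ j (fun x i => by simp [r x i, sub_right_comm]) u (by omega)

theorem rl_ind_one : Rl K (ind H K fun _ => 1) := fun x _ => by
  simpa using (congrFun (ind_map (L := H) (K := K) (θ := fun _ => 1) (starRingEnd ℂ)) x).symm

theorem sylow_normal_of_rl [hp : Fact p.Prime] (hK : ∀ X, (∀ t ∈ U, ∀ k, t ^ 2 ^ k = 1 → t ∈ X) → K ≤ X) (hKU : K ≤ U)
    (hP : IsSylowOf p P U) (h : ∀ χ, Irr U χ → Rl U χ → PD p χ) (N : Subgroup G) : N ≤ K → Group.IsSolvable N →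
      U ≤ normalizer (N : Set G) → U ≤ normalizer ((N ⊔ P : Subgroup G) : Set G) → U ≤ normalizer (P : Set G) := by
  induction N using WellFoundedLT.induction with | _ N ih
  intro h1 h2 h3 h4
  rcases eq_bot_or_bot_lt N with rfl | h0
  · simpa using h4
  obtain ⟨M, -, c⟩ := exists_chief_below h0 norm_top h3
  refine ih M c.lt (c.lt.le.trans h1) (solvable_of_le c.lt.le h2) c.nL ?_
  have a1 : N ≤ U := h1.trans hKU
  have a2 : N ⊔ P ≤ U := sup_le a1 hP.le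
  have a3 := c.comm_le (a1.trans c.nL) (solvMod_of_solv h2)
  set H := U ⊓ normalizer ((M ⊔ P : Subgroup G) : Set G)
  have a4 : M ⊔ P ≤ H := le_inf (sup_le (c.lt.le.trans a1) hP.le) le_normalizer
  have a5 : U ≤ N ⊔ H := ((hP.of_le le_sup_right a2).frattini a2 h4).ge.trans (sup_le (sup_le_sup_left (le_sup_right.trans a4) _)
    (le_sup_of_le_right (le_inf inf_le_left (le_normalizer_sup (inf_le_left.trans c.nL) inf_le_right))))
  have a6 : H ≤ normalizer (N : Set G) := inf_le_left.trans h3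
  by_contra f
  have b1 : ¬ N ≤ H := fun i => f (a5.trans (sup_le (i.trans inf_le_right) inf_le_right))
  have b2 : H ⊓ N = M := (c.min _ (le_inf (le_sup_left.trans a4) c.lt.le) inf_le_right (a5.trans (sup_le (norm_of_comm_le inf_le_right
    (a3.trans (le_inf (le_sup_left.trans a4) c.lt.le))) (le_normalizer_inf le_normalizer a6)))).resolve_right fun i => b1 (i ▸ inf_le_left)
  have b3 : ⁅N, N ⊔ P⁆ ⊔ M = N := (c.min _ le_sup_right (sup_le (commutator_le_of_le_normalizer (a2.trans h3)) c.lt.le)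
    (le_normalizer_sup (le_normalizer_commutator h3 h4) c.nL)).resolve_left fun i => b1 (le_inf a1 (le_norm fun n j x k => by
      simpa [commutatorElement_def] using mul_mem (mem_sup_left (i.le (mem_sup_left (commutator_mem_commutator j
        (sup_le_sup_right c.lt.le P k))))) k))
  have b4 : ∀ l, Irr N l → l 1 = 1 → Ker M l → ∀ g ∈ U, (Eqv N (cj g l) fun x => conj (l x)) → Ker N l := fun l a b d g i e => by
    obtain ⟨χ, u, v, w⟩ := a.exists_rl_over h3 a1 i e 1 _ (chr_one.indc (inf_le_left : H ≤ U)) rl_ind_one (by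
      rw [(ind_res_mul (inv_const 1) inf_le_left a1 fun g j => (mem_sup_of_le_normalizer a6).mp (a5 j)).inn_left, ← ind_inf,
        inn_ind_left inf_le_right a.inv, b2, ← inn_conj, d.inn_one, b]; simp) (by omega)
    obtain ⟨ψ, o, r, s⟩ := (u.inv.mono a2 a2).exists_between le_sup_left w
    obtain ⟨k, y⟩ := relIndex_sup_pow hp.out hP.isPGroup (hP.le.trans h3)
    have z := (o.res_of_pd hp.out (u.pd_under (h χ u v) h4 a2 o r) (a2.trans h3) le_sup_left y).eqv a s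
    rw [← b3]
    exact ((((o.chr.ker_comm (z.one.trans b)).mono (commutator_mono le_sup_left le_rfl)).congr
      (z.mono (le_sup_left.trans b3.le))).sup d a.chr (le_sup_left.trans b3.le) c.lt.le)
  obtain ⟨q, q1, q2, j, -, q3⟩ := c.exists_prime a3
  by_cases q4 : q = 2
  · obtain ⟨z, z1, z2⟩ := SetLike.exists_of_lt c.lt
    obtain ⟨l, u, v, w⟩ := exists_irr_not_ker (a1.trans c.nL) c.lt.le z1 z2
    have i := u.one_of_ker (v.mono a3)
    refine w (b4 l u i v 1 U.one_mem (fun x o => mul_left_cancel₀ (u.chr.ne_zero i o) ?_) z z1)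
    rw [cj_one, u.chr.mul_conj i o, ← u.chr.map_mul i o o, ← sq, ← q4, v _ (q2 x o), i]
  have : ¬ ∀ t ∈ U, ∀ k, t ^ 2 ^ k = 1 → t ∈ H := fun i => b1 (h1.trans (hK H i))
  push Not at this
  obtain ⟨t, t1, k, t2, t3⟩ := this
  by_cases e : ∀ x ∈ N, t⁻¹ * x * t⁻¹⁻¹ * x⁻¹ ∈ M
  · obtain ⟨n, n1, y, y1, r⟩ := (mem_sup_of_le_normalizer a6).mp (a5 t1)
    have s : ∀ i : ℕ, (n ^ i)⁻¹ * t ^ i ∈ H := fun i => by
      induction i with
      | zero => simp
      | succ i ih =>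
        convert mul_mem (mul_mem y1 (a4 (mem_sup_left (e _ (inv_mem (pow_mem n1 i)))))) ih using 1
        rw [show y = n⁻¹ * t by simp [r], pow_succ' t]; group
    have u := s (2 ^ k)
    rw [t2, mul_one, inv_mem_iff] at u
    exact t3 (r ▸ mul_mem (a4 (mem_sup_left (le_of_normal_sylow Nat.prime_two (a1.trans c.nL) (q3 ▸ fun i => q4
      ((Nat.prime_dvd_prime_iff_eq Nat.prime_two q1).mp (Nat.prime_two.dvd_of_dvd_pow i)).symm) n1 (b2.le ⟨u, pow_mem n1 _⟩)))) y1)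
  push Not at e
  obtain ⟨x, u, v⟩ := e
  obtain ⟨l, a, b, d, e, i, w⟩ := exists_cj_conj' a3 c.lt.le (h3 (inv_mem t1)) (c.nL (inv_mem t1)) (k := k) (by simp [t2]) u v
  exact e (b4 l a b d _ (pow_mem (inv_mem t1) i) w)

theorem pd_of_odd (hn : X ≤ normalizer (U : Set G)) (hl : U ≤ X) (ho : ¬ 2 ∣ U.relIndex X)
    (h : ∀ χ, Irr X χ → Rl X χ → PD p χ) : ∀ χ, Irr U χ → Rl U χ → PD p χ := fun _ a b =>
  have ⟨ψ, c, d, e, _⟩ := a.rl_over b hn hl ho; c.pd_under (h ψ c e) hn hl a (d ▸ one_ne_zero)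

omit [Finite G] in
theorem pd_of_hyp (h : ∀ χ : IrrCharacter G, (∀ g : G, ((χ : G → ℂ) g).im = 0) → ¬ p ∣ charDegree (χ : G → ℂ)) :
    ∀ χ : G → ℂ, Irr ⊤ χ → Rl ⊤ χ → PD p χ := fun χ a b =>
  ⟨_, h ⟨χ, irr_top.mp a⟩ fun g => Complex.conj_eq_iff_im.mp (b g trivial), (Block.charDegree_cast (chr_top.mp a.chr)).symm⟩

theorem sylow_normal_of_rl' [hp : Fact p.Prime] [U.Normal] (hs : Group.IsSolvable (pel p G)) (h : ∀ χ : G → ℂ, Irr ⊤ χ → Rl ⊤ χ → PD p χ)
    (hl : pel 2 G ≤ U) {a : ℕ} (e : (pel 2 G).relIndex U = p ^ a) (hP : IsSylowOf p P U) : U ≤ normalizer (P : Set G) := by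
  refine sylow_normal_of_rl (fun X i => pel_le fun t k j => i t (hl (le_pel (P := zpowers t) ?_ (mem_zpowers t))) k j) hl hP
    (pd_of_odd norm_top le_top (fun i => pel_index (i.trans (relIndex_dvd_of_le_left _ hl))) h) (pel p G ⊓ pel 2 G) inf_le_right
    (solvable_of_le inf_le_left hs) norm_top ?_
  · exact IsPGroup.of_card_dvd_pow (by rw [Nat.card_zpowers]; exact orderOf_dvd_of_pow_eq_one j)
  rw [show pel p G ⊓ pel 2 G ⊔ P = pel p G ⊓ U from le_antisymm (sup_le (inf_le_inf_left _ hl) (le_inf (le_pel hP.isPGroup) hP.le))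
    fun x i => ?_]
  · exact norm_top
  obtain ⟨k, u, y, v, rfl⟩ := (mem_sup_of_le_normalizer norm_top).mp ((hP.sup_eq_of_relIndex_eq_pow hl e).ge i.2)
  exact mul_mem (mem_sup_left ⟨(mul_mem_cancel_right (le_pel hP.isPGroup v)).mp i.1, u⟩) (mem_sup_right v)

theorem sylow_normal_of_rl'' [hp : Fact p.Prime] [U.Normal] (hs : Group.IsSolvable (pel p G))
    (h : ∀ χ : IrrCharacter G, (∀ g : G, ((χ : G → ℂ) g).im = 0) → ¬ p ∣ charDegree (χ : G → ℂ))
    (hl : pel 2 G ≤ U) {a : ℕ} (e : (pel 2 G).relIndex U = p ^ a) (Q : Sylow p U) : (Q : Subgroup U).Normal := by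
  simpa [subgroupOf, comap_map_eq_self_of_injective U.subtype_injective] using
    normal_sub (sylow_normal_of_rl' hs (pd_of_hyp h) hl e (isSylowOf_map_subtype Q))

theorem cent_of_rl [hp : Fact p.Prime] (h2 : p ≠ 2) (h : ∀ χ : G → ℂ, Irr ⊤ χ → Rl ⊤ χ → PD p χ) (hP : IsSylowOf p P ⊤)
    (N : Subgroup G) : N.Normal → N ≤ ⁅P, P⁆ → pel 2 G ≤ centralizer (N : Set G) := by
  induction N using WellFoundedLT.induction with | _ N ih
  intro h1 h3
  rcases eq_bot_or_bot_lt N with rfl | h0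
  · exact le_centralizer_bot _
  obtain ⟨M, -, c⟩ := exists_chief_below h0 norm_top (norm_top (A := ⊤))
  have := normal_of_le_normalizer c.nL
  have a1 : IsPGroup p N := hP.isPGroup.to_le (h3.trans (commutator_le_of_le_normalizer le_normalizer))
  have a2 : ¬ 2 ∣ Nat.card N := by
    obtain ⟨k, i⟩ := a1.exists_card_eq
    exact i ▸ fun j => h2 ((Nat.prime_dvd_prime_iff_eq Nat.prime_two hp.out).mp (Nat.prime_two.dvd_of_dvd_pow j)).symm
  have a3 := c.comm_le norm_top (solvMod_of_solv (solvable_of_isPGroup a1))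
  have a4 := ih M c.lt this (c.lt.le.trans h3)
  refine pel_le fun t k e => ?_
  have a5 : IsPGroup 2 (zpowers t) := IsPGroup.of_card_dvd_pow (by rw [Nat.card_zpowers]; exact orderOf_dvd_of_pow_eq_one e)
  by_cases f : ∀ x ∈ N, t * x * t⁻¹ * x⁻¹ ∈ M
  · refine le_centralizer_of_commutator_le_of_centralizes (zpowers t) N M (cop_of_not_dvd Nat.prime_two a5 fun i =>
      a2 (i.trans (card_dvd_of_le c.lt.le))) ((le_pel a5).trans a4) ?_ (mem_zpowers t)
    rw [commutator_comm, ← QuotientGroup.ker_mk' M, ← Subgroup.map_eq_bot_iff, map_commutator, commutator_eq_bot_iff_le_centralizer, MonoidHom.map_zpowers,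
      zpowers_le]
    rintro _ ⟨x, i, rfl⟩
    exact (mul_inv_eq_iff_eq_mul.mp (mul_inv_eq_one.mp ((QuotientGroup.eq_one_iff _).mpr (f x i)))).symm
  push Not at f
  obtain ⟨x, u, v⟩ := f
  obtain ⟨l, a, b, d, i, j, w⟩ := exists_cj_conj' a3 c.lt.le (norm_top (A := ⊤) trivial) (norm_top (A := ⊤) trivial) e u v
  obtain ⟨S, s⟩ := exists_isSylowOf 2 (⊤ : Subgroup G)
  have b1 := (chr_one : Chr S _).indc le_top
  obtain ⟨m, o⟩ := (b1.res le_top).inn_nat a.chr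
  obtain ⟨χ, c1, c2, c3⟩ := a.exists_rl_over norm_top le_top trivial w m _ b1 rl_ind_one o fun i => s.not_dvd (by
    have := Fintype.ofFinite N
    have y := card_mul_inn (H := N) (θ := ind S ⊤ fun _ => 1) (φ := l)
    rw [o, Finset.sum_eq_single 1 (fun x _ r => ?_) (by simp), OneMemClass.coe_one, ind_one, b] at y
    · exact i.trans ⟨Nat.card N, by exact_mod_cast (by simpa [mul_comm] using y.symm : (S.relIndex ⊤ : ℂ) = m * Nat.card N)⟩
    rw [ind_eq_zero fun y _ z => (r (Subtype.ext ?_)).elim, zero_mul]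
    simpa using eq_one_of_mem_of_coprime (cop_of_not_dvd Nat.prime_two s.isPGroup a2) z (h1.conj_mem _ x.2 y))
  obtain ⟨n, c4, c5⟩ := h χ c1 c2
  obtain ⟨ψ, c6, c7, c8⟩ := (c1.chr.res le_top : Chr P χ).exists_pd n χ c5 c4
  have c9 := (c6.chr.ker_comm (c6.one_of_pd hp.out hP.isPGroup c8)).mono h3
  exact (i ((c1.ker_of_inn norm_top le_top ((c1.chr.res le_top).over_trans (h3.trans (commutator_le_of_le_normalizer le_normalizer))
    c6 chr_one c7 (c9.inn_one ▸ c6.one_ne))).constit (c1.chr.res le_top) le_rfl a c3)).elim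

theorem relIndex_norm_modEq [Fact p.Prime] (hP : IsSylowOf p P T) : (normalizer (P : Set G)).relIndex T ≡ 1 [MOD p] := by
  have h := card_sylow_modEq_one p T
  rwa [hP.toSylow.card_eq_index_normalizer, show (hP.toSylow : Set T) = (P.subgroupOf T : Subgroup T) from rfl,
    ← subgroupOf_normalizer_eq hP.le] at h

theorem index_modEq [Fact p.Prime] (hP : IsSylowOf p P ⊤) (h : P ≤ T) :
    T.relIndex ⊤ ≡ T.relIndex (normalizer (P : Set G)) [MOD p] := by
  have a := relIndex_mul_relIndex (T ⊓ normalizer (P : Set G)) T ⊤ inf_le_left le_top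
  rw [← relIndex_mul_relIndex _ (normalizer (P : Set G)) ⊤ inf_le_right le_top, inf_relIndex_left, inf_relIndex_right] at a
  have b := (relIndex_norm_modEq hP).mul_left (T.relIndex (normalizer (P : Set G)))
  rw [← a] at b
  simpa only [one_mul, mul_one] using ((relIndex_norm_modEq (hP.of_le h le_top)).mul_right _).symm.trans b

theorem GD.uniq {X Y : (G → ℂ) → Prop} (h : GD p X Y K C) (a : X θ) (b : Y η) (c : Y ξ) {m n : ℤ} (d : inn C θ η = m)
    (e : inn C θ ξ = n) (i : ¬ (p : ℤ) ∣ m) (j : ¬ (p : ℤ) ∣ n) : Eqv C η ξ := by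
  obtain ⟨β, -, -, u⟩ := h.ex θ a
  have k : ∀ {η} {m : ℤ}, Y η → inn C θ η = m → ¬ (p : ℤ) ∣ m → Eqv C β η := fun b d i => by_contra fun o =>
    have ⟨n, r⟩ := u _ b o; i ⟨n, Int.cast_injective (d.symm.trans r)⟩
  exact (k b d i).symm.trans (k c e j)

theorem exists_rl_bij [hp : Fact p.Prime] [K.Normal] (hP : IsSylowOf p P ⊤) (ho : ¬ 2 ∣ K.relIndex ⊤)
    (hK : K ≤ normalizer ((P ⊓ K : Subgroup G) : Set G)) (h : ∀ χ : G → ℂ, Irr ⊤ χ → Rl ⊤ χ → PD p χ)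
    (hN : N = normalizer (P : Set G)) : ∃ f : {χ : IrrCharacter G // ∀ g, (χ.1 g).im = 0} →
      {ξ : IrrCharacter N // (∀ n, (ξ.1 n).im = 0) ∧ ¬ p ∣ charDegree ξ.1}, f.Bijective ∧ ∀ χ,
        (charDegree (f χ).1.1 : ZMod p) = charDegree χ.1.1 ∨ (charDegree (f χ).1.1 : ZMod p) = -charDegree χ.1.1 := by
  set C := K ⊓ N
  have n1 : N ≤ normalizer (P : Set G) := hN.le
  have n2 : P ≤ N := hN ▸ le_normalizer
  have n3 : N ≤ normalizer (C : Set G) := le_normalizer_inf norm_top le_normalizer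
  have n4 : ¬ 2 ∣ C.relIndex N := fun i => ho ((inf_relIndex_right K N ▸ i :).trans (relIndex_dvd_of_norm le_top norm_top))
  have g := gd_rel (C := C) hp.out hP.isPGroup (hP.isPGroup.to_le inf_le_left) inf_le_right hK (le_normalizer_inf le_normalizer norm_top)
    norm_top (hP.inf_of_normal le_top norm_top).not_dvd fun k => and_congr_right fun i => ⟨fun j x o =>
      ⟨by simpa [mul_assoc] using mul_mem o (conj_mem n1 j (inv_mem o)), K.mul_mem (conj_mem norm_top o i) (K.inv_mem i)⟩,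
        fun j => hN ▸ mem_normalizer_fintype fun x o => by simpa [mul_assoc] using P.mul_mem o (j _ (P.inv_mem o)).1⟩
  let R : (G → ℂ) → (G → ℂ) → Prop := fun χ ξ => ∃ θ η, (Irr K θ ∧ Inv P K θ) ∧ (Irr C η ∧ Inv P C η) ∧ Rl K θ ∧ Rl C η ∧
    inn K χ θ ≠ 0 ∧ inn C ξ η ≠ 0 ∧ ∃ a : ℤ, inn C θ η = a ∧ ¬ (p : ℤ) ∣ a
  have k : ∀ {θ η n}, n ∈ N → inn C (cj n θ) (cj n η) = inn C θ η := fun i => inn_cj (n3 i)
  have r : ∀ {H : Subgroup G} (α : IrrCharacter H), Rl H (ez H α) ↔ ∀ n, (α.1 n).im = 0 := fun α =>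
    ⟨fun i n => by simpa [Complex.conj_eq_iff_im, ez_coe] using i n n.2, fun i x j => by
      rw [ez_mem _ j, Complex.conj_eq_iff_im]; exact i _⟩
  have r' : ∀ α : IrrCharacter G, Rl ⊤ α.1 ↔ ∀ n, (α.1 n).im = 0 := fun α =>
    ⟨fun i n => Complex.conj_eq_iff_im.mp (i n trivial), fun i x _ => Complex.conj_eq_iff_im.mpr (i x)⟩
  have d : ∀ χ ξ, Irr ⊤ χ → Rl ⊤ χ → Irr N ξ → Rl N ξ → R χ ξ → ∀ a b : ℕ, χ 1 = a → ξ 1 = b →
      (b : ZMod p) = a ∨ (b : ZMod p) = -a := fun χ ξ a1 a2 b1 b2 ⟨θ, η, c1, c2, c3, c4, c5, c6, m, c7, c8⟩ a b u v => by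
    obtain ⟨χ', -, d1, -, d2⟩ := c1.1.rl_over c3 norm_top le_top ho
    obtain ⟨ξ', -, e1, -, e2⟩ := c2.1.rl_over c4 n3 inf_le_right n4
    obtain ⟨β, f1, ⟨ε, n, f2, f3⟩, f4⟩ := g.ex θ c1
    have f5 : Eqv C β η := by_contra fun o => have ⟨n, r⟩ := f4 _ c2 o; c8 ⟨n, Int.cast_injective (c7.symm.trans r)⟩
    obtain ⟨z, f6⟩ := (c1.1.gen.res inf_le_left).deg_cong hp.out (c1.2.mono le_rfl inf_le_left) hP.isPGroup (n2.trans n3) f1.1 f1.2 f4
    obtain ⟨w, -, f7⟩ := c2.1.deg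
    have f8 : (stab C η).relIndex N = (stab K θ).relIndex N := by
      rw [← inf_relIndex_right, ← inf_relIndex_right (stab K θ)]
      congr 1
      refine le_antisymm (fun x ⟨i, j⟩ => ⟨⟨norm_top j, g.inj _ _ _ _ _ ⟨c1.1.cjg (norm_top j), c1.2.cj_norm (n1 j) (norm_top j)⟩ c1 c2
        (i.2.inn_right.symm.trans ((k j).trans c7)) c7 c8 c8⟩, j⟩) fun x ⟨i, j⟩ => ⟨⟨n3 j, g.uniq c1 ⟨c2.1.cjg (n3 j),
          c2.2.cj_norm (n1 j) (n3 j)⟩ c2 ((i.2.mono inf_le_left).inn_left.symm.trans ((k j).trans c7)) c7 c8 c8⟩, j⟩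
    rw [a1.deg_eq norm_top le_top c1.1 c5, ((d2 χ a1 c5 a2).mono le_top).inn_left, d1, f6, f3, f5.one, f7] at u
    rw [b1.deg_eq n3 inf_le_right c2.1 c6, ((e2 ξ b1 c6 b2).mono inf_le_right).inn_left, e1, f7, f8] at v
    have f9 := (ZMod.natCast_eq_natCast_iff _ _ _).mpr (index_modEq hP ((le_stab norm_top).mpr c1.2))
    obtain rfl : b = (stab K θ).relIndex N * w := by exact_mod_cast (one_mul _).symm.trans v |>.symm
    have y : (a : ℤ) = (stab K θ).relIndex ⊤ * ((ε + p * n) * w + p * z) := by exact_mod_cast (one_mul _).symm.trans u |>.symm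
    have y' := congrArg (Int.cast : ℤ → ZMod p) y
    rw [← hN] at f9
    push_cast at y' ⊢
    rw [y', f9, ZMod.natCast_self]
    rcases f2 with rfl | rfl <;> simp
  have e1 : ∀ χ : {χ : IrrCharacter G // ∀ g, (χ.1 g).im = 0}, ∃ ξ : {ξ : IrrCharacter N // (∀ n, (ξ.1 n).im = 0) ∧
      ¬ p ∣ charDegree ξ.1}, R χ.1.1 (ez N ξ.1.1) := fun χ => by
    have a1 := irr_top.mpr χ.1.2
    have a2 := (r' _).mpr χ.2
    obtain ⟨θ, c1, c2, c3⟩ := (a1.chr.res le_top : Chr K _).exists_inv_constit hp.out hP.isPGroup norm_top (a1.inv.mono le_top le_top)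
      (h _ a1 a2)
    have c4 := a1.rl_under a2 norm_top le_top ho c1 c3
    obtain ⟨η, f1, ⟨ε, n, f2, f3⟩, -⟩ := g.ex θ ⟨c1, c2⟩
    have f4 : ¬ (p : ℤ) ∣ ε + p * n := by
      rw [dvd_add_left (dvd_mul_right _ _)]
      rcases f2 with rfl | rfl <;> simpa using (Nat.prime_iff_prime_int.mp hp.out).not_dvd_one
    have f5 : Rl C η := g.uniq ⟨c1, c2⟩ ⟨f1.1.cnj, f1.2.map _⟩ f1
      (((c4.mono inf_le_left).inn_right (c1.gen.res inf_le_left) f1.1.gen).trans f3) f3 f4 f4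
    obtain ⟨ξ, b1, b2, b3, -⟩ := f1.1.rl_over f5 n3 inf_le_right n4
    have i : R χ.1.1 ξ := ⟨θ, η, ⟨c1, c2⟩, f1, c4, f5, c3, b2 ▸ one_ne_zero, _, f3, f4⟩
    obtain ⟨a, u, v⟩ := h _ a1 a2
    obtain ⟨b, -, w⟩ := b1.deg
    refine ⟨⟨⟨_, b1⟩, (r _).mp (b3.congr eqv_ez.symm), ?_⟩, θ, η, ⟨c1, c2⟩, f1, c4, f5, c3,
      ((eqv_ez.mono inf_le_right).inn_left.trans b2).trans_ne one_ne_zero, _, f3, f4⟩
    rw [Block.charDegree_of_eq (χ := fun x : N => ξ x) (n := b) w, ← ZMod.natCast_eq_zero_iff]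
    rw [← ZMod.natCast_eq_zero_iff] at u
    rcases d _ _ a1 a2 b1 b3 i a b v w with j | j <;> simpa [j] using u
  choose f hf using e1
  refine ⟨f, ⟨fun χ χ' e => ?_, fun ξ => ?_⟩, fun χ => d _ _ (irr_top.mpr χ.1.2) ((r' _).mpr χ.2) (irr_ez.mpr (f χ).1.2)
    ((r _).mpr (f χ).2.1) (hf χ) _ _ (Block.irr_degree_cast _).symm ((ez_one _).trans (Block.irr_degree_cast _).symm)⟩
  · obtain ⟨θ, η, c1, c2, c3, -, c5, c6, m, c7, c8⟩ := hf χ
    obtain ⟨θ', η', d1, d2, -, -, d5, d6, m', d7, d8⟩ := hf χ'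
    obtain ⟨n, i, j⟩ := (irr_ez.mpr (f χ').1.2).exists_cj n3 inf_le_right c2.1 d2.1 (e ▸ c6) d6
    obtain ⟨ψ, -, -, -, o⟩ := c1.1.rl_over c3 norm_top le_top ho
    have a1 := irr_top.mpr χ'.1.2
    refine Subtype.ext (Subtype.ext (eqv_top.mp ((o _ (irr_top.mpr χ.1.2) c5 ((r' _).mpr χ.2)).trans (o _ a1 ?_ ((r' _).mpr χ'.2)).symm)))
    rwa [(g.inj _ _ _ _ _ d1 ⟨c1.1.cjg (norm_top i), c1.2.cj_norm (n1 i) (norm_top i)⟩ d2 d7 (j.inn_right.trans ((k i).trans c7))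
      d8 c8).inn_right, (a1.inv.mono le_rfl le_top).inn_cj (norm_top i) trivial] at d5
  have b1 := irr_ez.mpr ξ.1.2
  have b2 := (r _).mpr ξ.2.1
  obtain ⟨η, c1, c2, c3⟩ := (b1.chr.res inf_le_right : Chr C _).exists_inv_constit hp.out hP.isPGroup (n2.trans n3)
    (b1.inv.mono n2 inf_le_right) ⟨_, ξ.2.2, (ez_one _).trans (Block.irr_degree_cast _).symm⟩
  have c4 := b1.rl_under b2 n3 inf_le_right n4 c1 c3
  obtain ⟨θ, f1, m, f2, f3⟩ := g.surj η ⟨c1, c2⟩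
  have f4 : Rl K θ := g.inj _ _ _ _ _ ⟨f1.1.cnj, f1.2.map _⟩ f1 ⟨c1, c2⟩ ((c4.inn_left (f1.1.gen.res inf_le_left) c1.gen).trans f2) f2 f3 f3
  obtain ⟨χ, a1, a2, a3, -⟩ := f1.1.rl_over f4 norm_top le_top ho
  let χ' : {χ : IrrCharacter G // ∀ g, (χ.1 g).im = 0} := ⟨⟨χ, irr_top.mp a1⟩, (r' _).mp a3⟩
  obtain ⟨θ', η', d1, d2, -, -, d5, d6, m', d7, d8⟩ := hf χ'
  obtain ⟨x, i, j⟩ := a1.exists_cj norm_top le_top f1.1 d1.1 (a2 ▸ one_ne_zero) d5
  obtain ⟨n, ⟨-, i⟩, j⟩ := exists_cj_norm hP norm_top f1.2 d1.2 i j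
  rw [← hN] at i
  obtain ⟨ψ, -, -, -, o⟩ := c1.rl_over c4 n3 inf_le_right n4
  have u := irr_ez.mpr (f χ').1.2
  refine ⟨χ', Subtype.ext (irr_ez_eq ((o _ u ?_ ((r _).mpr (f χ').2.1)).trans (o _ b1 c3 b2).symm))⟩
  rwa [(g.uniq d1 d2 ⟨c1.cjg (n3 i), c2.cj_norm (n1 i) (n3 i)⟩ d7 ((j.mono inf_le_left).inn_left.trans ((k i).trans f2)) d8 f3).inn_right,
    (u.inv.mono le_rfl inf_le_right).inn_cj (n3 i) i] at d6

omit [Finite G] in
theorem mem_of_real [K.Normal] (ho : ¬ 2 ∣ K.relIndex ⊤) (hx : IsConj x x⁻¹) : x ∈ K := by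
  obtain ⟨c, e⟩ := isConj_iff.mp hx
  rw [relIndex_top_right] at ho
  obtain ⟨m, i⟩ : Odd K.index := Nat.odd_iff.mpr (by omega)
  have a : ∀ n : ℕ, c ^ (2 * n + 1) * x * (c ^ (2 * n + 1))⁻¹ = x⁻¹ := fun n => by
    induction n with
    | zero => simpa using e
    | succ n ih =>
      calc _ = c * (c * (c ^ (2 * n + 1) * x * (c ^ (2 * n + 1))⁻¹)⁻¹ * c⁻¹)⁻¹ * c⁻¹ := by group
        _ = _ := by rw [ih, inv_inv, e, inv_inv, e]
  have b : x ^ 2 ∈ K := by
    have := K.mul_mem (K.pow_index_mem c) (‹K.Normal›.conj_mem _ (K.inv_mem (K.pow_index_mem c)) x)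
    rw [← mul_assoc, ← mul_assoc, i, a m, ← mul_inv_rev, inv_mem_iff] at this
    rwa [sq]
  have := K.pow_index_mem x
  rwa [i, pow_succ, pow_mul, K.mul_mem_cancel_left (pow_mem b m)] at this

theorem exists_conj_norm [hp : Fact p.Prime] [K.Normal] (hP : IsSylowOf p P ⊤) (ho : ¬ 2 ∣ K.relIndex ⊤) (hK : P ⊓ K = ⊥)
    (h : ∀ χ : G → ℂ, Irr ⊤ χ → Rl ⊤ χ → PD p χ) (hx : IsConj x x⁻¹) : ∃ y ∈ normalizer (P : Set G), IsConj x y := by
  set N := normalizer (P : Set G) with hN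
  obtain ⟨f, hf, -⟩ := exists_rl_bij hP ho (hK ▸ norm_top) h hN
  have := Fintype.ofFinite G
  have := Fintype.ofFinite N
  let F : {C : ConjClasses N // ∀ g, ConjClasses.mk g = C → IsConj g g⁻¹} →
      {C : ConjClasses G // ∀ g, ConjClasses.mk g = C → IsConj g g⁻¹} := fun C => ⟨C.1.map N.subtype, by
    obtain ⟨⟨c⟩, i⟩ := C
    exact fun g j => real_of_mk_eq j (N.subtype.map_isConj (i c rfl))⟩
  have c : ∀ y : N, IsConj y y⁻¹ → P ≤ centralizer {(y : G)} := fun y i x j => mem_centralizer_singleton_iff.mpr (by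
    have u := mem_of_real ho (N.subtype.map_isConj i)
    have v : x * y * x⁻¹ * (y : G)⁻¹ ∈ P ⊓ K := ⟨by simpa [mul_assoc] using P.mul_mem j (conj_mem le_rfl y.2 (inv_mem j)),
      K.mul_mem (conj_mem norm_top j u) (K.inv_mem u)⟩
    exact mul_inv_eq_iff_eq_mul.mp (mul_inv_eq_one.mp (mem_bot.mp (hK ▸ v))))
  have a : F.Injective := by
    rintro ⟨⟨y⟩, i⟩ ⟨⟨z⟩, j⟩ e
    obtain ⟨g, e⟩ := isConj_iff.mp (ConjClasses.mk_eq_mk_iff_isConj.mp (congrArg Subtype.val e))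
    obtain ⟨k, u, v⟩ := ((hP.conj_of_mem_normalizer (g := g) (norm_top (A := ⊤) trivial)).of_le (conj_smul_le_iff.mpr fun x o =>
      mem_centralizer_singleton_iff.mpr (by
        have := mem_centralizer_singleton_iff.mp (c y (i y rfl) o)
        rw [← show g * y * g⁻¹ = z from e]; simp [mul_assoc, this, ← mul_assoc x])) le_top).exists_conj_eq (hP.of_le (c z (j z rfl)) le_top)
    rw [smul_smul, ← map_mul, conj_smul_eq_iff_mem_normalizer] at v
    refine Subtype.ext (ConjClasses.mk_eq_mk_iff_isConj.mpr (isConj_iff.mpr ⟨⟨_, v⟩, Subtype.ext ?_⟩))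
    change k * g * y * (k * g)⁻¹ = z
    rw [← mul_inv_cancel_right (z : G) k, ← mem_centralizer_singleton_iff.mp u, ← show g * y * g⁻¹ = z from e]; group
  obtain ⟨⟨⟨y⟩, _⟩, e⟩ := ((Nat.bijective_iff_injective_and_card F).mpr ⟨a, (Nat.card_le_card_of_injective F a).antisymm (by
    rw [← card_real_irr, ← card_real_irr, Nat.card_eq_of_bijective f hf]
    exact Nat.card_le_card_of_injective (fun ξ => ⟨ξ.1, ξ.2.1⟩) fun _ _ e => Subtype.ext (Subtype.mk.inj e))⟩).2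
      ⟨.mk x, fun g i => real_of_mk_eq i hx⟩
  exact ⟨y, y.2, (ConjClasses.mk_eq_mk_iff_isConj.mp (congrArg Subtype.val e)).symm⟩

theorem pel_norm [hp : Fact p.Prime] (hs : Group.IsSolvable (pel p G)) (h : ∀ χ : G → ℂ, Irr ⊤ χ → Rl ⊤ χ → PD p χ)
    (hP : IsSylowOf p P ⊤) : pel 2 G ≤ normalizer ((P ⊓ pel 2 G : Subgroup G) : Set G) :=
  sylow_normal_of_rl' hs h le_rfl (a := 0) (relIndex_self _) (hP.inf_of_normal le_top norm_top)

theorem exists_conj_norm' [hp : Fact p.Prime] (hs : Group.IsSolvable (pel p G)) (h : ∀ χ : G → ℂ, Irr ⊤ χ → Rl ⊤ χ → PD p χ)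
    (hP : IsSylowOf p P ⊤) (hx : IsConj x x⁻¹) : ∃ y ∈ normalizer (P : Set G), IsConj x y := by
  have a := hP.inf_of_normal le_top (norm_top (N := pel 2 G))
  have : (P ⊓ pel 2 G).Normal := normal_of_le_normalizer (a.frattini_top.ge.trans (sup_le (pel_norm hs h hP) le_rfl))
  let π := QuotientGroup.mk' (P ⊓ pel 2 G)
  have s : π.range = ⊤ := QuotientGroup.range_mk' _
  have := (pel_normal (p := 2) (G := G)).map π (QuotientGroup.mk'_surjective _)
  obtain ⟨_, u, v⟩ := exists_conj_norm (K := (pel 2 G).map π) (P := P.map π) (by simpa [← MonoidHom.range_eq_map, s] using hP.map π)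
    (fun i => pel_index (G := G) (U := ⊤) (by
      rw [relIndex_top_right] at i ⊢
      exact i.trans (index_map_dvd _ (QuotientGroup.mk'_surjective _)))) (eq_bot_iff.mpr (by
      rintro _ ⟨⟨y, i, rfl⟩, j⟩
      exact (QuotientGroup.eq_one_iff y).mpr ⟨i, (comap_map_eq_self (f := π) ((QuotientGroup.ker_mk' _).trans_le inf_le_right)).le j⟩))
    (fun χ i j => h (fun x => χ (π x)) (i.comap π s.ge) fun x _ => j _ trivial)
    (π.map_isConj hx)
  obtain ⟨c, rfl⟩ := isConj_iff.mp v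
  obtain ⟨c, rfl⟩ := QuotientGroup.mk'_surjective _ c
  refine ⟨_, ?_, isConj_iff.mpr ⟨c, rfl⟩⟩
  rw [← comap_map_eq_self (f := π) (H := P) ((QuotientGroup.ker_mk' _).trans_le inf_le_left)]
  exact le_normalizer_comap π u

end Cfsg.Agent.Isaacs
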