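import Mathlib
import Cfsg.Agent.Perm.Zass5
import Cfsg.Agent.H2.FrobAction
import Cfsg.Agent.LocalEven.Sidki
import Cfsg.Agent.Classical.PSL2Basic

/-! Bender's "groups with large subgroups": the elementary part. -/

set_option autoImplicit false

open Subgroup MulAction

namespace Cfsg.Agent.Isaacs

variable {G : Type*} [Group G]

/-- The set-up after the first counting step. -/
structure BL (M : Subgroup G) (z : G) : Prop where
  ne : M ≠ ⊥
  ti : ∀ g x, x ∈ M → x ≠ 1 → g * x * g⁻¹ ∈ M → g ∈ normalizer (M : Set G)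
  z2 : z * z = 1
  z1 : z ≠ 1
  zH : z ∈ normalizer (M : Set G)
  fac : ∀ h ∈ normalizer (M : Set G), ∃ x ∈ M, ∃ k ∈ normalizer (M : Set G), k * z = z * k ∧ h = x * k
  nc : ∀ x ∈ M, ∀ t, t * t = 1 → t * x = x * t → x = 1 ∨ t = 1

namespace BL

variable [Finite G] {M : Subgroup G} {z : G} (h : BL M z)

omit [Finite G] in
theorem cj {g x : G} (hg : g ∈ normalizer (M : Set G)) (hx : x ∈ M) : g * x * g⁻¹ ∈ M :=
  (mem_normalizer_iff.mp hg x).mp hx

omit [Finite G] in
theorem cj' {g x : G} (hg : g ∈ normalizer (M : Set G)) (hx : x ∈ M) : g⁻¹ * x * g ∈ M := by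
  simpa using cj (inv_mem hg) hx

omit [Finite G] in
theorem leH {x : G} (hx : x ∈ M) : x ∈ normalizer (M : Set G) := le_normalizer hx

include h

theorem inv {t x : G} (ht : t ∈ normalizer (M : Set G)) (h2 : t * t = 1) (h1 : t ≠ 1) (hx : x ∈ M) :
    t * x * t⁻¹ = x⁻¹ :=
  Perm.inverts_of_fpf h2 (fun _ hu => cj ht hu)
    (fun u hu e => (h.nc u hu t h2 e).resolve_right h1) hx

theorem zinv {x : G} (hx : x ∈ M) : z * x * z⁻¹ = x⁻¹ := h.inv h.zH h.z2 h.z1 hx

omit [Finite G] in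
theorem zi : z⁻¹ = z := inv_eq_of_mul_eq_one_right h.z2

theorem zx {x : G} (hx : x ∈ M) : z * x = x⁻¹ * z := by rw [← h.zinv hx]; group

theorem xz {x : G} (hx : x ∈ M) : x * z = z * x⁻¹ := by rw [h.zx (inv_mem hx), inv_inv]

theorem comm {x y : G} (hx : x ∈ M) (hy : y ∈ M) : x * y = y * x :=
  Perm.comm_of_inverts (fun _ hu => h.zinv hu) hx hy

omit [Finite G] in
theorem sq {x : G} (hx : x ∈ M) (e : x * x = 1) : x = 1 := by
  rcases h.nc x hx x e rfl with h1 | h1 <;> exact h1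

omit [Finite G] in
theorem zc {x : G} (hx : x ∈ M) (e : x * z = z * x) : x = 1 :=
  (h.nc x hx z h.z2 e.symm).resolve_right h.z1

omit [Finite G] in
theorem ex : ∃ x ∈ M, x ≠ 1 := by
  obtain ⟨⟨x, hx⟩, h1⟩ := ne_bot_iff_exists_ne_one.mp h.ne
  exact ⟨x, hx, fun e => h1 (Subtype.ext e)⟩

theorem kinv {k : G} (hk : k ∈ normalizer (M : Set G)) (hc : k * z = z * k) (h2 : k * k = 1) :
    k = 1 ∨ k = z := by
  by_cases h1 : k = 1
  · exact Or.inl h1
  right
  obtain ⟨x, hx, hx1⟩ := h.ex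
  have e : (k * z) * (k * z) = 1 := by
    calc _ = k * (z * k) * z := by group
      _ = (k * k) * (z * z) := by rw [← hc]; group
      _ = 1 := by rw [h2, h.z2, one_mul]
  have e2 : (k * z) * x = x * (k * z) := by
    calc _ = k * x⁻¹ * k⁻¹ * (k * z) := by rw [mul_assoc, h.zx hx]; group
      _ = _ := by rw [h.inv hk h2 h1 (inv_mem hx), inv_inv]
  have := (h.nc x hx _ e e2).resolve_left hx1
  rw [eq_inv_of_mul_eq_one_left this, h.zi]

theorem invol {t : G} (ht : t ∈ normalizer (M : Set G)) (h2 : t * t = 1) (h1 : t ≠ 1) :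
    ∃ x ∈ M, t = x * z := by
  obtain ⟨x, hx, k, hk, hc, rfl⟩ := h.fac t ht
  have hm : k * k ∈ M := by
    have : k * k = (x * (k * x * k⁻¹))⁻¹ :=
      eq_inv_of_mul_eq_one_right (by rw [← h2]; group)
    rw [this]; exact inv_mem (mul_mem hx (cj hk hx))
  have hk2 : k * k = 1 := h.zc hm (by rw [mul_assoc, hc, ← mul_assoc, hc, mul_assoc])
  rcases h.kinv hk hc hk2 with rfl | rfl
  · rw [mul_one] at h2 h1; exact absurd (h.sq hx h2) h1
  · exact ⟨x, hx, rfl⟩

theorem odd : Odd (Nat.card M) := by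
  by_contra hne
  rw [Nat.not_odd_iff_even] at hne
  have : Fact (Nat.Prime 2) := ⟨Nat.prime_two⟩
  obtain ⟨x, hx⟩ := exists_prime_orderOf_dvd_card' (G := M) 2 hne.two_dvd
  have h2 : (x : G) * x = 1 := by
    have := pow_orderOf_eq_one x
    rw [hx, pow_two] at this
    exact congrArg Subtype.val this
  have : x = 1 := Subtype.ext (h.sq x.2 h2)
  rw [this, orderOf_one] at hx
  omega

theorem half {x : G} (hx : x ∈ M) : ∃ y ∈ M, y * y = x := by
  obtain ⟨n, hn⟩ := h.odd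
  refine ⟨x ^ (n + 1), pow_mem hx _, ?_⟩
  have : (⟨x, hx⟩ : M) ^ Nat.card M = 1 := pow_card_eq_one'
  have e : x ^ Nat.card M = 1 := congrArg Subtype.val this
  rw [← pow_add, show n + 1 + (n + 1) = Nat.card M + 1 by omega, pow_succ, e, one_mul]

theorem conjz {x : G} (hx : x ∈ M) : ∃ y ∈ M, x * z = y * z * y⁻¹ := by
  obtain ⟨y, hy, rfl⟩ := h.half hx
  exact ⟨y, hy, by rw [mul_assoc y z, ← h.xz hy, mul_assoc]⟩

omit [Finite G] in
theorem uniq {g x x' : G} (hg : g ∉ normalizer (M : Set G)) (hx : x ∈ M) (hx' : x' ∈ M)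
    (e : (g * x) * (g * x) = 1) (e' : (g * x') * (g * x') = 1) : x = x' := by
  by_contra hne
  have hw : x⁻¹ * x' ∈ M := mul_mem (inv_mem hx) hx'
  have h1 : x⁻¹ * x' ≠ 1 := fun e => hne (inv_mul_eq_one.mp e)
  have e2 : (g * x) * (x⁻¹ * x') * (g * x)⁻¹ = (x⁻¹ * x')⁻¹ := by
    rw [inv_eq_of_mul_eq_one_right e, eq_inv_iff_mul_eq_one, ← e']; group
  have := h.ti (g * x) _ hw h1 (by rw [e2]; exact inv_mem hw)
  exact hg (by simpa using mul_mem this (inv_mem (leH hx)))

/-- The counting step. -/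
theorem cos (hJ : M.index < Nat.card {g : G // orderOf g = 2}) {g : G}
    (hg : g ∉ normalizer (M : Set G)) : ∃ x ∈ M, (g * x) * (g * x) = 1 := by
  classical
  by_contra hne
  push Not at hne
  have : Fact (Nat.Prime 2) := ⟨Nat.prime_two⟩
  have hsq : ∀ t : {g : G // orderOf g = 2}, (t : G) * t = 1 ∧ (t : G) ≠ 1 := fun t => by
    have := orderOf_eq_prime_iff.mp t.2
    rwa [pow_two] at this
  let f : {g : G // orderOf g = 2} → G ⧸ M := fun t =>
    if (t : G) ∈ normalizer (M : Set G) then (((t : G) * z * g : G) : G ⧸ M) else ((t : G) : G ⧸ M)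
  have hm : ∀ t : {g : G // orderOf g = 2}, (t : G) ∈ normalizer (M : Set G) → (t : G) * z ∈ M :=
    fun t ht => by
      obtain ⟨x, hx, e⟩ := h.invol ht (hsq t).1 (hsq t).2
      rw [e, mul_assoc, h.z2, mul_one]; exact hx
  have mix : ∀ s t : {g : G // orderOf g = 2}, (s : G) ∈ normalizer (M : Set G) →
      (((s : G) * z * g : G) : G ⧸ M) ≠ ((t : G) : G ⧸ M) := fun s t hs e => by
    rw [QuotientGroup.eq] at e
    refine hne (((s : G) * z * g)⁻¹ * t * (s * z)) (mul_mem e (hm s hs)) ?_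
    calc _ = (s * z : G)⁻¹ * (t * t) * (s * z) := by group
      _ = 1 := by rw [(hsq t).1]; group
  have hf : Function.Injective f := fun s t e => by
    by_cases hs : (s : G) ∈ normalizer (M : Set G) <;>
      by_cases ht : (t : G) ∈ normalizer (M : Set G) <;> simp only [f, hs, ht, if_true, if_false] at e
    · rw [QuotientGroup.eq] at e
      by_contra hst
      have h1 : ((s : G) * z)⁻¹ * (t * z) ≠ 1 := fun e => hst
        (Subtype.ext (mul_right_cancel (inv_mul_eq_one.mp e)))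
      have := h.ti g⁻¹ _ (mul_mem (inv_mem (hm s hs)) (hm t ht)) h1 (by
        convert e using 1; group)
      exact hg (by simpa using this)
    · exact absurd e (mix s t hs)
    · exact absurd e.symm (mix t s ht)
    · rw [QuotientGroup.eq] at e
      have := h.uniq hs (one_mem M) e (by simpa using (hsq s).1) (by simpa using (hsq t).1)
      exact Subtype.ext (inv_mul_eq_one.mp this.symm)
  have := Nat.card_le_card_of_injective f hf
  rw [← index_eq_card] at this
  omega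

section Cos

variable (hc : ∀ g, g ∉ normalizer (M : Set G) → ∃ x ∈ M, (g * x) * (g * x) = 1)
include hc

theorem cz {v : G} (hv : v ∉ normalizer (M : Set G)) (e : v * z = z * v) : v * v = 1 := by
  obtain ⟨x, hx, hx2⟩ := hc v hv
  have e2 : v * x⁻¹ = z * (v * x) * z⁻¹ := by rw [← h.zinv hx, ← mul_assoc, ← mul_assoc, e]; group
  have := h.uniq hv hx (inv_mem hx) hx2 (by
    rw [e2]
    calc _ = z * (v * x * (v * x)) * z⁻¹ := by group
      _ = 1 := by rw [hx2]; group)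
  have h1 : x = 1 := h.sq hx (by nth_rewrite 1 [this]; exact inv_mul_cancel x)
  simpa [h1] using hx2

theorem exv {u : G} (hu : u ∉ normalizer (M : Set G)) (e : u * u = 1) :
    ∃ y ∈ M, (y⁻¹ * u * y) * z = z * (y⁻¹ * u * y) := by
  obtain ⟨x, hx, hx2⟩ := hc (u * z) (fun hh => hu (by simpa using mul_mem hh (inv_mem h.zH)))
  obtain ⟨y, hy, hy2⟩ := h.conjz (inv_mem hx)
  refine ⟨y, hy, ?_⟩
  rw [mul_assoc u, h.zx hx, hy2] at hx2
  have e3 : (y⁻¹ * u * y) * z * ((y⁻¹ * u * y) * z) = 1 := by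
    calc _ = y⁻¹ * (u * (y * z * y⁻¹) * (u * (y * z * y⁻¹))) * y := by group
      _ = 1 := by rw [hx2]; group
  have e4 : (y⁻¹ * u * y)⁻¹ = y⁻¹ * u * y := inv_eq_of_mul_eq_one_right (by
    calc _ = y⁻¹ * (u * u) * y := by group
      _ = 1 := by rw [e]; group)
  rw [eq_inv_of_mul_eq_one_left e3, mul_inv_rev, h.zi, e4]

theorem dec {g : G} (hg : g ∉ normalizer (M : Set G)) :
    ∃ y ∈ M, ∃ x ∈ M, ∃ v, v ∉ normalizer (M : Set G) ∧ v * z = z * v ∧ g = y * v * x := by
  obtain ⟨x, hx, hx2⟩ := hc g hg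
  have hu : g * x ∉ normalizer (M : Set G) := fun hh =>
    hg (by simpa using mul_mem hh (inv_mem (leH hx)))
  obtain ⟨y, hy, hy2⟩ := h.exv hc hu hx2
  refine ⟨y, hy, y⁻¹ * x⁻¹, mul_mem (inv_mem hy) (inv_mem hx), _, fun hh => hu ?_, hy2, by group⟩
  have := mul_mem (mul_mem (leH hy) hh) (inv_mem (leH hy))
  convert this using 1; group

omit hc in
theorem free0 {v y : G} (hv : v ∉ normalizer (M : Set G)) (e : v * z = z * v) (hy : y ∈ M)
    (hw : v * y * v⁻¹ ∈ normalizer (M : Set G)) : y = 1 := by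
  obtain ⟨x, hx, k, hk, hkz, e1⟩ := h.fac _ hw
  have e2 : z * (v * y * v⁻¹) * z⁻¹ = (v * y * v⁻¹)⁻¹ := by
    calc _ = (z * v) * y * (z * v)⁻¹ := by group
      _ = v * (z * y * z⁻¹) * v⁻¹ := by rw [← e]; group
      _ = _ := by rw [h.zinv hy]; group
  have e3 : x⁻¹ * k = k⁻¹ * x⁻¹ := by
    rw [← mul_inv_rev, ← e1, ← e2, e1, ← h.zinv hx, mul_assoc z (x * k), mul_assoc x, h.zi, hkz]
    group
  have hm : k * k ∈ M := by
    have : k * k = (k * x * k⁻¹) * x⁻¹ := by
      calc k * k = k * x * (x⁻¹ * k) := by group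
        _ = _ := by rw [e3]; group
    rw [this]; exact mul_mem (cj hk hx) (inv_mem hx)
  have hk2 : k * k = 1 := h.zc hm (by rw [mul_assoc, hkz, ← mul_assoc, hkz, mul_assoc])
  rcases h.kinv hk hkz hk2 with rfl | rfl
  · by_contra h1
    exact hv (h.ti v y hy h1 (by rw [e1, mul_one]; exact hx))
  · refine h.sq hy ?_
    calc y * y = v⁻¹ * ((v * y * v⁻¹) * (v * y * v⁻¹)) * v := by group
      _ = v⁻¹ * (x * (k * x) * k) * v := by rw [e1]; group
      _ = 1 := by rw [h.zx hx]; simp [mul_assoc, hk2]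

theorem free {g y : G} (hg : g ∉ normalizer (M : Set G)) (hy : y ∈ M)
    (hw : g⁻¹ * y * g ∈ normalizer (M : Set G)) : y = 1 := by
  obtain ⟨a, ha, x, hx, v, hv, e, rfl⟩ := h.dec hc hg
  have hv2 := inv_eq_of_mul_eq_one_right (h.cz hc hv e)
  have := h.free0 hv e (cj' (leH ha) hy) (by
    have := mul_mem (mul_mem (leH hx) hw) (inv_mem (leH hx))
    convert this using 1
    nth_rewrite 1 [← hv2]
    nth_rewrite 2 [hv2]
    group)
  calc y = a * (a⁻¹ * y * a) * a⁻¹ := by group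
    _ = 1 := by rw [this]; group

theorem vinv {v k : G} (hv : v ∉ normalizer (M : Set G)) (e : v * z = z * v)
    (hk : k ∈ normalizer (M : Set G)) (hkz : k * z = z * k) : v * k * v⁻¹ = k⁻¹ := by
  have := h.cz hc (v := v * k) (fun hh => hv (by simpa using mul_mem hh (inv_mem hk)))
    (by rw [mul_assoc, hkz, ← mul_assoc, e, mul_assoc])
  rw [inv_eq_of_mul_eq_one_right (h.cz hc hv e), eq_inv_iff_mul_eq_one, ← this, mul_assoc]

theorem inj2 {y y' v v' : G} (hy : y ∈ M) (hy' : y' ∈ M) (hv : v ∉ normalizer (M : Set G))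
    (e : v * z = z * v) (e' : v' * z = z * v') (hh : y * v * y⁻¹ = y' * v' * y'⁻¹) :
    y = y' ∧ v = v' := by
  have hw : y'⁻¹ * y ∈ M := mul_mem (inv_mem hy') hy
  have e1 : (y'⁻¹ * y) * v * (y'⁻¹ * y)⁻¹ = v' := by
    calc _ = y'⁻¹ * (y * v * y⁻¹) * y' := by group
      _ = _ := by rw [hh]; group
  generalize hwd : y'⁻¹ * y = w at hw e1
  have e2 : w⁻¹ * v * w = v' := by
    calc _ = (z * w * z⁻¹) * v * (z * w * z⁻¹)⁻¹ := by rw [h.zinv hw, inv_inv]
      _ = z * (w * (z⁻¹ * v * z) * w⁻¹) * z⁻¹ := by group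
      _ = z * v' * z⁻¹ := by rw [mul_assoc z⁻¹, e, inv_mul_cancel_left, e1]
      _ = v' := by rw [← e']; group
  have e3 : v * (w * w) = (w * w) * v := by
    calc _ = w * (w⁻¹ * v * w) * w := by group
      _ = w * (w * v * w⁻¹) * w := by rw [e2, e1]
      _ = _ := by group
  have h1 : w = 1 := h.sq hw ((h.nc _ (mul_mem hw hw) v (h.cz hc hv e) e3).resolve_right
    (fun e => hv (e ▸ one_mem _)))
  subst h1
  exact ⟨(inv_mul_eq_one.mp hwd).symm, by simpa using e1⟩

theorem inj {y y' x x' v v' : G} (hy : y ∈ M) (hy' : y' ∈ M) (hx : x ∈ M) (hx' : x' ∈ M)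
    (hv : v ∉ normalizer (M : Set G)) (hv' : v' ∉ normalizer (M : Set G))
    (e : v * z = z * v) (e' : v' * z = z * v') (hh : y * v * x = y' * v' * x') :
    y = y' ∧ v = v' ∧ x = x' := by
  have hg : y * v * x ∉ normalizer (M : Set G) := fun hh => hv (by
    have := mul_mem (mul_mem (inv_mem (leH hy)) hh) (inv_mem (leH hx))
    convert this using 1; group)
  have sq : ∀ {y v x : G}, v * v = 1 → (y * v * x * (x⁻¹ * y⁻¹)) * (y * v * x * (x⁻¹ * y⁻¹)) = 1 :=
    fun {y v x} hv => by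
      calc _ = y * (v * v) * y⁻¹ := by group
        _ = 1 := by rw [hv]; group
  have e1 := h.uniq hg (mul_mem (inv_mem hx) (inv_mem hy)) (mul_mem (inv_mem hx') (inv_mem hy'))
    (sq (h.cz hc hv e)) (by rw [hh]; exact sq (h.cz hc hv' e'))
  have e2 : y * v * y⁻¹ = y' * v' * y'⁻¹ := by
    calc _ = y * v * x * (x⁻¹ * y⁻¹) := by group
      _ = _ := by rw [hh, e1]; group
  obtain ⟨rfl, rfl⟩ := h.inj2 hc hy hy' hv e e' e2
  exact ⟨rfl, rfl, mul_left_cancel hh⟩

end Cos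

end BL

end Cfsg.Agent.Isaacs
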