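import Mathlib
import Cfsg.Agent.Isaacs.Large
import Cfsg.Prelude.Def_Transfer

/-! Bender's "groups with large subgroups": the doubly transitive cases. -/

set_option autoImplicit false

open Subgroup MulAction
open scoped MatrixGroups IsMulCommutative

namespace Cfsg.Agent.Isaacs

variable {G : Type*} [Group G]

theorem z3_of_zker {Ω : Type*} [MulAction G Ω] [IsPretransitive G Ω] {a b : Ω} {F : Subgroup G}
    (hF : Perm.ZKer a F) (hb : b ≠ a) (hF0 : F ≠ ⊥)
    (hc : ∀ k, k • a = a → k • b = b → ∀ y ∈ F, y ≠ 1 → k * y = y * k → k = 1) :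
    Perm.Z3 G Ω := by
  have two : ∀ c d : Ω, c ≠ d → ∃ s : G, s • a = c ∧ s • b = d := fun c d hcd => by
    obtain ⟨t, rfl⟩ := exists_smul_eq G a c
    obtain ⟨y, hy, e⟩ := hF.trans b (t⁻¹ • d) hb (fun e => hcd (by rw [← e, smul_inv_smul]))
    exact ⟨t * y, by rw [mul_smul, hF.le y hy], by rw [mul_smul, e, smul_inv_smul]⟩
  have three : ∀ g : G, ∀ a' b' c' : Ω, a' ≠ b' → b' ≠ c' → a' ≠ c' → g • a' = a' → g • b' = b' →
      g • c' = c' → g = 1 := fun g a' b' c' hab hbc hac ga gb gc => by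
    obtain ⟨s, rfl, rfl⟩ := two a' b' hab
    obtain ⟨y, hy, e⟩ := hF.trans b (s⁻¹ • c') hb (fun e => hac (by rw [← e, smul_inv_smul]))
    have ka : (s⁻¹ * g * s) • a = a := by rw [mul_smul, mul_smul, ga, inv_smul_smul]
    have kb : (s⁻¹ * g * s) • b = b := by rw [mul_smul, mul_smul, gb, inv_smul_smul]
    have kc : (s⁻¹ * g * s) • y • b = y • b := by rw [e, mul_smul, mul_smul, smul_inv_smul, gc]
    generalize hk : s⁻¹ * g * s = k at ka kb kc
    have h1 : y⁻¹ * (k * y * k⁻¹) = 1 := hF.free _ (mul_mem (inv_mem hy) (hF.conj k ka y hy)) b hb (by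
      rw [mul_smul, mul_smul, mul_smul, Perm.inv_fix kb, kc, inv_smul_smul])
    have := hc k ka kb y hy (fun e1 => hbc (by rw [e1, one_smul] at e; rw [e, smul_inv_smul]))
      (by rw [← mul_inv_eq_iff_eq_mul]; exact (inv_mul_eq_one.mp h1).symm)
    calc g = s * k * s⁻¹ := by rw [← hk]; group
      _ = 1 := by rw [this]; group
  refine ⟨⟨fun {g g'} hg => ?_⟩, is_two_pretransitive_iff.mpr fun {c d c' d'} h1 h2 => ?_, three⟩
  · obtain ⟨⟨y, hy⟩, h1⟩ := ne_bot_iff_exists_ne_one.mp hF0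
    have h2 : y • b ≠ b := fun e => h1 (Subtype.ext (hF.free y hy b hb e))
    have fx : ∀ x : Ω, (g'⁻¹ * g) • x = x := fun x => by rw [mul_smul, hg, inv_smul_smul]
    exact (inv_mul_eq_one.mp (three _ a b (y • b) hb.symm h2.symm
      (Perm.smul_ne_of_fix (hF.le y hy) hb).symm (fx _) (fx _) (fx _))).symm
  · obtain ⟨s, rfl, rfl⟩ := two c d h1
    obtain ⟨t, rfl, rfl⟩ := two c' d' h2
    exact ⟨t * s⁻¹, by rw [mul_smul, inv_smul_smul], by rw [mul_smul, inv_smul_smul]⟩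

theorem smul_coe_eq_iff {H : Subgroup G} {y g : G} :
    y • ((g : G) : G ⧸ H) = (g : G ⧸ H) ↔ g⁻¹ * y * g ∈ H := by
  rw [Quotient.smul_coe, smul_eq_mul, eq_comm, QuotientGroup.eq, mul_assoc]

theorem coe_ne_one_iff {H : Subgroup G} {g : G} : ((g : G) : G ⧸ H) ≠ ((1 : G) : G ⧸ H) ↔ g ∉ H := by
  rw [Ne, eq_comm, QuotientGroup.eq, inv_one, one_mul]

namespace BL

variable [Finite G] {M : Subgroup G} {z : G} (h : BL M z)
  (hc : ∀ g, g ∉ normalizer (M : Set G) → ∃ x ∈ M, (g * x) * (g * x) = 1)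
include h hc

theorem caseB {v : G} (hv : v ∉ normalizer (M : Set G)) (e : v * z = z * v)
    (hB : ∀ w, w ∉ normalizer (M : Set G) → w * z = z * w → v⁻¹ * w ∈ normalizer (M : Set G)) :
    ∃ (F : Type) (_ : Field F) (_ : Fintype F) (p : ℕ) (_ : Fact p.Prime) (_ : CharP F p),
      Fintype.card F = Nat.card M ∧ IsElementaryAbelian p M ∧
        (Nonempty (G ≃* (GL (Fin 2) F ⧸ Subgroup.center (GL (Fin 2) F))) ∨
         (Fintype.card F % 4 = 1 ∧ Nonempty (G ≃* Matrix.ProjectiveSpecialLinearGroup (Fin 2) F))) := by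
  set H := normalizer (M : Set G) with hH
  have fa : ∀ g : G, g • ((1 : G) : G ⧸ H) = ((1 : G) : G ⧸ H) ↔ g ∈ H := fun g => by
    rw [smul_coe_eq_iff]; simp
  have hv2 := h.cz hc hv e
  have hvi := inv_eq_of_mul_eq_one_right hv2
  have dec : ∀ g, g ∉ H → ∃ y ∈ M, ∃ x ∈ M, ∃ k ∈ H, k * z = z * k ∧ g = y * (v * k) * x :=
    fun g hg => by
      obtain ⟨y, hy, x, hx, w, hw, e1, rfl⟩ := h.dec hc hg
      refine ⟨y, hy, x, hx, v⁻¹ * w, hB w hw e1, ?_, by group⟩
      rw [hvi, mul_assoc, e1, ← mul_assoc, e, mul_assoc]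
  have orb : ∀ c : G ⧸ H, c ≠ ((1 : G) : G ⧸ H) → ∃ y ∈ M, y • ((v : G) : G ⧸ H) = c := fun c hc1 => by
    induction c using QuotientGroup.induction_on with | H g =>
    obtain ⟨y, hy, x, hx, k, hk, -, rfl⟩ := dec g (coe_ne_one_iff.mp hc1)
    refine ⟨y, hy, ?_⟩
    rw [Quotient.smul_coe, smul_eq_mul, QuotientGroup.eq]
    convert mul_mem hk (leH hx) using 1; group
  have hF : Perm.ZKer ((1 : G) : G ⧸ H) M := ⟨fun u hu => (fa u).mpr (leH hu),
    fun g hg u hu => cj ((fa g).mp hg) hu, fun c d h1 h2 => by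
      obtain ⟨y, hy, rfl⟩ := orb c h1
      obtain ⟨y', hy', rfl⟩ := orb d h2
      exact ⟨y' * y⁻¹, mul_mem hy' (inv_mem hy), by rw [mul_smul, inv_smul_smul]⟩,
    fun u hu c h1 h2 => by
      induction c using QuotientGroup.induction_on with | H g =>
      exact h.free hc (coe_ne_one_iff.mp h1) hu (smul_coe_eq_iff.mp h2)⟩
  have hb : ((v : G) : G ⧸ H) ≠ ((1 : G) : G ⧸ H) := coe_ne_one_iff.mpr hv
  have st : ∀ k : G, k • ((1 : G) : G ⧸ H) = ((1 : G) : G ⧸ H) → k • ((v : G) : G ⧸ H) = (v : G ⧸ H) →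
      k * z = z * k := fun g ga gb => by
    obtain ⟨x, hx, k, hk, hkz, rfl⟩ := h.fac g ((fa g).mp ga)
    have : x = 1 := h.free hc hv hx (by
      have h1 := smul_coe_eq_iff.mp gb
      have h2 : v⁻¹ * k * v ∈ H := by
        have h2 := h.vinv hc hv e hk hkz
        rw [hvi] at h2 ⊢
        rw [h2]; exact inv_mem hk
      convert mul_mem h1 (inv_mem h2) using 1; group)
    rw [this, one_mul]; exact hkz
  have hZ : Perm.Z3 G (G ⧸ H) := z3_of_zker hF hb h.ne fun k ka kb y hy h1 hky => by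
    have hk := (fa k).mp ka
    have hkz := st k ka kb
    have hg : v * y * v⁻¹ ∉ H := fun hh => h1 (h.free0 hv e hy hh)
    obtain ⟨y1, hy1, y2, hy2, k1, hk1, hk1z, e1⟩ := dec _ hg
    have i1 := h.vinv hc hv e hk hkz
    have out : ∀ l ∈ H, v * l ∉ H := fun l hl hh => hv (by simpa using mul_mem hh (inv_mem hl))
    have cz : ∀ l, l * z = z * l → v * l * z = z * (v * l) := fun l hl => by
      rw [mul_assoc, hl, ← mul_assoc, e, mul_assoc]
    have kz' : k⁻¹ * z = z * k⁻¹ := (show Commute k z from hkz).inv_left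
    have hk2z : k⁻¹ * k1 * k⁻¹ * z = z * (k⁻¹ * k1 * k⁻¹) :=
      ((show Commute k⁻¹ z from kz').mul_left hk1z).mul_left kz'
    have hk2 : k⁻¹ * k1 * k⁻¹ ∈ H := mul_mem (mul_mem (inv_mem hk) hk1) (inv_mem hk)
    have kv : k * v = v * k⁻¹ := by rw [← i1, ← mul_assoc, ← mul_assoc, hv2, one_mul, hvi]
    have e2 : y1 * (v * k1) * y2 = (k * y1 * k⁻¹) * (v * (k⁻¹ * k1 * k⁻¹)) * (k * y2 * k⁻¹) := by
      calc _ = v * (k⁻¹ * y * k) * v⁻¹ := by rw [← e1, mul_assoc k⁻¹, ← hky]; group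
        _ = (v * k⁻¹) * y * (v * k⁻¹)⁻¹ := by group
        _ = k * (v * y * v⁻¹) * k⁻¹ := by rw [← kv]; group
        _ = (k * y1 * k⁻¹) * ((k * v) * k1 * k⁻¹) * (k * y2 * k⁻¹) := by rw [e1]; group
        _ = _ := by rw [kv]; group
    have := mul_left_cancel (h.inj hc hy1 (cj hk hy1) hy2 (cj hk hy2) (out _ hk1) (out _ hk2)
      (cz _ hk1z) (cz _ hk2z) e2).2.1
    have c1 : k * k1 = k1 * k := by
      have a1 := h.vinv hc hv e (mul_mem hk hk1) (show Commute (k * k1) z from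
        (show Commute k z from hkz).mul_left hk1z)
      have a2 := h.vinv hc hv e hk1 hk1z
      apply inv_injective
      rw [← a1, mul_inv_rev, ← a2, ← i1]; group
    have k2 : k * k = 1 := by
      have : k * k1 * k = k1 := by nth_rewrite 1 [this]; group
      rw [c1, mul_assoc] at this
      exact mul_eq_left.mp this
    rcases h.kinv hk hkz k2 with rfl | rfl
    · rfl
    · exact absurd (h.zc hy hky.symm) h1
  have hev : Even (Nat.card ↥(stabilizer G ((1 : G) : G ⧸ H) ⊓ stabilizer G ((v : G) : G ⧸ H))) := by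
    have : Fact (Nat.Prime 2) := ⟨Nat.prime_two⟩
    have h2 : orderOf z = 2 := orderOf_eq_prime (by rw [pow_two, h.z2]) h.z1
    rw [even_iff_two_dvd, ← h2]
    refine orderOf_dvd_natCard _ ⟨(fa z).mpr h.zH, smul_coe_eq_iff.mpr ?_⟩
    rw [mul_assoc, ← e, inv_mul_cancel_left]; exact h.zH
  have hle := hZ.le_two_mul_card hb.symm hev
  have hcm : ∀ u ∈ M, ∀ w ∈ M, u * w = w * u := fun u hu w hw => h.comm hu hw
  have hcM : IsMulCommutative M := Core.isMulCommutative_of_forall hcm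
  obtain ⟨-, p, hp, hpe⟩ := hF.elementary hZ inferInstance h.ne hb hle
  have : Nontrivial (G ⧸ H) := ⟨_, _, hb⟩
  have hcard := hF.card
  have hM1 : 1 < Nat.card M := (one_lt_card_iff_ne_bot M).mpr h.ne
  have fin : ∀ (F : Type) [Field F] [Fintype F], Nat.card (G ⧸ H) = Nat.card F + 1 →
      ∃ (p : ℕ) (_ : Fact p.Prime) (_ : CharP F p), Fintype.card F = Nat.card M ∧
        IsElementaryAbelian p M := fun F _ _ hF => by
    obtain ⟨q, _, n, hq, hn⟩ := FiniteField.card' F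
    have e1 : Fintype.card F = Nat.card M := by rw [← Nat.card_eq_fintype_card]; omega
    have := Fact.mk hq
    obtain ⟨x, hx⟩ := exists_prime_orderOf_dvd_card' (G := M) q
      (by rw [← e1, hn]; exact dvd_pow_self q n.ne_zero)
    have : q = p := (Nat.prime_dvd_prime_iff_eq hq hp).mp
      (hx ▸ orderOf_dvd_of_pow_eq_one (Subtype.ext (hpe x x.2)))
    subst this
    exact ⟨q, inferInstance, inferInstance, e1, hcM, hpe⟩
  have ta : v • ((1 : G) : G ⧸ H) = (v : G ⧸ H) := by rw [Quotient.smul_coe, smul_eq_mul, mul_one]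
  have tb : v • ((v : G) : G ⧸ H) = ((1 : G) : G ⧸ H) := by rw [Quotient.smul_coe, smul_eq_mul, hv2]
  have hi : ∀ k ∈ stabilizer G ((1 : G) : G ⧸ H) ⊓ stabilizer G ((v : G) : G ⧸ H),
      v * k * v⁻¹ = k⁻¹ := fun k hk => h.vinv hc hv e ((fa k).mp hk.1) (st k hk.1 hk.2)
  rcases hZ.cases_of_le hb.symm (by omega) hle with hd | hd
  · obtain ⟨F, _, _, h1, h2⟩ := Perm.ident_full hZ hF hb h.ne hcm hd ta tb hi
    obtain ⟨q, _, _, h3, h4⟩ := fin F h1
    exact ⟨F, inferInstance, inferInstance, q, inferInstance, inferInstance, h3, h4, Or.inl h2⟩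
  · obtain ⟨F, _, _, h1, h2⟩ := Perm.ident_half hZ hF hb h.ne hcm hd hv2 ta tb hi
    obtain ⟨q, _, _, h3, h4⟩ := fin F h1
    refine ⟨F, inferInstance, inferInstance, q, inferInstance, inferInstance, h3, h4, Or.inr ⟨?_, h2⟩⟩
    obtain ⟨r, hr⟩ := hev
    omega

end BL

end Cfsg.Agent.Isaacs
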