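import Mathlib
import Cfsg.Agent.Isaacs.Large2
import Cfsg.Agent.S0206
import Cfsg.Agent.S0266
import Cfsg.Agent.FGS.BHM

/-! Bender's "groups with large subgroups": the case of a dihedral-like normaliser. -/

set_option autoImplicit false

open Subgroup MulAction
open scoped MatrixGroups IsMulCommutative

namespace Cfsg.Agent.Isaacs

variable {G : Type*} [Group G]

theorem cyc_of_odd_comm {K : Type*} [Field K] (h2 : (2 : K) = 0) {M : Type*} [Group M] [Finite M]
    (ρ : M →* SL(2, K)) (hρ : Function.Injective ρ) (ho : Odd (Nat.card M))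
    (hc : ∀ u w : M, u * w = w * u) : IsCyclic M := by
  rcases subsingleton_or_nontrivial M with _ | _
  · infer_instance
  obtain ⟨a, ha⟩ := exists_ne (1 : M)
  have : Fact (Nat.Prime 2) := ⟨Nat.prime_two⟩
  have : CharP K 2 := CharTwo.of_one_ne_zero_of_two_eq_zero one_ne_zero h2
  let L := AlgebraicClosure K
  let ρ' : M →* SL(2, L) := (Matrix.SpecialLinearGroup.map (algebraMap K L)).comp ρ
  have hρ' : Function.Injective ρ' :=
    (Classical.SL2Basic.map_injective _ (algebraMap K L).injective).comp hρ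
  obtain ⟨x, hx⟩ := Classical.SL2Basic.exists_fix_SL (ρ' a)
  have sq : ∀ g : M, g ^ 2 = 1 → g = 1 := fun g hg => orderOf_eq_one_iff.mp
    (Nat.eq_one_of_dvd_coprimes ho.coprime_two_left (orderOf_dvd_of_pow_eq_one hg)
      (orderOf_dvd_natCard g))
  refine Classical.SL2Basic.isCyclic_of_fix (p := 2) ρ' hρ' x (fun g => ?_) sq
  have fx : ∀ g : M, ρ' a • ρ' g • x = ρ' g • x := fun g => by
    rw [← mul_smul, ← map_mul, hc, map_mul, mul_smul, hx]
  by_contra hne
  have h3 : ρ' (g * g) • x = x := by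
    by_contra hne2
    have := (S0266.result (F := L)).2 (Matrix.SpecialLinearGroup.toPGL (ρ' a)) x (ρ' g • x)
      (ρ' (g * g) • x) (Ne.symm hne) (Ne.symm hne2) (fun e => hne (by
        rw [map_mul, mul_smul] at e
        exact (MulAction.injective _ e).symm))
      (by rw [Classical.SL2Basic.toPGL_smul', hx]) (by rw [Classical.SL2Basic.toPGL_smul', fx])
      (by rw [Classical.SL2Basic.toPGL_smul', fx])
    rw [Classical.SL2Basic.toPGL_eq_one_iff, Classical.SL2Basic.neg_eq_self CharTwo.two_eq_zero,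
      or_self] at this
    exact ha (hρ' (by rw [this, map_one]))
  obtain ⟨n, hn⟩ := ho
  have : g = (g * g) ^ (n + 1) := by
    rw [← pow_two, ← pow_mul, show 2 * (n + 1) = Nat.card M + 1 by omega, pow_succ, pow_card_eq_one',
      one_mul]
  refine hne ?_
  rw [this, map_pow]
  exact pow_mem (show ρ' (g * g) ∈ stabilizer SL(2, L) x from h3) _

namespace BL

variable [Finite G] {M : Subgroup G} {z : G} (h : BL M z)
  (hc : ∀ g, g ∉ normalizer (M : Set G) → ∃ x ∈ M, (g * x) * (g * x) = 1)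
include h hc

theorem cnt1 (P : G → Prop) (hP : ∀ y ∈ M, ∀ t, P t → P (y * t * y⁻¹)) :
    {t | t ∉ normalizer (M : Set G) ∧ t * t = 1 ∧ P t}.ncard =
      Nat.card M * {v | v ∉ normalizer (M : Set G) ∧ v * z = z * v ∧ P v}.ncard := by
  rw [← Nat.card_coe_set_eq, ← Nat.card_coe_set_eq, ← Nat.card_prod, eq_comm]
  refine Nat.card_eq_of_bijective (fun p => ⟨p.1 * p.2 * (p.1 : G)⁻¹, fun hh => p.2.2.1 ?_, ?_,
    hP _ p.1.2 _ p.2.2.2.2⟩) ⟨fun p q e => ?_, fun t => ?_⟩
  · convert mul_mem (mul_mem (inv_mem (leH p.1.2)) hh) (leH p.1.2) using 1; group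
  · calc _ = (p.1 : G) * (p.2 * p.2) * (p.1 : G)⁻¹ := by group
      _ = 1 := by rw [h.cz hc p.2.2.1 p.2.2.2.1]; group
  · have := h.inj2 hc p.1.2 q.1.2 p.2.2.1 p.2.2.2.1 q.2.2.2.1 (congrArg Subtype.val e)
    exact Prod.ext (Subtype.ext this.1) (Subtype.ext this.2)
  · obtain ⟨y, hy, e⟩ := h.exv hc t.2.1 t.2.2.1
    refine ⟨⟨⟨y, hy⟩, ⟨y⁻¹ * t * y, fun hh => t.2.1 ?_, e, ?_⟩⟩, Subtype.ext (by simp [mul_assoc])⟩
    · convert mul_mem (mul_mem (leH hy) hh) (inv_mem (leH hy)) using 1; group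
    · simpa using hP _ (inv_mem hy) _ t.2.2.2

theorem cnt2 : {g | g ∉ normalizer (M : Set G)}.ncard =
    Nat.card M * {v | v ∉ normalizer (M : Set G) ∧ v * z = z * v}.ncard * Nat.card M := by
  rw [← Nat.card_coe_set_eq, ← Nat.card_coe_set_eq, ← Nat.card_prod, ← Nat.card_prod, eq_comm]
  refine Nat.card_eq_of_bijective (fun p => ⟨p.1.1 * p.1.2 * p.2, fun hh => p.1.2.2.1 ?_⟩)
    ⟨fun p q e => ?_, fun t => ?_⟩
  · convert mul_mem (mul_mem (inv_mem (leH p.1.1.2)) hh) (inv_mem (leH p.2.2)) using 1; group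
  · have := h.inj hc p.1.1.2 q.1.1.2 p.2.2 q.2.2 p.1.2.2.1 q.1.2.2.1 p.1.2.2.2 q.1.2.2.2
      (congrArg Subtype.val e)
    exact Prod.ext (Prod.ext (Subtype.ext this.1) (Subtype.ext this.2.1)) (Subtype.ext this.2.2)
  · obtain ⟨y, hy, x, hx, v, hv, e, e2⟩ := h.dec hc t.2
    exact ⟨⟨⟨⟨y, hy⟩, ⟨v, hv, e⟩⟩, ⟨x, hx⟩⟩, Subtype.ext e2.symm⟩

omit hc in
theorem isConj_of_mem {t : G} (ht : t ∈ normalizer (M : Set G)) (h2 : t * t = 1) (h1 : t ≠ 1) :
    IsConj z t := by
  obtain ⟨x, hx, rfl⟩ := h.invol ht h2 h1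
  obtain ⟨y, -, e⟩ := h.conjz hx
  exact isConj_iff.mpr ⟨y, e.symm⟩

omit [Finite G] hc in
theorem of_isConj {t : G} (ht : IsConj z t) : t * t = 1 ∧ t ≠ 1 := by
  obtain ⟨c, rfl⟩ := isConj_iff.mp ht
  refine ⟨?_, fun e => h.z1 ?_⟩
  · calc _ = c * (z * z) * c⁻¹ := by group
      _ = 1 := by rw [h.z2]; group
  · calc z = c⁻¹ * (c * z * c⁻¹) * c := by group
      _ = 1 := by rw [e]; group

omit hc in
theorem cntz : {t | t ∈ normalizer (M : Set G) ∧ IsConj z t}.ncard = Nat.card M := by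
  have : {t | t ∈ normalizer (M : Set G) ∧ IsConj z t} = (fun x => x * z) '' (M : Set G) := by
    ext t
    constructor
    · rintro ⟨h1, h2⟩
      obtain ⟨x, hx, rfl⟩ := h.invol h1 (h.of_isConj h2).1 (h.of_isConj h2).2
      exact ⟨x, hx, rfl⟩
    · rintro ⟨x, hx, rfl⟩
      obtain ⟨y, -, e⟩ := h.conjz hx
      exact ⟨mul_mem (leH hx) h.zH, isConj_iff.mpr ⟨y, e.symm⟩⟩
  rw [this, Set.ncard_image_of_injective _ (mul_left_injective z), ← Nat.card_coe_set_eq]
  rfl

variable (hA : ∀ k ∈ normalizer (M : Set G), k * z = z * k → k = 1 ∨ k = z)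
include hA

theorem sqC {c : G} (e : c * z = z * c) : c * c = 1 := by
  by_cases hh : c ∈ normalizer (M : Set G)
  · rcases hA c hh e with rfl | rfl
    · exact one_mul 1
    · exact h.z2
  · exact h.cz hc hh e

omit [Finite G] hc in
theorem memH {g : G} (hg : g ∈ normalizer (M : Set G)) : g ∈ M ∨ g * z ∈ M := by
  obtain ⟨x, hx, k, hk, e, rfl⟩ := h.fac g hg
  rcases hA k hk e with rfl | rfl
  · exact Or.inl (by simpa using hx)
  · exact Or.inr (by rwa [mul_assoc, h.z2, mul_one])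

omit [Finite G] hc in
theorem cardH : Nat.card (normalizer (M : Set G)) = 2 * Nat.card M := by
  have hz : z ∉ M := fun hz => h.z1 (h.sq hz h.z2)
  have : M.relIndex (normalizer (M : Set G)) = 2 := by
    rw [relIndex, index_eq_two_iff]
    refine ⟨⟨z, h.zH⟩, fun b => ?_⟩
    rcases h.memH hA b.2 with h1 | h1
    · exact Or.inr ⟨h1, fun h2 => hz (by simpa using mul_mem (inv_mem h1) h2)⟩
    · exact Or.inl ⟨h1, fun h2 => hz (by simpa using mul_mem (inv_mem (mem_subgroupOf.mp h2)) h1)⟩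
  rw [← this, mul_comm, relIndex, ← card_mul_index (M.subgroupOf _),
    Nat.card_congr (subgroupOfEquivOfLe le_normalizer).toEquiv]

theorem arith {v : G} (hv : v ∉ normalizer (M : Set G)) (e : v * z = z * v) :
    ∃ d, 1 ≤ d ∧ Nat.card (centralizer ({z} : Set G)) = 2 ^ (d + 1) ∧
      ((Nat.card M = 2 ^ (d + 1) + 1 ∧
        Nat.card G = 2 ^ (d + 1) * ((2 ^ (d + 1) + 1) * (2 ^ (d + 1) - 1)) ∧
        ∀ t : G, t * t = 1 → t ≠ 1 → IsConj z t) ∨
       (Nat.card M = 2 ^ d + 1 ∧ Nat.card G = 2 ^ (2 * d) * (2 * Nat.card M) ∧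
        {t : G | t * t = 1 ∧ t ≠ 1 ∧ ¬ IsConj z t}.ncard + 1 = 2 ^ (2 * d))) := by
  set H := normalizer (M : Set G) with hH
  have hC : IsPGroup 2 (centralizer ({z} : Set G)) := fun x =>
    ⟨1, Subtype.ext (by simpa [pow_two] using h.sqC hc hA (mem_centralizer_singleton_iff.mp x.2))⟩
  have : Fact (Nat.Prime 2) := ⟨Nat.prime_two⟩
  obtain ⟨n, hn⟩ := hC.exists_card_eq
  have cj1 : ∀ y ∈ M, ∀ t, IsConj z t → IsConj z (y * t * y⁻¹) := fun y _ t ht =>
    ht.trans (isConj_iff.mpr ⟨y, rfl⟩)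
  have cj2 : ∀ y ∈ M, ∀ t, ¬ IsConj z t → ¬ IsConj z (y * t * y⁻¹) := fun y _ t ht hh =>
    ht (hh.trans (isConj_iff.mpr ⟨y, rfl⟩).symm)
  have c1 := h.cnt1 hc _ cj1
  have c2 := h.cnt1 hc _ cj2
  have c3 := h.cnt2 hc
  have c4 := h.cntz
  have c5 := h.cardH hA
  rw [← hH] at c1 c2 c3 c4 c5
  have c6 : {v | v ∉ H ∧ v * z = z * v}.ncard = {v | v ∉ H ∧ v * z = z * v ∧ IsConj z v}.ncard +
      {v | v ∉ H ∧ v * z = z * v ∧ ¬ IsConj z v}.ncard := by
    rw [← Set.ncard_union_eq (Set.disjoint_left.mpr fun x h1 h2 => h2.2.2 h1.2.2)]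
    congr 1; ext x; simp only [Set.mem_ofPred_eq, Set.mem_union]; tauto
  have c7 : Nat.card (centralizer ({z} : Set G)) = {v | v ∉ H ∧ v * z = z * v}.ncard + 2 := by
    rw [← Set.ncard_pair h.z1.symm, ← Set.ncard_union_eq (Set.disjoint_left.mpr fun x h1 h2 => by
      rcases h2 with rfl | rfl
      · exact h1.1 (one_mem _)
      · exact h1.1 h.zH), ← Nat.card_coe_set_eq]
    refine Nat.card_congr (Equiv.setCongr ?_)
    ext x
    simp only [SetLike.mem_coe, mem_centralizer_singleton_iff, Set.mem_union, Set.mem_ofPred_eq,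
      Set.mem_insert_iff, Set.mem_singleton_iff]
    refine ⟨fun hx => ?_, ?_⟩
    · by_cases hh : x ∈ H
      · exact Or.inr (hA x hh hx)
      · exact Or.inl ⟨hh, hx⟩
    · rintro (hx | rfl | rfl)
      · exact hx.2
      · simp
      · rfl
  have c8 : Nat.card G = Nat.card H + {g | g ∉ H}.ncard := by
    rw [← Set.ncard_add_ncard_compl (H : Set G), ← Nat.card_coe_set_eq]; rfl
  have c9 : (centralizer ({z} : Set G)).index = {t | t ∈ H ∧ IsConj z t}.ncard +
      {t | t ∉ H ∧ t * t = 1 ∧ IsConj z t}.ncard := by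
    rw [← FGS.ncard_isConj, ← Set.ncard_union_eq (Set.disjoint_left.mpr fun x h1 h2 => h2.1 h1.1)]
    congr 1; ext x; simp only [Set.mem_ofPred_eq, Set.mem_union]
    refine ⟨fun hx => ?_, fun hx => hx.elim (·.2) (·.2.2)⟩
    by_cases hh : x ∈ H
    · exact Or.inl ⟨hh, hx⟩
    · exact Or.inr ⟨hh, (h.of_isConj hx).1, hx⟩
  have c10 := card_mul_index (centralizer ({z} : Set G))
  have c11 : {t : G | t * t = 1 ∧ t ≠ 1 ∧ ¬ IsConj z t} = {t | t ∉ H ∧ t * t = 1 ∧ ¬ IsConj z t} := by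
    ext t
    exact ⟨fun ht => ⟨fun hh => ht.2.2 (h.isConj_of_mem hh ht.1 ht.2.1), ht.1, ht.2.2⟩,
      fun ht => ⟨ht.2.1, fun e => ht.1 (e ▸ one_mem _), ht.2.2⟩⟩
  have c12 : 0 < {v | v ∉ H ∧ v * z = z * v}.ncard := (Set.ncard_pos).mpr ⟨v, hv, e⟩
  have hm : 1 < Nat.card M := (one_lt_card_iff_ne_bot M).mpr h.ne
  have all : {v | v ∉ H ∧ v * z = z * v ∧ ¬ IsConj z v}.ncard = 0 →
      ∀ t : G, t * t = 1 → t ≠ 1 → IsConj z t := fun h0 t h1 h2 => by
    rw [h0, mul_zero, ← c11, Set.ncard_eq_zero] at c2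
    by_contra h3
    exact (Set.eq_empty_iff_forall_notMem.mp c2) t ⟨h1, h2, h3⟩
  rw [c11, c2]
  rw [c9, c4, c1, c7] at c10
  rw [c5, c3] at c8
  rw [hn] at c7 ⊢
  generalize {v | v ∉ H ∧ v * z = z * v ∧ ¬ IsConj z v}.ncard = s' at *
  generalize {v | v ∉ H ∧ v * z = z * v ∧ IsConj z v}.ncard = r at *
  generalize {v | v ∉ H ∧ v * z = z * v}.ncard = s at *
  generalize Nat.card M = m at *
  generalize Nat.card G = N at *
  obtain ⟨d, rfl⟩ : ∃ d, n = d + 1 := ⟨n - 1, by
    rcases n with _ | n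
    · omega
    · rfl⟩
  have hd : 1 ≤ d := by
    rcases d with _ | d
    · omega
    · omega
  refine ⟨d, hd, rfl, ?_⟩
  obtain ⟨b, hb⟩ : ∃ b, 2 ^ d = b + 1 := ⟨2 ^ d - 1, by have := Nat.one_le_two_pow (n := d); omega⟩
  have e1 : 2 ^ (d + 1) = 2 * (b + 1) := by rw [pow_succ, hb, mul_comm]
  have e2 : 2 ^ (2 * d) = (b + 1) * (b + 1) := by rw [two_mul, pow_add, hb]
  rw [e1, e2, hb]
  rw [e1] at c7
  obtain rfl : s = 2 * b := by omega
  have k1 : b * m = b + b * r + r := by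
    have : m * (2 * (1 + b * m)) = m * (2 * (1 + (b + b * r + r))) := by
      calc _ = 2 * m + m * (2 * b) * m := by ring
        _ = _ := by rw [← c8, ← c10]; ring
    have := Nat.eq_of_mul_eq_mul_left (by omega) this
    omega
  obtain ⟨j, rfl⟩ : b ∣ r := (Nat.dvd_add_right ((dvd_refl b).add (dvd_mul_right b r))).mp
    (k1 ▸ dvd_mul_right b m)
  have k2 : m = 1 + b * j + j := Nat.eq_of_mul_eq_mul_left (show 0 < b by omega) (by rw [k1]; ring)
  have k3 : j ≤ 2 := Nat.le_of_mul_le_mul_left (show b * j ≤ b * 2 by omega) (by omega)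
  interval_cases j
  · omega
  · right
    obtain rfl : s' = b := by omega
    subst k2
    refine ⟨by omega, by rw [c8]; ring, by ring⟩
  · left
    refine ⟨by omega, ?_, all (by omega)⟩
    rw [c8, k2, show 2 * (b + 1) - 1 = 2 * b + 1 by omega]; ring

omit hc in
theorem caseA1 {d : ℕ} (hd : 1 ≤ d) (hm : Nat.card M = 2 ^ d + 1)
    (hG : Nat.card G = 2 ^ (2 * d) * (2 * Nat.card M))
    (hJ : {t : G | t * t = 1 ∧ t ≠ 1 ∧ ¬ IsConj z t}.ncard + 1 = 2 ^ (2 * d)) :
    ∃ E : Subgroup G, E.Normal ∧ IsElementaryAbelian 2 E ∧ Nat.card E = 2 ^ (2 * d) ∧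
      E ⊓ normalizer (M : Set G) = ⊥ ∧ E ⊔ normalizer (M : Set G) = ⊤ ∧
      Nonempty (↥(normalizer (M : Set G)) ≃* DihedralGroup (2 ^ d + 1)) := by
  set H := normalizer (M : Set G) with hH
  have : Fact (Nat.Prime 2) := ⟨Nat.prime_two⟩
  have cH := h.cardH hA
  rw [← hH] at cH
  have hm0 : 0 < Nat.card M := Nat.card_pos
  have hidx : M.index = 2 ^ (2 * d + 1) := by
    refine Nat.eq_of_mul_eq_mul_left hm0 ?_
    rw [card_mul_index, hG]; ring
  have sub : ∀ t : G, t * t = 1 → t ≠ 1 → ¬ IsConj z t → t ∈ pCore 2 G := fun t h2 h1 hz => by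
    by_contra hne
    obtain ⟨x, hx1, hxo, hx⟩ := LocalEven.exists_inverted_of_not_mem_pCore h2 hne
    obtain ⟨p, hp, hpx⟩ := Nat.exists_prime_and_dvd (show orderOf x ≠ 1 by simpa using hx1)
    have := Fact.mk hp
    have hp2 : p ≠ 2 := by rintro rfl; exact hxo.not_two_dvd_nat hpx
    set y := x ^ (orderOf x / p) with hy
    have hyo : orderOf y = p := orderOf_pow_orderOf_div (orderOf_pos x).ne' hpx
    have hyi : t * y * t⁻¹ = y⁻¹ := by rw [hy, ← conj_pow, hx, inv_pow]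
    obtain ⟨P⟩ : Nonempty (Sylow p M) := inferInstance
    have hni : ¬ p ∣ M.index := fun hh => hp2
      ((Nat.prime_dvd_prime_iff_eq hp Nat.prime_two).mp (hp.dvd_of_dvd_pow (hidx ▸ hh)))
    have hPi : ¬ p ∣ ((P : Subgroup M).map M.subtype).index := by
      rw [index_map_subtype]
      exact fun hh => (hp.dvd_mul.mp hh).elim P.not_dvd_index hni
    let P' : Sylow p G := IsPGroup.toSylow (P.isPGroup'.map M.subtype) hPi
    obtain ⟨R, hR⟩ := (IsPGroup.of_card (n := 1) (G := zpowers y)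
      (by rw [Nat.card_zpowers, hyo, pow_one])).exists_le_sylow
    obtain ⟨g, hg⟩ := exists_smul_eq G R P'
    have hgy : g * y * g⁻¹ ∈ M := by
      have : g * y * g⁻¹ ∈ ((g • R : Sylow p G) : Subgroup G) := by
        rw [Sylow.coe_subgroup_smul]
        exact smul_mem_pointwise_smul y (MulAut.conj g) _ (hR (mem_zpowers y))
      rw [hg] at this
      exact map_subtype_le _ this
    have hy1 : g * y * g⁻¹ ≠ 1 := fun e => hp.one_lt.ne' (by
      rw [← hyo, ← Perm.orderOf_conj g, e, orderOf_one])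
    have hin : g * t * g⁻¹ ∈ H := h.ti _ _ hgy hy1 (by
      have : g * t * g⁻¹ * (g * y * g⁻¹) * (g * t * g⁻¹)⁻¹ = (g * y * g⁻¹)⁻¹ := by
        calc _ = g * (t * y * t⁻¹) * g⁻¹ := by group
          _ = _ := by rw [hyi]; group
      rw [this]; exact inv_mem hgy)
    refine hz ((h.isConj_of_mem hin ?_ fun e => h1 ?_).trans (isConj_iff.mpr ⟨g, rfl⟩).symm)
    · calc _ = g * (t * t) * g⁻¹ := by group
        _ = 1 := by rw [h2]; group
    · calc t = g⁻¹ * (g * t * g⁻¹) * g := by group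
        _ = 1 := by rw [e]; group
  have QM : ∀ q ∈ pCore 2 G, q ∈ M → q = 1 := fun q h1 h2 => by
    obtain ⟨k, hk⟩ := Core.pCore_isPGroup 2 (⟨q, h1⟩ : pCore 2 G)
    have a1 : orderOf q ∣ 2 ^ k := orderOf_dvd_of_pow_eq_one (congrArg Subtype.val hk)
    have a2 : orderOf q ∣ Nat.card M := orderOf_dvd_natCard M h2
    exact orderOf_eq_one_iff.mp (Nat.eq_one_of_dvd_coprimes
      (Nat.Coprime.pow_left k h.odd.coprime_two_left) a1 a2)
  have QH : pCore 2 G ⊓ H = ⊥ := (eq_bot_iff_forall _).mpr fun q hq => by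
    rcases h.memH hA hq.2 with h1 | h1
    · exact QM q hq.1 h1
    · obtain ⟨x, hx, hx1⟩ := h.ex
      have c1 : q * x * q⁻¹ * x⁻¹ = 1 := QM _ (by
        have := (pCore 2 G).mul_mem hq.1 (Normal.conj_mem inferInstance _ ((pCore 2 G).inv_mem hq.1) x)
        convert this using 1; group) (mul_mem (cj hq.2 hx) (inv_mem hx))
      have c2 : q * x * q⁻¹ = x⁻¹ := by
        calc _ = (q * z) * (z⁻¹ * x * z⁻¹⁻¹) * (q * z)⁻¹ := by group
          _ = (q * z) * x⁻¹ * (q * z)⁻¹ := by rw [h.inv (inv_mem h.zH) (by rw [h.zi, h.z2])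
            (by rw [h.zi]; exact h.z1) hx]
          _ = _ := by rw [h.comm h1 (inv_mem hx)]; group
      rw [c2] at c1
      exact absurd (inv_eq_one.mp (h.sq (inv_mem hx) c1)) hx1
  have cQH : Nat.card ↥(pCore 2 G ⊔ H) = Nat.card (pCore 2 G) * Nat.card H :=
    Core.card_sup_of_disjoint (by rw [normalizer_eq_top]; exact le_top) (disjoint_iff.mpr QH)
  have le1 : Nat.card (pCore 2 G) ≤ 2 ^ (2 * d) := by
    have := card_le_card_group (pCore 2 G ⊔ H)
    rw [cQH, hG, cH] at this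
    exact Nat.le_of_mul_le_mul_right this (by omega)
  have eqs : insert (1 : G) {t : G | t * t = 1 ∧ t ≠ 1 ∧ ¬ IsConj z t} = (pCore 2 G : Set G) := by
    refine Set.eq_of_subset_of_ncard_le ?_ ?_
    · rintro t (rfl | ht)
      · exact one_mem _
      · exact sub t ht.1 ht.2.1 ht.2.2
    · rw [Set.ncard_insert_of_notMem (fun hh => hh.2.1 rfl), hJ, ← Nat.card_coe_set_eq]
      exact le1
  have cQ : Nat.card (pCore 2 G) = 2 ^ (2 * d) := by
    rw [← hJ, ← Set.ncard_insert_of_notMem (a := (1 : G)) (fun hh => hh.2.1 rfl), eqs,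
      ← Nat.card_coe_set_eq]; rfl
  have sq : ∀ q ∈ pCore 2 G, q * q = 1 := fun q hq => by
    rcases (show q ∈ insert (1 : G) {t : G | t * t = 1 ∧ t ≠ 1 ∧ ¬ IsConj z t} from eqs ▸ hq) with
      rfl | hq
    · exact one_mul 1
    · exact hq.1
  have hcm : IsMulCommutative (pCore 2 G) := Core.isMulCommutative_of_forall fun a ha b hb => by
    rw [← inv_eq_of_mul_eq_one_right (sq _ (mul_mem ha hb)), mul_inv_rev,
      inv_eq_of_mul_eq_one_right (sq a ha), inv_eq_of_mul_eq_one_right (sq b hb)]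
  have hcyc : IsCyclic M := H2.isCyclic_of_semiregular_comm_of_comm hcm (fun e => by
      rw [e, card_bot] at cQ
      have := Nat.one_lt_two_pow (n := 2 * d) (by omega)
      omega) (by rw [normalizer_eq_top]; exact le_top)
    (fun a ha ha1 => (eq_bot_iff_forall _).mpr fun q hq =>
      (h.nc a ha q (sq q hq.1) (mem_centralizer_singleton_iff.mp hq.2)).resolve_left ha1)
    (Core.isMulCommutative_of_forall fun u hu w hw => h.comm hu hw)
  refine ⟨pCore 2 G, inferInstance, ⟨hcm, fun a ha => by rw [pow_two, sq a ha]⟩, cQ, QH,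
    eq_top_of_card_eq _ (by rw [cQH, cQ, cH, hG]), ?_⟩
  obtain ⟨⟨x, hx⟩, hgen⟩ := hcyc.exists_generator
  have hxo : orderOf x = 2 ^ d + 1 := by
    rw [← hm, ← orderOf_eq_card_of_forall_mem_zpowers hgen]
    exact orderOf_injective M.subtype M.subtype_injective ⟨x, hx⟩
  have hx1 : x ≠ 1 := fun e => by
    rw [e, orderOf_one] at hxo
    have := Nat.one_le_two_pow (n := d)
    omega
  have e1 : x * z * z = x := by rw [mul_assoc, h.z2, mul_one]
  have o1 : orderOf (x * z) = 2 := orderOf_eq_prime (by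
    rw [pow_two, mul_assoc, ← mul_assoc z, h.zx hx, mul_assoc, h.z2]; simp)
    (fun e => h.z1 (h.sq (by rw [eq_inv_of_mul_eq_one_right e]; exact inv_mem hx) h.z2))
  have o2 : orderOf z = 2 := orderOf_eq_prime (by rw [pow_two, h.z2]) h.z1
  have := S0206.result (x * z) z o1 o2 (fun e => hx1 (by simpa using e))
  rw [e1, hxo] at this
  have hcl : closure ({x * z, z} : Set G) = H := le_antisymm ((closure_le _).mpr (by
    rintro t (rfl | rfl)
    · exact mul_mem (leH hx) h.zH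
    · exact h.zH)) fun g hg => by
    have a1 : z ∈ closure ({x * z, z} : Set G) := subset_closure (by simp)
    have a2 : x ∈ closure ({x * z, z} : Set G) := by
      have := mul_mem (subset_closure (show x * z ∈ ({x * z, z} : Set G) by simp)) a1
      rwa [e1] at this
    have a3 : ∀ y ∈ M, y ∈ closure ({x * z, z} : Set G) := fun y hy => by
      obtain ⟨k, hk⟩ := mem_zpowers_iff.mp (hgen ⟨y, hy⟩)
      rw [show y = x ^ k from (congrArg Subtype.val hk).symm]
      exact zpow_mem a2 k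
    rcases h.memH hA hg with h1 | h1
    · exact a3 g h1
    · simpa [mul_assoc, h.z2] using mul_mem (a3 _ h1) a1
  rwa [hcl] at this

theorem caseA2 {e : ℕ} (he : 1 < e) (hC : Nat.card (centralizer ({z} : Set G)) = 2 ^ e)
    (hm : Nat.card M = 2 ^ e + 1) (hG : Nat.card G = 2 ^ e * ((2 ^ e + 1) * (2 ^ e - 1)))
    (hJ : ∀ t : G, t * t = 1 → t ≠ 1 → IsConj z t) :
    ∃ (F : Type) (_ : Field F) (_ : Fintype F), Fintype.card F = 2 ^ e ∧ IsCyclic M ∧
      Nonempty (G ≃* Matrix.ProjectiveSpecialLinearGroup (Fin 2) F) := by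
  classical
  set E := centralizer ({z} : Set G) with hE
  have mE : ∀ {c}, c ∈ E ↔ c * z = z * c := mem_centralizer_singleton_iff
  have sq : ∀ c ∈ E, c * c = 1 := fun c hc' => h.sqC hc hA (mE.mp hc')
  have cm : ∀ a ∈ E, ∀ b ∈ E, a * b = b * a := fun a ha b hb => by
    rw [← inv_eq_of_mul_eq_one_right (sq _ (mul_mem ha hb)), mul_inv_rev,
      inv_eq_of_mul_eq_one_right (sq a ha), inv_eq_of_mul_eq_one_right (sq b hb)]
  have cmap : ∀ g : G, centralizer ({g * z * g⁻¹} : Set G) = E.map (MulAut.conj g).toMonoidHom :=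
    fun g => by
      ext c
      rw [mem_map_equiv, mE, mem_centralizer_singleton_iff, MulAut.conj_symm_apply]
      constructor
      · intro hh
        calc _ = g⁻¹ * (c * (g * z * g⁻¹)) * g := by group
          _ = _ := by rw [hh]; group
      · intro hh
        calc _ = g * (g⁻¹ * c * g * z) * g⁻¹ := by group
          _ = _ := by rw [hh]; group
  have cen : ∀ y ∈ E, y ≠ 1 → centralizer ({y} : Set G) = E := fun y hy h1 => by
    obtain ⟨g, rfl⟩ := isConj_iff.mp (hJ y (sq y hy) h1)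
    refine (eq_of_le_of_card_ge (fun c hc' => mem_centralizer_singleton_iff.mpr (cm c hc' _ hy)) ?_).symm
    rw [cmap, card_map_of_injective (MulAut.conj g).injective]
  have ti : ∀ g y, y ∈ E → y ≠ 1 → g * y * g⁻¹ ∈ E → g ∈ normalizer (E : Set G) := fun g y hy h1 hg => by
    refine Transfer.mem_normalizer_of_conj_mem fun c hc' => ?_
    rw [← cen _ hg (fun e => h1 (by
      calc y = g⁻¹ * (g * y * g⁻¹) * g := by group
        _ = 1 := by rw [e]; group)), mem_centralizer_singleton_iff]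
    calc _ = g * (c * y) * g⁻¹ := by group
      _ = _ := by rw [cm c hc' y hy]; group
  set N := normalizer (E : Set G) with hN
  have zE : z ∈ E := mE.mpr rfl
  have invN : ∀ t ∈ N, t * t = 1 → t ∈ E := fun t ht h2 => by
    have h3 : t * z * t⁻¹ ∈ E := cj ht zE
    by_cases h4 : z * (t * z * t⁻¹) = 1
    · rw [mE, ← mul_inv_eq_iff_eq_mul, eq_inv_of_mul_eq_one_right h4, h.zi]
    · rw [← cen _ (mul_mem zE h3) h4, mem_centralizer_singleton_iff]
      conv_rhs => rw [cm _ zE _ h3]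
      rw [inv_eq_of_mul_eq_one_right h2]; group
  have q2 : 2 ^ 1 < 2 ^ e := Nat.pow_lt_pow_right (by norm_num) he
  have cN : Nat.card N = 2 ^ e * (2 ^ e - 1) := by
    have a1 : Nat.card (N ⧸ E.subgroupOf N) = 2 ^ e - 1 := by
      have a2 : Nat.card {y : G // y ∈ E ∧ y ≠ 1} = 2 ^ e - 1 := by
        have := Set.ncard_sdiff_singleton_of_mem (s := (E : Set G)) (one_mem E)
        rw [← Nat.card_coe_set_eq, ← Nat.card_coe_set_eq] at this
        rw [← hC]; exact this
      rw [← a2]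
      refine Nat.card_eq_of_bijective (fun c => Quotient.liftOn' c
        (fun n => ⟨n * z * (n : G)⁻¹, cj n.2 zE, (h.of_isConj (isConj_iff.mpr ⟨_, rfl⟩)).2⟩)
        fun a b hab => Subtype.ext ?_) ⟨fun a b hab => ?_, fun y => ?_⟩
      · have := mE.mp (mem_subgroupOf.mp (QuotientGroup.leftRel_apply.mp hab))
        simp only [coe_mul, coe_inv] at this
        calc (a : G) * z * (a : G)⁻¹ = a * (z * ((a : G)⁻¹ * b)) * (b : G)⁻¹ := by group
          _ = _ := by rw [← this]; group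
      · induction a using QuotientGroup.induction_on with | H a =>
        induction b using QuotientGroup.induction_on with | H b =>
        have e1 : (a : G) * z * (a : G)⁻¹ = b * z * (b : G)⁻¹ := congrArg Subtype.val hab
        rw [QuotientGroup.eq, mem_subgroupOf, mE]
        simp only [coe_mul, coe_inv]
        calc _ = (a : G)⁻¹ * (b * z * (b : G)⁻¹) * b := by group
          _ = _ := by rw [← e1]; group
      · obtain ⟨g, hg⟩ := isConj_iff.mp (hJ y (sq y y.2.1) y.2.2)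
        exact ⟨((⟨g, ti g z zE h.z1 (hg ▸ y.2.1)⟩ : N) : N ⧸ E.subgroupOf N), Subtype.ext hg⟩
    rw [← card_mul_index (E.subgroupOf N), index_eq_card, a1,
      Nat.card_congr (subgroupOfEquivOfLe le_normalizer).toEquiv, hC]
  have cO : Nat.card (G ⧸ N) = 2 ^ e + 1 := by
    have := card_mul_index N
    rw [cN, hG, index_eq_card] at this
    refine Nat.eq_of_mul_eq_mul_left (show 0 < 2 ^ e * (2 ^ e - 1) from Nat.mul_pos (by omega)
      (by omega)) ?_
    rw [this]; ring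
  have fa : ∀ g : G, g • ((1 : G) : G ⧸ N) = ((1 : G) : G ⧸ N) ↔ g ∈ N := fun g => by
    rw [smul_coe_eq_iff]; simp
  have free : ∀ u ∈ E, ∀ c : G ⧸ N, c ≠ ((1 : G) : G ⧸ N) → u • c = c → u = 1 := fun u hu c h1 h2 => by
    induction c using QuotientGroup.induction_on with | H g =>
    by_contra h3
    have h4 := invN _ (smul_coe_eq_iff.mp h2) (by
      calc _ = g⁻¹ * (u * u) * g := by group
        _ = 1 := by rw [sq u hu]; group)
    exact coe_ne_one_iff.mp h1 (by simpa using ti g⁻¹ u hu h3 (by simpa using h4))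
  have hF : Perm.ZKer ((1 : G) : G ⧸ N) E := ⟨fun u hu => (fa u).mpr (leH hu),
    fun g hg u hu => cj ((fa g).mp hg) hu, fun c c' h1 h2 => by
      have a2 : Nat.card {y : G ⧸ N // y ≠ ((1 : G) : G ⧸ N)} = 2 ^ e := by
        have := Finite.card_option (α := {y : G ⧸ N // y ≠ ((1 : G) : G ⧸ N)})
        rw [Nat.card_congr (Equiv.optionSubtypeNe _), cO] at this
        omega
      have := (Nat.bijective_iff_injective_and_card
        (fun u : E => (⟨(u : G) • c, Perm.smul_ne_of_fix ((fa u).mpr (leH u.2)) h1⟩ :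
          {y : G ⧸ N // y ≠ ((1 : G) : G ⧸ N)}))).mpr ⟨fun u w huw => Subtype.ext
            (inv_mul_eq_one.mp (free _ (mul_mem (inv_mem u.2) w.2) c h1 (by
              rw [mul_smul, inv_smul_eq_iff]; exact (congrArg Subtype.val huw).symm))),
          by rw [a2, hC]⟩
      obtain ⟨u, hu⟩ := this.2 ⟨c', h2⟩
      exact ⟨u, u.2, congrArg Subtype.val hu⟩, free⟩
  have : Nontrivial (G ⧸ N) := Finite.one_lt_card_iff_nontrivial.mp (by omega)
  obtain ⟨b, hb⟩ := exists_ne ((1 : G) : G ⧸ N)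
  have hZ : Perm.Z3 G (G ⧸ N) := z3_of_zker hF hb (fun e => h.z1 ((mem_bot).mp (e ▸ zE)))
    fun k _ kb y hy h1 hky => free k (by
      rw [← cen y hy h1]; exact mem_centralizer_singleton_iff.mpr hky) b hb kb
  have hd : Nat.card ↥(stabilizer G ((1 : G) : G ⧸ N) ⊓ stabilizer G b) + 2 = Nat.card (G ⧸ N) := by
    have := hZ.card_eq hb.symm
    rw [hG, cO, Nat.add_sub_cancel] at this
    have := Nat.eq_of_mul_eq_mul_left (show 0 < (2 ^ e + 1) * 2 ^ e by positivity)
      (show (2 ^ e + 1) * 2 ^ e * (2 ^ e - 1) = _ by rw [← this]; ring)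
    omega
  have h2e : 2 ∣ 2 ^ e := dvd_pow_self 2 (by omega)
  obtain ⟨F, _, _, h1, ⟨φ⟩⟩ := hZ.sharp_odd hb.symm (by rw [cO, Nat.odd_iff]; omega) hd
  have cF : Nat.card F = 2 ^ e := by omega
  have f2 : (2 : F) = 0 := Classical.PSL2Basic.even_card_iff.mp (by rw [cF, even_iff_two_dvd]; exact h2e)
  have ψ : G ≃* PSL(2, F) := φ.trans (Classical.PSL2Basic.pslEquivPGL f2).symm
  refine ⟨F, inferInstance, inferInstance, by rw [← Nat.card_eq_fintype_card, cF], ?_, ⟨ψ⟩⟩
  exact cyc_of_odd_comm f2 (((Classical.PSL2Basic.slEquivPSL f2).symm.toMonoidHom.comp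
    ψ.toMonoidHom).comp M.subtype) (((Classical.PSL2Basic.slEquivPSL f2).symm.injective.comp
      ψ.injective).comp M.subtype_injective) h.odd fun u w => Subtype.ext (h.comm u.2 w.2)

end BL

end Cfsg.Agent.Isaacs
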