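import Mathlib
import Cfsg.Agent.Isaacs.GlRel
import Cfsg.Agent.Isaacs.Cop
import Cfsg.Agent.Isaacs.Real2
import Cfsg.Agent.Perm.Socle
import Cfsg.Agent.PGrp.Frattini
import Cfsg.Agent.Core.PConstrained

/-! Degrees prime to `p` and degrees prime to `q`. -/

namespace Cfsg.Agent.Isaacs
open Cfsg.Agent.Char Cfsg.Agent.Core Subgroup

universe u

section
variable {G : Type*} [Group G] [Finite G] {p q : ℕ} {A B E H K L N P Q : Subgroup G}
  {θ χ : G → ℂ}

theorem eq_of_card_irr (hl : H ≤ K) (hf : ∀ x ∈ H, ∀ k ∈ K, k * x * k⁻¹ ∈ H → ∃ h ∈ H, h * x * h⁻¹ = k * x * k⁻¹)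
    (e : Nat.card (IrrCharacter K) = Nat.card (IrrCharacter H)) : H = K := by
  rw [card_irr_eq_card_conjClasses, card_irr_eq_card_conjClasses] at e
  have hi : Function.Injective (ConjClasses.map (inclusion hl)) := by
    rintro ⟨x⟩ ⟨y⟩ h
    obtain ⟨k, hk⟩ := isConj_iff.mp (ConjClasses.mk_eq_mk_iff_isConj.mp h)
    have hk' : (k : G) * x * (k : G)⁻¹ = y := congrArg Subtype.val hk
    obtain ⟨h, hh, e⟩ := hf x x.2 k k.2 (hk' ▸ y.2)
    exact ConjClasses.mk_eq_mk_iff_isConj.mpr (isConj_iff.mpr ⟨⟨h, hh⟩, Subtype.ext (e.trans hk')⟩)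
  have hs := (hi.bijective_of_nat_card_le e.le).2
  by_contra hne
  obtain ⟨t, ht⟩ := Perm.exists_not_conj_mem (H.subgroupOf K) fun h => hne (le_antisymm hl (subgroupOf_eq_top.mp h))
  obtain ⟨⟨x⟩, hx⟩ := hs (ConjClasses.mk t)
  obtain ⟨k, hk⟩ := isConj_iff.mp (ConjClasses.mk_eq_mk_iff_isConj.mp hx)
  refine ht k ?_
  rw [← hk]
  simpa [mul_assoc, mem_subgroupOf] using x.2

/-- If every `A`-invariant character is `B`-invariant then `C(A) ≤ C(B)`. -/
theorem cent_le_of_inv (hs : Group.IsSolvable B) (hl : A ≤ B) (hn : B ≤ normalizer (E : Set G))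
    (hc : (Nat.card B).Coprime (Nat.card E)) (h : ∀ θ, Irr E θ → Inv A E θ → Inv B E θ) :
    E ⊓ centralizer (A : Set G) ≤ centralizer (B : Set G) := by
  have := eq_of_card_irr (H := E ⊓ centralizer (B : Set G)) (K := E ⊓ centralizer (A : Set G))
    (inf_le_inf_left E (centralizer_le hl)) (fun x hx k hk hx' => ?_) ?_
  · exact this.ge.trans inf_le_right
  · let : MulAction G G := MulAction.compHom _ MulAut.conj
    exact exists_centralizer_smul_eq (X := G) B E hn hc (Or.inl hs) x k hk.1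
      (fun a ha => mul_inv_eq_of_eq_mul (hx.2 a ha)) fun a ha => mul_inv_eq_of_eq_mul (hx'.2 a ha)
  · rw [← card_inv_irr hs E hn hc, ← card_inv_irr (solvable_of_le hl hs) E (hl.trans hn)
      (coprime_of_le_left hc hl)]
    exact Nat.card_congr (Equiv.subtypeEquivRight fun χ =>
      ⟨h _ (irr_ez.mpr χ.2), fun i => i.mono hl le_rfl⟩)

omit [Finite G] in
theorem solvable_sup_norm (hQ : Group.IsSolvable Q) (hA : Group.IsSolvable A) (hn : A ≤ normalizer (Q : Set G)) :
    Group.IsSolvable (Q ⊔ A : Subgroup G) := by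
  have := normal_sub (sup_le le_normalizer hn)
  refine (Group.isSolvable_iff_subgroup_quotient (Q.subgroupOf (Q ⊔ A))).mpr ⟨solvable_subgroupOf hQ, ?_⟩
  refine Group.isSolvable_of_surjective (f := (QuotientGroup.mk' _).comp (inclusion le_sup_right)) fun y => ?_
  obtain ⟨⟨x, hx⟩, rfl⟩ := QuotientGroup.mk_surjective y
  obtain ⟨a, ha, b, hb, rfl⟩ := (mem_sup_of_le_normalizer hn).mp hx
  refine ⟨⟨b, hb⟩, QuotientGroup.eq.mpr ?_⟩
  simpa [mem_subgroupOf, mul_assoc] using inv_conj_mem_of_le_normalizer hn hb ha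

theorem Irr.not_dvd_stab (h : Irr K χ) (r : PD q χ) (hn : K ≤ normalizer (L : Set G)) (hl : L ≤ K)
    (hθ : Irr L θ) (e : inn L χ θ ≠ 0) : ¬ q ∣ (stab L θ).relIndex K := by
  obtain ⟨d, hd, e'⟩ := r
  obtain ⟨m, hm⟩ := (h.chr.res hl).inn_nat hθ.chr
  obtain ⟨n, -, hn'⟩ := hθ.deg
  have := h.deg_eq hn hl hθ e
  rw [e', hm, hn'] at this
  norm_cast at this
  exact fun i => hd (this ▸ (i.mul_right n).mul_left m)

theorem Chr.exists_pd_over (h : Chr H θ) (r : PD p θ) (hp : p.Prime) (hl : H ≤ K) (hi : ¬ p ∣ H.relIndex K)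
    (hL : L ≤ H) (hθ : Irr L θ) : ∃ χ, Irr K χ ∧ PD p χ ∧ inn L χ θ ≠ 0 := by
  obtain ⟨d, a, b⟩ := r.mul hp hi (ind_one (K := K))
  obtain ⟨χ, hχ, e, r'⟩ := Chr.exists_pd d _ (h.indc hl) b a
  rw [inn_ind_left hl hχ.inv] at e
  exact ⟨χ, hχ, r', (hχ.chr.res hl).over_trans hL (h.irr_of_res hL hθ) hθ.chr (inn_ne_comm e) hθ.inn_self_ne⟩

end

/-- Uniqueness of the invariant Sylow `q`-subgroup. -/
theorem sylow_unique {p q : ℕ} [hp : Fact p.Prime] [hq : Fact q.Prime] (G : Type u) [Group G] [Finite G] :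
    IsPSolvable q G → ∀ A L : Subgroup G, L.Normal → IsPGroup p A → ¬ p ∣ Nat.card L →
      (∀ θ, Irr L θ → Inv A L θ → PD q θ) → ∀ Q Q' : Subgroup G, IsSylowOf q Q L → IsSylowOf q Q' L →
        A ≤ normalizer (Q : Set G) → A ≤ normalizer (Q' : Set G) → Q = Q' := by
  refine induction_on_card (P := fun G _ _ => IsPSolvable q G → ∀ A L : Subgroup G, L.Normal → IsPGroup p A →
    ¬ p ∣ Nat.card L → (∀ θ, Irr L θ → Inv A L θ → PD q θ) → ∀ Q Q' : Subgroup G, IsSylowOf q Q L →
      IsSylowOf q Q' L → A ≤ normalizer (Q : Set G) → A ≤ normalizer (Q' : Set G) → Q = Q') (fun G _ _ ih => ?_) G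
  intro hs A L hL hA hd h Q Q' hQ hQ' hn hn'
  by_cases h0 : L = ⊥
  · subst h0
    rw [le_bot_iff.mp hQ.le, le_bot_iff.mp hQ'.le]
  obtain ⟨E, hE, h1, hl, hc⟩ := exists_normal_le_of_isPSolvable L (Core.IsPSolvable.subgroup hs L) h0
  have sA := solvable_of_isPGroup hA
  have key : ∀ R R' : Subgroup G, IsSylowOf q R L → IsSylowOf q R' L → A ≤ normalizer (R : Set G) →
      A ≤ normalizer (R' : Set G) → R ≤ E ⊔ R' := fun R R' a b c d => by
    have := ih (G ⧸ E) (card_quotient_lt E h1) (Core.IsPSolvable.quotient hs E) (A.map (QuotientGroup.mk' E))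
      (L.map (QuotientGroup.mk' E)) inferInstance (hA.map _) (fun i => hd (i.trans (Core.card_map_dvd _ _)))
      (fun θ x y => h _ (x.of_map _) ((inv_map_iff _).mp y)) _ _ (a.map _) (b.map _)
      (map_le_normalizer_map c _) (map_le_normalizer_map d _)
    rw [sup_comm, ← QuotientGroup.ker_mk' E, ← Subgroup.map_le_map_iff]
    exact this.le
  rcases hc with hc | hc
  · exact hQ.eq_of_le hQ'.isPGroup hQ'.le ((key Q Q' hQ hQ' hn hn').trans
      (sup_le (hQ'.normal_le hc hl norm_top) le_rfl))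
  have cA := cop_of_not_dvd hp.out hA hd
  have hC : E ⊓ centralizer (A : Set G) ≤ centralizer ((Q ⊔ A : Subgroup G) : Set G) := by
    refine cent_le_of_inv ?_ le_sup_right norm_top ?_ fun θ a b => ?_
    · exact solvable_sup_norm (solvable_of_isPGroup hQ.isPGroup) sA hn
    · exact Nat.Coprime.coprime_dvd_left (card_sup_dvd hn)
        (Nat.Coprime.mul_left (coprime_of_isPGroup hQ.isPGroup hc).symm (coprime_of_le_right cA hl))
    · obtain ⟨χ, x, y, z⟩ := a.exists_inv_over sA L norm_top cA norm_top norm_top hl b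
      obtain ⟨R, r, s⟩ := exists_invariant_isSylowOf A (stab E θ ⊓ L)
        (le_normalizer_inf (b.norm_stab norm_top) norm_top) (coprime_of_le_right cA inf_le_right) (Or.inl sA) q
      have r' : IsSylowOf q R L := r.trans inf_le_right (by
        rw [inf_relIndex_right]; exact x.not_dvd_stab (h χ x z) norm_top hl a y)
      exact Inv.sup ((le_stab norm_top).mp ((key Q R hQ r' hn s).trans
        (sup_le a.inv.le_stab (r.le.trans inf_le_left)))) b norm_top norm_top
  have hEQ : E ⊔ Q ≤ L := sup_le hl hQ.le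
  obtain ⟨c, hc', e⟩ := IsSylowOf.exists_centralizer_conj_eq A (E ⊔ Q) (le_normalizer_sup norm_top hn)
    (coprime_of_le_right cA hEQ) (Or.inl sA) (hQ.of_le le_sup_right hEQ)
    (hQ'.of_le (key Q' Q hQ' hQ hn' hn) hEQ) hn hn'
  rw [sup_inf_centralizer A E Q norm_top hn norm_top (coprime_of_le_right cA (inf_le_left.trans hl))
    (Or.inl sA)] at hc'
  rw [← e, conj_smul_eq_iff_mem_normalizer.mpr]
  exact sup_le ((hC.trans (centralizer_le (show Q ≤ Q ⊔ A from le_sup_left))).trans (centralizer_le_normalizer _))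
    (inf_le_left.trans le_normalizer) hc'

theorem not_dvd_index_of_pd {p q : ℕ} [hp : Fact p.Prime] [hq : Fact q.Prime] (hpq : p ≠ q) (G : Type u)
    [Group G] [Finite G] : IsPSolvable p G → IsPSolvable q G →
      (∀ χ, Irr ⊤ χ → Ker (pPrimeCore p G) χ → PD p χ → PD q χ) → ¬ q ∣ (pPrimeCore p G).index := by
  refine induction_on_card (P := fun G _ _ => IsPSolvable p G → IsPSolvable q G →
    (∀ χ, Irr ⊤ χ → Ker (pPrimeCore p G) χ → PD p χ → PD q χ) → ¬ q ∣ (pPrimeCore p G).index)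
    (fun G _ _ ih => ?_) G
  intro hs hs' h
  have lift : ∀ (N : Subgroup G) [N.Normal] (χ : G ⧸ N → ℂ), Irr ⊤ χ → Ker (pPrimeCore p (G ⧸ N)) χ ∨
      pPrimeCore p G = ⊥ → PD p χ → PD q χ := fun N _ χ a b c => by
    refine h (fun x => χ (QuotientGroup.mk' N x)) (a.comap _ (by simp)) ?_ c
    rcases b with b | b
    · exact (ker_map_iff _).mp (b.mono (map_pPrimeCore_le p (QuotientGroup.mk'_surjective N)))
    · exact b ▸ ker_bot
  have key : ∀ (N : Subgroup G) [N.Normal], N ≠ ⊥ →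
      ¬ q ∣ ((pPrimeCore p (G ⧸ N)).comap (QuotientGroup.mk' N)).index := fun N _ h1 => by
    rw [index_comap_of_surjective _ (QuotientGroup.mk'_surjective N)]
    exact ih (G ⧸ N) (card_quotient_lt N h1) (Core.IsPSolvable.quotient hs N) (Core.IsPSolvable.quotient hs' N)
      fun χ a b => lift N χ a (Or.inl b)
  by_cases h0 : pPrimeCore p G = ⊥
  swap
  · have := key _ h0
    rwa [pPrimeCore_quotient_pPrimeCore, MonoidHom.comap_bot, QuotientGroup.ker_mk'] at this
  have hC := Core.IsPSolvable.centralizer_pCore_le hs h0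
  by_cases h1 : pCore p G = ⊥
  · have := Core.IsPSolvable.subsingleton hs h1 h0
    rw [Subsingleton.elim (pPrimeCore p G) ⊤, index_top]
    exact hq.out.not_dvd_one
  obtain ⟨N, hN⟩ : ∃ N, N = pCore p G := ⟨_, rfl⟩
  rw [← hN] at hC h1
  have : N.Normal := hN ▸ inferInstance
  have pN : IsPGroup p N := hN ▸ pCore_isPGroup p
  obtain ⟨f, hf⟩ : ∃ f, f = QuotientGroup.mk' N := ⟨_, rfl⟩
  have sf : Function.Surjective f := hf ▸ QuotientGroup.mk'_surjective N
  have kf : f.ker = N := hf ▸ QuotientGroup.ker_mk' N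
  obtain ⟨L, hL⟩ : ∃ L, L = pPrimeCore p (G ⧸ N) := ⟨_, rfl⟩
  have : L.Normal := hL ▸ inferInstance
  have dL : ¬ p ∣ Nat.card L := hL ▸ not_dvd_card_pPrimeCore hp.out
  have k := key N h1
  rw [← hL, ← hf] at k
  obtain ⟨Q, hQ⟩ := exists_isSylowOf q (L.comap f)
  have hQ' : IsSylowOf q (Q.map f) L := map_comap_eq_self_of_surjective sf L ▸ hQ.map f
  obtain ⟨P, hP⟩ := exists_isSylowOf p (normalizer (Q : Set G))
  have hA : IsSylowOf p (P.map f) ⊤ := (hP.map f).trans le_top fun i => dL (i.trans (by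
    have := congrArg (map f) hQ.frattini_top
    rw [Subgroup.map_sup, map_comap_eq_self_of_surjective sf, map_top_of_surjective f sf] at this
    rw [← this, relIndex_sup_eq_relIndex norm_top]
    exact relIndex_dvd_card' _ _))
  have cQ : (Nat.card Q).Coprime (Nat.card N) := coprime_of_isPGroup pN
    (coprime_of_isPGroup hQ.isPGroup ((Nat.coprime_primes hp.out hq.out).mpr hpq)).symm
  suffices e : N ≤ P by
    have : Q = ⊥ := by
      refine (disjoint_of_coprime cQ).eq_bot_of_le (le_trans ?_ hC)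
      rw [le_centralizer_iff_commutator_eq_bot, ← le_bot_iff]
      refine le_trans (le_inf ?_ (commutator_le_left _ _)) (disjoint_of_coprime cQ).le_bot
      rw [commutator_comm]
      exact commutator_le_of_le_normalizer (e.trans hP.le)
    have := (this ▸ hQ).trans le_top (by rwa [relIndex_top_right])
    rw [h0]
    exact relIndex_top_right (⊥ : Subgroup G) ▸ this.not_dvd
  by_contra hne
  have pS : IsPGroup p (N ⊔ P : Subgroup G) := pN.to_sup_of_normal_left hP.isPGroup
  have hc : ⁅N ⊔ P, N ⊔ P⁆ ≤ N ⊔ P := commutator_le_self _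
  obtain ⟨z, hz, hz'⟩ : ∃ z ∈ N, z ∉ ⁅N ⊔ P, N ⊔ P⁆ ⊔ P := by
    by_contra hh
    push Not at hh
    refine hne (le_sup_left.trans (subgroupOf_eq_top.mp (frattini_nongenerating (K := P.subgroupOf (N ⊔ P)) ?_)))
    rw [eq_top_iff, ← map_le_map_iff_of_injective (subtype_injective _), Subgroup.map_sup, subgroupOf_map_subtype,
      inf_eq_left.mpr le_sup_right, ← MonoidHom.range_eq_map, range_subtype]
    exact sup_le (le_trans hh (sup_le ((PGrp.commutator_le_map_frattini pS).trans le_sup_right) le_sup_left))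
      le_sup_left
  obtain ⟨μ, hμ, kμ, e⟩ := exists_irr_not_ker (norm_of_comm_le (sup_le hc le_sup_right) le_sup_left)
    (sup_le hc le_sup_right) (mem_sup_left hz) hz'
  have m1 := hμ.one_of_ker (kμ.mono le_sup_left)
  have hl : Irr N μ := (hμ.chr.res le_sup_left).irr_of_one m1
  have iS : ¬ p ∣ (N ⊔ P).relIndex ⊤ := by
    have := hA.not_dvd
    rw [relIndex_top_right] at this ⊢
    rwa [← index_comap_of_surjective _ sf, comap_map_eq, kf, sup_comm] at this
  obtain ⟨χ, x, y, w⟩ := hμ.chr.exists_pd_over (pd_one hp.out m1) hp.out le_top iS le_sup_left hl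
  have hT := x.not_dvd_stab (h χ x (h0 ▸ ker_bot) y) norm_top le_top hl w
  have hNT : N ≤ stab N μ := hl.inv.le_stab
  have hPT : P ≤ stab N μ := (le_stab norm_top).mpr (hμ.inv.mono le_sup_right le_sup_left)
  have cA := cop_of_not_dvd hp.out hA.isPGroup dL
  obtain ⟨R, r, s⟩ := exists_invariant_isSylowOf (P.map f) ((stab N μ).map f ⊓ L)
    (le_normalizer_inf ((map_mono hPT).trans le_normalizer) norm_top) (coprime_of_le_right cA inf_le_right)
    (Or.inl (solvable_of_isPGroup hA.isPGroup)) q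
  have r' : IsSylowOf q R L := r.trans inf_le_right fun i => hT (by
    rw [inf_relIndex_right] at i
    rw [relIndex_top_right, ← index_map_eq _ sf (kf.le.trans hNT)]
    rw [← relIndex_sup_eq_relIndex norm_top] at i
    exact i.trans (relIndex_dvd_index_of_le le_sup_right))
  have := sylow_unique (p := p) (G ⧸ N) (Core.IsPSolvable.quotient hs' N) (P.map f) L inferInstance hA.isPGroup dL
    (fun θ a b => ?_) _ _ hQ' r' (map_le_normalizer_map hP.le f) s
  · have hQT : Q ≤ stab N μ := by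
      have := Subgroup.map_le_map_iff.mp (this.le.trans (r.le.trans inf_le_left))
      rwa [kf, sup_eq_left.mpr hNT] at this
    refine e (hl.chr.ker_kerS z (le_trans (commutator_sup_centralizer Q N norm_top cQ
      (Or.inr (solvable_of_isPGroup pN))).ge (sup_le (commutator_le.mpr fun a ha b hb => ?_) ?_) hz))
    · have j := conj_mem (A := Q) norm_top hb (N.inv_mem ha)
      refine hl.chr.mem_kerS.mpr ⟨by simpa [commutatorElement_def, mul_assoc] using N.mul_mem ha j, ?_⟩
      rw [commutatorElement_def, show a * b * a⁻¹ * b⁻¹ = a * (b * a⁻¹ * b⁻¹) by group, hl.chr.map_mul m1 ha j,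
        inv_stab b (hQT hb) _ (N.inv_mem ha), ← hl.chr.map_mul m1 ha (N.inv_mem ha), mul_inv_cancel]
    · refine hl.chr.le_kerS inf_le_left (kμ.mono (le_trans ?_ le_sup_right))
      exact (inf_le_inf_left N (centralizer_le_normalizer _)).trans (hP.normal_le pN.to_inf_left inf_le_right
        (le_normalizer_inf norm_top le_normalizer))
  · obtain ⟨ψ, c, d⟩ := a.exists_ext_coprime (K := L ⊔ P.map f) norm_top le_sup_left
      (a.inv.sup b norm_top norm_top) (by rw [relIndex_sup_cop norm_top cA.symm]; exact cA.symm)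
    obtain ⟨n, -, g⟩ := c.deg
    obtain ⟨χ, x, y, w⟩ := c.chr.exists_pd_over ⟨n, fun i => dL (i.trans (a.deg_dvd (d.one ▸ g))), g⟩ hp.out le_top
      (fun i => hA.not_dvd (i.trans (relIndex_dvd_of_le_left _ le_sup_right))) le_sup_left (a.congr d.symm)
    exact x.pd_under (lift N χ x (Or.inr h0) y) norm_top le_top a (by rwa [← d.inn_right])

end Cfsg.Agent.Isaacs
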