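import Mathlib
import Cfsg.Agent.Isaacs.NTr
import Cfsg.Agent.Block.Third
import Cfsg.Agent.Block.Fong2
import Cfsg.Agent.Block.Kernel

/-! The principal block of a `p`-constrained group. -/

namespace Cfsg.Agent.Isaacs
open Cfsg.Agent.Char Cfsg.Agent.Core Subgroup

variable {G : Type*} [Group G] [Finite G] {p : ℕ} [Fact p.Prime] {M : Ideal AlgInt}

theorem mem_principal_iff (hM : IsPModular p M) (hG : IsPConstrained p G) {χ : IrrCharacter G} :
    χ ∈ principalBlock M G ↔ Ker (pPrimeCore p G) χ := by
  constructor
  · exact fun h => (ker_iff (irr_isChar χ)).mp (Block.pPrimeCore_le_charKer hM h)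
  · intro h
    classical
    have := Fintype.ofFinite G
    rw [Block.principalBlock_eq_overSet hM hG, Block.mem_overSet_singleton]
    have := ((irr_top.mpr χ.2).ker_iff_inn norm_top le_top).mp h
    rw [inn_eq] at this
    exact this

omit [Fact p.Prime] in
theorem exists_principal_over (hM : IsPModular p M) {P : Subgroup G} (hP : IsPGroup p P)
    {ξ : IrrCharacter (normalizer (P : Set G))} (h : ξ ∈ principalBlock M _) :
    ∃ χ ∈ principalBlock M G, inn (normalizer (P : Set G)) χ (ez _ ξ.1) ≠ 0 := by
  have := Fintype.ofFinite G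
  have := Fintype.ofFinite (normalizer (P : Set G))
  obtain ⟨χ, hχ, e⟩ := Block.exists_over_of_induced hM ((Block.third_main hM
    (Block.exists_induced hM hP le_normalizer (centralizer_le_normalizer _) le_rfl
      Block.isPBlock_principalBlock)).2 rfl) h
  refine ⟨χ, hχ, ?_⟩
  rwa [inn_eq, ez_res]

end Cfsg.Agent.Isaacs
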