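import Mathlib
import Cfsg.Agent.Isaacs.NW
import Cfsg.Agent.Isaacs.PrB
import Cfsg.Agent.Isaacs.NonLin
import Cfsg.Agent.Block.Omega

/-! Principal blocks for two primes. -/

namespace Cfsg.Agent.Isaacs
open Cfsg.Agent.Char Cfsg.Agent.Core Subgroup

variable {G : Type*} [Group G] [Finite G] {p q : ℕ} {M : Ideal AlgInt}

omit [Finite G] in
theorem pd_iff (χ : IrrCharacter G) : PD p χ.1 ↔ ¬ p ∣ charDegree χ.1 :=
  ⟨fun ⟨_, a, b⟩ => Block.charDegree_of_eq b ▸ a, fun h => ⟨_, h, (Block.irr_degree_cast χ).symm⟩⟩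

theorem not_dvd_index_of_principal [Fact p.Prime] [Fact q.Prime] (hpq : p ≠ q) (hM : IsPModular p M)
    (hs : IsPSolvable p G) (hs' : IsPSolvable q G)
    (h : ∀ χ : IrrCharacter G, χ ∈ principalBlock M G → ¬ p ∣ charDegree χ.1 → ¬ q ∣ charDegree χ.1) :
    ¬ q ∣ (pPrimeCore p G).index :=
  not_dvd_index_of_pd hpq G hs hs' fun χ a b c => (pd_iff ⟨χ, irr_top.mp a⟩).mpr
    (h _ ((mem_principal_iff hM (Core.IsPSolvable.isPConstrained hs)).mpr b) ((pd_iff ⟨χ, irr_top.mp a⟩).mp c))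

theorem not_dvd_degree_of_principal (hM : IsPModular p M) (h : ¬ q ∣ (pPrimeCore p G).index)
    {χ : IrrCharacter G} (hχ : χ ∈ principalBlock M G) : ¬ q ∣ charDegree χ.1 := fun i =>
  h (i.trans (relIndex_top_right (pPrimeCore p G) ▸ (irr_top.mpr χ.2).deg_dvd_of_ker
    ((ker_iff (irr_isChar χ)).mp (Block.pPrimeCore_le_charKer hM hχ)) (Block.irr_degree_cast χ).symm))

theorem sylow_le_of_not_dvd [Fact p.Prime] {N : Subgroup G} [N.Normal] (h : ¬ p ∣ N.index) (P : Sylow p G) :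
    (P : Subgroup G) ≤ N := by
  obtain ⟨R, r⟩ := exists_isSylowOf p N
  obtain ⟨k, -, e⟩ := (r.trans le_top (by rwa [relIndex_top_right])).exists_conj_eq (isSylowOf_top P)
  rw [← e, conj_smul_le_iff]
  exact fun x hx => ‹N.Normal›.conj_mem x (r.le hx) k

/-- A character of degree prime to `p`, trivial on a normal `p'`-subgroup and not on a Sylow subgroup. -/
theorem exists_pd_not_ker [hp : Fact p.Prime] (h : p ∣ Nat.card G) {N : Subgroup G} [N.Normal]
    (hN : ¬ p ∣ Nat.card N) (P : Sylow p G) : ∃ χ, Irr ⊤ χ ∧ Ker N χ ∧ PD p χ ∧ ¬ Ker P χ := by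
  have hc : ⁅(P : Subgroup G), (P : Subgroup G)⁆ ≤ P := commutator_le_self _
  obtain ⟨z, hz, hz'⟩ : ∃ z ∈ (P : Subgroup G), z ∉ N ⊔ ⁅(P : Subgroup G), (P : Subgroup G)⁆ := by
    by_contra hh
    push Not at hh
    refine (commutator_lt_of_solvable (solvable_of_isPGroup P.isPGroup') (P.ne_bot_of_dvd_card h)).not_ge ?_
    have := sup_inf_of_le_right (N := N) norm_top hc
    rw [inf_comm N, Transfer.inf_eq_bot_of_not_dvd P.isPGroup' hN, bot_sup_eq] at this
    exact this ▸ le_inf hh le_rfl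
  have a := commutator_sup_le_sup_commutator (K := N) (U := P) norm_top
  obtain ⟨μ, hμ, k, e⟩ := exists_irr_not_ker (norm_of_comm_le (sup_le_sup_left hc N) a) (sup_le_sup_left hc N)
    (mem_sup_right hz) hz'
  have m1 := hμ.one_of_ker (k.mono a)
  obtain ⟨χ, x, y, w⟩ := hμ.chr.exists_pd_over (pd_one hp.out m1) hp.out le_top (fun i => P.not_dvd_index
    (i.trans (relIndex_top_right (N ⊔ P) ▸ index_dvd_of_le le_sup_right))) le_rfl hμ
  have kN : Ker N χ := x.ker_of_inn norm_top le_top ((x.chr.res le_top).over_trans le_sup_left hμ chr_one w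
    (by rw [(k.mono le_sup_left).inn_one]; exact hμ.one_ne))
  exact ⟨χ, x, kN, y, fun i => e ((kN.sup i x.chr le_top le_top).constit (x.chr.res le_top) le_rfl hμ w z
    (mem_sup_right hz))⟩

end Cfsg.Agent.Isaacs
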