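import Mathlib
import Cfsg.Agent.Isaacs.NatSL
import Cfsg.Agent.FGS.A8
import Cfsg.Agent.S5944

/-! Overgroups of `SL₂(q)` acting on the natural module: the case `q = 4`. -/

set_option autoImplicit false

open Subgroup Matrix Cfsg.Agent.Classical.SL2Basic Cfsg.Agent.Core
open scoped MatrixGroups Pointwise commutatorElement IsMulCommutative

namespace Cfsg.Agent.Isaacs

namespace NS

variable {G : Type*} [Group G] {F : Type*} [Field F] [DistribMulAction G (Fin 2 → F)]
  {L : Subgroup G} {σ : L →* SL(2, F)} (h : NS L σ)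
include h

theorem exists_A8 [Finite F] [CharP F 2] (h4 : Nat.card F = 4) :
    ∃ f : G →* alternatingGroup (Fin 8), Function.Injective f := by
  have : Fact (Nat.Prime 2) := ⟨Nat.prime_two⟩
  letI := ZMod.algebra F 2
  have hr : Module.finrank (ZMod 2) (Fin 2 → F) = 4 := by
    have := Module.natCard_eq_pow_finrank (K := ZMod 2) (V := Fin 2 → F)
    rw [Nat.card_fun, h4, Nat.card_zmod, Nat.card_fin] at this
    exact (Nat.pow_right_injective (le_refl 2) (show 2 ^ 4 = _ from this)).symm
  let b := Module.finBasisOfFinrankEq (ZMod 2) (Fin 2 → F) hr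
  let θ : G →* ((Fin 2 → F) →ₗ[ZMod 2] (Fin 2 → F)) :=
    { toFun := fun g => (DistribSMul.toAddMonoidHom (Fin 2 → F) g).toZModLinearMap 2
      map_one' := LinearMap.ext fun w => one_smul G w
      map_mul' := fun a b => LinearMap.ext fun w => mul_smul a b w }
  obtain ⟨e⟩ := FGS.gl4_equiv (F := ZMod 2) (ZMod.card 2)
  refine ⟨e.toMonoidHom.comp ((LinearMap.toMatrixAlgEquiv b).toMulEquiv.toMonoidHom.comp θ).toHomUnits,
    e.injective.comp ((injective_iff_map_eq_one _).mpr fun g hg => h.faith g fun w => ?_)⟩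
  have h1 : LinearMap.toMatrixAlgEquiv b (θ g) = 1 := congrArg Units.val hg
  rw [map_eq_one_iff _ (LinearMap.toMatrixAlgEquiv b).injective] at h1
  exact LinearMap.congr_fun h1 w

variable [Finite G] [Finite F] [CharP F 2] {S : Subgroup G}
  (hS : IsSylowOf 2 S ⊤) (hN : S ≤ normalizer (L : Set G)) (hU : UU G F ≤ S)
include hS hN hU

theorem case4 (h4 : Nat.card F = 4) {s : G} (hs : s ∈ S) (hsU : s ∉ UU G F) :
    L.Normal ∨ Nonempty (G ≃* alternatingGroup (Fin 7)) := by
  have : Fact (Nat.Prime 2) := ⟨Nat.prime_two⟩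
  have h2 : (2 : F) = 0 := CharTwo.two_eq_zero
  obtain ⟨e5⟩ := Classical.PSL2Basic.psl_equiv_A5 (F := F) (Or.inl h4)
  have eL : L ≃* alternatingGroup (Fin 5) :=
    ((MulEquiv.ofBijective σ ⟨h.inj, h.surj⟩).trans (Classical.PSL2Basic.slEquivPSL h2)).trans e5
  have cL : Nat.card L = 60 := by
    rw [Nat.card_congr eL.toEquiv, nat_card_alternatingGroup]; simp [Nat.factorial]
  have sL : IsSimpleGroup L := eL.isSimpleGroup
  have cU : Nat.card (UU G F) = 4 := by rw [h.cardU, h4]
  have hi : (UU G F).relIndex S = 2 := by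
    rw [relIndex, index_eq_two_iff]
    obtain ⟨τ, hτ, hτ1, -⟩ := h.semi_v hS hN hU hs
    have cA : Nat.card (F ≃+* F) = 2 := Classical.AutPSL2.card_ringAut (p := 2) (by rw [h4]; rfl)
    have hτ2 : τ ≠ 1 := fun e => hsU (hτ1 e)
    refine ⟨⟨s, hs⟩, fun b => ?_⟩
    by_cases hb : (b : G) ∈ UU G F
    · exact Or.inr ⟨hb, fun h3 => hsU (by
        simpa using (UU G F).mul_mem ((UU G F).inv_mem hb) (mem_subgroupOf.mp h3))⟩
    · refine Or.inl ⟨?_, hb⟩
      obtain ⟨τ', hτ', hτ1', -⟩ := h.semi_v hS hN hU b.2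
      obtain ⟨τ'', hτ'', hτ1'', -⟩ := h.semi_v hS hN hU (S.mul_mem b.2 hs)
      refine hτ1'' (hτ''.uniq ?_)
      obtain ⟨y, -, hy⟩ := (Nat.card_eq_two_iff' (1 : F ≃+* F)).mp cA
      have e1 : τ' = τ := (hy τ' fun e => hb (hτ1' e)).trans (hy τ hτ2).symm
      have e2 : τ * τ = 1 := by rw [← pow_two, ← cA]; exact pow_card_eq_one'
      have := hτ'.mul hτ
      rwa [e1, e2] at this
  have cS : Nat.card S = 8 := by
    rw [← card_mul_index ((UU G F).subgroupOf S), ← relIndex, hi,
      Nat.card_congr (subgroupOfEquivOfLe hU).toEquiv, cU]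
  have cLS : Nat.card ↥(L ⊓ S) = 4 := by
    have a1 := card_dvd_of_le (inf_le_left : L ⊓ S ≤ L)
    have a2 := card_dvd_of_le (inf_le_right : L ⊓ S ≤ S)
    have a3 := card_dvd_of_le (le_inf h.UL hU)
    rw [cL] at a1
    rw [cS] at a2
    rw [cU] at a3
    have := Nat.le_of_dvd (by norm_num) a2
    generalize Nat.card ↥(L ⊓ S) = k at *
    interval_cases k <;> omega
  set H := L ⊔ S with hH
  have cH : Nat.card H = 120 := by
    have := card_sup_mul_card_inf hN
    rw [cLS, cL, cS, ← hH] at this
    omega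
  have iH : L.relIndex H = 2 := by
    have := card_mul_index (L.subgroupOf H)
    rw [Nat.card_congr (subgroupOfEquivOfLe (le_sup_left : L ≤ H)).toEquiv, cL, cH] at this
    rw [relIndex]; omega
  have HN : H ≤ normalizer (L : Set G) := sup_le le_normalizer hN
  obtain ⟨f, hf⟩ := h.exists_A8 h4
  obtain ⟨a1, -⟩ := FGS.range_A8 f hf
  have a2 := card_mul_index H
  have a3 : ¬ 2 ∣ H.index := fun hh => hS.not_dvd (by
    rw [relIndex_top_right, ← relIndex_mul_index (le_sup_right : S ≤ H)]
    exact hh.mul_left _)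
  rw [cH] at a2
  have a4 : H.index ∣ 168 := ⟨f.range.index, by rw [← a2, mul_assoc] at a1; omega⟩
  by_cases h21 : H.index = 21
  · rcases FGS.case_2520 f hf (by rw [← a2, h21]) with h7 | ⟨⟨e8⟩⟩
    · exact Or.inr h7
    · have := Nat.card_congr e8.toEquiv
      rw [FGS.card_A8] at this
      omega
  left
  have a5 : H.index = 1 ∨ H.index = 3 ∨ H.index = 7 := by
    have := Nat.le_of_dvd (by norm_num) a4
    generalize H.index = k at *
    interval_cases k <;> omega
  rcases sL.eq_bot_or_eq_top_of_normal (H.normalCore.subgroupOf L) inferInstance with hK | hK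
  · exfalso
    have KL : ∀ k ∈ H.normalCore, k ∈ L → k = 1 := fun k h1 h3 => by
      have : (⟨k, h3⟩ : L) ∈ H.normalCore.subgroupOf L := h1
      rw [hK, mem_bot] at this
      exact congrArg Subtype.val this
    have K1 : H.normalCore = ⊥ := (eq_bot_iff_forall _).mpr fun k hk => by
      have kH := normalCore_le H hk
      obtain ⟨μ, hμ⟩ := h.scalar (DistribSMul.toAddMonoidHom (Fin 2 → F) k) fun l hl w => by
        have : k * l * k⁻¹ * l⁻¹ = 1 := KL _ (by
          have := H.normalCore.mul_mem hk (Normal.conj_mem inferInstance _ (H.normalCore.inv_mem hk) l)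
          convert this using 1; group)
          (L.mul_mem ((mem_normalizer_iff.mp (HN kH) l).mp hl) (L.inv_mem hl))
        show k • l • w = l • k • w
        rw [← mul_smul, ← mul_smul, mul_inv_eq_one, mul_inv_eq_iff_eq_mul] at *
        rw [this]
      have k2 : k * k = 1 := KL _ (H.normalCore.mul_mem hk hk)
        (mem_subgroupOf.mp (mul_self_mem_of_index_two iH ⟨k, kH⟩))
      have hμ' : ∀ w : Fin 2 → F, k • w = μ • w := hμ
      have m2 : μ * μ = 1 := by
        have := hμ' (k • e0 F)
        rw [← mul_smul, k2, one_smul, hμ', ← mul_smul] at this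
        simpa using (congrFun this 0).symm
      have m1 : μ = 1 := by
        have : (μ - 1) ^ 2 = 0 := by linear_combination m2 + (1 - μ) * h2
        exact sub_eq_zero.mp (pow_eq_zero_iff two_ne_zero |>.mp this)
      exact h.faith k fun w => by rw [hμ', m1, one_smul]
    have d1 := Max.card_dvd_index_factorial K1
    rcases a5 with a | a | a
    · rw [← a2, a] at d1; exact absurd d1 (by decide)
    · rw [← a2, a] at d1; exact absurd d1 (by decide)
    · let e : G ⧸ H ≃ Fin 7 := Finite.equivFinOfCardEq (by rw [← index_eq_card, a])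
      let ψ : G →* Equiv.Perm (Fin 7) := e.permCongrHom.toMonoidHom.comp (MulAction.toPermHom G (G ⧸ H))
      have hψ : Function.Injective ψ := e.permCongrHom.injective.comp
        ((MonoidHom.ker_eq_bot_iff _).mp (by rw [← normalCore_eq_ker, K1]))
      have b1 := ψ.range.card_mul_index
      rw [← Nat.card_congr (MonoidHom.ofInjective hψ).toEquiv, Nat.card_perm, Nat.card_fin, ← a2, a,
        show Nat.factorial 7 = 5040 by decide] at b1
      have b2 : ψ.range.index = 6 := by omega
      have := S5944.result 7 (by norm_num) ψ.range (fun e => by rw [e, index_top] at b2; omega)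
        (fun e => by rw [e, alternatingGroup.index_eq_two] at b2; omega)
      omega
  · have LK : L ≤ H.normalCore := subgroupOf_eq_top.mp hK
    have : L = ⁅H.normalCore, H.normalCore⁆ := le_antisymm (by
      have p1 : _root_.commutator L = ⊤ := by
        rcases sL.eq_bot_or_eq_top_of_normal (_root_.commutator L) inferInstance with h0 | h0
        · exfalso
          have : IsMulCommutative L := ⟨⟨fun a b => commutatorElement_eq_one_iff_mul_comm.mp
            (mem_bot.mp (h0 ▸ commutator_mem_commutator (mem_top a) (mem_top b)))⟩⟩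
          have := IsSimpleGroup.prime_card (α := L)
          rw [cL] at this
          norm_num at this
        · exact h0
      calc L = ⁅L, L⁆ := by
            have := congrArg (Subgroup.map L.subtype) p1
            rw [_root_.commutator, map_commutator, ← MonoidHom.range_eq_map, range_subtype] at this
            exact this.symm
        _ ≤ _ := commutator_mono LK LK) ((commutator_mono (normalCore_le H) (normalCore_le H)).trans
        (commutator_le.mpr fun a ha b hb => by
          have := (mul_mem_iff_of_index_two iH (a := ⟨a, ha⟩ * ⟨b, hb⟩)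
            (b := (⟨a, ha⟩ : H)⁻¹ * ⟨b, hb⟩⁻¹)).mpr (by
              rw [mul_mem_iff_of_index_two iH, mul_mem_iff_of_index_two iH, inv_mem_iff, inv_mem_iff])
          rw [mem_subgroupOf] at this
          simpa [commutatorElement_def, mul_assoc] using this))
    rw [this]; infer_instance

end NS

theorem NS.main {G : Type*} [Group G] [Finite G] {F : Type*} [Field F] [Finite F]
    [DistribMulAction G (Fin 2 → F)] {L : Subgroup G} {σ : L →* SL(2, F)} (h : NS L σ) {p : ℕ}
    [hp : Fact p.Prime] [CharP F p] {S : Subgroup G} (hS : IsSylowOf p S ⊤)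
    (hN : S ≤ normalizer (L : Set G)) :
    L.Normal ∨ (Nat.card F = 4 ∧ Nonempty (G ≃* alternatingGroup (Fin 7))) := by
  obtain ⟨T, hT, hU⟩ := exists_isSylowOf_ge ((h.pgA p).to_le NS.UA) (h.UL.trans le_normalizer)
  have hT' : IsSylowOf p T ⊤ := hS.of_card_le hT.isPGroup le_top ((hS.of_le hN le_top).card_eq hT).le
  rcases h.sc_or hT' hT.le hU with sc | ⟨h4, s, hs, hsU⟩
  · exact Or.inl (h.normal_of_sc hT' hT.le hU sc)
  · obtain rfl : p = 2 := by
      have := Fintype.ofFinite F
      obtain ⟨n, -, hn⟩ := FiniteField.card F p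
      rw [Nat.card_eq_fintype_card, hn] at h4
      exact (Nat.prime_dvd_prime_iff_eq hp.out Nat.prime_two).mp
        (hp.out.dvd_of_dvd_pow (n := 2) (by rw [show 2 ^ 2 = 4 from rfl, ← h4]; exact dvd_pow_self p n.ne_zero))
    exact (h.case4 hT' hT.le hU h4 hs hsU).imp id fun e => ⟨h4, e⟩

end Cfsg.Agent.Isaacs
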