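import Mathlib
import Cfsg.Agent.Inv.NFour
import Cfsg.Agent.PGrp.Frattini
import Cfsg.Agent.Core.SylowOf

/-! A normal subgroup of a 2-group without invariant four-subgroups. -/

set_option autoImplicit false

namespace Cfsg.Agent.Rel4

open Subgroup Cfsg.Agent.PGrp Cfsg.Agent.Core
open scoped commutatorElement

variable {G : Type*} [Group G]

theorem rel [Finite G] (hG : IsPGroup 2 G) (T : Subgroup G) [hT : T.Normal]
    (hn : ∀ A ≤ T, A.Normal → IsMulCommutative A → IsCyclic A)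
    (hno : ∀ z ∈ T, ∀ b ∈ T, z ∈ center G → orderOf z = 2 → b ^ 2 = 1 → b ∉ zpowers z → ¬ ∀ g, ⁅b, g⁆ ∈ zpowers z)
    (hnc : ¬ IsCyclic T) :
    ∃ a ∈ T, ∃ n : ℕ, orderOf a = 2 ^ (n + 2) ∧ (zpowers a).Normal ∧ (∀ g : G, g ^ 2 ∈ T → g ^ 2 ∈ zpowers a) ∧
      (∀ g ∈ T, g ∉ zpowers a → ∃ c : ℤ, g * a * g⁻¹ = a ^ (4 * c - 1)) ∧
      ∀ g ∈ T, ∀ h ∈ T, g ∉ zpowers a → h ∉ zpowers a → g * h ∈ zpowers a := by
  have : Fact (Nat.Prime 2) := ⟨Nat.prime_two⟩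
  have := hG.isNilpotent
  obtain ⟨A, -, hAT, hAn, hAc, hCA⟩ := exists_self_centralizing_ge (P := ⊤) (S := T) (E := ⊥)
    inferInstance le_top le_normalizer_of_normal bot_le le_normalizer_of_normal inferInstance
  rw [← normal_iff_top_le_normalizer] at hAn
  obtain ⟨a, rfl⟩ := exists_zpowers_eq_of_isCyclic (hn A hAT hAn hAc)
  have haT := hAT (mem_zpowers a)
  have hcomm : ∀ g ∈ T, Commute a g → g ∈ zpowers a := by
    intro g hgT hg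
    rw [← hCA]
    refine ⟨hgT, mem_centralizer_iff.mpr fun x hx => ?_⟩
    obtain ⟨k, rfl⟩ := mem_zpowers_iff.mp hx
    exact (hg.zpow_left k).eq
  obtain ⟨g₀, hg₀T, hg₀⟩ : ∃ g ∈ T, g ∉ zpowers a := by
    by_contra! hcon
    exact hnc (isCyclic_of_eq_zpowers (le_antisymm hAT hcon))
  obtain ⟨n, ha⟩ := exists_orderOf_eq_pow_of_mem (hG.to_subgroup ⊤) (mem_top a)
  obtain ⟨m, rfl⟩ : ∃ m, n = m + 1 := by
    rcases n with _ | m
    · exfalso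
      rw [pow_zero, orderOf_eq_one_iff] at ha
      exact hg₀ (hcomm g₀ hg₀T (ha ▸ Commute.one_left g₀))
    · exact ⟨m, rfl⟩
  have hnorm : ∀ g : G, g ∈ normalizer ((zpowers a : Subgroup G) : Set G) :=
    fun g => mem_normalizer_of_normal _ g
  have hz := pow_two_pow_mem_center ha
  have hz2 := orderOf_pow_pow_eq_prime Nat.prime_two ha
  have hder : ∀ g h : G, h ∈ T → ⁅g, h⁆ ∈ zpowers a := by
    intro g h hhT
    apply hcomm _ (mul_mem (hT.conj_mem _ hhT g) (inv_mem hhT))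
    obtain ⟨k, hk⟩ := exists_conj_eq_zpow (hnorm g)
    obtain ⟨l, hl⟩ := exists_conj_eq_zpow (hnorm h)
    have h1 : (g * h) * a * (g * h)⁻¹ = (h * g) * a * (h * g)⁻¹ := by
      have e1 : (g * h) * a * (g * h)⁻¹ = g * (h * a * h⁻¹) * g⁻¹ := by group
      have e2 : (h * g) * a * (h * g)⁻¹ = h * (g * a * g⁻¹) * h⁻¹ := by group
      rw [e1, e2, hl, hk, conj_zpow_of_conj_eq hk, conj_zpow_of_conj_eq hl, mul_comm]
    obtain ⟨r, hr⟩ := exists_conj_eq_zpow (hnorm (h * g))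
    obtain ⟨s, hs⟩ := exists_conj_eq_zpow (hnorm (h * g)⁻¹)
    have e3 : ⁅g, h⁆ = (g * h) * (h * g)⁻¹ := by rw [commutatorElement_def]; group
    have e4 : ⁅g, h⁆ * a * ⁅g, h⁆⁻¹ = a := by
      have e5 : ⁅g, h⁆ * a * ⁅g, h⁆⁻¹ =
          (g * h) * ((h * g)⁻¹ * a * (h * g)⁻¹⁻¹) * (g * h)⁻¹ := by rw [e3]; group
      have e6 : a = (h * g) * ((h * g)⁻¹ * a * (h * g)⁻¹⁻¹) * (h * g)⁻¹ := by group
      rw [e5]
      conv_rhs => rw [e6]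
      rw [hs, conj_zpow_of_conj_eq (h1.trans hr), conj_zpow_of_conj_eq hr]
    exact (mul_inv_eq_iff_eq_mul.mp e4).symm
  have hnot : ∀ b ∈ T, b ^ 2 = 1 → b ∉ zpowers a → (∀ g, ⁅b, g⁆ ∈ zpowers (a ^ 2 ^ m)) → False :=
    fun b hbT hb2 hb => hno _ (pow_mem haT _) b hbT hz hz2 hb2 fun h' => hb (zpowers_le.mpr (npow_mem_zpowers a _) h')
  -- step 1
  have step1 : ∀ g ∈ T, g ∉ zpowers a → g ^ 2 ∈ zpowers a → 1 ≤ m ∧ ∃ t : ℤ,
      ((a ^ t * g) ^ 2 = 1 ∧ g * a * g⁻¹ = a⁻¹) ∨ ((a ^ t * g) ^ 2 = a ^ 2 ^ m ∧ g * a * g⁻¹ = a⁻¹) ∨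
      (2 ≤ m ∧ (a ^ t * g) ^ 2 = 1 ∧ g * a * g⁻¹ = a ^ (2 ^ m - 1 : ℤ)) := by
    intro g hgT hg hg2
    obtain ⟨hm, t, h⟩ := exists_normal_form_two ha (hnorm g) hg2 (fun h => hg (hcomm g hgT h))
    refine ⟨hm, t, ?_⟩
    rcases h with h | h | ⟨hm2, hb2, h⟩ | h
    · exact Or.inl h
    · exact Or.inr (Or.inl h)
    · exfalso
      have hb := conj_zpow_mul_of_conj_eq h t
      have hbT : a ^ t * g ∈ T := mul_mem (zpow_mem haT t) hgT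
      refine hnot (a ^ t * g) hbT hb2 (zpow_mul_notMem hg t) fun x => ?_
      generalize a ^ t * g = b at hb hb2 hbT
      apply commutator_symm_mem
      obtain ⟨s, hs⟩ := mem_zpowers_iff.mp (hder x b hbT)
      have h1 : (a ^ s * b) ^ 2 = 1 := by
        rw [hs, ← conj_eq_commutator_mul, conj_pow, hb2]; simp
      rw [zpow_mul_sq_of_conj_eq hb, hb2, mul_one, ← zpow_zero a] at h1
      have h2 := dvd_of_zpow_eq_zpow ha h1
      refine mem_zpowers_pow_of_pow_eq_one Nat.prime_two ha (hder x b hbT) ?_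
      rw [← hs, ← zpow_natCast, ← zpow_mul, ← zpow_zero a]
      refine zpow_eq_zpow_of_dvd ha ?_
      obtain ⟨n, rfl⟩ : ∃ n, m = n + 2 := ⟨m - 2, by omega⟩
      have h3 : (2 : ℤ) ^ (n + 2) ∣ s * (1 + 2 ^ (n + 1)) := by
        have e : (0 : ℤ) - (s + (1 + 2 ^ (n + 2)) * s) = (-(s * (1 + 2 ^ (n + 1)))) * 2 := by ring
        rw [e] at h2
        push_cast at h2
        rw [pow_succ (2 : ℤ) (n + 2)] at h2
        exact (dvd_neg).mp ((mul_dvd_mul_iff_right two_ne_zero).mp h2)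
      have hcop : IsCoprime ((2 : ℤ) ^ (n + 2)) (1 + 2 ^ (n + 1)) :=
        IsCoprime.pow_left ⟨-2 ^ n, 1, by ring⟩
      obtain ⟨c, hc⟩ := hcop.dvd_of_dvd_mul_right h3
      exact ⟨-c, by rw [hc]; push_cast; ring⟩
    · exact Or.inr (Or.inr h)
  have step1' : ∀ g ∈ T, g ∉ zpowers a → g ^ 2 ∈ zpowers a →
      1 ≤ m ∧ (g * a * g⁻¹ = a ^ (-1 : ℤ) ∨ (2 ≤ m ∧ g * a * g⁻¹ = a ^ (2 ^ m - 1 : ℤ))) := by
    intro g hgT hg hg2
    obtain ⟨hm, t, h | h | h⟩ := step1 g hgT hg hg2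
    · exact ⟨hm, Or.inl (by rw [h.2, zpow_neg_one])⟩
    · exact ⟨hm, Or.inl (by rw [h.2, zpow_neg_one])⟩
    · exact ⟨hm, Or.inr ⟨h.1, h.2.2⟩⟩
  -- step 2
  have step2 : ∀ g : G, g ^ 2 ∈ T → g ^ 2 ∈ zpowers a := by
    intro g hgT
    by_contra hg
    obtain ⟨j, hj1, hj2⟩ := exists_pow_notMem_pow_mem (p := 2) hg (hG (g ^ 2))
    have e : (g ^ 2) ^ 2 ^ j = (g ^ 2 ^ j) ^ 2 := by rw [← pow_mul, ← pow_mul, mul_comm]
    have hT' := pow_mem hgT (2 ^ j)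
    rw [e] at hj1 hj2 hT'
    obtain ⟨k, hk⟩ := exists_conj_eq_zpow (hnorm (g ^ 2 ^ j))
    have h1 := pow_conj_of_conj_eq hk 2
    apply four_not_dvd_sq_add_one k
    obtain ⟨hm, h | ⟨hm2, h⟩⟩ := step1' _ hT' hj1 hj2
    · rw [h] at h1
      have h2 := dvd_of_zpow_eq_zpow ha h1
      obtain ⟨n, rfl⟩ : ∃ n, m = n + 1 := ⟨m - 1, by omega⟩
      obtain ⟨c, hc⟩ := h2
      exact ⟨2 ^ n * c, by push_cast at hc; linear_combination hc⟩
    · rw [h] at h1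
      have h2 := dvd_of_zpow_eq_zpow ha h1
      obtain ⟨n, rfl⟩ : ∃ n, m = n + 2 := ⟨m - 2, by omega⟩
      obtain ⟨c, hc⟩ := h2
      exact ⟨2 ^ (n + 1) * c + 2 ^ n, by push_cast at hc; linear_combination hc⟩
  have h4 : ∀ g ∈ T, g ∉ zpowers a → ∃ c : ℤ, g * a * g⁻¹ = a ^ (4 * c - 1) := by
    intro g hgT hg
    obtain ⟨hm, h | ⟨hm2, h⟩⟩ := step1' g hgT hg (step2 g (pow_mem hgT 2))
    · exact ⟨0, by rw [h]; norm_num⟩
    · obtain ⟨n, rfl⟩ : ∃ n, m = n + 2 := ⟨m - 2, by omega⟩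
      exact ⟨2 ^ n, by rw [h]; congr 1; ring⟩
  have hm := (step1' g₀ hg₀T hg₀ (step2 g₀ (pow_mem hg₀T 2))).1
  obtain ⟨n, rfl⟩ : ∃ n, m = n + 1 := ⟨m - 1, by omega⟩
  refine ⟨a, haT, n, ha, hAn, step2, h4, fun g hgT h hhT hg hh => ?_⟩
  by_contra hgh
  have key : ∀ k l r : ℤ, g * a * g⁻¹ = a ^ k → h * a * h⁻¹ = a ^ l →
      (g * h) * a * (g * h)⁻¹ = a ^ r → ((2 ^ (n + 1 + 1) : ℕ) : ℤ) ∣ r - k * l := by
    intro k l r h1 h2 h3
    have e1 : (g * h) * a * (g * h)⁻¹ = g * (h * a * h⁻¹) * g⁻¹ := by group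
    rw [e1, h2, conj_zpow_of_conj_eq h1] at h3
    exact dvd_of_zpow_eq_zpow ha h3
  obtain ⟨c₁, h₁⟩ := h4 g hgT hg
  obtain ⟨c₂, h₂⟩ := h4 h hhT hh
  obtain ⟨c₃, h₃⟩ := h4 _ (mul_mem hgT hhT) hgh
  obtain ⟨c, hc⟩ := key _ _ _ h₁ h₂ h₃
  have : (4 : ℤ) * (c₃ - 4 * c₁ * c₂ + c₁ + c₂ - 2 ^ n * c) = 2 := by
    push_cast at hc
    linear_combination hc
  omega

/-- The data produced by `rel`, seen in an ambient group. -/
structure D (A S : Subgroup G) (a : G) (n : ℕ) : Prop where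
  memA : a ∈ A
  memS : a ∈ S
  ord : orderOf a = 2 ^ (n + 2)
  norm : ∀ g ∈ S, ∃ k : ℤ, g * a * g⁻¹ = a ^ k
  sq : ∀ g ∈ S, g ^ 2 ∈ A → g ^ 2 ∈ zpowers a
  inv : ∀ g ∈ S, g ∈ A → g ∉ zpowers a → ∃ c : ℤ, g * a * g⁻¹ = a ^ (4 * c - 1)
  two : ∀ g ∈ S, ∀ h ∈ S, g ∈ A → h ∈ A → g ∉ zpowers a → h ∉ zpowers a → g * h ∈ zpowers a

theorem mem_zpowers_coe {S : Subgroup G} {a g : S} : (g : G) ∈ zpowers (a : G) ↔ g ∈ zpowers a := by
  simp only [mem_zpowers_iff, Subtype.ext_iff, SubgroupClass.coe_zpow]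

theorem exists_D [Finite G] {S : Subgroup G} (hS : IsPGroup 2 S) (A : Subgroup G) [A.Normal]
    (hn : ∀ V : Subgroup S, V ≤ A.subgroupOf S → IsKleinFour V → ¬ V.Normal)
    (hno : ∀ z b : S, z.1 ∈ A → b.1 ∈ A → z ∈ center S → orderOf z = 2 → b ^ 2 = 1 → b ∉ zpowers z →
      ¬ ∀ g, ⁅b, g⁆ ∈ zpowers z)
    (hnc : ¬ IsCyclic (A.subgroupOf S)) : ∃ a n, D A S a n := by
  obtain ⟨a, h1, n, h2, h3, h4, h5, h6⟩ := rel hS (A.subgroupOf S) (fun B hB hBn hBc => by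
    by_contra hc
    obtain ⟨V, h1, h2, h3⟩ := Inv.exists_normal_four_of_comm (hS.to_subgroup ⊤) le_top le_normalizer_of_normal hBc hc
    exact hn V (h1.trans hB) h2 (normal_iff_top_le_normalizer.mpr h3)) (fun z hz b hb => hno z b hz hb) hnc
  refine ⟨a, n, h1, a.2, by rw [Subgroup.orderOf_coe, h2], fun g hg => ?_,
    fun g hg h => mem_zpowers_coe.mpr (h4 ⟨g, hg⟩ h), fun g hg h h' => ?_,
    fun g hg h hh e1 e2 e3 e4 => mem_zpowers_coe.mpr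
      (h6 ⟨g, hg⟩ e1 ⟨h, hh⟩ e2 (mt mem_zpowers_coe.mpr e3) (mt mem_zpowers_coe.mpr e4))⟩
  · obtain ⟨k, hk⟩ := exists_conj_eq_zpow (mem_normalizer_of_normal (zpowers a) ⟨g, hg⟩)
    exact ⟨k, congrArg Subtype.val hk⟩
  · obtain ⟨k, hk⟩ := h5 ⟨g, hg⟩ h (mt mem_zpowers_coe.mpr h')
    exact ⟨k, congrArg Subtype.val hk⟩

variable {A S : Subgroup G} {a : G} {n : ℕ}

theorem D.z_ord (h : D A S a n) : orderOf (a ^ 2 ^ (n + 1)) = 2 := orderOf_pow_pow_eq_prime Nat.prime_two h.ord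

theorem D.z_sq (h : D A S a n) : (a ^ 2 ^ (n + 1)) ^ 2 = 1 := by
  rw [← pow_mul, ← pow_succ, ← h.ord, pow_orderOf_eq_one]

theorem D.z_ne (h : D A S a n) : a ^ 2 ^ (n + 1) ≠ 1 := fun e => by simpa [e] using h.z_ord

theorem D.z_comm (h : D A S a n) {g : G} (hg : g ∈ S) : g * a ^ 2 ^ (n + 1) * g⁻¹ = a ^ 2 ^ (n + 1) := by
  obtain ⟨k, hk⟩ := h.norm g hg
  refine (eq_one_or_eq_of_sq_eq_one h.ord ?_ (by rw [conj_pow, h.z_sq]; simp)).resolve_left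
    fun e => h.z_ne (by simpa [mul_inv_eq_one] using e)
  rw [← conj_pow, hk]
  exact pow_mem (zpow_mem_zpowers _ _) _

theorem D.fuse [Finite G] [A.Normal] (hA : ∀ H : Subgroup A, H.index ≠ 2) {S : Sylow 2 G} (h : D A S a n)
    {s : G} (hs : s ∈ A) (h2 : orderOf s = 2) (hnc : ¬ (S : Subgroup G) ⊓ A ≤ zpowers a) :
    ∃ g ∈ A, g * s * g⁻¹ = a ^ 2 ^ (n + 1) := by
  have : Fact (Nat.Prime 2) := ⟨Nat.prime_two⟩
  by_contra! e
  obtain ⟨b, hb, hba⟩ := SetLike.not_le_iff_exists.mp hnc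
  obtain ⟨M, -, hM, -⟩ := Transfer.thompson_transfer (H := ((S : Subgroup G) ⊓ A).subgroupOf A) (Q := (zpowers a).subgroupOf A)
    (Nat.odd_iff.mpr (Nat.two_dvd_ne_zero.mp (isSylowOf_sylow_inf_normal S A).not_dvd))
    (relIndex_eq_two_iff.mpr ⟨⟨b, hb.2⟩, hb, fun c hc => by
      by_cases hc' : c.1 ∈ zpowers a
      · exact .inr ⟨hc', fun e => hba ((mul_mem_cancel_left hc').mp e)⟩
      · exact .inl ⟨h.two _ hc.1 _ hb.1 c.2 hb.2 hc' hba, hc'⟩⟩) (u := ⟨s, hs⟩) (by rwa [Subgroup.orderOf_mk])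
    fun g hg => (eq_one_or_eq_of_sq_eq_one h.ord hg (by
      change ((g : G) * s * (g : G)⁻¹) ^ 2 = 1
      rw [conj_pow, ← h2, pow_orderOf_eq_one]; simp)).elim
      (fun e' => by
        have : s = 1 := by simpa [mul_inv_eq_one] using e'
        simp [this] at h2) (e g g.2)
  exact hA M hM

theorem D.no_root [Finite G] [hA' : A.Normal] (hA : ∀ H : Subgroup A, H.index ≠ 2) {S : Sylow 2 G} (h : D A S a n)
    {s φ : G} (hs : s ∈ (S : Subgroup G) ⊓ A) (h2 : orderOf s = 2) (hsa : s ∉ zpowers a) (hφ : Commute φ s) :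
    φ ^ 2 ≠ a ^ 2 ^ (n + 1) := fun e => by
  have : Fact (Nat.Prime 2) := ⟨Nat.prime_two⟩
  obtain ⟨g, -, hg⟩ := h.fuse hA hs.2 h2 fun e => hsa (e hs)
  set z := a ^ 2 ^ (n + 1) with hz
  obtain ⟨c, hc, h1⟩ := (isSylowOf_sylow_of_le S (K := centralizer {z}) fun x hx =>
    mem_centralizer_singleton_iff.mpr (mul_inv_eq_iff_eq_mul.mp (h.z_comm hx))).exists_conj_le (Q := zpowers (g * φ * g⁻¹))
    (IsPGroup.of_card_dvd_pow (n := 2) (by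
      rw [Nat.card_zpowers]
      refine orderOf_dvd_of_pow_eq_one ?_
      rw [conj_pow, pow_succ, pow_mul, pow_one, e, h.z_sq]; simp))
    (zpowers_le.mpr (mem_centralizer_singleton_iff.mpr (by
      rw [← hg]; exact (hφ.map (MulAut.conj g)).eq)))
  have h3 : c * (g * φ * g⁻¹) * c⁻¹ ∈ (S : Subgroup G) := h1 (smul_mem_pointwise_smul _ _ _ (mem_zpowers _))
  have h4 : (c * (g * φ * g⁻¹) * c⁻¹) ^ 2 = c * (g * z * g⁻¹) * c⁻¹ := by rw [conj_pow, conj_pow, e]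
  have h5 := h.sq _ h3 (h4 ▸ hA'.conj_mem _ (hA'.conj_mem _ (pow_mem h.memA _) _) _)
  rw [h4] at h5
  rcases eq_one_or_eq_of_sq_eq_one h.ord h5 (by rw [conj_pow, conj_pow, h.z_sq]; simp) with h6 | h6
  · exact h.z_ne (by simpa [mul_inv_eq_one] using h6)
  · have h7 : c * z * c⁻¹ = z := mul_inv_eq_iff_eq_mul.mpr (mem_centralizer_singleton_iff.mp hc)
    rw [← hz] at h6
    have h8 : g * z * g⁻¹ = g * s * g⁻¹ := by
      rw [hg]; exact (MulAut.conj c).injective (h6.trans h7.symm)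
    exact hsa ((MulAut.conj g).injective h8 ▸ npow_mem_zpowers a _)

theorem D.root (h : D A S a n) [hA : A.Normal] {u s : G} (hu : u ∈ S) (hu2 : u * u = 1)
    (huy : u * a ^ 2 ^ n * u⁻¹ = a ^ 2 ^ n) (hs : s ∈ S ⊓ A) (h2 : s * s = 1) (hsa : s ∉ zpowers a) (hus : ¬ Commute u s) :
    ∃ φ, Commute φ s ∧ φ ^ 2 = a ^ 2 ^ (n + 1) := by
  obtain ⟨k, hk⟩ := h.norm u hu
  obtain ⟨k', hk'⟩ := h.norm u⁻¹ (inv_mem hu)
  obtain ⟨c, hc⟩ := h.inv s hs.1 hs.2 hsa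
  have hui : u⁻¹ = u := inv_eq_of_mul_eq_one_right hu2
  have hsi : s⁻¹ = s := inv_eq_of_mul_eq_one_right h2
  obtain ⟨j, hj⟩ := mem_zpowers_iff.mp (h.two _ (mul_mem (mul_mem hu hs.1) (inv_mem hu)) _ hs.1 (hA.conj_mem _ hs.2 u) hs.2
    (fun e => hsa (by
      obtain ⟨i, hi⟩ := mem_zpowers_iff.mp e
      have : s = u⁻¹ * a ^ i * u⁻¹⁻¹ := by rw [hi]; group
      rw [this, conj_zpow_of_conj_eq hk']
      exact zpow_mem_zpowers _ _)) hsa)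
  have h1 : a ^ (k * j) = a ^ (-j) := by
    rw [← conj_zpow_of_conj_eq hk, zpow_neg, hj, mul_inv_rev, mul_inv_rev, mul_inv_rev, hui, hsi, hui]
    calc _ = (u * u) * s * u * s * u := by group
      _ = _ := by rw [hu2]; group
  have h3 : a ^ (k * 2 ^ n) = a ^ (2 ^ n : ℤ) := by
    rw [← conj_zpow_of_conj_eq hk]; exact_mod_cast huy
  obtain ⟨x, hx⟩ := dvd_of_zpow_eq_zpow h.ord h1
  obtain ⟨y, hy⟩ := dvd_of_zpow_eq_zpow h.ord h3
  push_cast at hx hy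
  obtain rfl : k = 1 - 4 * y := by
    have : (2 : ℤ) ^ n * (1 - k) = 2 ^ n * (4 * y) := by linear_combination hy
    have := mul_left_cancel₀ (by positivity) this
    omega
  have h4 : (2 : ℤ) ^ (n + 1) ∣ j := by
    refine (IsCoprime.pow_left (⟨y, 1, by ring⟩ : IsCoprime (2 : ℤ) (1 - 2 * y))).dvd_of_dvd_mul_right ⟨-x, ?_⟩
    have : 2 * (j * (1 - 2 * y)) = 2 * (2 ^ (n + 1) * -x) := by linear_combination -hx
    omega
  have h5 : (a ^ j) ^ 2 = 1 := by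
    obtain ⟨w, rfl⟩ := h4
    rw [← zpow_natCast, ← zpow_mul, ← zpow_zero a]
    exact zpow_eq_zpow_of_dvd h.ord ⟨-w, by push_cast; ring⟩
  set z := a ^ 2 ^ (n + 1) with hz
  have h6 : u * s * u⁻¹ = z * s := by
    rcases eq_one_or_eq_of_sq_eq_one h.ord (zpow_mem_zpowers a j) h5 with e | e
    · rw [hj, mul_eq_one_iff_eq_inv, hsi, mul_inv_eq_iff_eq_mul] at e
      exact absurd e hus
    · rw [hz, ← e, hj, mul_assoc _ s s, h2, mul_one]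
  have h7 : s * a ^ 2 ^ n * s⁻¹ = (a ^ 2 ^ n)⁻¹ := by
    rw [← zpow_natCast, conj_zpow_of_conj_eq hc, ← zpow_neg]
    exact zpow_eq_zpow_of_dvd h.ord ⟨-c, by push_cast; ring⟩
  have h8 : a ^ 2 ^ n * a ^ 2 ^ n = z := by rw [hz, ← pow_add, ← two_mul, ← pow_succ']
  have h9 := h.z_comm hu
  have h10 := h.z_sq
  rw [← hz] at h9 h10
  generalize a ^ 2 ^ n = y at *
  refine ⟨u * y, mul_inv_eq_iff_eq_mul.mp ?_, ?_⟩
  · calc u * y * s * (u * y)⁻¹ = u * (y * (s * y * s⁻¹)⁻¹ * s) * u⁻¹ := by group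
      _ = (u * z * u⁻¹) * (u * s * u⁻¹) := by rw [h7, inv_inv, h8]; group
      _ = s := by rw [h9, h6, ← mul_assoc, ← pow_two, h10, one_mul]
  · calc (u * y) ^ 2 = (u * y * u⁻¹) * (u * u) * y := by rw [pow_two]; group
      _ = z := by rw [huy, hu2, mul_one, h8]

theorem D.y_cases (h : D A S a n) {g : G} (hg : g ∈ S) :
    g * a ^ 2 ^ n * g⁻¹ = a ^ 2 ^ n ∨ g * a ^ 2 ^ n * g⁻¹ = (a ^ 2 ^ n)⁻¹ := by
  obtain ⟨k, hk⟩ := h.norm g hg
  have h1 := h.z_comm hg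
  rw [← zpow_natCast, conj_zpow_of_conj_eq hk] at h1
  obtain ⟨x, hx⟩ := dvd_of_zpow_eq_zpow h.ord h1
  push_cast at hx
  obtain rfl : k = 1 - 2 * x := by
    have : (2 : ℤ) ^ (n + 1) * (1 - k) = 2 ^ (n + 1) * (2 * x) := by linear_combination hx
    have := mul_left_cancel₀ (by positivity) this
    omega
  rw [← zpow_natCast, conj_zpow_of_conj_eq hk, ← zpow_neg]
  rcases Int.even_or_odd' x with ⟨w, rfl | rfl⟩
  · exact .inl (zpow_eq_zpow_of_dvd h.ord ⟨w, by push_cast; ring⟩)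
  · exact .inr (zpow_eq_zpow_of_dvd h.ord ⟨w, by push_cast; ring⟩)

end Cfsg.Agent.Rel4
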