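import Mathlib
import Cfsg.Agent.Fischer.ES2

/-! An involution acting on an extraspecial `2`-group with abelian centralizer. -/

set_option autoImplicit false

namespace Cfsg.Agent.Sm

open Cfsg Subgroup LocalEven Fischer

variable {G : Type*} [Group G] {Q : Subgroup G} {y z : G}

theorem ccj (g a b : G) : Commute (g * a * g⁻¹) b ↔ Commute a (g⁻¹ * b * g) := by
  simp only [commute_iff_eq]
  constructor
  · intro e
    calc a * (g⁻¹ * b * g) = g⁻¹ * (g * a * g⁻¹ * b) * g := by group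
      _ = _ := by rw [e]; group
  · intro e
    calc g * a * g⁻¹ * b = g * (a * (g⁻¹ * b * g)) * g⁻¹ := by group
      _ = _ := by rw [e]; group

/-- `z` is an involution (or `1`) normalizing the extraspecial group `Q` -/
structure Act (Q : Subgroup G) (y z : G) : Prop extends ES Q y where
  zz : z * z = 1
  zy : Commute z y
  nz : ∀ x ∈ Q, z * x * z⁻¹ ∈ Q

namespace Act

theorem zi (h : Act Q y z) : z⁻¹ = z := inv_eq_of_mul_eq_one_right h.zz

theorem nz' (h : Act Q y z) {x : G} (hx : x ∈ Q) : z⁻¹ * x * z ∈ Q := by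
  have := h.nz x hx
  rw [h.zi] at this ⊢
  exact this

theorem cz (h : Act Q y z) {c : G} (hc : c ∈ zpowers y) : Commute z c := by
  obtain ⟨k, rfl⟩ := hc
  exact h.zy.zpow_right k

theorem cq (h : Act Q y z) {c x : G} (hc : c ∈ zpowers y) (hx : x ∈ Q) : Commute c x := by
  obtain ⟨k, rfl⟩ := hc
  exact (h.central x hx).zpow_left k

theorem cc (h : Act Q y z) {c : G} (hc : c ∈ zpowers y) : c * c = 1 := by
  rcases (mem_zpowers_two h.zsq).1 hc with rfl | rfl
  exacts [mul_one _, h.zsq]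

theorem cjq (h : Act Q y z) {x u : G} (hx : x ∈ Q) (hu : u ∈ Q) :
    ∃ c ∈ zpowers y, x * u * x⁻¹ = u * c := by
  rcases h.conj x hx u hu with e | e
  exacts [⟨1, one_mem _, by rw [e, mul_one]⟩, ⟨y, mem_zpowers _, e⟩]

/-- the subgroup `[Q, z]⟨y⟩` -/
def M (h : Act Q y z) : Subgroup G where
  carrier := {m | m ∈ Q ∧ ∃ t ∈ Q, ∃ c ∈ zpowers y, t * z * t⁻¹ = z * m * c}
  one_mem' := ⟨one_mem _, 1, one_mem _, 1, one_mem _, by simp⟩
  mul_mem' := by
    rintro m' m ⟨hm', s, hs, c', hc', e'⟩ ⟨hm, t, ht, c, hc, e⟩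
    obtain ⟨d, hd, ed⟩ := h.cjq hs hm
    refine ⟨mul_mem hm' hm, s * t, mul_mem hs ht, c' * d * c, mul_mem (mul_mem hc' hd) hc, ?_⟩
    calc s * t * z * (s * t)⁻¹ = s * (t * z * t⁻¹) * s⁻¹ := by group
      _ = (s * z * s⁻¹) * (s * m * s⁻¹) * (s * c * s⁻¹) := by rw [e]; group
      _ = z * m' * (c' * m) * d * c := by
        rw [e', ed, ← (h.cq hc hs).eq]; group
      _ = _ := by rw [(h.cq hc' hm).eq]; group
  inv_mem' := by
    rintro m ⟨hm, t, ht, c, hc, e⟩
    obtain ⟨d, hd, ed⟩ := h.cjq (inv_mem ht) (inv_mem hm)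
    refine ⟨inv_mem hm, t⁻¹, inv_mem ht, d * c⁻¹, mul_mem hd (inv_mem hc), ?_⟩
    have e1 : z = t * z * t⁻¹ * c⁻¹ * m⁻¹ := by rw [e]; group
    have e2 : t⁻¹ * c⁻¹ * t⁻¹⁻¹ = c⁻¹ := by
      rw [← (h.cq (inv_mem hc) (inv_mem ht)).eq]; group
    calc t⁻¹ * z * t⁻¹⁻¹ = t⁻¹ * (t * z * t⁻¹ * c⁻¹ * m⁻¹) * t⁻¹⁻¹ := by rw [← e1]
      _ = z * (t⁻¹ * c⁻¹ * t⁻¹⁻¹) * (t⁻¹ * m⁻¹ * t⁻¹⁻¹) := by group
      _ = z * (c⁻¹ * (m⁻¹ * d)) := by rw [e2, ed]; group
      _ = _ := by rw [(h.cq (inv_mem hc) (mul_mem (inv_mem hm) (zpowers_le.2 h.mem hd))).eq]; group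

theorem M_le (h : Act Q y z) : h.M ≤ Q := fun _ hm => hm.1

theorem y_mem (h : Act Q y z) : y ∈ h.M :=
  ⟨h.mem, 1, one_mem _, y, mem_zpowers _, by simp [mul_assoc, h.zsq]⟩

theorem M_inv (h : Act Q y z) {m : G} (hm : m ∈ h.M) : z * m * z⁻¹ = m⁻¹ := by
  obtain ⟨hm, t, ht, c, hc, e⟩ := hm
  have h1 : (z * m * c) * (z * m * c) = 1 := by
    rw [← e]
    calc t * z * t⁻¹ * (t * z * t⁻¹) = t * (z * z) * t⁻¹ := by group
      _ = 1 := by rw [h.zz]; group
  have h2 : Commute c (z * m) := (h.cz hc).symm.mul_right (h.cq hc hm)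
  rw [eq_inv_iff_mul_eq_one, h.zi, ← h1]
  calc z * m * z * m = z * m * (z * m) * (c * c) := by rw [h.cc hc]; group
    _ = z * m * (z * m * c) * c := by group
    _ = z * m * (c * (z * m)) * c := by rw [h2.eq]
    _ = _ := by group

theorem M_mem (h : Act Q y z) {v : G} (hv : v ∈ Q) : z⁻¹ * v * z * v⁻¹ ∈ h.M :=
  ⟨mul_mem (h.nz' hv) (inv_mem hv), v, hv, 1, one_mem _, by group⟩

theorem hat_of (h : Act Q y z) {q : G} (hq : q ∈ Q) (hc : ∀ m ∈ h.M, Commute q m) :
    z * q * z⁻¹ = q ∨ z * q * z⁻¹ = q * y := by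
  refine h.eq_or_of_commute_iff (h.nz q hq) hq fun v hv => ?_
  rw [ccj]
  have h1 := hc _ (h.M_mem hv)
  constructor
  · intro h2
    have := h2.inv_right.mul_right h1
    have e : (z⁻¹ * v * z)⁻¹ * (z⁻¹ * v * z * v⁻¹) = v⁻¹ := by group
    rw [e] at this
    simpa using this.inv_right
  · intro h2
    have := h1.mul_right h2
    simpa [mul_assoc] using this

theorem comm_of_hat (h : Act Q y z) {q : G} (hq : q ∈ Q) (hc : z * q * z⁻¹ = q ∨ z * q * z⁻¹ = q * y)
    {m : G} (hm : m ∈ h.M) : Commute q m := by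
  obtain ⟨hm, t, ht, c, hc', e⟩ := hm
  have e1 : m = (z⁻¹ * t * z) * t⁻¹ * c⁻¹ := by
    calc m = z⁻¹ * (z * m * c) * c⁻¹ := by group
      _ = _ := by rw [← e]; group
  rw [e1]
  refine Commute.mul_right ?_ (h.cq (inv_mem hc') hq).symm
  refine ((h.commute_mul_iff (h.nz' ht) (inv_mem ht) hq).2 ?_).symm
  rw [Commute.symm_iff, ← ccj, Commute.inv_left_iff]
  rcases hc with e | e <;> rw [e]
  · exact Commute.symm_iff
  · rw [h.commute_mul_z_iff ht]; exact Commute.symm_iff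

theorem mul_hat (h : Act Q y z) {a b : G} (ha : a ∈ Q) (e1 : z * a * z⁻¹ = a * y)
    (e2 : z * b * z⁻¹ = b * y) (hb : b ∈ Q) : Commute (a * b) z := by
  refine (Inv.commute_iff_conj.2 ?_).symm
  calc z * (a * b) * z⁻¹ = (z * a * z⁻¹) * (z * b * z⁻¹) := by group
    _ = a * (y * b) * y := by rw [e1, e2]; group
    _ = a * b * (y * y) := by rw [(h.central b hb).eq]; group
    _ = _ := by rw [h.zsq, mul_one]

variable [Finite G]

theorem exists_w (h : Act Q y z) (hA : ∀ a ∈ Q, ∀ b ∈ Q, Commute a z → Commute b z → Commute a b)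
    {a : G} (ha : a ∈ Q) (haz : Commute a z) (hM : a ∉ h.M) :
    ∃ w ∈ Q, z * w * z⁻¹ = w * y ∧ ¬ Commute w a := by
  obtain ⟨w, hw, h1, h2⟩ := h.dual h.M_le h.y_mem ha hM
  rcases h.hat_of hw h1 with e | e
  · exact (h2 (hA w hw a ha (Inv.commute_iff_conj.2 e).symm haz)).elim
  · exact ⟨w, hw, e, h2⟩

theorem not_comm (h : Act Q y z) (hA : ∀ a ∈ Q, ∀ b ∈ Q, Commute a z → Commute b z → Commute a b)
    {w : G} (hw : w ∈ Q) (ew : z * w * z⁻¹ = w * y)
    {a : G} (ha : a ∈ Q) (haz : Commute a z) (hM : a ∉ h.M) : ¬ Commute w a := by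
  obtain ⟨q, hq, e, h2⟩ := h.exists_w hA ha haz hM
  intro h3
  have := (hA _ (mul_mem hq hw) a ha (h.mul_hat hq e ew hw) haz).mul_left h3.inv_left
  exact h2 (by simpa using this)

omit [Finite G] in
theorem notM (h : Act Q y z) {e : G} (hez : Commute e z) (he : e * e ≠ 1) : e ∉ h.M := fun hm => by
  have h1 := h.M_inv hm
  rw [Inv.commute_iff_conj.1 hez.symm] at h1
  exact he (by nth_rewrite 1 [h1]; simp)

/-- an abelian centralizer is self-centralizing (in the two cases needed) -/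
theorem self_cent (h : Act Q y z) (hA : ∀ a ∈ Q, ∀ b ∈ Q, Commute a z → Commute b z → Commute a b)
    (hc : (∀ w ∈ Q, z * w * z⁻¹ ≠ w * y) ∨ ∃ e ∈ Q, Commute e z ∧ e * e ≠ 1)
    {c : G} (hcQ : c ∈ Q) (hcA : ∀ a ∈ Q, Commute a z → Commute c a) : Commute c z := by
  have key : ∀ m ∈ h.M, z * m * z⁻¹ = m ∨ z * m * z⁻¹ = m * y := fun m hm => by
    rw [h.M_inv hm]
    rcases h.sq m hm.1 with e | e
    · exact Or.inl (inv_eq_of_mul_eq_one_right e)
    · right
      rw [inv_eq_iff_mul_eq_one, ← mul_assoc, e, h.zsq]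
  rcases hc with hc | ⟨e, he, hez, he2⟩
  · by_cases hm : c ∈ h.M
    · exact (Inv.commute_iff_conj.2 ((key c hm).resolve_right (hc c hcQ))).symm
    · obtain ⟨q, hq, h1, h2⟩ := h.dual h.M_le h.y_mem hcQ hm
      exact (h2 (hcA q hq (Inv.commute_iff_conj.2
        ((h.hat_of hq h1).resolve_right (hc q hq))).symm).symm).elim
  · have hne := h.notM hez he2
    have hMA : ∀ m ∈ h.M, Commute m z := fun m hm => by
      rcases key m hm with e1 | e1
      · exact (Inv.commute_iff_conj.2 e1).symm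
      · exact (h.not_comm hA hm.1 e1 he hez hne
          (h.comm_of_hat he (Or.inl (Inv.commute_iff_conj.1 hez.symm)) hm).symm).elim
    rcases h.hat_of hcQ fun m hm => hcA m hm.1 (hMA m hm) with e1 | e1
    · exact (Inv.commute_iff_conj.2 e1).symm
    · exact (h.not_comm hA hcQ e1 he hez hne (hcA e he hez)).elim

/-- if the abelian centralizer has an element of order four, `z a` is conjugate to `z` -/
theorem fuse (h : Act Q y z) (hA : ∀ a ∈ Q, ∀ b ∈ Q, Commute a z → Commute b z → Commute a b)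
    {e : G} (he : e ∈ Q) (hez : Commute e z) (he2 : e * e ≠ 1)
    {a : G} (ha : a ∈ Q) (haz : Commute a z) (ha2 : a * a = 1) : ∃ t ∈ Q, t * z * t⁻¹ = z * a := by
  have hne := h.notM hez he2
  obtain ⟨w, hw, ew, hwe⟩ := h.exists_w hA he hez hne
  have hM : a ∈ h.M := by
    by_contra hM
    have h1 := h.not_comm hA hw ew ha haz hM
    have h2 : a * e * (a * e) ≠ 1 := by
      have hc := (hA a ha e he haz hez).eq
      calc a * e * (a * e) = a * (e * a) * e := by group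
        _ = a * a * (e * e) := by rw [← hc]; group
        _ ≠ 1 := by rw [ha2, one_mul]; exact he2
    have h3 := h.not_comm hA hw ew (mul_mem ha he) (haz.mul_left hez) (h.notM (haz.mul_left hez) h2)
    exact h3 ((h.commute_mul_iff ha he hw).2
      (iff_of_false (fun k => h1 k.symm) fun k => hwe k.symm)).symm
  obtain ⟨-, t, ht, c, hc, et⟩ := hM
  rcases (mem_zpowers_two h.zsq).1 hc with rfl | rfl
  · exact ⟨t, ht, by rw [et, mul_one]⟩
  · refine ⟨t * w, mul_mem ht hw, ?_⟩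
    have e1 : w * z * w⁻¹ = z * c := by
      have e2 : z * w = w * c * z := by rw [← ew]; group
      have e3 : Commute c (w * z * w⁻¹) :=
        ((h.central w hw).mul_right h.zy.symm).mul_right (h.central _ (inv_mem hw))
      have e4 : z = c * (w * z * w⁻¹) := by
        calc z = z * w * w⁻¹ := by group
          _ = w * c * z * w⁻¹ := by rw [e2]
          _ = _ := by rw [← (h.central w hw).eq]; group
      calc w * z * w⁻¹ = w * z * w⁻¹ * (c * c) := by rw [h.zsq, mul_one]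
        _ = c * (w * z * w⁻¹) * c := by rw [e3.eq]; group
        _ = _ := by rw [← e4]
    calc t * w * z * (t * w)⁻¹ = t * (w * z * w⁻¹) * t⁻¹ := by group
      _ = (t * z * t⁻¹) * (t * c * t⁻¹) := by rw [e1]; group
      _ = z * a * (c * c) := by rw [et, ← (h.central t ht).eq]; group
      _ = _ := by rw [h.zsq, mul_one]

end Act

end Cfsg.Agent.Sm
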