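import Mathlib

/-! Four-groups of the symmetric group of degree six. -/

set_option autoImplicit false

namespace Cfsg.Agent.Sm

open Equiv

/-- membership in the four-group -/
def In {Γ : Type*} [Group Γ] (a b x : Γ) : Prop := x = 1 ∨ x = a ∨ x = b ∨ x = a * b

/-- normalizing the four-group -/
def Nm {Γ : Type*} [Group Γ] (a b g : Γ) : Prop := In a b (g * a * g⁻¹) ∧ In a b (g * b * g⁻¹)

/-- the two configurations -/
def Cf {Γ : Type*} [Group Γ] (a b ρ : Γ) : Prop := Nm a b (ρ⁻¹ * a * ρ) ∧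
  ((Nm a b (ρ⁻¹ * b * ρ) ∧ ¬ Nm a b ρ) ∨
    (Nm a b (ρ * a * ρ⁻¹) ∧ ¬ In a b (ρ * a * ρ⁻¹) ∧ ¬ In a b (ρ * b * ρ⁻¹) ∧
      ¬ In a b (ρ * (a * b) * ρ⁻¹)))

instance {Γ : Type*} [Group Γ] [DecidableEq Γ] (a b x : Γ) : Decidable (In a b x) := by
  unfold In; infer_instance

instance {Γ : Type*} [Group Γ] [DecidableEq Γ] (a b x : Γ) : Decidable (Nm a b x) := by
  unfold Nm; infer_instance

instance {Γ : Type*} [Group Γ] [DecidableEq Γ] (a b x : Γ) : Decidable (Cf a b x) := by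
  unfold Cf; infer_instance

theorem cf_map {Γ : Type*} [Group Γ] (φ : Γ ≃* Γ) (a b ρ : Γ) : Cf (φ a) (φ b) (φ ρ) ↔ Cf a b ρ := by
  simp only [Cf, Nm, In, ← map_mul, ← map_inv, EmbeddingLike.apply_eq_iff_eq, map_eq_one_iff φ φ.injective]

/-- the standard double transposition -/
def s0 : Perm (Fin 6) := swap 0 1 * swap 2 3

theorem cf_std : ∀ b : Perm (Fin 6), b * b = 1 → s0 * b = b * s0 → b ≠ 1 → b ≠ s0 →
    Cf s0 b (swap 2 4 * swap 3 5) ∨ Cf s0 b (swap 1 2 * swap 4 5) := by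
  decide +kernel

theorem s6 {a b : Perm (Fin 6)} (ha : a * a = 1) (hb : b * b = 1) (hab : a * b = b * a) (ha1 : a ≠ 1)
    (hb1 : b ≠ 1) (hba : b ≠ a) (hs : Perm.sign a = 1) : ∃ ρ, Perm.sign ρ = 1 ∧ Cf a b ρ := by
  haveI : Fact (Nat.Prime 2) := ⟨Nat.prime_two⟩
  have ho : orderOf a = 2 := orderOf_eq_prime (by rw [sq, ha]) ha1
  obtain ⟨n, hn⟩ := Perm.cycleType_prime_order (σ := a) (by rw [ho]; exact Nat.prime_two)
  rw [ho] at hn
  have h1 := a.sum_cycleType_le
  have h2 := a.sign_of_cycleType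
  rw [hn] at h1 h2
  simp only [Multiset.sum_replicate, smul_eq_mul, Fintype.card_fin, Multiset.card_replicate] at h1 h2
  have h3 : n = 1 := by
    have : n ≤ 2 := by omega
    interval_cases n
    · rw [hs] at h2; exact absurd h2 (by decide)
    · rfl
    · rw [hs] at h2; exact absurd h2 (by decide)
  have h4 : IsConj a s0 := Perm.isConj_iff_cycleType_eq.2 (by rw [hn, h3]; decide +kernel)
  obtain ⟨k, hk⟩ := isConj_iff.1 h4
  have e : MulAut.conj k a = s0 := hk
  have := cf_std (MulAut.conj k b) (by rw [← map_mul, hb, map_one])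
    (by rw [← e, ← map_mul, ← map_mul, hab]) (by simpa using hb1)
    (by rw [← e]; exact fun h => hba ((MulAut.conj k).injective h))
  rw [← e] at this
  rcases this with h | h
  · refine ⟨(MulAut.conj k).symm (swap 2 4 * swap 3 5), by simp, ?_⟩
    rw [← cf_map (MulAut.conj k), MulEquiv.apply_symm_apply]; exact h
  · refine ⟨(MulAut.conj k).symm (swap 1 2 * swap 4 5), by simp, ?_⟩
    rw [← cf_map (MulAut.conj k), MulEquiv.apply_symm_apply]; exact h

theorem s3 : ∀ c : Perm (Fin 3), c * c = 1 → c ≠ 1 →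
    c * finRotate 3 = finRotate 3 * finRotate 3 * c ∧
    (finRotate 3 * c * (finRotate 3)⁻¹ * c ≠ c * (finRotate 3 * c * (finRotate 3)⁻¹)) ∧
    ∀ d : Perm (Fin 3), d * d = 1 → d ≠ 1 → c * d = d * c → c * d = 1 := by
  decide +kernel

theorem card_le_eight {F : Subgroup (Perm (Fin 6))} (h : ∀ x ∈ F, x * x = 1) : Nat.card F ≤ 8 := by
  haveI : Fact (Nat.Prime 2) := ⟨Nat.prime_two⟩
  have hF : IsPGroup 2 F := fun x => ⟨1, Subtype.ext (by simpa [sq] using h x x.2)⟩
  obtain ⟨S, hS⟩ := hF.exists_le_sylow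
  have hc : Nat.card S = 16 := by
    rw [S.card_eq_multiplicity, Nat.card_perm, Nat.card_fin]
    decide +kernel
  obtain ⟨k, hk⟩ := IsPGroup.iff_card.1 hF
  have h1 := Subgroup.card_le_of_le hS
  by_contra h2
  have h3 : k = 4 := by
    rw [hk, hc] at h1
    rw [hk] at h2
    have : k ≤ 4 := (Nat.pow_le_pow_iff_right one_lt_two).1 h1
    interval_cases k <;> simp_all
  have h4 : F = S := Subgroup.eq_of_le_of_card_ge hS (by rw [hk, hc, h3]; norm_num)
  set x : Perm (Fin 6) := swap 0 1 * swap 1 2 * swap 2 3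
  have hx : IsPGroup 2 (Subgroup.zpowers x) := by
    refine IsPGroup.of_card (n := 2) ?_
    rw [Nat.card_zpowers]
    exact orderOf_eq_prime_pow (n := 1) (by decide +kernel) (by decide +kernel)
  obtain ⟨T, hT⟩ := hx.exists_le_sylow
  obtain ⟨g, rfl⟩ := MulAction.exists_smul_eq (Perm (Fin 6)) S T
  have h5 := hT (Subgroup.mem_zpowers x)
  rw [Sylow.coe_subgroup_smul, Subgroup.mem_pointwise_smul_iff_inv_smul_mem, ← h4] at h5
  have h6 := h _ h5
  rw [← smul_mul', smul_eq_iff_eq_inv_smul, smul_one] at h6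
  exact absurd h6 (by decide +kernel)

end Cfsg.Agent.Sm
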