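import Mathlib
import Cfsg.Agent.Isaacs.Sm8
import Cfsg.Agent.Core.Basic

/-! Linear algebra for a large extraspecial group of width four with quotient inside `S₃ × S₆`. -/

set_option autoImplicit false

namespace Cfsg.Agent.Sm

open Equiv Module Subgroup

theorem half {H : Type*} [Group H] {L K : Subgroup H} (h : ∃ a ∈ K, ∀ b ∈ K, a * b ∈ L ∨ b ∈ L) :
    Nat.card K ≤ Nat.card ↥(L ⊓ K) * 2 := by
  rw [← Core.card_inf_mul_relIndex L K]
  exact Nat.mul_le_mul_left _ (Nat.le_of_dvd two_pos (relIindex_dvd_two_iff'.2 h))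

theorem card_map_mul {H Γ : Type*} [Group H] [Group Γ] (f : H →* Γ) (K : Subgroup H) :
    Nat.card ↥(f.ker ⊓ K) * Nat.card (K.map f) = Nat.card K := by
  rw [← Core.card_inf_mul_relIndex f.ker K, relIndex_ker]

variable {H V : Type*} [Group H] [AddCommGroup V] [Module (ZMod 2) V]

theorem two (x : V) : x + x = 0 := ZModModule.add_self x

theorem two' (x y : V) : x + (x + y) = y := by rw [← add_assoc, two, zero_add]

theorem az {x y : V} : x + y = 0 ↔ x = y := by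
  rw [add_eq_zero_iff_eq_neg, ZModModule.neg_eq_self]

theorem z2 : ∀ a b : ZMod 2, a ≠ 0 → b ≠ 0 → a + b = 0 := by decide

theorem z2' : ∀ a : ZMod 2, a = 0 ∨ a = 1 := by decide

theorem z2'' : ∀ a : ZMod 2, a + a = 0 := by decide

/-- the action on the central quotient -/
structure Ctx (H V : Type*) [Group H] [AddCommGroup V] [Module (ZMod 2) V] where
  /-- action -/
  α : H →* (V ≃ₗ[ZMod 2] V)
  /-- form -/
  B : LinearMap.BilinForm (ZMod 2) V
  /-- projection -/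
  π : H →* Perm (Fin 3) × Perm (Fin 6)
  /-- element of order three -/
  τ : H
  alt : B.IsAlt
  nd : B.Nondegenerate
  inv : ∀ h u v, B (α h u) (α h v) = B u v
  ker : ∀ h, π h = 1 ↔ α h = 1
  dim : finrank (ZMod 2) V = 8
  hτ : π τ = (finRotate 3, 1)
  lift : ∀ ρ, Perm.sign ρ = 1 → ∃ h, π h = (1, ρ)

/-- the data of a conjugate of the central involution -/
structure Pt (c : Ctx H V) (y : V) (I : Submodule (ZMod 2) V) (A : Subgroup H) : Prop where
  y0 : y ≠ 0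
  yI : y ∈ I
  iso : ∀ i ∈ I, ∀ j ∈ I, c.B i j = 0
  aB : ∀ a ∈ A, ∀ v, c.B v y = 0 → c.α a v + v ∈ I
  aI : ∀ a ∈ A, ∀ i ∈ I, c.α a i + i = 0 ∨ c.α a i + i = y
  inj : ∀ a ∈ A, ∀ v, c.B v y ≠ 0 → c.α a v + v ∈ I → c.π a = 1
  fix : ∀ i ∈ I, (∀ a ∈ A, c.α a i = i) → i = 0 ∨ i = y
  sq : ∀ a ∈ A, c.π a * c.π a = 1
  cA : Nat.card A = 256
  cI : Nat.card ↥(c.π.ker ⊓ A) = 2 * Nat.card I
  cC : ∀ C : Subgroup H, C ≤ A → (∀ a ∈ C, ∀ i ∈ I, c.α a i = i) → Nat.card C * Nat.card I ≤ 512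
  nA : ∀ h, c.α h y = y → ∀ a ∈ A, ∃ a' ∈ A, c.π (h * a * h⁻¹) = c.π a'
  nI : ∀ h, c.α h y = y → ∀ i ∈ I, c.α h i ∈ I

namespace Ctx

variable (c : Ctx H V)

theorem eqα {g h : H} (e : c.π g = c.π h) : c.α g = c.α h := by
  have := (c.ker (h⁻¹ * g)).1 (by rw [map_mul, map_inv, e, inv_mul_cancel])
  rwa [map_mul, map_inv, inv_mul_eq_one, eq_comm] at this

theorem mul (g h : H) (v : V) : c.α (g * h) v = c.α g (c.α h v) := by rw [map_mul]; rfl

theorem cm {g h : H} (e : c.π (g * h) = c.π (h * g)) (v : V) : c.α g (c.α h v) = c.α h (c.α g v) := by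
  rw [← c.mul, ← c.mul, c.eqα e]

theorem il (g : H) (v : V) : c.α g⁻¹ (c.α g v) = v := by rw [← c.mul, inv_mul_cancel, map_one]; rfl

theorem ir (g : H) (v : V) : c.α g (c.α g⁻¹ v) = v := by rw [← c.mul, mul_inv_cancel, map_one]; rfl

theorem t3 (v : V) : c.α c.τ (c.α c.τ (c.α c.τ v)) = v := by
  rw [← c.mul, ← c.mul, (c.ker _).1 (by rw [map_mul, map_mul, c.hτ]; decide)]; rfl

theorem cτ {a : H} (ha : (c.π a).1 = 1) : c.π (a * c.τ) = c.π (c.τ * a) := by
  rw [map_mul, map_mul, c.hτ]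
  exact Prod.ext (by simp [ha]) (by simp)

theorem symm (u v : V) : c.B u v = c.B v u := by
  rw [← c.alt.neg_eq u v, ZMod.neg_eq_self_mod_two]

include c in
theorem fd : FiniteDimensional (ZMod 2) V := Module.finite_of_finrank_pos (by rw [c.dim]; norm_num)

theorem maxiso {W : Submodule (ZMod 2) V} (h : ∀ i ∈ W, ∀ j ∈ W, c.B i j = 0) :
    finrank (ZMod 2) W ≤ 4 ∧ (4 ≤ finrank (ZMod 2) W → ∀ v, (∀ w ∈ W, c.B w v = 0) → v ∈ W) := by
  haveI : Fact (Nat.Prime 2) := ⟨Nat.prime_two⟩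
  haveI := c.fd
  have h1 : W ≤ c.B.orthogonal W := fun j hj i hi => h i hi j hj
  have h2 := LinearMap.BilinForm.finrank_orthogonal c.nd W
  have h3 := Submodule.finrank_mono h1
  rw [c.dim] at h2
  refine ⟨by omega, fun h4 v hv => ?_⟩
  exact (Submodule.eq_of_le_of_finrank_le h1 (by omega)).ge hv

/-- the range of `e + 1` -/
def R (e : H) : Submodule (ZMod 2) V := LinearMap.range ((c.α e : V →ₗ[ZMod 2] V) + LinearMap.id)

theorem mem_R {e : H} {w : V} : w ∈ c.R e ↔ ∃ v, c.α e v + v = w := Iff.rfl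

theorem ee {e : H} (he : c.π e * c.π e = 1) (v : V) : c.α e (c.α e v) = v := by
  rw [← c.mul, (c.ker _).1 (by rw [map_mul, he])]; rfl

theorem R_fix {e : H} (he : c.π e * c.π e = 1) {w : V} (hw : w ∈ c.R e) : c.α e w = w := by
  obtain ⟨v, rfl⟩ := c.mem_R.1 hw
  rw [map_add, c.ee he, add_comm]

theorem R_orth {e : H} {w u : V} (hw : w ∈ c.R e) (hu : c.α e u = u) : c.B w u = 0 := by
  obtain ⟨v, rfl⟩ := c.mem_R.1 hw
  rw [map_add, LinearMap.add_apply]
  nth_rewrite 1 [← hu]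
  rw [c.inv, z2'']

/-- the span of `y` and its image under `τ` -/
def X (y : V) : Submodule (ZMod 2) V := Submodule.span (ZMod 2) {y, c.α c.τ y}

theorem mem_X {y w : V} : w ∈ c.X y ↔ w = 0 ∨ w = y ∨ w = c.α c.τ y ∨ w = y + c.α c.τ y := by
  rw [X, Submodule.mem_span_pair]
  constructor
  · rintro ⟨a, b, rfl⟩
    rcases z2' a with rfl | rfl <;> rcases z2' b with rfl | rfl <;> simp
  · rintro (rfl | rfl | rfl | rfl)
    exacts [⟨0, 0, by simp⟩, ⟨1, 0, by simp⟩, ⟨0, 1, by simp⟩, ⟨1, 1, by simp⟩]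

theorem four {y u : V} (hy0 : y ≠ 0) (hy : c.α c.τ (c.α c.τ y) = c.α c.τ y + y)
    (hu : c.α c.τ (c.α c.τ u) = c.α c.τ u + u) (hX : u ∉ c.X y) {W : Submodule (ZMod 2) V}
    (h1 : y ∈ W) (h2 : c.α c.τ y ∈ W) (h3 : u ∈ W) (h4 : c.α c.τ u ∈ W) : 4 ≤ finrank (ZMod 2) W := by
  haveI : Fact (Nat.Prime 2) := ⟨Nat.prime_two⟩
  haveI := c.fd
  have hT : ∀ w ∈ c.X y, c.α c.τ w ∈ c.X y := fun w hw => by
    rcases c.mem_X.1 hw with rfl | rfl | rfl | rfl <;> rw [c.mem_X] <;>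
      simp [hy, add_comm, add_left_comm, two', two]
  have l1 : (⊥ : Submodule (ZMod 2) V) < Submodule.span (ZMod 2) {y} :=
    bot_lt_iff_ne_bot.2 (by simpa using hy0)
  have l2 : Submodule.span (ZMod 2) {y} < c.X y := by
    refine lt_of_le_of_ne (Submodule.span_mono (by simp)) fun e => ?_
    obtain ⟨a, ha⟩ := Submodule.mem_span_singleton.1 (e.ge (c.mem_X.2 (by simp) : c.α c.τ y ∈ c.X y))
    rcases z2' a with rfl | rfl
    · exact hy0 (by simpa using ha.symm)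
    · rw [one_smul] at ha
      rw [← ha, ← ha, two] at hy
      exact hy0 hy
  have l3 : c.X y < c.X y ⊔ Submodule.span (ZMod 2) {u} :=
    lt_of_le_of_ne le_sup_left fun e => hX (e.ge (Submodule.mem_sup_right (Submodule.mem_span_singleton_self u)))
  have l4 : c.X y ⊔ Submodule.span (ZMod 2) {u} < W := by
    refine lt_of_le_of_ne (sup_le (Submodule.span_le.2 ?_) (Submodule.span_le.2 ?_)) fun e => ?_
    · rintro _ (rfl | rfl); exacts [h1, h2]
    · rintro _ rfl; exact h3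
    obtain ⟨x, hx, _, hs, e1⟩ := Submodule.mem_sup.1 (e.ge h4)
    obtain ⟨a, rfl⟩ := Submodule.mem_span_singleton.1 hs
    rcases z2' a with rfl | rfl
    · rw [zero_smul, add_zero] at e1
      exact hX (c.t3 u ▸ hT _ (hT _ (e1 ▸ hx)))
    · rw [one_smul] at e1
      have : c.α c.τ (c.α c.τ u) = x := by rw [hu, ← e1, add_assoc, two, add_zero]
      exact hX (c.t3 u ▸ hT _ (this ▸ hx))
  have := Submodule.finrank_lt_finrank_of_lt l1
  have := Submodule.finrank_lt_finrank_of_lt l2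
  have := Submodule.finrank_lt_finrank_of_lt l3
  have := Submodule.finrank_lt_finrank_of_lt l4
  omega

include c in
theorem card_sub (W : Submodule (ZMod 2) V) : Nat.card W = 2 ^ finrank (ZMod 2) W := by
  haveI : Fact (Nat.Prime 2) := ⟨Nat.prime_two⟩
  haveI := c.fd
  rw [Module.natCard_eq_pow_finrank (K := ZMod 2), Nat.card_zmod]

end Ctx

end Cfsg.Agent.Sm
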