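import Mathlib
import Cfsg.Agent.Isaacs.Sm9

/-! The point data: the intersection has dimension four. -/

set_option autoImplicit false

namespace Cfsg.Agent.Sm

open Equiv Module Subgroup

variable {H V : Type*} [Group H] [AddCommGroup V] [Module (ZMod 2) V]
  {c : Ctx H V} {y : V} {I : Submodule (ZMod 2) V} {A : Subgroup H}

/-- elements with trivial first coordinate -/
def Ctx.L (c : Ctx H V) : Subgroup H := ((MonoidHom.fst _ _).comp c.π).ker

theorem Ctx.mem_L {a : H} : a ∈ c.L ↔ (c.π a).1 = 1 := Iff.rfl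

/-- the pointwise stabilizer of a subspace -/
def Ctx.C (c : Ctx H V) (I : Submodule (ZMod 2) V) : Subgroup H where
  carrier := {a | ∀ i ∈ I, c.α a i = i}
  one_mem' := fun i _ => by simp
  mul_mem' := fun {a b} ha hb i hi => by rw [c.mul, hb i hi, ha i hi]
  inv_mem' := fun {a} ha i hi => by
    nth_rewrite 1 [← ha i hi]
    rw [c.il]

namespace Pt

variable (h : Pt c y I A)
include h

theorem ay {a : H} (ha : a ∈ A) : c.α a y = y := by
  rcases h.aI a ha y h.yI with e | e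
  · exact az.1 e
  · exact (h.y0 (by simpa using e)).elim

theorem comm {a b : H} (ha : a ∈ A) (hb : b ∈ A) : c.π a * c.π b = c.π b * c.π a := by
  have h1 := h.sq _ (mul_mem ha hb)
  rw [map_mul] at h1
  rw [eq_inv_of_mul_eq_one_left h1, mul_inv_rev, inv_eq_of_mul_eq_one_right (h.sq a ha),
    inv_eq_of_mul_eq_one_right (h.sq b hb)]

theorem sub {e : H} (he : e ∈ A) {v v' : V} (hv : c.B v y ≠ 0) (hv' : c.B v' y ≠ 0) :
    c.α e v + v + (c.α e v' + v') ∈ I := by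
  have := h.aB e he (v + v') (by rw [map_add, LinearMap.add_apply]; exact z2 _ _ hv hv')
  rw [map_add] at this
  convert this using 1
  abel

theorem l1 {e e' : H} (he : e ∈ A) (he' : e' ∈ A) (hne : c.π e ≠ c.π e') {w : V} (h1 : w ∈ c.R e)
    (h2 : w ∈ c.R e') : w ∈ I := by
  obtain ⟨v, hv⟩ := c.mem_R.1 h1
  obtain ⟨v', hv'⟩ := c.mem_R.1 h2
  by_cases k : c.B v y = 0
  · exact hv ▸ h.aB e he v k
  by_cases k' : c.B v' y = 0
  · exact hv' ▸ h.aB e' he' v' k'
  refine (hne ?_).elim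
  have h3 := h.sub he' k k'
  rw [hv', ← hv] at h3
  have h4 := h.nI _ (h.ay (inv_mem he')) _ h3
  have h5 := h.inj _ (mul_mem (inv_mem he') he) v k (by
    convert h4 using 1
    simp only [map_add, c.il, c.mul, add_assoc, add_comm, add_left_comm, two'])
  rwa [map_mul, map_inv, inv_mul_eq_one, eq_comm] at h5

theorem cI_le : Nat.card I ≤ 16 := by
  have := h.cC (c.π.ker ⊓ A) inf_le_right fun a ha i _ => by rw [(c.ker a).1 ha.1]; rfl
  rw [h.cI] at this
  nlinarith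

theorem half0 : (A ≤ c.L) ∨ ∃ s ∈ A, s ∉ c.L ∧ ∀ b ∈ A, s * b ∈ c.L ∨ b ∈ c.L := by
  by_cases k : A ≤ c.L
  · exact Or.inl k
  obtain ⟨s, hs, hsL⟩ := SetLike.not_le_iff_exists.1 k
  refine Or.inr ⟨s, hs, hsL, fun b hb => or_iff_not_imp_right.2 fun hbL => ?_⟩
  rw [Ctx.mem_L, map_mul]
  exact (s3 _ (congrArg Prod.fst (h.sq s hs)) hsL).2.2 _ (congrArg Prod.fst (h.sq b hb)) hbL
    (congrArg Prod.fst (h.comm hs hb))

theorem c0 : 128 ≤ Nat.card ↥(c.L ⊓ A) := by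
  have : Nat.card A ≤ Nat.card ↥(c.L ⊓ A) * 2 := half (by
    rcases h.half0 with k | ⟨s, hs, -, k⟩
    exacts [⟨1, one_mem _, fun b hb => Or.inr (k hb)⟩, ⟨s, hs, k⟩])
  rw [h.cA] at this
  omega

theorem c0' : 2 * Nat.card I * Nat.card ((c.L ⊓ A).map ((MonoidHom.snd _ _).comp c.π)) =
    Nat.card ↥(c.L ⊓ A) := by
  rw [← card_map_mul ((MonoidHom.snd _ _).comp c.π) (c.L ⊓ A), ← h.cI]
  congr 3
  ext a
  simp only [mem_inf, MonoidHom.mem_ker, Ctx.mem_L, Prod.ext_iff]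
  simp; tauto

theorem F_sq : ∀ x ∈ (c.L ⊓ A).map ((MonoidHom.snd _ _).comp c.π), x * x = 1 := by
  rintro _ ⟨a, ha, rfl⟩
  exact congrArg Prod.snd (h.sq a ha.2)

theorem cI_ge : 8 ≤ Nat.card I := by
  have h1 := h.c0
  have h2 := card_le_eight h.F_sq
  rw [← h.c0'] at h1
  nlinarith

theorem exists_two [Finite H] : ∃ e ∈ c.L ⊓ A, e ∉ c.C I ∧ ∃ e' ∈ c.L ⊓ A, e' ∉ c.C I ∧ c.π e ≠ c.π e' := by
  have h0 := h.c0
  have h1 := h.cC (c.C I ⊓ (c.L ⊓ A)) (inf_le_right.trans inf_le_right) fun a ha => ha.1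
  have h2 := h.cI_ge
  obtain ⟨e, he, heC⟩ : ∃ e ∈ c.L ⊓ A, e ∉ c.C I := by
    by_contra k
    push Not at k
    rw [inf_eq_right.2 k] at h1
    nlinarith
  refine ⟨e, he, heC, ?_⟩
  by_contra k
  push Not at k
  have h3 : c.C I ⊓ (c.L ⊓ A) ≤ c.π.ker ⊓ A := fun d hd => ⟨by
    have := k (e * d) (mul_mem he hd.2) fun k' => heC (((c.C I).mul_mem_cancel_right hd.1).1 k')
    rw [map_mul] at this
    simpa using this.symm, hd.2.2⟩
  have h4 : Nat.card ↥(c.L ⊓ A) ≤ Nat.card ↥(c.C I ⊓ (c.L ⊓ A)) * 2 :=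
    half ⟨e⁻¹, inv_mem he, fun b hb => or_iff_not_imp_right.2 fun hbC i _ => by
      rw [c.mul, ← c.eqα (k b hb hbC), c.il]⟩
  have h5 := card_le_of_le h3
  rw [h.cI] at h5
  have := h.cI_le
  omega

theorem y_mem_R {e : H} (he : e ∈ A) (heC : e ∉ c.C I) : y ∈ c.R e := by
  have : ¬ ∀ i ∈ I, c.α e i = i := heC
  push Not at this
  obtain ⟨i, hi, k⟩ := this
  exact ⟨i, (h.aI e he i hi).resolve_left fun k' => k (az.1 k')⟩

omit h in
theorem T_mem_R {e : H} (he : e ∈ c.L) {w : V} (hw : w ∈ c.R e) : c.α c.τ w ∈ c.R e := by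
  obtain ⟨v, rfl⟩ := c.mem_R.1 hw
  exact ⟨c.α c.τ v, by rw [map_add, ← c.cm (c.cτ he)]; rfl⟩

variable [Finite H]

theorem TI : c.α c.τ y ∈ I := by
  obtain ⟨e, he, heC, e', he', heC', hne⟩ := h.exists_two
  exact h.l1 he.2 he'.2 hne (T_mem_R he.1 (h.y_mem_R he.2 heC)) (T_mem_R he'.1 (h.y_mem_R he'.2 heC'))

theorem not_le : ¬ A ≤ c.L := fun k => by
  have h1 := h.c0'
  have h2 := card_le_eight h.F_sq
  have h3 := h.cI_le
  rw [inf_eq_right.2 k] at h1 h2
  rw [h.cA] at h1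
  have h4 : 4 ≤ finrank (ZMod 2) I := by
    have h5 : 2 ^ 4 ≤ Nat.card I := by nlinarith
    rw [c.card_sub] at h5
    exact (Nat.pow_le_pow_iff_right one_lt_two).1 h5
  have h5 : c.α c.τ y = y := (h.fix _ h.TI fun a ha => by
    rw [c.cm (c.cτ (k ha)), h.ay ha]).resolve_left (by simpa using h.y0)
  have h6 : ∀ i ∈ I, c.α c.τ i = i := fun i hi => by
    rcases h.fix _ (I.add_mem (h.nI _ h5 i hi) hi) fun a ha => by
        rw [map_add, c.cm (c.cτ (k ha))]
        rcases h.aI a ha i hi with e | e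
        · rw [az.1 e]
        · rw [show c.α a i = i + y by rw [← e, add_comm, add_assoc, two, add_zero], map_add, h5]
          simp only [add_assoc, add_comm, add_left_comm, two'] with e | e
    · exact az.1 e
    · have e1 : c.α c.τ i = i + y := by rw [← e, add_comm, add_assoc, two, add_zero]
      have := c.t3 i
      simp only [e1, map_add, h5, add_assoc, two'] at this
      exact (h.y0 (by simpa using this)).elim
  have h7 : ∀ v, c.α c.τ (c.α c.τ v) = v := fun v => by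
    have := h6 _ ((c.maxiso h.iso).2 h4 (c.α c.τ v + v) fun w hw => by
      rw [map_add]
      nth_rewrite 1 [← h6 w hw]
      rw [c.inv, z2''])
    rw [map_add, add_comm] at this
    exact add_left_cancel this
  have h8 : c.α c.τ = 1 := LinearEquiv.ext fun v => by
    have := c.t3 v
    rwa [h7] at this
  have := (c.ker _).2 h8
  rw [c.hτ] at this
  exact absurd this (by decide)

theorem exists_s : ∃ s ∈ A, s ∉ c.L ∧ ∀ b ∈ A, s * b ∈ c.L ∨ b ∈ c.L :=
  h.half0.resolve_left h.not_le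

theorem Tne : c.α c.τ y ≠ y := fun e => by
  obtain ⟨s, hs, hsL, -⟩ := h.exists_s
  obtain ⟨a, ha, ea⟩ := h.nA _ e s hs
  refine (s3 _ (congrArg Prod.fst (h.sq s hs)) hsL).2.1 ?_
  have h1 := congrArg Prod.fst (h.comm ha hs)
  rw [← ea, map_mul, map_mul, map_inv, c.hτ] at h1
  exact h1

omit h [Finite H] in
theorem sT {s : H} (hs : c.π s * c.π s = 1) (hsL : s ∉ c.L) (v : V) :
    c.α s (c.α c.τ v) = c.α c.τ (c.α c.τ (c.α s v)) := by
  rw [← c.mul, ← c.mul, ← c.mul, c.eqα (g := s * c.τ) (h := c.τ * c.τ * s)]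
  simp only [map_mul, c.hτ]
  exact Prod.ext (s3 _ (congrArg Prod.fst hs) hsL).1 (by simp)

theorem TT : c.α c.τ (c.α c.τ y) = c.α c.τ y + y := by
  obtain ⟨s, hs, hsL, -⟩ := h.exists_s
  have h1 := sT (h.sq s hs) hsL y
  rw [h.ay hs] at h1
  rcases h.aI s hs _ h.TI with e | e
  · rw [h1, az] at e
    exact (h.Tne ((c.α c.τ).injective e)).elim
  · rw [h1] at e
    linear_combination (norm := abel) e - two (c.α c.τ y)

theorem exists_t0 : ∃ t, c.B t y ≠ 0 ∧ c.α c.τ (c.α c.τ t) = c.α c.τ t + t := by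
  obtain ⟨w, hw⟩ : ∃ w, c.B w y ≠ 0 := by
    by_contra k
    push Not at k
    exact h.y0 (c.nd.2 y k)
  by_cases k : c.B (c.α c.τ w) y = 0
  · refine ⟨w + c.α c.τ w, by simpa [k] using hw, ?_⟩
    simp only [map_add, c.t3, add_assoc, add_comm, add_left_comm, two']
  · refine ⟨w + c.α c.τ (c.α c.τ w), ?_, ?_⟩
    · have h1 : c.B (c.α c.τ (c.α c.τ w)) y = 0 := by
        have h2 := c.inv c.τ (c.α c.τ w) (c.α c.τ (c.α c.τ y))
        have h3 := c.inv c.τ (c.α c.τ (c.α c.τ w)) (c.α c.τ (c.α c.τ y))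
        have h4 := c.inv c.τ w y
        rw [c.t3] at h2
        rw [h2, h.TT, map_add, h4]
        exact z2 _ _ hw k
      simpa [h1] using hw
    · simp only [map_add, c.t3, add_assoc, add_comm, add_left_comm, two']

theorem rank4 {e : H} (he : e ∈ c.L ⊓ A) (heC : e ∉ c.C I) :
    4 ≤ finrank (ZMod 2) (c.R e) ∧ ∃ u ∈ c.R e, u ∉ I ∧ ∀ w ∈ c.R e, w ∈ I ∨ w + u ∈ I := by
  obtain ⟨t, ht, hT⟩ := h.exists_t0
  have hu : c.α e t + t ∉ I := fun k => heC fun i _ => by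
    rw [(c.ker e).1 (h.inj e he.2 t ht k)]; rfl
  have hy := h.y_mem_R he.2 heC
  refine ⟨c.four (u := c.α e t + t) h.y0 h.TT ?_ (fun k => hu ?_) hy (T_mem_R he.1 hy) ⟨t, rfl⟩
    (T_mem_R he.1 ⟨t, rfl⟩), _, ⟨t, rfl⟩, hu, ?_⟩
  · simp only [map_add, ← c.cm (c.cτ he.1), hT]
    abel
  · rcases c.mem_X.1 k with k | k | k | k <;> rw [k]
    exacts [I.zero_mem, h.yI, h.TI, I.add_mem h.yI h.TI]
  · rintro _ ⟨v, rfl⟩
    by_cases k : c.B v y = 0
    exacts [Or.inl (h.aB e he.2 v k), Or.inr (h.sub he.2 k ht)]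

theorem fin4 : finrank (ZMod 2) I = 4 := by
  haveI : Fact (Nat.Prime 2) := ⟨Nat.prime_two⟩
  haveI := c.fd
  refine le_antisymm (c.maxiso h.iso).1 ?_
  by_contra k
  obtain ⟨e, he, heC, -⟩ := h.exists_two
  obtain ⟨h1, u, hu, huI, h2⟩ := h.rank4 he heC
  have h3 : c.R e ≤ I ⊔ Submodule.span (ZMod 2) {u} := fun w hw => by
    rcases h2 w hw with k | k
    · exact Submodule.mem_sup_left k
    · have := Submodule.add_mem _ (Submodule.mem_sup_left k : _ ∈ I ⊔ Submodule.span (ZMod 2) {u})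
        (Submodule.mem_sup_right (Submodule.mem_span_singleton_self u))
      rwa [add_assoc, two, add_zero] at this
  have h4 := Submodule.finrank_add_le_finrank_add_finrank I (Submodule.span (ZMod 2) {u})
  have h5 := finrank_span_singleton (K := ZMod 2) (fun e => huI (e ▸ I.zero_mem) : u ≠ 0)
  have h6 := Submodule.eq_of_le_of_finrank_le h3 (by omega)
  exact heC fun i hi => c.R_fix (h.sq e he.2) (h6.ge (Submodule.mem_sup_left hi))

end Pt

end Cfsg.Agent.Sm
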