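import Mathlib
import Cfsg.Agent.Isaacs.Sm10

/-! The contradiction from a plane of conjugates. -/

set_option autoImplicit false

namespace Cfsg.Agent.Sm

open Equiv Module Subgroup

variable {H V : Type*} [Group H] [AddCommGroup V] [Module (ZMod 2) V]
  {c : Ctx H V} {y : V} {I : Submodule (ZMod 2) V} {A : Subgroup H} [Finite H]

namespace Pt

theorem cI16 (h : Pt c y I A) : Nat.card I = 16 := by rw [c.card_sub, h.fin4]; norm_num

theorem notC (h : Pt c y I A) {e : H} (he : e ∈ A) (h1 : c.π e ≠ 1) : e ∉ c.C I := fun k => by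
  have h2 := h.cC (c.C I ⊓ A) inf_le_right fun a ha => ha.1
  have h3 : c.π.ker ⊓ A ≤ c.C I ⊓ A := fun a ha =>
    ⟨fun i _ => by rw [(c.ker a).1 ha.1]; rfl, ha.2⟩
  have h4 := eq_of_le_of_card_ge h3 (by rw [h.cI, h.cI16] at *; omega)
  exact h1 (h4.ge ⟨k, he⟩).1

theorem klein (h : Pt c y I A) : ∃ e₁ ∈ c.L ⊓ A, ∃ e₂ ∈ c.L ⊓ A, (c.π e₁).2 ≠ 1 ∧ (c.π e₂).2 ≠ 1 ∧
    (c.π e₂).2 ≠ (c.π e₁).2 ∧ Perm.sign (c.π e₁).2 = 1 ∧
    ∀ e ∈ c.L ⊓ A, In (c.π e₁).2 (c.π e₂).2 (c.π e).2 := by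
  haveI : Fact (Nat.Prime 2) := ⟨Nat.prime_two⟩
  set F := (c.L ⊓ A).map ((MonoidHom.snd _ _).comp c.π) with hF
  have h4 : Nat.card F = 4 := by
    have h1 := h.c0'
    have h2 := h.c0
    have h3 : Nat.card ↥(c.L ⊓ A) ∣ 256 := h.cA ▸ card_dvd_of_le inf_le_right
    have h5 : Nat.card ↥(c.L ⊓ A) ≠ 256 := fun e => h.not_le
      (inf_eq_right.1 (eq_of_le_of_card_ge inf_le_right (by rw [e, h.cA])))
    obtain ⟨k, hk⟩ := h3
    rw [h.cI16, ← hF] at h1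
    have : k = 2 := by
      have : k ≤ 2 := by nlinarith
      interval_cases k <;> omega
    subst this
    omega
  haveI : Nontrivial F := Finite.one_lt_card_iff_nontrivial.1 (by omega)
  haveI : IsKleinFour F := ⟨h4, (Monoid.exponent_eq_prime_iff Nat.prime_two).2 fun g hg =>
    orderOf_eq_prime (Subtype.ext (by simpa [pow_two] using h.F_sq g g.2)) hg⟩
  obtain ⟨a, ha, ha1⟩ : ∃ a ∈ Perm.sign.ker ⊓ F, a ≠ 1 := by
    by_contra k
    push Not at k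
    have h1 := card_map_mul Perm.sign F
    rw [(eq_bot_iff_forall _).2 k, card_bot, h4] at h1
    have h2 := (F.map Perm.sign).card_le_card_group
    rw [Nat.card_eq_fintype_card (α := ℤˣ), Fintype.card_units_int] at h2
    omega
  obtain ⟨b, hb1, hba⟩ : ∃ b : F, b ≠ 1 ∧ b ≠ ⟨a, ha.2⟩ := by
    by_contra k
    push Not at k
    have := Nat.card_le_card_of_surjective (fun t : Bool => if t then (1 : F) else ⟨a, ha.2⟩) fun b => by
      by_cases e : b = 1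
      exacts [⟨true, e.symm⟩, ⟨false, (k b e).symm⟩]
    simp [h4] at this
  obtain ⟨e₁, he₁, rfl⟩ := ha.2
  obtain ⟨b, e₂, he₂, rfl⟩ := b
  refine ⟨e₁, he₁, e₂, he₂, ha1, fun e => hb1 (Subtype.ext e), fun e => hba (Subtype.ext e), ha.1,
    fun e he => ?_⟩
  by_contra k
  simp only [In, not_or] at k
  exact k.2.2.2 (congrArg Subtype.val (IsKleinFour.eq_mul_of_ne_all (G := F) (x := ⟨_, ha.2⟩)
    (z := ⟨_, e, he, rfl⟩) (fun e => ha1 (congrArg Subtype.val e)) hb1 hba.symm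
    (fun e => k.1 (congrArg Subtype.val e)) (fun e => k.2.1 (congrArg Subtype.val e))
    fun e => k.2.2.1 (congrArg Subtype.val e)))

theorem final (h : Pt c y I A)
    (tri : ∀ k : H, c.α k y ∈ I → c.α k y ≠ y → (∀ u ∈ A, k⁻¹ * u * k ∈ A → u ∈ c.L → c.π u = 1) →
      3 ≤ finrank (ZMod 2) ↥(I ⊓ I.map (c.α k : V →ₗ[ZMod 2] V))) : False := by
  haveI : Fact (Nat.Prime 2) := ⟨Nat.prime_two⟩
  haveI := c.fd
  obtain ⟨e₁, he₁, e₂, he₂, ha1, hb1, hba, hsg, hIn⟩ := h.klein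
  set a := (c.π e₁).2 with ha
  set b := (c.π e₂).2 with hb
  have hC₁ : e₁ ∉ c.C I := h.notC he₁.2 fun e => ha1 (congrArg Prod.snd e)
  have hC₂ : e₂ ∉ c.C I := h.notC he₂.2 fun e => hb1 (congrArg Prod.snd e)
  have hrep : ∀ g ∈ c.L, In a b (c.π g).2 → ∀ w, c.α e₁ w = w → c.α e₂ w = w → c.α g w = w := by
    rintro g hg (k | k | k | k) w h1 h2
    · rw [(c.ker g).1 (Prod.ext hg k)]; rfl
    · rw [c.eqα (h := e₁) (Prod.ext (hg.trans he₁.1.symm) k), h1]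
    · rw [c.eqα (h := e₂) (Prod.ext (hg.trans he₂.1.symm) k), h2]
    · rw [c.eqα (h := e₁ * e₂) (Prod.ext (hg.trans (mul_mem he₁.1 he₂.1).symm) (by
        rw [k, map_mul]; rfl)), c.mul, h2, h1]
  have hR : ∀ {e : H}, e ∈ c.L ⊓ A → e ∉ c.C I → ∀ w, c.α e w = w → w ∈ c.R e := fun he hC w hw =>
    (c.maxiso fun i hi j hj => c.R_orth hi (c.R_fix (h.sq _ he.2) hj)).2 (h.rank4 he hC).1 w
      fun u hu => c.R_orth hu hw
  have hTfix : ∀ {g : H} {w : V}, g ∈ c.L → c.α g w = w → c.α g (c.α c.τ w) = c.α c.τ w :=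
    fun hg hw => by rw [c.cm (c.cτ hg), hw]
  have P8 : ∀ w, c.α e₁ w = w → c.α e₂ w = w → w ∈ c.X y := fun w h1 h2 => by
    have hw : w ∈ I := h.l1 he₁.2 he₂.2 (fun e => hba (congrArg Prod.snd e).symm) (hR he₁ hC₁ w h1)
      (hR he₂ hC₂ w h2)
    obtain ⟨s, hs, hsL, hsb⟩ := h.exists_s
    have key : ∀ u, c.α e₁ u = u → c.α e₂ u = u → c.α s u = u → ∀ g ∈ A, c.α g u = u :=
      fun u k1 k2 k3 g hg => by
        rcases hsb g hg with k | k
        · have := hrep _ k (hIn _ ⟨k, mul_mem hs hg⟩) u k1 k2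
          rw [c.mul] at this
          exact (c.α s).injective (this.trans k3.symm)
        · exact hrep _ k (hIn _ ⟨k, hg⟩) u k1 k2
    rw [c.mem_X]
    rcases h.aI s hs w hw with e | e
    · have := h.fix w hw (key w h1 h2 (az.1 e))
      tauto
    · have := h.fix _ (I.add_mem hw h.TI) (key _ (by rw [map_add, h1, hTfix he₁.1 (h.ay he₁.2)])
        (by rw [map_add, h2, hTfix he₂.1 (h.ay he₂.2)]) (by
          rw [map_add, sT (h.sq s hs) hsL, h.ay hs, h.TT]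
          linear_combination (norm := abel) e - two w + two y))
      rcases this with k | k
      · exact Or.inr (Or.inr (Or.inl (az.1 k)))
      · refine Or.inr (Or.inr (Or.inr ?_))
        linear_combination (norm := abel) k - two (c.α c.τ y)
  have hcj : ∀ (k : H) {g : H}, g ∈ c.L → k * g * k⁻¹ ∈ c.L := fun k g hg =>
    (MonoidHom.normal_ker _).conj_mem g hg k
  have hcj' : ∀ (k : H) {g : H}, g ∈ c.L → k⁻¹ * g * k ∈ c.L := fun k g hg =>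
    (MonoidHom.normal_ker _).conj_mem' g hg k
  have P9 : ∀ g ∈ c.L, c.π g * c.π g = 1 → Nm a b (c.π g).2 → c.α g y = y := fun g hg hgg hN => by
    have k : ∀ e ∈ c.L ⊓ A, In a b ((c.π g).2 * (c.π e).2 * ((c.π g).2)⁻¹) →
        c.α e (c.α g y) = c.α g y := fun e he hi => by
      have := hrep _ (hcj g he.1) (by simpa using hi) y (h.ay he₁.2) (h.ay he₂.2)
      rw [c.mul, c.mul, c.eqα (g := g⁻¹) (h := g) (by
        rw [map_inv, inv_eq_of_mul_eq_one_right hgg])] at this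
      rw [← c.ee hgg (c.α e (c.α g y)), this]
    have h1 := c.ee hgg y
    rcases c.mem_X.1 (P8 _ (k e₁ he₁ hN.1) (k e₂ he₂ hN.2)) with e | e | e | e
    · exact (h.y0 (by simpa using e)).elim
    · exact e
    · rw [e, c.cm (c.cτ hg), e] at h1
      have := c.t3 y
      rw [h1] at this
      exact (h.Tne this).elim
    · rw [add_comm, ← h.TT] at e
      rw [e, c.cm (c.cτ hg), c.cm (c.cτ hg), e, c.t3] at h1
      exact (h.Tne h1).elim
  have P10' : ∀ k : H, c.α k y = y → Nm a b (c.π k).2 := fun k hk => by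
    have key : ∀ e ∈ c.L ⊓ A, In a b ((c.π k).2 * (c.π e).2 * ((c.π k).2)⁻¹) := fun e he => by
      obtain ⟨a', ha', ea⟩ := h.nA k hk e he.2
      have := hIn a' ⟨Ctx.mem_L.2 (by rw [← ea]; exact hcj k he.1), ha'⟩
      rw [← ea] at this
      simpa using this
    exact ⟨key e₁ he₁, key e₂ he₂⟩
  have P10 : ∀ k : H, c.α k y ∈ c.X y → Nm a b (c.π k).2 := fun k hk => by
    rcases c.mem_X.1 hk with e | e | e | e
    · exact (h.y0 (by simpa using e)).elim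
    · exact P10' k e
    · simpa [c.hτ] using P10' (c.τ * c.τ * k) (by rw [c.mul, c.mul, e, c.t3])
    · simpa [c.hτ] using P10' (c.τ * k) (by rw [c.mul, e, add_comm, ← h.TT, c.t3])
  have hsq : ∀ (k : H) {e : H}, e ∈ A → c.π (k⁻¹ * e * k) * c.π (k⁻¹ * e * k) = 1 := fun k e he => by
    rw [← map_mul, show k⁻¹ * e * k * (k⁻¹ * e * k) = k⁻¹ * (e * e) * k by group]
    simp [h.sq e he]
  have fixk : ∀ (k : H) {e : H}, e ∈ c.L ⊓ A → Nm a b (((c.π k).2)⁻¹ * (c.π e).2 * (c.π k).2) →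
      c.α e (c.α k y) = c.α k y := fun k e he hN => by
    have := P9 _ (hcj' k he.1) (hsq k he.2) (by simpa using hN)
    rw [c.mul, c.mul] at this
    rw [← c.ir k (c.α e (c.α k y)), this]
  obtain ⟨ρ, hρ, hN1, hCf⟩ := s6 (congrArg Prod.snd (h.sq _ he₁.2)) (congrArg Prod.snd (h.sq _ he₂.2))
    (congrArg Prod.snd (h.comm he₁.2 he₂.2)) ha1 hb1 hba hsg
  obtain ⟨g, hg⟩ := c.lift ρ hρ
  have hgρ : (c.π g).2 = ρ := by rw [hg]
  rcases hCf with ⟨hN2, hn⟩ | ⟨hN2, hn1, hn2, hn3⟩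
  · exact hn (hgρ ▸ P10 g (P8 _ (fixk g he₁ (hgρ ▸ hN1)) (fixk g he₂ (hgρ ▸ hN2))))
  obtain ⟨-, u, hu, huI, hRI⟩ := h.rank4 he₁ hC₁
  obtain ⟨k, hkρ, hkτ, hkI⟩ : ∃ k : H, (c.π k).2 = ρ ∧ c.π (k * c.τ) = c.π (c.τ * k) ∧ c.α k y ∈ I := by
    have hgL : g ∈ c.L := by rw [Ctx.mem_L, hg]
    have h1 := hR he₁ hC₁ _ (fixk g he₁ (hgρ ▸ hN1))
    rcases hRI _ h1 with k1 | k1
    · exact ⟨g, hgρ, c.cτ hgL, k1⟩
    rcases hRI _ (T_mem_R he₁.1 h1) with k2 | k2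
    · exact ⟨c.τ * g, by simp [c.hτ, hgρ], by simp [c.hτ, hg], by rw [c.mul]; exact k2⟩
    · refine ⟨g * c.τ * c.τ, by simp [c.hτ, hgρ], by simp [c.hτ, hg, mul_assoc], ?_⟩
      rw [c.mul, c.mul, h.TT, map_add, c.cm (c.cτ hgL)]
      convert I.add_mem k2 k1 using 1
      linear_combination (norm := abel) - two u
  have hkX : c.α k y ∉ c.X y := fun e => hn1 (hkρ ▸ P10 k e).1
  have h3 := tri k hkI (fun e => hkX (c.mem_X.2 (by simp [e]))) fun v hv hv' hvL => by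
    have h1 := hIn v ⟨hvL, hv⟩
    have h2 := hIn _ ⟨hcj' k hvL, hv'⟩
    have e : (c.π v).2 = ρ * (c.π (k⁻¹ * v * k)).2 * ρ⁻¹ := by simp [hkρ, mul_assoc]
    rw [e] at h1
    rcases h2 with k1 | k1 | k1 | k1 <;> rw [k1] at h1 e
    · exact Prod.ext hvL (by simpa using e)
    exacts [(hn1 h1).elim, (hn2 h1).elim, (hn3 h1).elim]
  set J := I ⊓ I.map (c.α k : V →ₗ[ZMod 2] V)
  set Z := c.X y ⊔ c.X (c.α k y) with hZ
  have hf1 := fixk k he₁ (hkρ ▸ hN1)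
  have hXle : ∀ {w : V} {W : Submodule (ZMod 2) V}, w ∈ W → c.α c.τ w ∈ W → c.X w ≤ W :=
    fun h1 h2 => Submodule.span_le.2 (by rintro _ (rfl | rfl); exacts [h1, h2])
  have hX1 : ∀ w, w ∈ c.X w := fun w => c.mem_X.2 (by simp)
  have hX2 : ∀ w, c.α c.τ w ∈ c.X w := fun w => c.mem_X.2 (by simp)
  have hy := h.y_mem_R he₁.2 hC₁
  have hZR : Z ≤ c.R e₁ := sup_le (hXle hy (T_mem_R he₁.1 hy))
    (hXle (hR he₁ hC₁ _ hf1) (T_mem_R he₁.1 (hR he₁ hC₁ _ hf1)))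
  have hZ4 : 4 ≤ finrank (ZMod 2) Z := c.four h.y0 h.TT (by
      rw [← c.cm hkτ, ← c.cm hkτ, h.TT, map_add]) hkX (Submodule.mem_sup_left (hX1 y))
    (Submodule.mem_sup_left (hX2 y)) (Submodule.mem_sup_right (hX1 _)) (Submodule.mem_sup_right (hX2 _))
  have hXI : c.X y ≤ I := hXle h.yI h.TI
  have hXI' : c.X (c.α k y) ≤ I.map (c.α k : V →ₗ[ZMod 2] V) :=
    hXle ⟨y, h.yI, rfl⟩ ⟨_, h.TI, c.cm hkτ y⟩
  have hiso : ∀ i ∈ I.map (c.α k : V →ₗ[ZMod 2] V), ∀ j ∈ I.map (c.α k : V →ₗ[ZMod 2] V),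
      c.B i j = 0 := by
    rintro _ ⟨i, hi, rfl⟩ _ ⟨j, hj, rfl⟩
    exact (c.inv k i j).trans (h.iso i hi j hj)
  have hJ : J ≤ c.R e₁ ⊓ I := fun j hj => ⟨hZR ((c.maxiso fun i hi j hj =>
      c.R_orth (hZR hi) (c.R_fix (h.sq _ he₁.2) (hZR hj))).2 hZ4 j fun w hw => by
        obtain ⟨w₁, h1, w₂, h2, rfl⟩ := Submodule.mem_sup.1 hw
        rw [map_add, LinearMap.add_apply, h.iso _ (hXI h1) _ hj.1, hiso _ (hXI' h2) _ hj.2, add_zero]),
    hj.1⟩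
  have h4 : finrank (ZMod 2) ↥(c.R e₁ ⊓ I) < finrank (ZMod 2) (c.R e₁) :=
    Submodule.finrank_lt_finrank_of_lt (lt_of_le_of_ne inf_le_left fun e => huI (e.ge hu).2)
  have h5 := (c.maxiso fun i hi j hj => c.R_orth hi (c.R_fix (h.sq _ he₁.2) hj)).1
  have h6 := Submodule.eq_of_le_of_finrank_le hJ (by omega)
  have h7 : Z ≤ I.map (c.α k : V →ₗ[ZMod 2] V) :=
    sup_le (fun w hw => (h6.ge ⟨hZR (Submodule.mem_sup_left hw), hXI hw⟩).2) hXI'
  have h8 := Submodule.eq_of_le_of_finrank_le h7 ((c.maxiso hiso).1.trans hZ4)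
  have hg' : k * e₁ * k⁻¹ ∈ c.L := hcj k he₁.1
  have h9 : c.α (k * e₁ * k⁻¹) y = y := P9 _ hg' (by simpa using hsq k⁻¹ he₁.2) (by simpa [hkρ] using hN2)
  have h10 : c.α (k * e₁ * k⁻¹) (c.α k y) = c.α k y := by rw [c.mul, c.mul, c.il, h.ay he₁.2]
  have h11 : ∀ {w : V}, c.α (k * e₁ * k⁻¹) w = w → ∀ x ∈ c.X w, c.α (k * e₁ * k⁻¹) x = x :=
    fun hw x hx => by
      rcases c.mem_X.1 hx with rfl | rfl | rfl | rfl
      exacts [map_zero _, hw, hTfix hg' hw, by rw [map_add, hw, hTfix hg' hw]]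
  refine hC₁ fun i hi => ?_
  obtain ⟨w₁, h1, w₂, h2, e⟩ := Submodule.mem_sup.1 (h8.ge ⟨i, hi, rfl⟩ : c.α k i ∈ Z)
  have : c.α (k * e₁ * k⁻¹) (c.α k i) = c.α k i := by
    rw [← e, map_add, h11 h9 _ h1, h11 h10 _ h2]
  rw [c.mul, c.mul, c.il] at this
  exact (c.α k).injective this

end Pt

end Cfsg.Agent.Sm
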