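import Mathlib
import Cfsg.Agent.Isaacs.Sm1

/-! Commuting conjugates of an involution with a large extraspecial subgroup. -/

set_option autoImplicit false

namespace Cfsg.Agent.Sm

open Cfsg Subgroup LocalEven Fischer
open scoped commutatorElement

variable {G : Type*} [Group G]

/-- `O₂(C(x))` -/
abbrev EE (x : G) : Subgroup G := pCoreOf 2 (centralizer {x})

/-- `C(x)'` -/
abbrev DD (x : G) : Subgroup G := ⁅centralizer ({x} : Set G), centralizer ({x} : Set G)⁆

theorem cj_EE (g x : G) : cj g (EE x) = EE (g * x * g⁻¹) := by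
  rw [cj_pCoreOf, cj_centralizer_singleton]

theorem cj_DD (g x : G) : cj g (DD x) = DD (g * x * g⁻¹) := by
  rw [cj_commutator, cj_centralizer_singleton]

theorem ls_cj {x : G} (h : LS (EE x) x) (g : G) : LS (EE (g * x * g⁻¹)) (g * x * g⁻¹) :=
  cj_EE g x ▸ h.cj g

theorem comm_mem_DD {x a b : G} (ha : Commute a x) (hb : Commute b x) : a * b * a⁻¹ * b⁻¹ ∈ DD x :=
  commutator_mem_commutator (Inv.mem_centralizer_single.2 ha) (Inv.mem_centralizer_single.2 hb)

theorem center_mem_DD {Q : Subgroup G} {u v a b : G} (h : ES Q u) (ha : a ∈ Q) (hb : b ∈ Q)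
    (hav : Commute a v) (hbv : Commute b v) (hab : ¬ Commute a b) : u ∈ DD v := by
  have h1 := comm_mem_DD hav hbv
  rw [h.conj_eq ha hb hab, ← (h.central b hb).eq] at h1
  simpa using h1

theorem self_mem_DD {Q : Subgroup G} {u : G} (h : ES Q u) : u ∈ DD u := by
  obtain ⟨a, ha, b, hb, hab⟩ := h.noncomm
  exact center_mem_DD h ha hb (h.central a ha).symm (h.central b hb).symm hab

theorem ab {Q : Subgroup G} {u v : G} (h : ES Q u) (hu : u ∉ DD v) :
    ∀ a ∈ Q, ∀ b ∈ Q, Commute a v → Commute b v → Commute a b := fun _ ha _ hb hav hbv => by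
  by_contra hab
  exact hu (center_mem_DD h ha hb hav hbv hab)

theorem act {Q : Subgroup G} {u v : G} (h : LS Q u) (hv : v * v = 1) (huv : Commute v u) : Act Q u v :=
  ⟨h.toES, hv, huv, h.norm v huv⟩

variable [Finite G]

theorem not_mem_of_ab {Q : Subgroup G} {y x e : G} (h : LS Q y) (hx : x * x = 1) (hx1 : x ≠ 1)
    (hxy : Commute x y) (hy : y ∉ DD x) (he : e ∈ Q) (hex : Commute e x) (he2 : e * e ≠ 1) : x ∉ Q :=
  fun hxQ => by
  obtain ⟨t, -, ht⟩ := (act h hx hxy).fuse (ab h.toES hy) he hex he2 hxQ (Commute.refl x) hx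
  rw [hx] at ht
  exact hx1 (by simpa using conj_eq_one_iff.1 ht)

theorem core {x y e : G} (hx : LS (EE x) x) (hc : IsConj x y) (hxy : Commute x y) (he : e ∈ EE y)
    (hex : Commute e x) : e * e ∈ DD x := by
  by_contra hD
  obtain ⟨g, rfl⟩ := isConj_iff.1 hc
  have hy := ls_cj hx g
  set y := g * x * g⁻¹ with hydef
  have he2 : e * e ≠ 1 := fun h => hD (h ▸ one_mem _)
  have hey : e * e = y := (hy.sq e he).resolve_left he2
  rw [hey] at hD
  have hxD : x ∈ DD x := self_mem_DD hx.toES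
  have hA := ab hy.toES hD
  have aX : Act (EE y) y x := act hy hx.zsq hxy
  have aY : Act (EE x) x y := act hx hy.zsq hxy.symm
  have hxE : x ∉ EE y := not_mem_of_ab hy hx.zsq hx.ne hxy hD he hex he2
  obtain ⟨w, hw, ew⟩ := aX.fuse hA he hex he2 hy.mem hxy.symm hy.zsq
  have hwy : w * y * w⁻¹ = y := Inv.commute_iff_conj.1 (hy.central w hw).symm
  have hxy' : LS (EE (x * y)) (x * y) := ew ▸ ls_cj hx w
  have h1 : y ∉ DD (x * y) := by
    rw [← ew, ← cj_DD]
    intro h
    rw [← hwy, conj_mem_cj_iff] at h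
    exact hD h
  have h2 : x ∉ DD (x * y) := fun h =>
    h1 ((mul_mem_cancel_left h).1 (self_mem_DD hxy'.toES))
  have hB : ∀ a ∈ EE x, ∀ b ∈ EE x, Commute a y → Commute b y → Commute a b :=
    fun a ha b hb hay hby => ab hx.toES h2 a ha b hb ((hx.central a ha).symm.mul_right hay)
      ((hx.central b hb).symm.mul_right hby)
  have hBs : ∀ c ∈ EE x, (∀ a ∈ EE x, Commute a y → Commute c a) → Commute c y := by
    refine fun c hc hca => aY.self_cent hB ?_ hc hca
    by_cases hw' : ∀ w ∈ EE x, y * w * y⁻¹ ≠ w * x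
    · exact Or.inl hw'
    right
    push Not at hw'
    obtain ⟨v, hv, ev⟩ := hw'
    have hvx := (hx.central v hv).eq
    have e1 : v⁻¹ * y * v = x * y := by
      calc v⁻¹ * y * v = v⁻¹ * (y * v * y⁻¹) * y := by group
        _ = _ := by rw [ev]; group
    have e2 : w⁻¹ * (x * y) * w = x := by rw [← ew]; group
    have e3 : (w⁻¹ * v⁻¹) * y * (w⁻¹ * v⁻¹)⁻¹ = x := by
      calc (w⁻¹ * v⁻¹) * y * (w⁻¹ * v⁻¹)⁻¹ = w⁻¹ * (v⁻¹ * y * v) * w := by group
        _ = x := by rw [e1, e2]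
    have e4 : (w⁻¹ * v⁻¹) * x * (w⁻¹ * v⁻¹)⁻¹ = x * y := by
      calc (w⁻¹ * v⁻¹) * x * (w⁻¹ * v⁻¹)⁻¹ = w⁻¹ * (v⁻¹ * (x * v)) * w := by group
        _ = w⁻¹ * (x * y) * w * (w⁻¹ * y⁻¹ * w) := by rw [hvx]; group
        _ = x * (w⁻¹ * (w * y * w⁻¹)⁻¹ * w) := by rw [e2, hwy]
        _ = x * y⁻¹ := by group
        _ = _ := by rw [hy.zinv]
    set k := w⁻¹ * v⁻¹
    have hf : k * e * k⁻¹ ∈ EE x := by
      rw [← e3, ← cj_EE]; exact conj_mem_cj he
    refine ⟨k * e * k⁻¹, hf, ?_, ?_⟩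
    · have h3 : Commute (k * e * k⁻¹) (x * y) := by
        rw [← e4]; exact hex.conj k
      have := (hx.central _ hf).symm.inv_right.mul_right h3
      simpa using this
    · calc k * e * k⁻¹ * (k * e * k⁻¹) = k * (e * e) * k⁻¹ := by group
        _ ≠ 1 := fun h => he2 (by simpa using conj_eq_one_iff.1 h)
  have hb : ∃ b ∈ EE x, Commute b y ∧ ¬ Commute e b := by
    by_contra hn
    push Not at hn
    refine hxE ?_
    have hyE : y ∈ EE x := by
      refine hx.mem_of_trivial hxy.symm fun v hv => ?_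
      have hv' := hx.norm e hex v hv
      have hcQ : v⁻¹ * (e * v * e⁻¹) ∈ EE x := mul_mem (inv_mem hv) hv'
      have hcy : Commute (v⁻¹ * (e * v * e⁻¹)) y := by
        refine hBs _ hcQ fun a ha hay => ?_
        refine (hx.commute_mul_iff (inv_mem hv) hv' ha).2 ?_
        rw [ccj, Commute.inv_left_iff, mul_assoc, ← (hn a ha hay).eq]
        simp
      have hce := (hn _ hcQ hcy).eq
      set c := v⁻¹ * (e * v * e⁻¹) with hcdef
      have e5 : e * v * e⁻¹ = v * c := by rw [hcdef]; group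
      have e6 : y * v * y⁻¹ = v * (c * c) := by
        calc y * v * y⁻¹ = e * (e * v * e⁻¹) * e⁻¹ := by rw [← hey]; group
          _ = e * (v * c) * e⁻¹ := by rw [e5]
          _ = (e * v * e⁻¹) * (e * c) * e⁻¹ := by group
          _ = _ := by rw [hce, e5]; group
      rw [e6]
      rcases hx.sq c hcQ with h | h <;> rw [h]
      · exact Or.inl (mul_one _)
      · exact Or.inr rfl
    have := hx.symm hyE
    rwa [cj_EE] at this
  obtain ⟨b, hb, hby, heb⟩ := hb
  set i := e * b * e⁻¹ * b⁻¹ with hi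
  have hi1 : i ≠ 1 := fun h => heb (Inv.commute_iff_conj.2 (mul_inv_eq_one.1 h))
  have hiX : i ∈ EE x := mul_mem (hx.norm e hex b hb) (inv_mem hb)
  have hiY : i ∈ EE y := by
    have := mul_mem he (hy.norm b hby _ (inv_mem he))
    simpa [hi, mul_assoc] using this
  have hiD : i ∈ DD x := comm_mem_DD hex (hx.central b hb).symm
  have hix : Commute i x := (hx.central i hiX).symm
  have hii : i * i = 1 := by
    rcases hx.sq i hiX with h | h
    · exact h
    · exact (hxE (h ▸ mul_mem hiY hiY)).elim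
  obtain ⟨t, ht, et⟩ := aX.fuse hA he hex he2 hiY hix hii
  have hu : LS (EE (x * i)) (x * i) := et ▸ ls_cj hx t
  have hxu : x ∈ EE (x * i) := by
    have := hx.symm (g := t) (et ▸ mul_mem hx.mem hiX)
    rwa [cj_EE, et] at this
  obtain ⟨s, hs, es⟩ := hu.exists_conj hxu hx.ne fun h => hi1 (by simpa using h.symm)
  rw [hx.zcancel] at es
  have hei : Commute e i := hA e he i hiY hex hix
  have hyi : y ∉ DD i := by
    intro h
    rw [← es, ← cj_DD, mem_cj, ← hey] at h
    have hr : e⁻¹ * (s⁻¹ * e * s) ∈ EE (x * i) := by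
      have := mul_mem (hu.norm e⁻¹ (hex.mul_right hei).inv_left _ (inv_mem hs)) hs
      simpa [mul_assoc] using this
    have he' : Commute (s⁻¹ * e * s) x := by
      have := hei.symm
      rw [← es, ccj] at this
      exact this.symm
    have hrx : Commute (e⁻¹ * (s⁻¹ * e * s)) x := hex.inv_left.mul_left he'
    set r := e⁻¹ * (s⁻¹ * e * s) with hrdef
    have hrr : r * r ∈ DD x := by
      rcases hu.sq r hr with h | h <;> rw [h]
      exacts [one_mem _, mul_mem hxD hiD]
    have h3 := comm_mem_DD hex.inv_left hrx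
    have e7 : e * e = s⁻¹ * (e * e) * s * (r * r)⁻¹ * (e⁻¹ * r * e⁻¹⁻¹ * r⁻¹)⁻¹ := by
      rw [hrdef]; simp [mul_assoc]
    rw [← hey, e7] at hD
    exact hD (mul_mem (mul_mem h (inv_mem hrr)) (inv_mem h3))
  exact not_mem_of_ab hy hii hi1 (hy.central i hiY).symm hyi he hei he2 hiY

end Cfsg.Agent.Sm
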