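import Mathlib
import Cfsg.Agent.Isaacs.Sm2
import Cfsg.Agent.Core.SylowOf
import Cfsg.Agent.LocalEven.SylowIn

/-! Fusion control for a homomorphism on the centralizer of an involution with a large
extraspecial subgroup. -/

set_option autoImplicit false

namespace Cfsg.Agent.Sm

open Cfsg Subgroup LocalEven Fischer Core
open scoped commutatorElement

variable {G : Type*} [Group G] {C : Type*} [CommGroup C] {z : G} {ψ : G → C}

/-- `ψ` is multiplicative on `C(z)` -/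
def Mul' (z : G) (ψ : G → C) : Prop := ∀ a b, Commute a z → Commute b z → ψ (a * b) = ψ a * ψ b

theorem Mul'.one (h : Mul' z ψ) : ψ 1 = 1 := by
  have := h 1 1 (Commute.one_left z) (Commute.one_left z)
  simpa using this

theorem Mul'.inv (h : Mul' z ψ) {a : G} (ha : Commute a z) : ψ a⁻¹ = (ψ a)⁻¹ := by
  rw [eq_inv_iff_mul_eq_one, ← h _ _ ha.inv_left ha, inv_mul_cancel, h.one]

theorem Mul'.conj (h : Mul' z ψ) {a b : G} (ha : Commute a z) (hb : Commute b z) :
    ψ (a * b * a⁻¹) = ψ b := by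
  rw [h _ _ (ha.mul_left hb) ha.inv_left, h _ _ ha hb, h.inv ha, mul_inv_cancel_comm]

/-- the conjugates of `ψ` agree on `P` -/
def Ag (z : G) (ψ : G → C) (P : Subgroup G) : Prop :=
  ∀ g h : G, (∀ p ∈ P, Commute (g * p * g⁻¹) z) → (∀ p ∈ P, Commute (h * p * h⁻¹) z) →
    ∀ p ∈ P, ψ (g * p * g⁻¹) = ψ (h * p * h⁻¹)

variable [Finite G]

theorem exists_t {P E : Subgroup G} (hP : IsPGroup 2 P) (hE : IsPGroup 2 E)
    (hn : P ≤ normalizer (E : Set G)) (h : ¬ E ≤ P) : ∃ t ∈ E, t ∈ normalizer (P : Set G) ∧ t ∉ P := by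
  haveI : Fact (Nat.Prime 2) := ⟨Nat.prime_two⟩
  obtain ⟨x, hx, hxn, hxP⟩ := exists_mem_normalizer_of_lt (isPGroup_sup hP hE hn)
    (lt_of_le_of_ne le_sup_left fun e => h (e ▸ le_sup_right : E ≤ P))
  obtain ⟨a, ha, b, hb, rfl⟩ := (mem_sup_iff_of_le_normalizer hn).1 hx
  exact ⟨b, hb, (mul_mem_cancel_left (le_normalizer ha)).1 hxn, fun h => hxP (mul_mem ha h)⟩

theorem sylow_comm (hz : LS (EE z) z) : ∃ T : Sylow 2 G, ∀ t ∈ T, Commute t z := by
  haveI : Fact (Nat.Prime 2) := ⟨Nat.prime_two⟩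
  obtain ⟨T, hT⟩ := hz.isPGroup.exists_le_sylow
  haveI : Nontrivial (T : Subgroup G) := ⟨⟨⟨z, hT hz.mem⟩, 1, fun h => hz.ne (congrArg Subtype.val h)⟩⟩
  haveI := T.2.center_nontrivial
  obtain ⟨c, hc⟩ := exists_ne (1 : center (T : Subgroup G))
  have h1 : ∀ t ∈ T, Commute t c := fun t ht => congrArg Subtype.val (mem_center_iff.1 c.2 ⟨t, ht⟩)
  rcases hz.cent' fun x hx => (h1 x (hT hx)).symm with h | h
  · exact (hc (Subtype.ext (Subtype.ext h))).elim
  · exact ⟨T, h ▸ h1⟩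

theorem step (hz : LS (EE z) z) (hψ : Mul' z ψ)
    (hC : ∀ g t p : G, Commute (g * z * g⁻¹) z → t ∈ EE (g * z * g⁻¹) → Commute p z →
      Commute p (g * z * g⁻¹) → Commute (t * p * t⁻¹) z → ψ (t * p * t⁻¹) = ψ p)
    {P S : Subgroup G} (hP : IsPGroup 2 P) (hS : IsSylowOf 2 S (normalizer (P : Set G)))
    (hSz : ∀ s ∈ S, Commute s z)
    (IH : ∀ R : Subgroup G, IsPGroup 2 R → Nat.card P < Nat.card R → Ag z ψ R)
    {g : G} (hg : ∀ p ∈ P, Commute (g * p * g⁻¹) z) : ∀ p ∈ P, ψ (g * p * g⁻¹) = ψ p := by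
  haveI : Fact (Nat.Prime 2) := ⟨Nat.prime_two⟩
  set N := normalizer (P : Set G) with hN
  have hPS : P ≤ S := hS.normal_le hP le_normalizer le_rfl
  have hPz : ∀ p ∈ P, Commute p z := fun p hp => hSz p (hPS hp)
  have hcj : ∀ n ∈ N, ∀ p ∈ P, n * p * n⁻¹ ∈ P := fun n hn p hp => conj_mem_of_mem_normalizer hn hp
  have hx := ls_cj hz g⁻¹
  rw [inv_inv] at hx
  have hPx : ∀ p ∈ P, Commute p (g⁻¹ * z * g) := fun p hp => (ccj _ _ _).1 (hg p hp)
  by_cases hgz : g⁻¹ * z * g = z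
  · intro p hp
    refine hψ.conj (commute_iff_eq _ _ |>.2 ?_) (hPz p hp)
    calc g * z = g * (g⁻¹ * z * g) := by rw [hgz]
      _ = _ := by group
  have hE1 : ¬ EE z ≤ P := fun h => by
    rcases hz.cent' fun x hx => (hPx x (h hx)).symm with h1 | h1
    exacts [hx.ne h1, hgz h1]
  have hE2 : ¬ EE (g⁻¹ * z * g) ≤ P := fun h => by
    rcases hx.cent' fun x hx => (hPz x (h hx)).symm with h1 | h1
    exacts [hz.ne h1, hgz h1.symm]
  -- the core of the stabilizer
  let M : Subgroup G :=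
    { carrier := {m | m ∈ N ∧ ∀ n ∈ N, ∀ p ∈ P, ψ (n * (m * p * m⁻¹) * n⁻¹) = ψ (n * p * n⁻¹)}
      one_mem' := ⟨one_mem _, by simp⟩
      mul_mem' := by
        rintro a b ⟨ha, ha'⟩ ⟨hb, hb'⟩
        refine ⟨mul_mem ha hb, fun n hn p hp => ?_⟩
        rw [← hb' n hn p hp, ← ha' n hn _ (hcj b hb p hp)]
        congr 1; group
      inv_mem' := by
        rintro a ⟨ha, ha'⟩
        refine ⟨inv_mem ha, fun n hn p hp => ?_⟩
        rw [← ha' n hn _ (hcj _ (inv_mem ha) p hp)]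
        congr 1; group }
  have hMN : M ≤ N := fun m hm => hm.1
  have hNM : N ≤ normalizer (M : Set G) := le_normalizer_of_cj_le fun k hk => cj_le_iff'.2 <| by
    rintro m ⟨hm, hm'⟩
    refine ⟨mul_mem (mul_mem hk hm) (inv_mem hk), fun n hn p hp => ?_⟩
    have := hm' (n * k) (mul_mem hn hk) _ (hcj _ (inv_mem hk) p hp)
    convert this using 2 <;> group
  have hPM : P ≤ M := fun m hm => ⟨le_normalizer hm, fun n hn p hp => by
    rw [← hψ.conj (hPz _ (hcj n hn m hm)) (hPz _ (hcj n hn p hp))]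
    congr 1; group⟩
  have hlt : P < S ⊓ M := by
    refine lt_of_le_of_ne (le_inf hPS hPM) fun e => ?_
    have hzN : z ∈ N := centralizer_le_normalizer _ fun p hp => (hPz p hp).eq
    by_cases hzP : z ∈ P
    · obtain ⟨t, ht, htN, htP⟩ := exists_t hP hz.isPGroup
        (fun p hp => hz.mem_normalizer (hPz p hp)) hE1
      have htS : t ∈ S := hS.le_of_le_normalizer (Q := EE z ⊓ N) (hz.isPGroup.to_le inf_le_left)
        inf_le_right (LocalEven.le_normalizer_inf (fun s hs => hz.mem_normalizer (hSz s hs))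
          (hS.le.trans le_normalizer)) ⟨ht, htN⟩
      refine htP (e.ge ⟨htS, htN, fun n hn p hp => ?_⟩)
      have h1 := hcj n hn z hzP
      have h2 := hC n (n * t * n⁻¹) (n * p * n⁻¹) (hPz _ h1) (cj_EE n z ▸ conj_mem_cj ht)
        (hPz _ (hcj n hn p hp)) ((hPz p hp).conj n) (by
          have := hPz _ (hcj n hn _ (hcj t htN p hp))
          convert this using 1; group)
      rw [← h2]
      congr 1; group
    · have hzS : z ∈ S := hS.le_of_le_normalizer (Q := zpowers z)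
        (hz.isPGroup.to_le (zpowers_le.2 hz.mem)) (zpowers_le.2 hzN)
        (fun s hs => centralizer_le_normalizer _ (by
          rintro _ ⟨k, rfl⟩
          exact ((hSz s hs).zpow_right k).symm.eq)) (mem_zpowers z)
      exact hzP (e.ge ⟨hzS, hzN, fun n hn p hp => by
        rw [Inv.commute_iff_conj.1 (hPz p hp).symm]⟩)
  have hQ : IsSylowOf 2 (S ⊓ M) M := hS.inf_of_normal hMN (hS.le.trans hNM)
  have hcard : ∀ {R : Subgroup G}, P < R → Nat.card P < Nat.card R := fun h =>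
    lt_of_le_of_ne (card_le_of_le h.le) fun e => h.ne (eq_of_le_of_card_ge h.le e.ge)
  have hinv : ∀ n ∈ N, ∀ p ∈ P, ψ (n * p * n⁻¹) = ψ p := fun n hn p hp => by
    obtain ⟨m, hm, hmn⟩ := hQ.exists_mul_normalizer (hNM hn)
    have h1 := hm.2 1 (one_mem _) _ (hcj _ (mul_mem (inv_mem (hMN hm)) hn) p hp)
    have h2 := IH _ hQ.isPGroup (hcard hlt) (m⁻¹ * n) 1
      (fun q hq => hSz _ (conj_mem_of_mem_normalizer hmn hq).1)
      (fun q hq => by simpa using hSz _ hq.1) p (hlt.le hp)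
    calc ψ (n * p * n⁻¹) = ψ (1 * (m * (m⁻¹ * n * p * (m⁻¹ * n)⁻¹) * m⁻¹) * 1⁻¹) := by
          congr 1; group
      _ = ψ (m⁻¹ * n * p * (m⁻¹ * n)⁻¹) := by rw [h1]; simp
      _ = ψ p := by rw [h2]; simp
  have hPn : P ≤ normalizer (EE (g⁻¹ * z * g) : Set G) := fun p hp => hx.mem_normalizer (hPx p hp)
  obtain ⟨t, ht, htN, htP⟩ := exists_t hP hx.isPGroup hPn hE2
  set R := (P ⊔ EE (g⁻¹ * z * g)) ⊓ N with hR
  have hR2 : IsPGroup 2 R := (isPGroup_sup hP hx.isPGroup hPn).to_le inf_le_left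
  have hPR : P < R := lt_of_le_of_ne (le_inf le_sup_left le_normalizer)
    fun e => htP (e.ge ⟨mem_sup_right ht, htN⟩)
  have hRx : ∀ r ∈ R, Commute r (g⁻¹ * z * g) := fun r hr => by
    obtain ⟨a, ha, b, hb, rfl⟩ := (mem_sup_iff_of_le_normalizer hPn).1 hr.1
    exact (hPx a ha).mul_left (hx.central b hb).symm
  obtain ⟨n, hn, hnR⟩ := hS.exists_conj_le hR2 inf_le_right
  rw [← cj_eq_smul, cj_le_iff'] at hnR
  intro p hp
  rw [IH R hR2 (hcard hPR) g n (fun r hr => (ccj _ _ _).2 (hRx r hr))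
    (fun r hr => hSz _ (hnR r hr)) p (hPR.le hp), hinv n hn p hp]

theorem ag (hz : LS (EE z) z) (hψ : Mul' z ψ)
    (hC : ∀ g t p : G, Commute (g * z * g⁻¹) z → t ∈ EE (g * z * g⁻¹) → Commute p z →
      Commute p (g * z * g⁻¹) → Commute (t * p * t⁻¹) z → ψ (t * p * t⁻¹) = ψ p)
    (P : Subgroup G) (hP : IsPGroup 2 P) : Ag z ψ P := by
  haveI : Fact (Nat.Prime 2) := ⟨Nat.prime_two⟩
  induction' hn : Nat.card G - Nat.card P using Nat.strong_induction_on with n ih generalizing P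
  obtain ⟨T, hT⟩ := sylow_comm hz
  obtain ⟨S, hS⟩ := exists_isSylowOf 2 (normalizer (P : Set G))
  obtain ⟨k, -, hk⟩ := (isSylowOf_top T).exists_conj_le hS.isPGroup le_top
  have hS' := hS.conj k
  rw [← cj_eq_smul, ← cj_eq_smul, cj_normalizer] at hS'
  rw [← cj_eq_smul] at hk
  have key : ∀ g : G, (∀ p ∈ P, Commute (g * p * g⁻¹) z) → ∀ p ∈ P,
      ψ (g * p * g⁻¹) = ψ (k * p * k⁻¹) := fun g hg p hp => by
    have := step hz hψ hC (isPGroup_cj k hP) hS' (fun s hs => hT s (hk hs)) (g := g * k⁻¹)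
      (fun R hR hc => ih _ (by
        rw [card_cj] at hc
        have := R.card_le_card_group
        omega) R hR rfl) (fun q hq => by
        have := hg _ (mem_cj.1 hq)
        convert this using 1; group) _ (conj_mem_cj hp)
    rw [← this]
    congr 1; group
  exact fun g h hg hh p hp => (key g hg p hp).trans (key h hh p hp).symm

/-- a fusion invariant homomorphism kills the `2`-elements -/
theorem triv (hres : pResidual 2 G = ⊤) (hz : LS (EE z) z) (hψ : Mul' z ψ)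
    (hC : ∀ g t p : G, Commute (g * z * g⁻¹) z → t ∈ EE (g * z * g⁻¹) → Commute p z →
      Commute p (g * z * g⁻¹) → Commute (t * p * t⁻¹) z → ψ (t * p * t⁻¹) = ψ p)
    {P : Subgroup G} (hP : IsPGroup 2 P) (hPz : ∀ p ∈ P, Commute p z) : ∀ p ∈ P, ψ p = 1 := by
  haveI : Fact (Nat.Prime 2) := ⟨Nat.prime_two⟩
  obtain ⟨T, hT⟩ := sylow_comm hz
  let K : Subgroup G :=
    { carrier := {m | Commute m z ∧ ψ m = 1}
      one_mem' := ⟨Commute.one_left z, hψ.one⟩
      mul_mem' := by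
        rintro a b ⟨ha, ha'⟩ ⟨hb, hb'⟩
        exact ⟨ha.mul_left hb, by rw [hψ a b ha hb, ha', hb', mul_one]⟩
      inv_mem' := by
        rintro a ⟨ha, ha'⟩
        exact ⟨ha.inv_left, by rw [hψ.inv ha, ha', inv_one]⟩ }
  have h1 : (T : Subgroup G).focalSubgroup ≤ K := by
    rw [focalSubgroup_def, closure_le]
    rintro _ ⟨hg, x, hx, u, rfl⟩
    refine ⟨hT _ hg, ?_⟩
    have h2 : u * x⁻¹ * u⁻¹ ∈ (T : Subgroup G) := by
      have := mul_mem (inv_mem hx) hg
      simpa [commutatorElement_def, mul_assoc] using this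
    have h3 := ag hz hψ hC (zpowers x⁻¹) (T.2.to_le (zpowers_le.2 (inv_mem hx))) u 1 (by
        rintro _ ⟨k, rfl⟩
        have := (hT _ h2).zpow_left k
        rwa [conj_zpow] at this) (by
        rintro _ ⟨k, rfl⟩
        simpa using ((hT _ hx).zpow_left k).inv_left) _ (mem_zpowers _)
    have e : ⁅x, u⁆ = x * (u * x⁻¹ * u⁻¹) := by simp [commutatorElement_def, mul_assoc]
    rw [e, hψ _ _ (hT _ hx) (hT _ h2), h3]
    simp [hψ.inv (hT _ hx)]
  have h2 : (T.transferFocal).ker = ⊤ := by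
    rw [eq_top_iff, ← hres, pResidual, closure_le]
    intro g hg
    have hQ : IsPGroup 2 ((T : Subgroup G) ⧸ (T : Subgroup G).focalSubgroupOf) :=
      T.2.to_quotient _
    obtain ⟨k, hk⟩ := (IsPGroup.iff_orderOf.1 hQ) (T.transferFocal g)
    have h3 : orderOf (T.transferFocal g) ∣ orderOf g := orderOf_map_dvd _ _
    rw [hk] at h3
    have h4 : orderOf (T.transferFocal g) = 1 := by
      rw [hk]
      exact Nat.Coprime.eq_one_of_dvd (Nat.Coprime.pow_right k hg).symm h3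
    exact orderOf_eq_one_iff.1 h4
  have h3 := ker_transferFocal_inf_eq_focalSubgroup T
  rw [h2, top_inf_eq] at h3
  have hTs : IsSylowOf 2 (T : Subgroup G) (centralizer {z}) :=
    isSylowOf_sylow_of_le T fun t ht => Inv.mem_centralizer_single.2 (hT t ht)
  obtain ⟨k, hk, hkP⟩ := hTs.exists_conj_le hP fun p hp => Inv.mem_centralizer_single.2 (hPz p hp)
  rw [← cj_eq_smul, cj_le_iff'] at hkP
  intro p hp
  rw [← hψ.conj (Inv.mem_centralizer_single.1 hk) (hPz p hp)]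
  exact (h1 (h3.le (hkP p hp))).2

end Cfsg.Agent.Sm
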