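import Mathlib
import Cfsg.Agent.Isaacs.Sm3

/-! A weakly closed centre of a large extraspecial subgroup: the critical pair. -/

set_option autoImplicit false

namespace Cfsg.Agent.Sm

open Cfsg Subgroup LocalEven Fischer Core

variable {G : Type*} [Group G] {Q : Subgroup G} {x y z : G}

theorem Act.M_hat (h : Act Q y z) {m : G} (hm : m ∈ h.M) : z * m * z⁻¹ = m ∨ z * m * z⁻¹ = m * y := by
  rw [h.M_inv hm]
  rcases h.sq m hm.1 with e | e
  · exact Or.inl (inv_eq_of_mul_eq_one_right e)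
  · right
    rw [inv_eq_iff_mul_eq_one, ← mul_assoc, e, h.zsq]

theorem Act.swap (h : Act Q y z) {w : G} (hw : w ∈ Q) : z * w * z⁻¹ = w * y ↔ w * z * w⁻¹ = z * y := by
  have h1 := (h.central w hw).eq
  have h2 := h.zy.eq
  rw [mul_inv_eq_iff_eq_mul, mul_inv_eq_iff_eq_mul]
  constructor
  · intro e
    calc w * z = w * (y * y) * z := by rw [h.zsq, mul_one]
      _ = (w * y) * (y * z) := by group
      _ = (w * y * z) * y := by rw [← h2]; group
      _ = z * (w * y) := by rw [← e]; group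
      _ = _ := by rw [← h1]; group
  · intro e
    calc z * w = z * (y * y) * w := by rw [h.zsq, mul_one]
      _ = z * y * (y * w) := by group
      _ = (z * y * w) * y := by rw [h1]; group
      _ = w * (z * y) := by rw [← e]; group
      _ = _ := by rw [h2]; group

variable [Finite G]

omit [Finite G] in
theorem relIndex_le (h : ES Q z) {a : G} (ha : a ∈ Q) :
    (centralizer ({a} : Set G)).relIndex Q ≤ 2 := by
  refine Nat.le_of_dvd two_pos (relIndex_dvd_two_iff.2 ?_)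
  by_cases h1 : ∀ b ∈ Q, Commute b a
  · exact ⟨1, one_mem _, fun b hb => Or.inr (Inv.mem_centralizer_single.2 (h1 b hb))⟩
  push Not at h1
  obtain ⟨c, hc, hca⟩ := h1
  refine ⟨c, hc, fun b hb => ?_⟩
  simp only [Inv.mem_centralizer_single]
  rw [h.commute_mul_iff hb hc ha]
  tauto

theorem cnt (h : ES Q z) {a b : G} (ha : a ∈ Q) (hb : b ∈ Q) (l : List G) (hl : l.length ≤ 8)
    (hS : ∀ q ∈ Q, Commute q a → Commute q b → q ∈ l) : Nat.card Q ≤ 32 := by
  classical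
  set D := centralizer ({a} : Set G) ⊓ centralizer ({b} : Set G)
  have h1 : D.relIndex Q ≤ 4 :=
    relIndex_inf_le.trans (Nat.mul_le_mul (relIndex_le h ha) (relIndex_le h hb))
  have h2 : Nat.card ↥(D ⊓ Q) ≤ 8 := by
    refine le_trans ?_ ((List.toFinset_card_le l).trans hl)
    rw [← Nat.card_eq_finsetCard]
    exact Nat.card_le_card_of_injective (fun q => ⟨q, List.mem_toFinset.2 (hS q q.2.2
      (Inv.mem_centralizer_single.1 q.2.1.1) (Inv.mem_centralizer_single.1 q.2.1.2))⟩)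
      fun q q' e => Subtype.ext (Subtype.mk.inj e)
  rw [← Core.card_inf_mul_relIndex D Q]
  exact Nat.mul_le_mul h2 h1

theorem mem_of_sq (hx : LS Q x) {e : G} (hex : Commute e x) (hey : e * e = y)
    (hn : ∀ b ∈ Q, Commute b y → Commute e b)
    (hBs : ∀ c ∈ Q, (∀ a ∈ Q, Commute a y → Commute c a) → Commute c y) : y ∈ Q := by
  refine hx.mem_of_trivial (hey ▸ hex.mul_left hex) fun v hv => ?_
  have hv' := hx.norm e hex v hv
  have hcQ : v⁻¹ * (e * v * e⁻¹) ∈ Q := mul_mem (inv_mem hv) hv'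
  have hcy : Commute (v⁻¹ * (e * v * e⁻¹)) y := by
    refine hBs _ hcQ fun a ha hay => ?_
    refine (hx.commute_mul_iff (inv_mem hv) hv' ha).2 ?_
    rw [ccj, Commute.inv_left_iff, mul_assoc, ← (hn a ha hay).eq]
    simp
  have hce := (hn _ hcQ hcy).eq
  set c := v⁻¹ * (e * v * e⁻¹) with hcdef
  have e5 : e * v * e⁻¹ = v * c := by rw [hcdef]; group
  have e6 : y * v * y⁻¹ = v * (c * c) := by
    calc y * v * y⁻¹ = e * (e * v * e⁻¹) * e⁻¹ := by rw [← hey]; group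
      _ = e * (v * c) * e⁻¹ := by rw [e5]
      _ = (e * v * e⁻¹) * (e * c) * e⁻¹ := by group
      _ = _ := by rw [hce, e5]; group
  rw [e6]
  rcases hx.sq c hcQ with h | h <;> rw [h]
  · exact Or.inl (mul_one _)
  · exact Or.inr rfl

/-- two commuting conjugates, each weakly closed in its extraspecial group -/
structure Pr (x y : G) : Prop where
  lx : LS (EE x) x
  ly : LS (EE y) y
  cn : IsConj x y
  xy : Commute x y
  ne : x ≠ y
  wx : ∀ w, IsConj x w → w ∈ EE x → w = x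
  wy : ∀ w, IsConj y w → w ∈ EE y → w = y
  big : 32 < Nat.card (EE x)
  big' : 32 < Nat.card (EE y)

namespace Pr

omit [Finite G]

theorem symm (h : Pr x y) : Pr y x :=
  ⟨h.ly, h.lx, h.cn.symm, h.xy.symm, h.ne.symm, h.wy, h.wx, h.big', h.big⟩

theorem xn (h : Pr x y) : x ∉ EE y := fun k => h.ne (h.wy x h.cn.symm k)

theorem cI (h : Pr x y) {i b : G} (hi : i ∈ EE x) (hi' : i ∈ EE y) (hb : b ∈ EE x)
    (hby : Commute b y) : Commute b i := by
  rcases h.lx.conj b hb i hi with e | e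
  · exact Inv.commute_iff_conj.2 e
  · exact (h.xn ((mul_mem_cancel_left hi').1 (e ▸ h.ly.norm b hby i hi'))).elim

theorem ii (h : Pr x y) {i : G} (hi : i ∈ EE x) (hi' : i ∈ EE y) : i * i = 1 :=
  (h.lx.sq i hi).resolve_right fun e => h.xn (e ▸ mul_mem hi' hi')

theorem eq_one (h : Pr x y) {i v : G} (hi' : i ∈ EE y) (e : v * y * v⁻¹ = y * i) : i = 1 := by
  have := h.wy _ (isConj_iff.2 ⟨v, e⟩) (mul_mem h.ly.mem hi')
  simpa using this

end Pr

theorem sur (h : Pr x y) {P : Subgroup G} (hPx : ∀ p ∈ P, Commute p x) (hPy : ∀ p ∈ P, Commute p y)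
    {n : G} (hn : n ∈ normalizer (P : Set G)) (e : n * x * n⁻¹ = y)
    (hA : ∀ a ∈ EE y, Commute a x → a ∈ P) {t : G} (ht : t ∈ EE x) (htN : t ∈ normalizer (P : Set G))
    (hj : Nat.card ↥(EE y ⊓ EE (t * y * t⁻¹)) ≤ Nat.card ↥(EE y ⊓ EE x))
    {b : G} (hb : b ∈ EE x) (hbP : b ∈ P) :
    ∃ a ∈ EE y, a ∈ P ∧ ∃ i ∈ EE x, i ∈ EE y ∧ b = i * (a⁻¹ * (t * a * t⁻¹)) := by
  set A := EE y ⊓ P with hAdef
  set B := EE x ⊓ P with hBdef
  have hc : ∀ a ∈ A, a⁻¹ * (t * a * t⁻¹) ∈ B := fun a ha =>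
    ⟨by
      have := mul_mem (h.lx.norm a⁻¹ (hPx a ha.2).inv_left t ht) (inv_mem ht)
      simpa [mul_assoc] using this,
    P.mul_mem (P.inv_mem ha.2) (conj_mem_of_mem_normalizer htN ha.2)⟩
  have hPA : P ≤ normalizer (A : Set G) :=
    LocalEven.le_normalizer_inf (fun p hp => h.ly.mem_normalizer (hPy p hp)) le_normalizer
  have hA' : cj t A = EE (t * y * t⁻¹) ⊓ P := by rw [hAdef, cj_inf, cj_EE, cj_eq_of_mem_normalizer htN]
  have hAB : cj n B = A := by rw [hBdef, cj_inf, cj_EE, cj_eq_of_mem_normalizer hn, e]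
  have hnA : cj t A ≤ normalizer (A : Set G) := (hA'.le.trans inf_le_right).trans hPA
  have h1 := Core.card_sup_mul_card_inf hnA
  have h2 := Core.card_sup_mul_card_inf ((inf_le_right : B ≤ P).trans hPA)
  have h3 : A ⊔ cj t A ≤ A ⊔ B := sup_le le_sup_left <| cj_le_iff'.2 fun a ha => by
    have := mul_mem (mem_sup_left ha : a ∈ A ⊔ B) (mem_sup_right (hc a ha))
    simpa using this
  have h4 : Nat.card ↥(A ⊓ cj t A) ≤ Nat.card ↥(A ⊓ B) := by
    refine ((card_le_of_le ?_).trans hj).trans (card_le_of_le ?_)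
    · exact inf_le_inf inf_le_left (hA'.le.trans inf_le_left)
    · exact fun i hi => ⟨⟨hi.1, hA i hi.1 (h.lx.central i hi.2).symm⟩, hi.2,
        hA i hi.1 (h.lx.central i hi.2).symm⟩
  have h5 : Nat.card B = Nat.card A := by rw [← hAB, card_cj]
  rw [card_cj] at h1
  rw [h5, ← h1] at h2
  have h6 : A ⊔ cj t A = A ⊔ B := eq_of_le_of_card_ge h3 (by
    have hpos : 0 < Nat.card ↥(A ⊓ B) := Nat.card_pos
    refine Nat.le_of_mul_le_mul_right ?_ hpos
    rw [h2]
    exact Nat.mul_le_mul_left _ h4)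
  obtain ⟨a₁, ha₁, _, ha', e1⟩ := (mem_sup_iff_of_le_normalizer' hnA).1
    (h6.ge (mem_sup_right ⟨hb, hbP⟩ : b ∈ A ⊔ B))
  obtain ⟨a, ha, rfl⟩ := mem_cj'.1 ha'
  have e2 : a₁ * a = b * (a⁻¹ * (t * a * t⁻¹))⁻¹ := by rw [← e1]; group
  exact ⟨a, ha.1, ha.2, a₁ * a, e2 ▸ mul_mem hb (inv_mem (hc a ha).1), mul_mem ha₁.1 ha.1,
    by rw [e2]; group⟩

end Cfsg.Agent.Sm
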