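import Mathlib
import Cfsg.Agent.Isaacs.Sm4

/-! The critical pair: `C_{E_x}(y)` is the centralizer of `E_x ∩ E_y`. -/

set_option autoImplicit false

namespace Cfsg.Agent.Sm

open Cfsg Subgroup LocalEven Fischer Core

variable {G : Type*} [Group G] [Finite G] {x y : G}

theorem l1a (h : Pr x y) {P : Subgroup G} (hPx : ∀ p ∈ P, Commute p x) (hPy : ∀ p ∈ P, Commute p y)
    {n : G} (hn : n ∈ normalizer (P : Set G)) (e : n * x * n⁻¹ = y)
    (hA : ∀ a ∈ EE y, Commute a x → a ∈ P) (hB : ∀ b ∈ EE x, Commute b y → b ∈ P)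
    (hj : ∀ t ∈ EE x, t ∈ normalizer (P : Set G) → t ∉ P →
      Nat.card ↥(EE y ⊓ EE (t * y * t⁻¹)) ≤ Nat.card ↥(EE y ⊓ EE x))
    {c : G} (hc : c ∈ EE x) (ec : y * c * y⁻¹ = c * x) (hcB : ∀ b ∈ EE x, Commute b y → Commute c b) :
    False := by
  have aY : Act (EE x) x y := act h.lx h.ly.zsq h.xy.symm
  have hcy : ¬ Commute c y := fun k => h.lx.ne (by
    rw [Inv.commute_iff_conj.1 k.symm] at ec; simpa using ec.symm)
  have hcP : c ∉ P := fun k => hcy (hPy c k)
  have hcN : c ∈ normalizer (P : Set G) := mem_normalizer_of_cj_le <| cj_le_iff'.2 fun p hp => by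
    have h1 : p⁻¹ * c * p⁻¹⁻¹ ∈ EE x := h.lx.norm _ (hPx p hp).inv_left c hc
    have h2 : y * (p⁻¹ * c * p⁻¹⁻¹) * y⁻¹ = p⁻¹ * c * p⁻¹⁻¹ * x := by
      calc y * (p⁻¹ * c * p⁻¹⁻¹) * y⁻¹ = (y * p⁻¹) * c * (y * p⁻¹)⁻¹ := by group
        _ = p⁻¹ * (y * c * y⁻¹) * p := by rw [← (hPy p hp).inv_left.eq]; group
        _ = p⁻¹ * c * (x * p) := by rw [ec]; group
        _ = _ := by rw [← (hPx p hp).eq]; group
    have h3 : y * c⁻¹ * y⁻¹ = c⁻¹ * x := by
      calc y * c⁻¹ * y⁻¹ = (y * c * y⁻¹)⁻¹ := by group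
        _ = _ := by rw [ec, ← (h.lx.central c hc).eq, mul_inv_rev, h.lx.zinv]
    have h4 := hB _ (mul_mem h1 (inv_mem hc)) (aY.mul_hat h1 h2 h3 (inv_mem hc))
    have := P.mul_mem hp h4
    simpa [mul_assoc] using this
  have hat : ∀ q ∈ EE x, (y * q * y⁻¹ = q ∨ y * q * y⁻¹ = q * x) → ∀ r,
      (∀ b ∈ EE x, Commute b y → Commute r b) → Commute r c → Commute r q := by
    rintro q hq (k | k) r hr hrc
    · exact hr q hq (Inv.commute_iff_conj.2 k).symm
    · have := (hr _ (mul_mem hq hc) (aY.mul_hat hq k ec hc)).mul_right hrc.inv_right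
      simpa using this
  have hI : ∀ i ∈ EE x, i ∈ EE y → i = 1 := fun i hi hi' => by
    have hiM : i ∈ aY.M := by
      by_contra k
      obtain ⟨q, hq, h1, h2⟩ := aY.dual aY.M_le aY.y_mem hi k
      exact h2 (hat q hq (aY.hat_of hq h1) i (fun b hb hby => (h.cI hi hi' hb hby).symm)
        (hcB i hi (h.ly.central i hi').symm).symm).symm
    obtain ⟨-, t, ht, k, hk, et⟩ := hiM
    rcases (mem_zpowers_two h.lx.zsq).1 hk with rfl | rfl
    · exact h.eq_one hi' (by rw [et, mul_one])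
    · refine h.eq_one (v := t * c) hi' ?_
      calc t * c * y * (t * c)⁻¹ = t * (c * y * c⁻¹) * t⁻¹ := by group
        _ = (t * y * t⁻¹) * (t * k * t⁻¹) := by rw [(aY.swap hc).1 ec]; group
        _ = y * i * (k * k) := by rw [et, ← (h.lx.central t ht).eq]; group
        _ = _ := by rw [h.lx.zsq, mul_one]
  obtain ⟨u, hu, huB, huc⟩ := h.lx.dual (A := EE x ⊓ P) inf_le_left
    ⟨h.lx.mem, hB x h.lx.mem h.xy⟩ hc fun k => hcP k.2
  have huB' : ∀ b ∈ EE x, Commute b y → Commute u b := fun b hb hby => huB b ⟨hb, hB b hb hby⟩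
  set m := y⁻¹ * u * y * u⁻¹ with hm
  have hmM : m ∈ aY.M := aY.M_mem hu
  have hb : ∃ b ∈ EE x, Commute b y ∧ ¬ (b = 1 ∨ b = x ∨ b = m ∨ b = m * x) := by
    by_contra k
    push Not at k
    refine absurd (cnt h.lx.toES hmM.1 hc [1, x, m, m * x, 1 * c⁻¹, x * c⁻¹, m * c⁻¹, m * x * c⁻¹]
      le_rfl fun q hq hqm hqc => ?_) (not_le.2 h.big)
    have hqx : Commute q x := (h.lx.central q hq).symm
    have k' : ∀ b ∈ EE x, Commute b y → (b = 1 ∨ b = x ∨ b = m ∨ b = m * x) := fun b hb hby => by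
      have := k b hb hby
      tauto
    have h1 : ∀ b ∈ EE x, Commute b y → Commute q b := fun b hb hby => by
      rcases k' b hb hby with rfl | rfl | rfl | rfl
      exacts [Commute.one_right _, hqx, hqm, hqm.mul_right hqx]
    rcases aY.hat_of hq fun m' hm' => hat m' hm'.1 (aY.M_hat hm') q h1 hqc with k1 | k1
    · rcases k' q hq (Inv.commute_iff_conj.2 k1).symm with k2 | k2 | k2 | k2 <;> simp [k2]
    · rcases k' _ (mul_mem hq hc) (aY.mul_hat hq k1 ec hc) with k2 | k2 | k2 | k2 <;>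
        simp only [List.mem_cons, eq_mul_inv_of_mul_eq k2, true_or, or_true]
  obtain ⟨b, hb, hby, hbn⟩ := hb
  obtain ⟨v, hv, hmv, hbv⟩ : ∃ v ∈ EE x, Commute m v ∧ ¬ Commute b v := by
    by_contra k
    push Not at k
    exact hbn (h.lx.cent_cent hmM.1 hb k)
  obtain ⟨a, ha, haP, i, hi, hi', eb⟩ := sur h hPx hPy hn e hA hc hcN (hj c hc hcN hcP) hb (hB b hb hby)
  rw [hI i hi hi', one_mul] at eb
  have hax := hPx a haP
  have hay := hPy a haP
  set w := y⁻¹ * v * y * v⁻¹ with hw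
  have hwM : w ∈ aY.M := aY.M_mem hv
  have hwu : Commute w u := by
    refine (h.lx.commute_mul_iff (aY.nz' hv) (inv_mem hv) hu).2 ?_
    have h1 := (h.lx.commute_mul_iff (aY.nz' hu) (inv_mem hu) hv).1 hmv
    have h2 := ccj y⁻¹ u v
    rw [inv_inv] at h2
    rw [h2, Commute.inv_left_iff] at h1
    rw [Commute.inv_left_iff, Commute.symm_iff, Commute.symm_iff (a := v), ← h1, h.ly.zinv]
  have hwy : Commute w y := by
    rcases aY.M_hat hwM with k | k
    · exact (Inv.commute_iff_conj.2 k).symm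
    · have := hwu.symm.inv_right.mul_right (huB' _ (mul_mem hwM.1 hc) (aY.mul_hat hwM.1 k ec hc))
      exact (huc (by simpa using this)).elim
  have haw : Commute a w := Inv.commute_iff_conj.2 <| mul_inv_eq_one.1 <| hI _
    (mul_mem (h.lx.norm a hax w hwM.1) (inv_mem hwM.1)) (by
      have := mul_mem ha (h.ly.norm w hwy _ (inv_mem ha))
      simpa [mul_assoc] using this)
  have hd : a * v * a⁻¹ * v⁻¹ ∈ EE x := mul_mem (h.lx.norm a hax v hv) (inv_mem hv)
  have hdc : Commute c (a * v * a⁻¹ * v⁻¹) := by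
    refine hat _ hd ?_ c hcB (Commute.refl c)
    have e1 : y * (a * v * a⁻¹ * v⁻¹) * y⁻¹ = w * (a * v * a⁻¹ * v⁻¹) * w⁻¹ := by
      have e2 : y⁻¹ * v * y = w * v := by rw [hw]; group
      have e3 : y⁻¹ * a = a * y⁻¹ := hay.inv_right.eq.symm
      calc y * (a * v * a⁻¹ * v⁻¹) * y⁻¹ = y⁻¹ * (a * v * a⁻¹ * v⁻¹) * y := by rw [h.ly.zinv]
        _ = (y⁻¹ * a) * v * (y⁻¹ * a)⁻¹ * (y⁻¹ * v * y)⁻¹ := by group
        _ = a * (y⁻¹ * v * y) * a⁻¹ * (y⁻¹ * v * y)⁻¹ := by rw [e3]; group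
        _ = (a * w) * v * a⁻¹ * (w * v)⁻¹ := by rw [e2]; group
        _ = _ := by rw [haw.eq]; group
    rw [e1]
    exact h.lx.conj w hwM.1 _ hd
  have h1 := (h.lx.commute_mul_iff (h.lx.norm a hax v hv) (inv_mem hv) hc).1 hdc.symm
  have e4 : a⁻¹ * c * a = b * c := by rw [eb]; group
  rw [ccj, e4, Commute.inv_left_iff, Commute.symm_iff, h.lx.commute_mul_iff hb hc hv,
    Commute.symm_iff (a := v)] at h1
  tauto

theorem l1 (h : Pr x y) {P : Subgroup G} (hP : IsPGroup 2 P) (hPx : ∀ p ∈ P, Commute p x)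
    (hPy : ∀ p ∈ P, Commute p y) {n : G} (hn : n ∈ normalizer (P : Set G)) (e : n * x * n⁻¹ = y)
    (hA : ∀ a ∈ EE y, Commute a x → a ∈ P) (hB : ∀ b ∈ EE x, Commute b y → b ∈ P)
    (hj : ∀ t ∈ EE x, t ∈ normalizer (P : Set G) → t ∉ P →
      Nat.card ↥(EE y ⊓ EE (t * y * t⁻¹)) ≤ Nat.card ↥(EE y ⊓ EE x))
    {v : G} (hv : v ∈ EE x) (hvI : ∀ i ∈ EE x, i ∈ EE y → Commute v i) : Commute v y := by
  by_contra hvy
  have aY : Act (EE x) x y := act h.lx h.ly.zsq h.xy.symm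
  have aX : Act (EE y) y x := act h.ly h.lx.zsq h.xy
  have hPX : P ≤ normalizer (EE x : Set G) := fun p hp => h.lx.mem_normalizer (hPx p hp)
  have hPY : P ≤ normalizer (EE y : Set G) := fun p hp => h.ly.mem_normalizer (hPy p hp)
  obtain ⟨t, ⟨ht, htI⟩, htN, htP⟩ := exists_t (E := EE x ⊓ centralizer ((EE x ⊓ EE y : Subgroup G) : Set G))
    hP (h.lx.isPGroup.to_le inf_le_left) (LocalEven.le_normalizer_inf hPX
      (LocalEven.le_normalizer_centralizer (LocalEven.le_normalizer_inf hPX hPY)))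
    fun k => hvy (hPy v (k ⟨hv, fun i hi => (hvI i hi.1 hi.2).symm.eq⟩))
  have hinv : ∀ b ∈ EE x, Commute b y → t⁻¹ * b * t = b⁻¹ := fun b hb hby => by
    obtain ⟨a, ha, haP, i, hi, hi', eb⟩ := sur h hPx hPy hn e hA ht htN (hj t ht htN htP) hb (hB b hb hby)
    have h1 : Commute i t := htI i ⟨hi, hi'⟩
    have h2 : Commute i a := (h.symm.cI hi' hi ha (hPx a haP)).symm
    have h3 : Commute (t * t) a := by
      rcases h.lx.sq t ht with k | k <;> rw [k]
      exacts [Commute.one_left _, (hPx a haP).symm]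
    have h4 : Commute i (a⁻¹ * t * a) := (h2.inv_right.mul_right h1).mul_right h2
    have e1 : b * t = i * (a⁻¹ * t * a) := by rw [eb]; group
    have e2 : b * t * (b * t) = t * t := by
      calc b * t * (b * t) = i * ((a⁻¹ * t * a) * i) * (a⁻¹ * t * a) := by rw [e1]; group
        _ = (i * i) * (a⁻¹ * ((t * t) * a)) := by rw [← h4.eq]; group
        _ = _ := by rw [h.ii hi hi', h3.eq]; group
    calc t⁻¹ * b * t = t⁻¹ * t⁻¹ * (t * t) * (t⁻¹ * b * t) := by group
      _ = t⁻¹ * t⁻¹ * (t * b * t) := by group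
      _ = t⁻¹ * t⁻¹ * (b⁻¹ * (t * t)) := by rw [← e2]; group
      _ = (t * t)⁻¹ * b⁻¹ * (t * t) := by group
      _ = _ := by
        rcases h.lx.sq t ht with k | k <;> rw [k]
        · group
        · rw [mul_assoc, ← (h.lx.central _ (inv_mem hb)).eq]; group
  have hBab : ∀ a ∈ EE x, ∀ b ∈ EE x, Commute a y → Commute b y → Commute a b :=
    fun a ha b hb hay hby => by
      have h1 := hinv _ (mul_mem ha hb) (hay.mul_left hby)
      have h2 : t⁻¹ * (a * b) * t = (b * a)⁻¹ := by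
        rw [mul_inv_rev, ← hinv a ha hay, ← hinv b hb hby]; group
      exact inv_injective (h1.symm.trans h2)
  by_cases hf : ∃ f ∈ EE x, Commute f y ∧ f * f ≠ 1
  · obtain ⟨f, hf, hfy, hf2⟩ := hf
    have hAab : ∀ a ∈ EE y, ∀ b ∈ EE y, Commute a x → Commute b x → Commute a b :=
      fun a ha b hb hax hbx => by
        rw [← e, ← cj_EE, mem_cj] at ha hb
        have := (hBab _ ha _ hb
          (hPy _ (inv_conj_mem_of_mem_normalizer hn (hA a (by rwa [← e, ← cj_EE, mem_cj]) hax)))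
          (hPy _ (inv_conj_mem_of_mem_normalizer hn (hA b (by rwa [← e, ← cj_EE, mem_cj]) hbx)))).conj n
        simpa [mul_assoc] using this
    have he : n * f * n⁻¹ ∈ EE y := by rw [← e, ← cj_EE]; exact conj_mem_cj hf
    have hex : Commute (n * f * n⁻¹) x := hPx _ (conj_mem_of_mem_normalizer hn (hB f hf hfy))
    have he2 : n * f * n⁻¹ * (n * f * n⁻¹) ≠ 1 := by
      calc n * f * n⁻¹ * (n * f * n⁻¹) = n * (f * f) * n⁻¹ := by group
        _ ≠ 1 := fun k => hf2 (by simpa using conj_eq_one_iff.1 k)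
    refine h.symm.xn (mem_of_sq h.lx hex ((h.ly.sq _ he).resolve_left he2) (fun b hb hby => ?_)
      fun c hc hca => aY.self_cent hBab (Or.inr ⟨f, hf, hfy, hf2⟩) hc hca)
    set ε := n * f * n⁻¹
    have hi : ε * b * ε⁻¹ * b⁻¹ ∈ EE x := mul_mem (h.lx.norm _ hex b hb) (inv_mem hb)
    have hi' : ε * b * ε⁻¹ * b⁻¹ ∈ EE y := by
      have := mul_mem he (h.ly.norm b hby _ (inv_mem he))
      simpa [mul_assoc] using this
    obtain ⟨s, -, es⟩ := aX.fuse hAab he hex he2 hi' (h.lx.central _ hi).symm (h.ii hi hi')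
    exact Inv.commute_iff_conj.2 (mul_inv_eq_one.1 (h.symm.eq_one hi es))
  · push Not at hf
    have htB : ∀ b ∈ EE x, Commute b y → Commute t b := fun b hb hby => by
      have h1 := hinv b hb hby
      rw [inv_eq_of_mul_eq_one_right (hf b hb hby)] at h1
      refine (commute_iff_eq _ _).2 ?_
      calc t * b = t * (t⁻¹ * b * t) := by rw [h1]
        _ = _ := by group
    by_cases k : y * t * y⁻¹ = t * x
    · exact l1a h hPx hPy hn e hA hB hj ht k htB
    · have : ¬ ∀ m ∈ aY.M, Commute t m := fun k' => htP (hB t ht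
        (Inv.commute_iff_conj.2 ((aY.hat_of ht k').resolve_right k)).symm)
      push Not at this
      obtain ⟨m, hm, htm⟩ := this
      rcases aY.M_hat hm with k1 | k1
      · exact htm (htB m hm.1 (Inv.commute_iff_conj.2 k1).symm)
      · exact l1a h hPx hPy hn e hA hB hj hm.1 k1 fun b hb hby =>
          (aY.comm_of_hat hb (Or.inl (Inv.commute_iff_conj.1 hby.symm)) hm).symm

end Cfsg.Agent.Sm
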