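import Mathlib
import Cfsg.Agent.Isaacs.Sm5

/-! The unitary configuration: homomorphisms of `C(x)` kill `C_{E_y}(x)`. -/

set_option autoImplicit false

namespace Cfsg.Agent.Sm

open Cfsg Subgroup LocalEven Fischer Core

variable {G : Type*} [Group G] [Finite G] {x y : G}

/-- the centralizer of `E_x ∩ E_y` in `E_x` centralizes `y` -/
def CB (x y : G) : Prop := ∀ v ∈ EE x, (∀ i ∈ EE x, i ∈ EE y → Commute v i) → Commute v y

theorem cb (h : Pr x y) (hB : CB x y) {m : G} (hm : m ∈ EE x)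
    (hc : ∀ b ∈ EE x, Commute b y → Commute b m) : ∃ i ∈ EE x, i ∈ EE y ∧ (m = i ∨ m = i * x) := by
  have hn : zpowers x ≤ normalizer ((EE x ⊓ EE y : Subgroup G) : Set G) :=
    zpowers_le.2 (centralizer_le_normalizer _ fun i hi => (h.lx.central i hi.1).symm.eq)
  have : m ∈ (EE x ⊓ EE y) ⊔ zpowers x := by
    by_contra k
    obtain ⟨q, hq, h1, h2⟩ := h.lx.dual (sup_le inf_le_left (zpowers_le.2 h.lx.mem))
      (mem_sup_right (mem_zpowers x)) hm k
    exact h2 (hc q hq (hB q hq fun i hi hi' => h1 i (mem_sup_left ⟨hi, hi'⟩)))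
  obtain ⟨i, hi, c, hc', rfl⟩ := (mem_sup_iff_of_le_normalizer' hn).1 this
  rcases (mem_zpowers_two h.lx.zsq).1 hc' with rfl | rfl
  exacts [⟨i, hi.1, hi.2, Or.inl (mul_one _)⟩, ⟨i, hi.1, hi.2, Or.inr rfl⟩]

theorem orb (h : Pr x y) (hB : CB x y) {v : G} (hv : v ∈ EE x) :
    v * y * v⁻¹ = y ∨ ∃ i ∈ EE x, i ∈ EE y ∧ v * y * v⁻¹ = y * x * i := by
  have aY : Act (EE x) x y := act h.lx h.ly.zsq h.xy.symm
  obtain ⟨i, hi, hi', e⟩ := cb h hB (aY.M_mem hv).1 fun b hb hby =>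
    aY.comm_of_hat hb (Or.inl (Inv.commute_iff_conj.1 hby.symm)) (aY.M_mem hv)
  have e1 : v * y * v⁻¹ = y * (y⁻¹ * v * y * v⁻¹) := by group
  rcases e with e | e
  · left
    rw [e] at e1
    rw [e1, h.eq_one hi' e1, mul_one]
  · exact Or.inr ⟨i, hi, hi', by rw [e1, e, ← (h.lx.central i hi).eq, mul_assoc]⟩

theorem now (h : Pr x y) (hB : CB x y) {v : G} (hv : v ∈ EE x) : v * y * v⁻¹ ≠ y * x := fun e => by
  have aY : Act (EE x) x y := act h.lx h.ly.zsq h.xy.symm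
  refine h.symm.xn (h.lx.mem_of_trivial h.xy.symm fun a ha => ?_)
  rcases orb h hB ha with k | ⟨i, hi, hi', k⟩
  · exact Or.inl (Inv.commute_iff_conj.1 (Inv.commute_iff_conj.2 k).symm)
  · right
    have : i = 1 := h.eq_one (v := a * v) hi' (by
      calc a * v * y * (a * v)⁻¹ = a * (v * y * v⁻¹) * a⁻¹ := by group
        _ = (a * y * a⁻¹) * (a * x * a⁻¹) := by rw [e]; group
        _ = y * (x * (i * x)) := by rw [k, ← (h.lx.central a ha).eq]; group
        _ = _ := by rw [← (h.lx.central i hi).eq, h.lx.zcancel])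
    rw [this, mul_one] at k
    exact (aY.swap ha).2 k

theorem orb' (h : Pr x y) (hB : CB x y) {i : G} (hi : i ∈ EE x) (hi' : i ∈ EE y) (h1 : i ≠ 1) :
    ∃ v ∈ EE x, v * y * v⁻¹ = y * x * i := by
  have aY : Act (EE x) x y := act h.lx h.ly.zsq h.xy.symm
  have hiM : i ∈ aY.M := by
    by_contra k
    obtain ⟨q, hq, h2, h3⟩ := aY.dual aY.M_le aY.y_mem hi k
    rcases aY.hat_of hq h2 with k1 | k1
    · exact h3 (h.cI hi hi' hq (Inv.commute_iff_conj.2 k1).symm)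
    · exact now h hB hq ((aY.swap hq).1 k1)
  obtain ⟨-, t, ht, c, hc, et⟩ := hiM
  rcases (mem_zpowers_two h.lx.zsq).1 hc with rfl | rfl
  · exact (h1 (h.eq_one hi' (by rw [et, mul_one]))).elim
  · exact ⟨t, ht, by rw [et, mul_assoc, ← (h.lx.central i hi).eq, mul_assoc]⟩

omit [Finite G] in
theorem fix (h : Pr x y) {v i : G} (hv : v ∈ EE x) (hi' : i ∈ EE y) (e : v * y * v⁻¹ = y * x * i) : Commute v i := by
  have h1 : Commute (v * v) y := by
    rcases h.lx.sq v hv with k | k <;> rw [k]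
    exacts [Commute.one_left _, h.xy]
  have h2 := Inv.commute_iff_conj.1 h1
  have h3 : v * x * v⁻¹ = x := Inv.commute_iff_conj.1 (h.lx.central v hv).symm
  have e1 : i = x⁻¹ * y⁻¹ * (v * y * v⁻¹) := by rw [e]; group
  refine Inv.commute_iff_conj.2 ?_
  calc v * i * v⁻¹ = (v * x * v⁻¹)⁻¹ * (v * y * v⁻¹)⁻¹ * (v * v * y * (v * v)⁻¹) := by
        rw [e1]; group
    _ = x⁻¹ * (v * y * v⁻¹)⁻¹ * y := by rw [h2, h3]
    _ = x⁻¹ * (v * y⁻¹ * v⁻¹) * y := by group
    _ = x⁻¹ * (y * x * i) * y := by rw [h.ly.zinv, e]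
    _ = y * (i * y) := by rw [← h.xy.eq]; group
    _ = i := by rw [← (h.ly.central i hi').eq, h.ly.zcancel]

theorem rule (h : Pr x y) (hB : CB x y) {v i j : G} (hv : v ∈ EE x) (hi' : i ∈ EE y)
    (hj : j ∈ EE x) (hj' : j ∈ EE y) (hj1 : j ≠ 1) (hij : i ≠ j) (e : v * y * v⁻¹ = y * x * i)
    (hi : i ∈ EE x) : ¬ Commute v j := fun k => by
  obtain ⟨w, hw, ew⟩ := orb' h hB hj hj' hj1
  have := h.eq_one (v := v * w) (mul_mem hi' hj') (by
    calc v * w * y * (v * w)⁻¹ = v * (w * y * w⁻¹) * v⁻¹ := by group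
      _ = (v * y * v⁻¹) * (v * x * v⁻¹) * (v * j * v⁻¹) := by rw [ew]; group
      _ = y * (x * (i * x)) * j := by
        rw [e, Inv.commute_iff_conj.1 k, Inv.commute_iff_conj.1 (h.lx.central v hv).symm]; group
      _ = _ := by rw [← (h.lx.central i hi).eq, h.lx.zcancel, mul_assoc])
  exact hij (by rw [eq_inv_of_mul_eq_one_left this, inv_eq_of_mul_eq_one_right (h.ii hj hj')])

theorem exists_t1 (h : Pr x y) (hB : CB x y) : ∃ t ∈ EE x, ∃ i ∈ EE x, i ∈ EE y ∧ i ≠ 1 ∧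
    t * y * t⁻¹ = y * x * i ∧ ∃ j ∈ EE x, j ∈ EE y ∧ ¬ Commute t j := by
  have : ¬ ∀ t ∈ EE x, Commute y t := fun k => by
    rcases h.lx.cent' k with k | k
    exacts [h.ly.ne k, h.ne k.symm]
  push Not at this
  obtain ⟨t, ht, hty⟩ := this
  rcases orb h hB ht with k | ⟨i, hi, hi', k⟩
  · exact (hty (Inv.commute_iff_conj.2 k).symm).elim
  refine ⟨t, ht, i, hi, hi', fun e => now h hB ht (by rw [k, e, mul_one]), k, ?_⟩
  by_contra k'
  push Not at k'
  exact hty (hB t ht k').symm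

theorem nab (h : Pr x y) (hB : CB x y) :
    ∃ a ∈ EE x, ∃ b ∈ EE x, Commute a y ∧ Commute b y ∧ ¬ Commute a b := by
  by_contra k
  push Not at k
  obtain ⟨t, ht, i, hi, hi', hi1, et, j, hj, hj', htj⟩ := exists_t1 h hB
  have hti := fix h ht hi' et
  have hI : ∀ l ∈ EE x, l ∈ EE y → l = 1 ∨ l = i ∨ l = j ∨ l = i * j := fun l hl hl' => by
    by_contra k'
    push Not at k'
    obtain ⟨k1, k2, k3, k4⟩ := k'
    obtain ⟨v, hv, ev⟩ := orb' h hB hl hl' k1
    have h1 := rule h hB hv hl' hi hi' hi1 k2 ev hl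
    have h2 := rule h hB hv hl' hj hj' (fun e => htj (e ▸ Commute.one_right t)) k3 ev hl
    have h3 := rule h hB hv hl' (mul_mem hi hj) (mul_mem hi' hj') (fun e => htj (by
      rw [eq_inv_of_mul_eq_one_right e]; exact hti.inv_right)) k4 ev hl
    exact h3 ((h.lx.commute_mul_iff hi hj hv).2 (iff_of_false (fun k => h1 k.symm)
      fun k => h2 k.symm)).symm
  refine absurd (cnt h.lx.toES hi hj [1, i, j, i * j, 1 * x, i * x, j * x, i * j * x]
    le_rfl fun q hq hqi hqj => ?_) (not_le.2 h.big)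
  have hqy : Commute q y := hB q hq fun l hl hl' => by
    rcases hI l hl hl' with rfl | rfl | rfl | rfl
    exacts [Commute.one_right _, hqi, hqj, hqi.mul_right hqj]
  obtain ⟨l, hl, hl', e⟩ := cb h hB hq fun b hb hby => k b hb q hq hby hqy
  rcases hI l hl hl' with k2 | k2 | k2 | k2 <;> rcases e with e | e <;>
    simp only [List.mem_cons, e, k2, true_or, or_true]

omit [Finite G] in
theorem comm_mem (h : Pr x y) (hB : CB x y) {a v : G} (ha : a ∈ EE y) (hax : Commute a x)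
    (hv : v ∈ EE x) : a⁻¹ * (v * a * v⁻¹) ∈ EE x ∧ Commute (a⁻¹ * (v * a * v⁻¹)) y := by
  have h1 : a⁻¹ * v * a⁻¹⁻¹ ∈ EE x := h.lx.norm _ hax.inv_left v hv
  have e : a⁻¹ * (v * a * v⁻¹) = a⁻¹ * v * a⁻¹⁻¹ * v⁻¹ := by group
  rw [e]
  refine ⟨mul_mem h1 (inv_mem hv), hB _ (mul_mem h1 (inv_mem hv)) fun i hi hi' => ?_⟩
  rw [h.lx.commute_mul_iff h1 (inv_mem hv) hi, ccj, Commute.inv_left_iff, inv_inv,
    Inv.commute_iff_conj.1 (h.symm.cI hi' hi ha hax)]

omit [Finite G] in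
theorem Mul'.center {C : Type*} [CommGroup C] {u w a b : G} {χ : G → C} (hχ : Mul' u χ) {Q : Subgroup G}
    (h : ES Q w) (ha : a ∈ Q) (hb : b ∈ Q) (hau : Commute a u) (hbu : Commute b u)
    (hwu : Commute w u) (hab : ¬ Commute a b) : χ w = 1 := by
  have h1 := hχ.conj hau hbu
  rw [h.conj_eq ha hb hab, hχ _ _ hbu hwu] at h1
  simpa using h1

theorem l2 {C : Type*} [CommGroup C] {ψ : G → C} (h : Pr x y) (hB : CB x y) (hA : CB y x)
    (hψ : Mul' x ψ) {a : G} (ha : a ∈ EE y) (hax : Commute a x) : ψ a = 1 := by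
  obtain ⟨t, ht, i, hi, hi', hi1, et, j₁, hj₁, hj₁', htj₁⟩ := exists_t1 h hB
  obtain ⟨s, hs, es⟩ := orb' h.symm hA hi' hi hi1
  obtain ⟨j, hj, hj', htj, hsj⟩ : ∃ j ∈ EE x, j ∈ EE y ∧ ¬ Commute t j ∧ ¬ Commute s j := by
    have : ¬ ∀ j ∈ EE y, j ∈ EE x → Commute s j := fun k => by
      have := Inv.commute_iff_conj.1 (hA s hs k)
      rw [es, mul_assoc] at this
      exact h.symm.xn ((mul_mem_cancel_right hi).1 ((mul_eq_left.1 this) ▸ one_mem _))
    push Not at this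
    obtain ⟨j₂, hj₂', hj₂, hsj₂⟩ := this
    by_cases k1 : Commute s j₁
    · by_cases k2 : Commute t j₂
      · refine ⟨j₁ * j₂, mul_mem hj₁ hj₂, mul_mem hj₁' hj₂', fun k => htj₁ ?_, fun k => hsj₂ ?_⟩
        · simpa using k.mul_right k2.inv_right
        · simpa using k1.inv_right.mul_right k
      · exact ⟨j₂, hj₂, hj₂', k2, hsj₂⟩
    · exact ⟨j₁, hj₁, hj₁', htj₁, k1⟩
  have hj1 : j ≠ 1 := fun e => htj (e ▸ Commute.one_right t)
  obtain ⟨r, hr, er⟩ := orb' h.symm hA hj' hj hj1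
  set u := x * y * j with hu
  let χ : G → C := fun c => ψ (r⁻¹ * c * r)
  have hru : ∀ {c : G}, Commute c u → Commute (r⁻¹ * c * r) x := fun k => by
    rw [← er] at k
    exact ((ccj _ _ _).1 k.symm).symm
  have hχ : Mul' u χ := fun c d hc hd => by
    simp only [χ]
    rw [← hψ _ _ (hru hc) (hru hd)]
    congr 1; group
  have hAu : ∀ a ∈ EE y, Commute a x → Commute a u := fun a ha hax =>
    (hax.mul_right (h.ly.central a ha).symm).mul_right (h.symm.cI hj' hj ha hax)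
  have hBu : ∀ b ∈ EE x, Commute b y → Commute b u := fun b hb hby =>
    ((h.lx.central b hb).symm.mul_right hby).mul_right (h.cI hj hj' hb hby)
  have hxu := hBu x h.lx.mem h.xy
  have hyu := hAu y h.ly.mem h.xy.symm
  obtain ⟨b₁, hb₁, b₂, hb₂, hb₁y, hb₂y, hb⟩ := nab h hB
  obtain ⟨a₁, ha₁, a₂, ha₂, ha₁x, ha₂x, ha'⟩ := nab h.symm hA
  have cx : χ x = 1 := hχ.center h.lx.toES hb₁ hb₂ (hBu _ hb₁ hb₁y) (hBu _ hb₂ hb₂y) hxu hb
  have cy : χ y = 1 := hχ.center h.ly.toES ha₁ ha₂ (hAu _ ha₁ ha₁x) (hAu _ ha₂ ha₂x) hyu ha'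
  have hcu : ∀ a ∈ EE y, Commute a x → ∀ v ∈ EE x, Commute (v * a * v⁻¹) u := fun a ha hax v hv => by
    have h1 := comm_mem h hB ha hax hv
    simpa using (hAu a ha hax).mul_left (hBu _ h1.1 h1.2)
  have cI : ∀ l ∈ EE x, l ∈ EE y → χ l = 1 := fun l hl hl' => by
    by_cases hl1 : l = 1
    · rw [hl1, hχ.one]
    obtain ⟨v, hv, ev⟩ := orb' h hB hl hl' hl1
    have hlu := hBu l hl (h.ly.central l hl').symm
    have h1 := hχ.center (h.ly.toES.cj v) (conj_mem_cj ha₁) (conj_mem_cj ha₂) (hcu _ ha₁ ha₁x v hv)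
      (hcu _ ha₂ ha₂x v hv) (ev ▸ (hyu.mul_left hxu).mul_left hlu)
      fun k => ha' (by simpa [mul_assoc] using k.conj v⁻¹)
    rwa [ev, hχ _ _ (hyu.mul_left hxu) hlu, hχ _ _ hyu hxu, cx, cy, one_mul, one_mul] at h1
  have hti := fix h ht hi' et
  have hsi := fix h.symm hs hi es
  have hρ : Commute (s * t) u := by
    refine Inv.commute_iff_conj.2 ?_
    have e1 : t * x * t⁻¹ = x := Inv.commute_iff_conj.1 (h.lx.central t ht).symm
    have e2 : s * y * s⁻¹ = y := Inv.commute_iff_conj.1 (h.ly.central s hs).symm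
    have c1 := h.lx.central i hi
    have c2 := h.lx.central j hj
    have c3 := h.ly.central i hi'
    have c4 := h.ly.central j hj'
    calc s * t * u * (s * t)⁻¹
        = s * ((t * x * t⁻¹) * (t * y * t⁻¹) * (t * j * t⁻¹)) * s⁻¹ := by rw [hu]; group
      _ = s * (x * y * i * j) * s⁻¹ := by
        rw [e1, et, h.lx.conj_eq ht hj htj]
        congr 2
        calc x * (y * x * i) * (j * x) = x * y * (x * (i * (j * x))) := by group
          _ = _ := by rw [← c2.eq, ← mul_assoc i, ← c1.eq, mul_assoc x i, h.lx.zcancel]; group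
      _ = (s * x * s⁻¹) * (s * y * s⁻¹) * (s * i * s⁻¹) * (s * j * s⁻¹) := by group
      _ = x * y * (i * y * i) * (j * y) := by
        rw [es, e2, Inv.commute_iff_conj.1 hsi, h.ly.conj_eq hs hj' hsj]; group
      _ = u := by
        rw [← c3.eq, mul_assoc y i i, h.ii hi hi', mul_one, ← c4.eq, mul_assoc (x * y), h.ly.zcancel]
  have key : ∀ a ∈ EE y, Commute a x → χ a = 1 := fun a ha hax => by
    obtain ⟨hb, hby⟩ := comm_mem h hB ha hax ht
    set b := a⁻¹ * (t * a * t⁻¹) with hbdef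
    obtain ⟨hg, hgx⟩ := comm_mem h.symm hA hb hby hs
    set g := b⁻¹ * (s * b * s⁻¹) with hgdef
    have hau := hAu a ha hax
    have hbu := hBu b hb hby
    have hgu := hAu g hg hgx
    have eu : t * y * t⁻¹ = s * x * s⁻¹ := by rw [et, es, h.xy.eq]
    have h1 : t * a * t⁻¹ ∈ cj s (EE x) := by rw [cj_EE, ← eu, ← cj_EE]; exact conj_mem_cj ha
    have h2 : b⁻¹ * a⁻¹ * b⁻¹⁻¹ * g ∈ cj s (EE x) := by
      have := mul_mem (inv_mem h1) (conj_mem_cj hb : s * b * s⁻¹ ∈ cj s (EE x))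
      convert this using 1
      rw [hgdef, hbdef]; group
    have h3 : b⁻¹ * a⁻¹ * b⁻¹⁻¹ * g ∈ EE y := mul_mem (h.ly.norm _ hby.inv_left _ (inv_mem ha)) hg
    obtain ⟨l, hl, el⟩ := mem_cj'.1 h2
    have hl' : l ∈ EE y := by
      have := mul_mem (mul_mem (inv_mem hs) h3) hs
      rw [← el] at this
      simpa [mul_assoc] using this
    have h4 : χ (b⁻¹ * a⁻¹ * b⁻¹⁻¹ * g) = 1 := by
      rw [← el]
      rcases h.ly.conj s hs l hl' with k | k <;> rw [k]
      · exact cI l hl hl'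
      · rw [hχ _ _ (hBu l hl (h.ly.central l hl').symm) hyu, cI l hl hl', cy, one_mul]
    rw [hχ _ _ ((hbu.inv_left.mul_left hau.inv_left).mul_left hbu.inv_left.inv_left) hgu,
      hχ.conj hbu.inv_left hau.inv_left, hχ.inv hau, inv_mul_eq_one] at h4
    have h5 := hχ.conj hρ hbu
    have e3 : s * b * s⁻¹ = b * g := by rw [hgdef]; group
    have hiu := hBu i hi (h.ly.central i hi').symm
    rcases h.lx.conj t ht b hb with k | k
    · have : s * t * b * (s * t)⁻¹ = b * g := by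
        calc s * t * b * (s * t)⁻¹ = s * (t * b * t⁻¹) * s⁻¹ := by group
          _ = _ := by rw [k, e3]
      rw [this, hχ _ _ hbu hgu, mul_eq_left] at h5
      rw [h4, h5]
    · have : s * t * b * (s * t)⁻¹ = b * g * (x * y * i) := by
        calc s * t * b * (s * t)⁻¹ = s * (t * b * t⁻¹) * s⁻¹ := by group
          _ = (s * b * s⁻¹) * (s * x * s⁻¹) := by rw [k]; group
          _ = _ := by rw [e3, es]
      rw [this, hχ _ _ (hbu.mul_left hgu) ((hxu.mul_left hyu).mul_left hiu), hχ _ _ hbu hgu,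
        hχ _ _ (hxu.mul_left hyu) hiu, hχ _ _ hxu hyu, cx, cy, cI i hi hi', mul_one, mul_one, mul_one,
        mul_eq_left] at h5
      rw [h4, h5]
  have h6 := key (r * a * r⁻¹) (mul_mem (mul_mem hr ha) (inv_mem hr)) (by
    rcases h.ly.conj r hr a ha with k | k <;> rw [k]
    exacts [hax, hax.mul_left h.xy.symm])
  simpa [χ, mul_assoc] using h6

end Cfsg.Agent.Sm
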