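import Mathlib
import Cfsg.Agent.Isaacs.Sm6

/-! Fusion control when the centre of the large extraspecial subgroup is weakly closed. -/

set_option autoImplicit false

namespace Cfsg.Agent.Sm

open Cfsg Subgroup LocalEven Fischer Core
open scoped commutatorElement

variable {G : Type*} [Group G] {C : Type*} [CommGroup C] {z : G} {ψ : G → C} [Finite G]

theorem inv2 (hz : LS (EE z) z) (hψ : Mul' z ψ)
    (hW : ∀ w, IsConj z w → w ∈ EE z → w = z) (hbig : 32 < Nat.card (EE z))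
    {P S : Subgroup G} (hP : IsPGroup 2 P) (hS : IsSylowOf 2 S (normalizer (P : Set G)))
    (hSz : ∀ s ∈ S, Commute s z)
    (IH : ∀ R : Subgroup G, IsPGroup 2 R → Nat.card P < Nat.card R → Ag z ψ R) (hE1 : ¬ EE z ≤ P) :
    ∀ n ∈ normalizer (P : Set G), ∀ p ∈ P, ψ (n * p * n⁻¹) = ψ p := by
  haveI : Fact (Nat.Prime 2) := ⟨Nat.prime_two⟩
  set N := normalizer (P : Set G) with hN
  have hPS : P ≤ S := hS.normal_le hP le_normalizer le_rfl
  have hPz : ∀ p ∈ P, Commute p z := fun p hp => hSz p (hPS hp)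
  have hcj : ∀ n ∈ N, ∀ p ∈ P, n * p * n⁻¹ ∈ P := fun n hn p hp => conj_mem_of_mem_normalizer hn hp
  have hcard : ∀ {R : Subgroup G}, P < R → Nat.card P < Nat.card R := fun h =>
    lt_of_le_of_ne (card_le_of_le h.le) fun e => h.ne (eq_of_le_of_card_ge h.le e.ge)
  have hPE : P ≤ normalizer (EE z : Set G) := fun p hp => hz.mem_normalizer (hPz p hp)
  let M : Subgroup G :=
    { carrier := {m | m ∈ N ∧ ∀ p ∈ P, ψ (m * p * m⁻¹) = ψ p}
      one_mem' := ⟨one_mem _, by simp⟩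
      mul_mem' := by
        rintro a b ⟨ha, ha'⟩ ⟨hb, hb'⟩
        refine ⟨mul_mem ha hb, fun p hp => ?_⟩
        rw [← hb' p hp, ← ha' _ (hcj b hb p hp)]
        congr 1; group
      inv_mem' := by
        rintro a ⟨ha, ha'⟩
        refine ⟨inv_mem ha, fun p hp => ?_⟩
        rw [← ha' _ (hcj _ (inv_mem ha) p hp)]
        congr 1; group }
  have hzM : ∀ m ∈ N, Commute m z → m ∈ M := fun m hm hmz => ⟨hm, fun p hp => hψ.conj hmz (hPz p hp)⟩
  have hSM : IsSylowOf 2 S M := hS.of_le (fun s hs => hzM s (hS.le hs) (hSz s hs)) fun m hm => hm.1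
  have hPE' : ∀ r ∈ P ⊔ EE z, Commute r z := fun r hr => by
    obtain ⟨a, ha, b, hb, rfl⟩ := (mem_sup_iff_of_le_normalizer hPE).1 hr
    exact (hPz a ha).mul_left (hz.central b hb).symm
  have K2 : ∀ n ∈ N, ∀ t ∈ EE z, t ∈ N → t ∉ P → n * t * n⁻¹ ∈ M → n ∈ M := fun n hn t ht htN htP hM => by
    have hR : P ⊔ zpowers t ≤ P ⊔ EE z := sup_le_sup_left (zpowers_le.2 ht) _
    have hR2 : IsPGroup 2 ↥(P ⊔ zpowers t) := (isPGroup_sup hP hz.isPGroup hPE).to_le hR
    obtain ⟨k, hk, hkR⟩ := hSM.exists_conj_le (isPGroup_cj n hR2) (by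
      rw [cj_sup, cj_zpowers, cj_eq_of_mem_normalizer hn]
      exact sup_le (hPS.trans hSM.le) (zpowers_le.2 hM))
    rw [← cj_eq_smul, cj_cj, cj_le_iff'] at hkR
    refine ⟨hn, fun p hp => ?_⟩
    have := IH _ hR2 (hcard (lt_of_le_of_ne le_sup_left fun e =>
      htP (e.ge (mem_sup_right (mem_zpowers t))))) (k * n) 1 (fun r hr => hSz _ (hkR r hr))
      (fun r hr => by simpa using hPE' r (hR hr)) p (mem_sup_left hp)
    rw [← hk.2 _ (hcj n hn p hp)]
    simpa [mul_assoc] using this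
  have K1 : ∀ n ∈ N, n ∉ M → ∀ e ∈ EE z, Commute (n * e * n⁻¹) z → e ∈ P := fun n hn hM e he hez => by
    by_contra heP
    have hn' : ∀ p ∈ P, Commute p (n⁻¹ * z * n) := fun p hp => (ccj _ _ _).1 (hPz _ (hcj n hn p hp))
    have hD : P ≤ normalizer ((EE z ⊓ centralizer {n⁻¹ * z * n} : Subgroup G) : Set G) :=
      LocalEven.le_normalizer_inf hPE fun p hp => le_normalizer (Inv.mem_centralizer_single.2 (hn' p hp))
    refine hM ⟨hn, fun p hp => ?_⟩
    have := IH _ (isPGroup_sup hP (hz.isPGroup.to_le inf_le_left) hD)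
      (hcard (lt_of_le_of_ne le_sup_left fun k => heP (k.ge (mem_sup_right
        ⟨he, Inv.mem_centralizer_single.2 ((ccj _ _ _).1 hez)⟩)))) n 1 (fun r hr => by
          obtain ⟨a, ha, b, hb, rfl⟩ := (mem_sup_iff_of_le_normalizer hD).1 hr
          exact (ccj _ _ _).2 ((hn' a ha).mul_left (Inv.mem_centralizer_single.1 hb.2)))
      (fun r hr => by simpa using hPE' r ((sup_le_sup_left (inf_le_left : EE z ⊓ _ ≤ EE z) P) hr)) p (mem_sup_left hp)
    simpa using this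
  suffices N ≤ M from fun n hn => (this hn).2
  by_cases hzP : z ∈ P
  swap
  · have hzN : z ∈ N := centralizer_le_normalizer _ fun p hp => (hPz p hp).eq
    refine fun n hn => K2 n hn z hz.mem hzN hzP ⟨mul_mem (mul_mem hn hzN) (inv_mem hn), fun p hp => ?_⟩
    rw [Inv.commute_iff_conj.1 ((ccj _ _ _).2 (hPz _ (by simpa using hcj _ (inv_mem hn) p hp)).symm)]
  by_contra hNM
  obtain ⟨n, ⟨hn, hnM⟩, hmax⟩ := Set.exists_max_image {n | n ∈ N ∧ n ∉ M}
    (fun n => Nat.card ↥(EE (n⁻¹ * z * n⁻¹⁻¹) ⊓ EE z)) (Set.toFinite _) (SetLike.not_le_iff_exists.1 hNM)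
  set y := n⁻¹ * z * n⁻¹⁻¹ with hy
  have hyP : y ∈ P := hcj _ (inv_mem hn) z hzP
  have hPy : ∀ p ∈ P, Commute p y := fun p hp => by
    have := (ccj _ _ _).1 (hPz _ (hcj n hn p hp))
    simpa [hy] using this
  have e1 : n * y * n⁻¹ = z := by rw [hy]; group
  have h : Pr z y := ⟨hz, ls_cj hz _, isConj_iff.2 ⟨_, rfl⟩, (hPz y hyP).symm, fun e => hnM (hzM n hn
      (Inv.commute_iff_conj.2 (by nth_rewrite 1 [e]; exact e1))), hW, fun w hw hw' => by
        have := hW (n * w * n⁻¹) (((isConj_iff.2 ⟨_, rfl⟩ : IsConj z y).trans hw).trans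
          (isConj_iff.2 ⟨_, rfl⟩)) (by rw [← e1, ← cj_EE]; exact conj_mem_cj hw')
        rw [hy, ← this]; group, hbig, by rw [hy, ← cj_EE, card_cj]; exact hbig⟩
  have hEy : ∀ {a : G}, a ∈ EE y → n * a * n⁻¹ ∈ EE z := fun ha => by
    rw [← e1, ← cj_EE]; exact conj_mem_cj ha
  have hPn : ∀ {a : G}, n * a * n⁻¹ ∈ P → a ∈ P := fun ha => by
    simpa [mul_assoc] using hcj _ (inv_mem hn) _ ha
  have hA : ∀ a ∈ EE y, Commute a z → a ∈ P := fun a ha haz =>
    hPn (K1 _ (inv_mem hn) (fun k => hnM (inv_mem_iff.1 k)) _ (hEy ha) (by simpa [mul_assoc] using haz))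
  have hB : ∀ b ∈ EE z, Commute b y → b ∈ P := fun b hb hby =>
    K1 n hn hnM b hb (e1 ▸ hby.conj n)
  have K3 : ∀ s ∈ EE y, s ∈ N → s ∉ P → s ∉ M := fun s hs hsN hsP hsM =>
    hnM (inv_mem_iff.1 (K2 _ (inv_mem hn) _ (hEy hs) (mul_mem (mul_mem hn hsN) (inv_mem hn))
      (fun k => hsP (hPn k)) (by simpa [mul_assoc] using hsM)))
  have c1 : CB z y := fun v hv hvI => l1 h hP hPz hPy (inv_mem hn) rfl hA hB (fun t ht htN htP => by
    have := hmax (n * t⁻¹ * n⁻¹) ⟨mul_mem (mul_mem hn (inv_mem htN)) (inv_mem hn), fun k =>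
      hnM (K2 n hn _ (inv_mem ht) (inv_mem htN) (fun k => htP (inv_mem_iff.1 k)) k)⟩
    refine le_trans (le_of_eq ?_) this
    rw [← card_cj n, cj_inf, cj_EE, cj_EE, e1, inf_comm]
    congr 4
    rw [hy]; group) hv hvI
  have c2 : CB y z := fun v hv hvI => l1 h.symm hP hPy hPz hn e1 hB hA (fun s hs hsN hsP => by
    have := hmax s⁻¹ ⟨inv_mem hsN, fun k => K3 s hs hsN hsP (inv_mem_iff.1 k)⟩
    rw [inf_comm (EE z), inf_comm (EE z)]
    simpa using this) hv hvI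
  obtain ⟨t, ht, htN, htP⟩ := exists_t hP hz.isPGroup hPE hE1
  have hs : n⁻¹ * t * n⁻¹⁻¹ ∈ EE y := by rw [hy, ← cj_EE]; exact conj_mem_cj ht
  have hsN : n⁻¹ * t * n⁻¹⁻¹ ∈ N := mul_mem (mul_mem (inv_mem hn) htN) (inv_mem (inv_mem hn))
  refine K3 _ hs hsN (fun k => htP (by simpa [mul_assoc] using hcj n hn _ k)) ⟨hsN, fun p hp => ?_⟩
  set s := n⁻¹ * t * n⁻¹⁻¹
  have hr : s * p * s⁻¹ * p⁻¹ ∈ EE y := by
    have := mul_mem hs (h.ly.norm p (hPy p hp) _ (inv_mem hs))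
    simpa [mul_assoc] using this
  have hrz : Commute (s * p * s⁻¹ * p⁻¹) z := hPz _ (mul_mem (hcj s hsN p hp) (inv_mem hp))
  have h2 := hψ _ _ hrz (hPz p hp)
  rwa [inv_mul_cancel_right, l2 h c1 c2 hψ hr hrz, one_mul] at h2

theorem step2 (hz : LS (EE z) z) (hψ : Mul' z ψ)
    (hW : ∀ w, IsConj z w → w ∈ EE z → w = z) (hbig : 32 < Nat.card (EE z))
    {P S : Subgroup G} (hP : IsPGroup 2 P) (hS : IsSylowOf 2 S (normalizer (P : Set G)))
    (hSz : ∀ s ∈ S, Commute s z)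
    (IH : ∀ R : Subgroup G, IsPGroup 2 R → Nat.card P < Nat.card R → Ag z ψ R)
    {g : G} (hg : ∀ p ∈ P, Commute (g * p * g⁻¹) z) : ∀ p ∈ P, ψ (g * p * g⁻¹) = ψ p := by
  haveI : Fact (Nat.Prime 2) := ⟨Nat.prime_two⟩
  set N := normalizer (P : Set G) with hN
  have hPS : P ≤ S := hS.normal_le hP le_normalizer le_rfl
  have hPz : ∀ p ∈ P, Commute p z := fun p hp => hSz p (hPS hp)
  have hcj : ∀ n ∈ N, ∀ p ∈ P, n * p * n⁻¹ ∈ P := fun n hn p hp => conj_mem_of_mem_normalizer hn hp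
  have hx := ls_cj hz g⁻¹
  rw [inv_inv] at hx
  have hPx : ∀ p ∈ P, Commute p (g⁻¹ * z * g) := fun p hp => (ccj _ _ _).1 (hg p hp)
  by_cases hgz : g⁻¹ * z * g = z
  · intro p hp
    refine hψ.conj (commute_iff_eq _ _ |>.2 ?_) (hPz p hp)
    calc g * z = g * (g⁻¹ * z * g) := by rw [hgz]
      _ = _ := by group
  have hE1 : ¬ EE z ≤ P := fun h => by
    rcases hz.cent' fun x hx => (hPx x (h hx)).symm with h1 | h1
    exacts [hx.ne h1, hgz h1]
  have hE2 : ¬ EE (g⁻¹ * z * g) ≤ P := fun h => by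
    rcases hx.cent' fun x hx => (hPz x (h hx)).symm with h1 | h1
    exacts [hz.ne h1, hgz h1.symm]
  have hcard : ∀ {R : Subgroup G}, P < R → Nat.card P < Nat.card R := fun h =>
    lt_of_le_of_ne (card_le_of_le h.le) fun e => h.ne (eq_of_le_of_card_ge h.le e.ge)
  have hinv := inv2 hz hψ hW hbig hP hS hSz IH hE1
  have hPn : P ≤ normalizer (EE (g⁻¹ * z * g) : Set G) := fun p hp => hx.mem_normalizer (hPx p hp)
  obtain ⟨t, ht, htN, htP⟩ := exists_t hP hx.isPGroup hPn hE2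
  set R := (P ⊔ EE (g⁻¹ * z * g)) ⊓ N with hR
  have hR2 : IsPGroup 2 R := (isPGroup_sup hP hx.isPGroup hPn).to_le inf_le_left
  have hPR : P < R := lt_of_le_of_ne (le_inf le_sup_left le_normalizer)
    fun e => htP (e.ge ⟨mem_sup_right ht, htN⟩)
  have hRx : ∀ r ∈ R, Commute r (g⁻¹ * z * g) := fun r hr => by
    obtain ⟨a, ha, b, hb, rfl⟩ := (mem_sup_iff_of_le_normalizer hPn).1 hr.1
    exact (hPx a ha).mul_left (hx.central b hb).symm
  obtain ⟨n, hn, hnR⟩ := hS.exists_conj_le hR2 inf_le_right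
  rw [← cj_eq_smul, cj_le_iff'] at hnR
  intro p hp
  rw [IH R hR2 (hcard hPR) g n (fun r hr => (ccj _ _ _).2 (hRx r hr))
    (fun r hr => hSz _ (hnR r hr)) p (hPR.le hp), hinv n hn p hp]

theorem ag2 (hz : LS (EE z) z) (hψ : Mul' z ψ)
    (hW : ∀ w, IsConj z w → w ∈ EE z → w = z) (hbig : 32 < Nat.card (EE z))
    (P : Subgroup G) (hP : IsPGroup 2 P) : Ag z ψ P := by
  haveI : Fact (Nat.Prime 2) := ⟨Nat.prime_two⟩
  induction' hn : Nat.card G - Nat.card P using Nat.strong_induction_on with n ih generalizing P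
  obtain ⟨T, hT⟩ := sylow_comm hz
  obtain ⟨S, hS⟩ := exists_isSylowOf 2 (normalizer (P : Set G))
  obtain ⟨k, -, hk⟩ := (isSylowOf_top T).exists_conj_le hS.isPGroup le_top
  have hS' := hS.conj k
  rw [← cj_eq_smul, ← cj_eq_smul, cj_normalizer] at hS'
  rw [← cj_eq_smul] at hk
  have key : ∀ g : G, (∀ p ∈ P, Commute (g * p * g⁻¹) z) → ∀ p ∈ P,
      ψ (g * p * g⁻¹) = ψ (k * p * k⁻¹) := fun g hg p hp => by
    have := step2 hz hψ hW hbig (isPGroup_cj k hP) hS' (fun s hs => hT s (hk hs)) (g := g * k⁻¹)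
      (fun R hR hc => ih _ (by
        rw [card_cj] at hc
        have := R.card_le_card_group
        omega) R hR rfl) (fun q hq => by
        have := hg _ (mem_cj.1 hq)
        convert this using 1; group) _ (conj_mem_cj hp)
    rw [← this]
    congr 1; group
  exact fun g h hg hh p hp => (key g hg p hp).trans (key h hh p hp).symm

/-- a fusion invariant homomorphism kills the `2`-elements -/
theorem triv2 (hres : pResidual 2 G = ⊤) (hz : LS (EE z) z) (hψ : Mul' z ψ)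
    (hW : ∀ w, IsConj z w → w ∈ EE z → w = z) (hbig : 32 < Nat.card (EE z))
    {P : Subgroup G} (hP : IsPGroup 2 P) (hPz : ∀ p ∈ P, Commute p z) : ∀ p ∈ P, ψ p = 1 := by
  haveI : Fact (Nat.Prime 2) := ⟨Nat.prime_two⟩
  obtain ⟨T, hT⟩ := sylow_comm hz
  let K : Subgroup G :=
    { carrier := {m | Commute m z ∧ ψ m = 1}
      one_mem' := ⟨Commute.one_left z, hψ.one⟩
      mul_mem' := by
        rintro a b ⟨ha, ha'⟩ ⟨hb, hb'⟩
        exact ⟨ha.mul_left hb, by rw [hψ a b ha hb, ha', hb', mul_one]⟩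
      inv_mem' := by
        rintro a ⟨ha, ha'⟩
        exact ⟨ha.inv_left, by rw [hψ.inv ha, ha', inv_one]⟩ }
  have h1 : (T : Subgroup G).focalSubgroup ≤ K := by
    rw [focalSubgroup_def, closure_le]
    rintro _ ⟨hg, x, hx, u, rfl⟩
    refine ⟨hT _ hg, ?_⟩
    have h2 : u * x⁻¹ * u⁻¹ ∈ (T : Subgroup G) := by
      have := mul_mem (inv_mem hx) hg
      simpa [commutatorElement_def, mul_assoc] using this
    have h3 := ag2 hz hψ hW hbig (zpowers x⁻¹) (T.2.to_le (zpowers_le.2 (inv_mem hx))) u 1 (by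
        rintro _ ⟨k, rfl⟩
        have := (hT _ h2).zpow_left k
        rwa [conj_zpow] at this) (by
        rintro _ ⟨k, rfl⟩
        simpa using ((hT _ hx).zpow_left k).inv_left) _ (mem_zpowers _)
    have e : ⁅x, u⁆ = x * (u * x⁻¹ * u⁻¹) := by simp [commutatorElement_def, mul_assoc]
    rw [e, hψ _ _ (hT _ hx) (hT _ h2), h3]
    simp [hψ.inv (hT _ hx)]
  have h2 : (T.transferFocal).ker = ⊤ := by
    rw [eq_top_iff, ← hres, pResidual, closure_le]
    intro g hg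
    have hQ : IsPGroup 2 ((T : Subgroup G) ⧸ (T : Subgroup G).focalSubgroupOf) :=
      T.2.to_quotient _
    obtain ⟨k, hk⟩ := (IsPGroup.iff_orderOf.1 hQ) (T.transferFocal g)
    have h3 : orderOf (T.transferFocal g) ∣ orderOf g := orderOf_map_dvd _ _
    rw [hk] at h3
    have h4 : orderOf (T.transferFocal g) = 1 := by
      rw [hk]
      exact Nat.Coprime.eq_one_of_dvd (Nat.Coprime.pow_right k hg).symm h3
    exact orderOf_eq_one_iff.1 h4
  have h3 := ker_transferFocal_inf_eq_focalSubgroup T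
  rw [h2, top_inf_eq] at h3
  have hTs : IsSylowOf 2 (T : Subgroup G) (centralizer {z}) :=
    isSylowOf_sylow_of_le T fun t ht => Inv.mem_centralizer_single.2 (hT t ht)
  obtain ⟨k, hk, hkP⟩ := hTs.exists_conj_le hP fun p hp => Inv.mem_centralizer_single.2 (hPz p hp)
  rw [← cj_eq_smul, cj_le_iff'] at hkP
  intro p hp
  rw [← hψ.conj (Inv.mem_centralizer_single.1 hk) (hPz p hp)]
  exact (h1 (h3.le (hkP p hp))).2

end Cfsg.Agent.Sm
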