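import Mathlib
import Cfsg.Agent.Isaacs.Sm11
import Cfsg.Agent.Isaacs.Sm4
import Cfsg.Agent.PGrp.Extra2
import Cfsg.Agent.S3300
import Cfsg.Agent.Puig.E

/-! No large extraspecial subgroup of width four with quotient between `3 × A₆` and `S₃ × S₆`
and the centre not weakly closed. -/

set_option autoImplicit false

namespace Cfsg.Agent.Sm

open Cfsg Subgroup LocalEven Fischer Equiv Module PGrp

theorem z2e : ∀ a b : ZMod 2, (a = 0 ↔ b = 0) → a = b := by decide

variable {G : Type*} [Group G] [Finite G]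

theorem card_cc {R J C : Subgroup G} {u : G} (h : ES R u) (hJ : J ≤ R) (hu : u ∈ J) (hC : C ≤ R)
    (hc : ∀ a ∈ C, ∀ j ∈ J, Commute j a) : Nat.card C * Nat.card J ≤ 2 * Nat.card R := by
  haveI : Fact (Nat.Prime 2) := ⟨Nat.prime_two⟩
  obtain ⟨m, D, -, hnd, hcard⟩ := exists_cext_of_isExtraspecial h.isExtraspecial
  have hZ : D.Z ≤ J.subgroupOf R := fun x hx => by
    rcases h.cent x x.2 fun y hy => congrArg Subtype.val (mem_center_iff.1 (D.Z_le_center hx) ⟨y, hy⟩).symm
      with e | e <;> rw [mem_subgroupOf, e]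
    exacts [one_mem _, hu]
  have h1 : Nat.card J = 2 * Nat.card (D.img (J.subgroupOf R)) := by
    rw [← D.card_pre, D.pre_img_of_le hZ, Nat.card_congr (subgroupOfEquivOfLe hJ).toEquiv]
  have h2 : C.subgroupOf R ≤ D.pre (D.B.orthogonal (D.img (J.subgroupOf R))) := fun a ha => by
    rw [D.mem_pre, LinearMap.BilinForm.mem_orthogonal_iff]
    intro n hn
    obtain ⟨j, hj, rfl⟩ := D.mem_img.1 hn
    exact (D.B_eq_zero_iff j a).2 (Subtype.ext (hc a ha j hj))
  have h3 := card_le_of_le h2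
  rw [D.card_pre, Nat.card_congr (subgroupOfEquivOfLe hC).toEquiv,
    Module.natCard_eq_pow_finrank (K := ZMod 2) (V := D.B.orthogonal _),
    LinearMap.BilinForm.finrank_orthogonal hnd] at h3
  rw [h1, hcard, Module.natCard_eq_pow_finrank (K := ZMod 2) (V := D.img _)]
  have h4 := Submodule.finrank_le (D.img (J.subgroupOf R))
  rw [finrank_fin_fun_zmod] at h3 h4
  rw [Nat.card_zmod] at h3 ⊢
  set r := finrank (ZMod 2) (D.img (J.subgroupOf R))
  calc Nat.card C * (2 * 2 ^ r) ≤ 2 * 2 ^ (2 * m - r) * (2 * 2 ^ r) := Nat.mul_le_mul_right _ h3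
    _ = 2 * (2 ^ (2 * m - r + r) * 2) := by ring
    _ = _ := by rw [Nat.sub_add_cancel h4, pow_succ]

omit [Finite G] in
theorem comm_inter {Q R : Subgroup G} {u v i j : G} (h : ES Q u) (h' : ES R v) (huv : u ≠ v)
    (hi : i ∈ Q) (hj : j ∈ Q) (hi' : i ∈ R) (hj' : j ∈ R) : Commute i j := by
  by_contra k
  exact huv (mul_left_cancel ((h.conj_eq hi hj k).symm.trans (h'.conj_eq hi' hj' k)))

variable {z : G} {V : Type} [AddCommGroup V] [Module (ZMod 2) V]

/-- the action of the centralizer on the central quotient -/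
noncomputable def actV (hz : LS (EE z) z) (D : CExt 2 (EE z) V) (hZ : center (EE z) = D.Z) :
    centralizer ({z} : Set G) →* (V ≃ₗ[ZMod 2] V) :=
  (D.autLin hZ).comp ((EE z).normalizerMonoidHom.comp (inclusion fun _ hg =>
    hz.mem_normalizer (Inv.mem_centralizer_single.1 hg)))

omit [Finite G] in
theorem actV_χ (hz : LS (EE z) z) (D : CExt 2 (EE z) V) (hZ : center (EE z) = D.Z)
    (h : centralizer ({z} : Set G)) (x : EE z) :
    actV hz D hZ h (D.χ x) = D.χ ⟨h * x * (h : G)⁻¹, hz.norm h (Inv.mem_centralizer_single.1 h.2) x x.2⟩ :=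
  D.autLin_χ hZ _ x

omit [Finite G] [Module (ZMod 2) V] in
theorem χ_eq (hz : LS (EE z) z) (D : CExt 2 (EE z) V) (hZ : center (EE z) = D.Z) {x x' : EE z} :
    D.χ x = D.χ x' ↔ (x : G) = x' ∨ (x : G) = x' * z := by
  have e : D.χ x = D.χ x' ↔ x'⁻¹ * x ∈ center (EE z) := by
    rw [hZ, D.mem_Z, D.χ_mul, D.χ_inv, neg_add_eq_zero, eq_comm]
  rw [e]
  constructor
  · intro h
    rcases hz.cent _ (x'⁻¹ * x).2 fun y hy => congrArg Subtype.val (mem_center_iff.1 h ⟨y, hy⟩).symm
      with k | k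
    · exact Or.inl (inv_mul_eq_one.1 k).symm
    · exact Or.inr (inv_mul_eq_iff_eq_mul.1 k)
  · rintro (k | k)
    · rw [Subtype.ext k, inv_mul_cancel]; exact one_mem _
    · refine mem_center_iff.2 fun y => Subtype.ext ?_
      simp only [coe_mul, coe_inv, k, inv_mul_cancel_left]
      exact (hz.central y y.2).symm.eq

theorem no_s6 (hz : LS (EE z) z) (hcard : Nat.card (EE z) = 512)
    (π : centralizer ({z} : Set G) →* Perm (Fin 3) × Perm (Fin 6))
    (hker : ∀ h, π h = 1 ↔ (h : G) ∈ EE z) (τ : centralizer ({z} : Set G)) (hτ : π τ = (finRotate 3, 1))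
    (lift : ∀ ρ, Perm.sign ρ = 1 → ∃ h, π h = (1, ρ)) {g : G} (hg : g * z * g⁻¹ ∈ EE z) :
    g * z * g⁻¹ = z := by
  haveI : Fact (Nat.Prime 2) := ⟨Nat.prime_two⟩
  obtain ⟨m, D, -, hnd, hc⟩ := exists_cext_of_isExtraspecial hz.isExtraspecial
  have hm : m = 4 := by
    rw [hcard] at hc
    have := Nat.pow_right_injective le_rfl (show 2 ^ 9 = 2 ^ (2 * m + 1) from hc)
    omega
  have hZ := D.nondegenerate_iff.1 hnd
  have hm' : ∀ h : centralizer ({z} : Set G), Commute (h : G) z := fun h => Inv.mem_centralizer_single.1 h.2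
  have hχ := @χ_eq G _ z _ _ hz D hZ
  have hα := actV_χ hz D hZ
  have hB : ∀ x x' : EE z, D.B (D.χ x) (D.χ x') = 0 ↔ Commute (x : G) x' := fun x x' => by
    rw [D.B_eq_zero_iff]
    exact ⟨fun k => congrArg Subtype.val k, fun k => Subtype.ext k⟩
  let c : Ctx (centralizer ({z} : Set G)) (Fin (2 * m) → ZMod 2) :=
    { α := actV hz D hZ
      B := D.B
      π := π
      τ := τ
      alt := D.B_alt
      nd := hnd
      inv := fun h u v => by
        obtain ⟨x, rfl⟩ := D.χ_surj u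
        obtain ⟨x', rfl⟩ := D.χ_surj v
        refine z2e _ _ ?_
        rw [hα, hα, hB, hB, ccj]
        simp [mul_assoc]
      ker := fun h => by
        rw [hker]
        constructor
        · intro k
          refine LinearEquiv.ext fun v => ?_
          obtain ⟨x, rfl⟩ := D.χ_surj v
          rw [hα]
          exact hχ.2 (hz.conj h k x x.2)
        · intro k
          refine hz.mem_of_trivial (hm' h) fun a ha => ?_
          have := hα h ⟨a, ha⟩
          rw [k] at this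
          exact hχ.1 this.symm
      dim := by rw [finrank_fin_fun_zmod, hm]
      hτ := hτ
      lift := lift }
  have hcα : c.α = actV hz D hZ := rfl
  have hinv : ∀ x : EE z, D.χ x = D.χ x⁻¹ := fun x => by rw [D.χ_inv, ZModModule.neg_eq_self]
  have hmI : ∀ {y : G}, z ∈ EE y → ∀ x : EE z,
      D.χ x ∈ D.img ((EE y).subgroupOf (EE z)) ↔ (x : G) ∈ EE y := fun {y} hzy x => by
    rw [← D.mem_pre, D.pre_img_of_le, mem_subgroupOf]
    intro w hw
    rcases hχ.1 ((D.mem_Z.1 hw).trans D.χ_one.symm) with e | e <;> rw [mem_subgroupOf, e]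
    exacts [one_mem _, by simpa using hzy]
  have hcardI : ∀ {y : G}, z ∈ EE y → ∀ {W : Subgroup G}, W ≤ EE z → z ∈ W →
      Nat.card W = 2 * Nat.card (D.img (W.subgroupOf (EE z))) := fun {y} hzy W hW hzW => by
    rw [← D.card_pre, D.pre_img_of_le, Nat.card_congr (subgroupOfEquivOfLe hW).toEquiv]
    intro w hw
    rcases hχ.1 ((D.mem_Z.1 hw).trans D.χ_one.symm) with e | e <;> rw [mem_subgroupOf, e]
    exacts [one_mem _, by simpa using hzW]
  have pt : ∀ (g y : G) (hg : y ∈ EE z), g * z * g⁻¹ = y → y ≠ z →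
      Pt c (D.χ ⟨_, hg⟩) (D.img ((EE y).subgroupOf (EE z)))
        ((EE y).subgroupOf (centralizer {z})) := fun g y hg hydef hne => by
    have hy : LS (EE y) y := hydef ▸ ls_cj hz g
    have hzy : z ∈ EE y := by rw [← hydef, ← cj_EE]; exact hz.symm (hydef.symm ▸ hg)
    have hcy : Nat.card (EE y) = 512 := by rw [← hydef, ← cj_EE, card_cj, hcard]
    have hI := hmI hzy
    have hfix : ∀ (a : centralizer ({z} : Set G)) (x : EE z), (a : G) ∈ EE y → (x : G) ∈ EE y →
        c.α a (D.χ x) = D.χ x → Commute (a : G) x := fun a x ha hx e => by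
      rw [hcα, hα, hχ] at e
      by_contra k
      rcases e with e | e
      · exact k (Inv.commute_iff_conj.2 e)
      · exact hne (mul_left_cancel ((hy.conj_eq ha hx k).symm.trans e))
    have hlift : ∀ h : centralizer ({z} : Set G), c.α h (D.χ ⟨y, hg⟩) = D.χ ⟨y, hg⟩ →
        ∃ h' : centralizer ({z} : Set G), π h' = π h ∧ Commute (h' : G) y := fun h e => by
      rw [hcα, hα, hχ] at e
      rcases e with e | e
      · exact ⟨h, rfl, Inv.commute_iff_conj.2 e⟩
      · obtain ⟨q, hq, eq⟩ := hz.exists_conj hg hy.ne hne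
        have hqH : q ∈ centralizer ({z} : Set G) := Inv.mem_centralizer_single.2 (hz.central q hq).symm
        refine ⟨(⟨q, hqH⟩ : centralizer ({z} : Set G))⁻¹ * h, by
          rw [map_mul, map_inv, (hker ⟨q, hqH⟩).2 hq, inv_one, one_mul], Inv.commute_iff_conj.2 ?_⟩
        simp only [coe_mul, coe_inv] at e ⊢
        calc q⁻¹ * h * y * (q⁻¹ * h)⁻¹ = q⁻¹ * (h * y * (h : G)⁻¹) * q := by group
          _ = y := by rw [e, ← eq]; group
    have hcI : Nat.card ↥(π.ker ⊓ (EE y).subgroupOf (centralizer {z})) = Nat.card ↥(EE y ⊓ EE z) := by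
      rw [← Nat.card_congr (subgroupOfEquivOfLe (inf_le_right.trans (pCoreOf_le _) :
        EE y ⊓ EE z ≤ centralizer {z})).toEquiv]
      congr 3
      ext a
      simp only [mem_inf, MonoidHom.mem_ker, hker, mem_subgroupOf]
      tauto
    have hcI' : Nat.card ↥(EE y ⊓ EE z) = 2 * Nat.card (D.img ((EE y).subgroupOf (EE z))) := by
      rw [hcardI hzy inf_le_right ⟨hzy, hz.mem⟩, inf_subgroupOf_right]
    refine ⟨fun e => ?_, (hI _).2 hy.mem, fun u hu v hv => ?_, fun a ha v hv => ?_, fun a ha v hv => ?_,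
      fun a ha v hv hv' => ?_, fun v hv hf => ?_, fun a ha => ?_, ?_, hcI.trans hcI', fun C hC hCI => ?_,
      fun h e a ha => ?_, fun h e v hv => ?_⟩
    · rcases hχ.1 (e.trans D.χ_one.symm) with k | k
      exacts [hy.ne k, hne (by simpa using k)]
    · obtain ⟨x, rfl⟩ := D.χ_surj u
      obtain ⟨x', rfl⟩ := D.χ_surj v
      exact (hB _ _).2 (comm_inter hz.toES hy.toES hne.symm x.2 x'.2 ((hI _).1 hu) ((hI _).1 hv))
    · obtain ⟨x, rfl⟩ := D.χ_surj v
      rw [hcα, hα, hinv x, ← D.χ_mul, hI]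
      have := mul_mem (mem_subgroupOf.1 ha) (hy.norm x ((hB _ _).1 hv) _ (inv_mem (mem_subgroupOf.1 ha)))
      simpa [mul_assoc] using this
    · obtain ⟨x, rfl⟩ := D.χ_surj v
      rw [hcα, hα]
      rcases hy.conj a (mem_subgroupOf.1 ha) x ((hI _).1 hv) with e | e
      · exact Or.inl (az.2 (hχ.2 (Or.inl e)))
      · right
        rw [add_comm, hinv x, ← D.χ_mul]
        exact hχ.2 (Or.inl (by simp [e]))
    · obtain ⟨x, rfl⟩ := D.χ_surj v
      have ha' : (a : G) ∈ EE y := mem_subgroupOf.1 ha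
      rw [hcα, hα, hinv x, ← D.χ_mul, hI] at hv'
      have h1 : (x : G) * (a : G)⁻¹ * (x : G)⁻¹ ∈ EE y := by
        have := mul_mem (inv_mem ha') hv'
        simpa [mul_assoc] using this
      obtain ⟨s, hs, es⟩ := hy.exists_conj hzy hz.ne hne.symm
      have h2 : (x : G) * (a : G)⁻¹ * (x : G)⁻¹ ∈ cj s (EE z) := by
        rw [cj_EE, es, (hz.central y hg).eq, ← hz.conj_eq x.2 hg fun k => hv ((hB _ ⟨y, hg⟩).2 k), ← cj_EE]
        exact conj_mem_cj (inv_mem ha')
      obtain ⟨i, hi, ei⟩ := mem_cj'.1 h2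
      have hi' : i ∈ EE y := by
        have := mul_mem (mul_mem (inv_mem hs) h1) hs
        rw [← ei] at this
        simpa [mul_assoc] using this
      have h3 : (x : G) * (a : G)⁻¹ * (x : G)⁻¹ ∈ EE z := by
        rw [← ei]
        rcases hy.conj s hs i hi' with k | k <;> rw [k]
        exacts [hi, mul_mem hi hg]
      refine (hker a).2 ?_
      have := inv_mem (mul_mem (mul_mem (inv_mem x.2) h3) x.2)
      simpa [mul_assoc] using this
    · obtain ⟨x, rfl⟩ := D.χ_surj v
      have hx := (hI _).1 hv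
      rcases hy.cent_cent hzy hx fun p hp hzp => (hfix ⟨p, Inv.mem_centralizer_single.2 hzp.symm⟩ x hp hx
        (hf _ (mem_subgroupOf.2 hp))).symm with e | e | e | e
      · exact Or.inl ((hχ.2 (Or.inl e)).trans D.χ_one)
      · exact Or.inr (hχ.2 (Or.inl e))
      · exact Or.inl ((hχ.2 (Or.inr (by simpa using e))).trans D.χ_one)
      · exact Or.inr (hχ.2 (Or.inr (by rw [e, (hz.central y hg).eq])))
    · change π a * π a = 1
      rw [← map_mul, hker]
      rcases hy.sq a (mem_subgroupOf.1 ha) with e | e <;> rw [coe_mul, e]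
      exacts [one_mem _, hg]
    · have h1 := Core.card_inf_mul_relIndex (centralizer ({z} : Set G)) (EE y)
      have h2 := relIndex_le hy.toES hzy
      have h3 : (centralizer ({z} : Set G)).relIndex (EE y) ≠ 1 := fun e => by
        rcases hy.cent z hzy fun p hp => (Inv.mem_centralizer_single.1 (relIndex_eq_one.1 e hp)).symm
          with k | k
        exacts [hz.ne k, hne k.symm]
      have h4 : (centralizer ({z} : Set G)).relIndex (EE y) = 2 := by
        rw [hcy] at h1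
        generalize (centralizer ({z} : Set G)).relIndex (EE y) = r at *
        interval_cases r <;> simp_all
      rw [h4, hcy] at h1
      rw [← inf_subgroupOf_left, Nat.card_congr (subgroupOfEquivOfLe inf_le_left).toEquiv]
      omega
    · have := card_cc hy.toES (J := EE y ⊓ EE z) (C := C.map (centralizer {z}).subtype) inf_le_left
        ⟨hy.mem, hg⟩ (by rintro _ ⟨a, ha, rfl⟩; exact mem_subgroupOf.1 (hC ha)) (by
          rintro _ ⟨a, ha, rfl⟩ j hj
          exact (hfix a ⟨j, hj.2⟩ (mem_subgroupOf.1 (hC ha)) hj.1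
            (hCI a ha _ ((hI ⟨j, hj.2⟩).2 hj.1))).symm)
      rw [card_map_of_injective (subtype_injective _), hcI', hcy] at this
      nlinarith
    · obtain ⟨h', e1, e2⟩ := hlift h e
      refine ⟨h' * a * h'⁻¹, mem_subgroupOf.2 (hy.norm h' e2 a (mem_subgroupOf.1 ha)), ?_⟩
      change π _ = π _
      simp [e1]
    · obtain ⟨h', e1, e2⟩ := hlift h e
      obtain ⟨x, rfl⟩ := D.χ_surj v
      rw [← c.eqα (g := h') e1, hcα, hα, hI]
      exact hy.norm h' e2 x ((hI _).1 hv)
  by_contra hne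
  have P := pt g _ hg rfl hne
  refine P.final fun k hk1 hk2 hk3 => ?_
  have hy := ls_cj hz g
  have hzy : z ∈ EE (g * z * g⁻¹) := cj_EE g z ▸ hz.symm hg
  set y := g * z * g⁻¹ with hydef
  rw [hcα, hα] at hk1 hk2
  rw [hmI hzy] at hk1
  have hy2 := ls_cj hy k
  have hne2 : (k : G) * y * (k : G)⁻¹ ≠ y := fun e => hk2 (hχ.2 (Or.inl e))
  have hzy2 : z ∈ EE ((k : G) * y * (k : G)⁻¹) := by
    rw [← cj_EE, mem_cj, mul_assoc, ← (hm' k).eq, inv_mul_cancel_left]; exact hzy
  have e' : g⁻¹ * k * g * z * (g⁻¹ * k * g)⁻¹ = g⁻¹ * ((k : G) * y * (k : G)⁻¹) * g := by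
    rw [hydef]; group
  have hg' : g⁻¹ * k * g * z * (g⁻¹ * k * g)⁻¹ ∈ EE z := by
    rw [e', ← mem_cj, cj_EE]; exact hk1
  have P' := pt _ _ hg' rfl fun e => hne2 (by
    rw [e'] at e
    calc (k : G) * y * (k : G)⁻¹ = g * (g⁻¹ * ((k : G) * y * (k : G)⁻¹) * g) * g⁻¹ := by group
      _ = y := by rw [e])
  set T := EE ((k : G) * y * (k : G)⁻¹) ⊓ EE y with hT
  have hT32 : Nat.card T = 32 := by
    have h1 := hcardI hzy (W := EE (g⁻¹ * k * g * z * (g⁻¹ * k * g)⁻¹) ⊓ EE z) inf_le_right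
      ⟨cj_EE _ z ▸ hz.symm hg', hz.mem⟩
    rw [inf_subgroupOf_right, P'.cI16, ← card_cj g, cj_inf, cj_EE, cj_EE, e'] at h1
    simpa [mul_assoc, hT, hydef] using h1
  have hTH : T ≤ centralizer {z} := fun u hu => Inv.mem_centralizer_single.2
    (comm_inter hy2.toES hy.toES hne2 hu.1 hzy2 hu.2 hzy)
  have h1 : Nat.card (T.subgroupOf (centralizer {z})) ≤
      Nat.card ↥(c.L ⊓ T.subgroupOf (centralizer {z})) * 2 := half (by
    by_cases k1 : T.subgroupOf (centralizer {z}) ≤ c.L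
    · exact ⟨1, one_mem _, fun b hb => Or.inr (k1 hb)⟩
    obtain ⟨s, hs, hsL⟩ := SetLike.not_le_iff_exists.1 k1
    refine ⟨s, hs, fun b hb => or_iff_not_imp_right.2 fun hbL => ?_⟩
    rw [Ctx.mem_L, map_mul]
    exact (s3 _ (congrArg Prod.fst (P.sq s hs.2)) hsL).2.2 _ (congrArg Prod.fst (P.sq b hb.2)) hbL
      (congrArg Prod.fst (P.comm hs.2 hb.2)))
  have h2 : c.L ⊓ T.subgroupOf (centralizer {z}) ≤ (T ⊓ EE z).subgroupOf (centralizer {z}) :=
    fun u hu => ⟨hu.2, (hker u).1 (hk3 u hu.2.2 (by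
      have := hu.2.1
      rw [← cj_EE] at this
      exact mem_subgroupOf.2 (mem_cj.1 this)) hu.1)⟩
  have h3 := card_le_of_le h2
  rw [Nat.card_congr (subgroupOfEquivOfLe (inf_le_left.trans hTH)).toEquiv,
    hcardI hzy (W := T ⊓ EE z) inf_le_right ⟨⟨hzy2, hzy⟩, hz.mem⟩, c.card_sub] at h3
  rw [Nat.card_congr (subgroupOfEquivOfLe hTH).toEquiv, hT32] at h1
  have h4 : 3 ≤ finrank (ZMod 2) (D.img ((T ⊓ EE z).subgroupOf (EE z))) :=
    (Nat.pow_le_pow_iff_right one_lt_two).1 (by omega)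
  refine h4.trans (Submodule.finrank_mono fun v hv => ?_)
  obtain ⟨x, hx, rfl⟩ := D.mem_img.1 hv
  have hx1 := hx.1.1
  rw [← cj_EE] at hx1
  have hx2 : (k : G)⁻¹ * x * k ∈ EE z := by simpa using hz.norm _ (hm' k).inv_left x x.2
  refine ⟨(hmI hzy x).2 hx.1.2, D.χ ⟨_, hx2⟩, (hmI hzy _).2 (mem_cj.1 hx1), ?_⟩
  change c.α k _ = _
  rw [hcα, hα]
  congr 1
  exact Subtype.ext (by simp [mul_assoc])

theorem no_simple [IsSimpleGroup G] (hz : orderOf z = 2) (hE : IsExtraspecial 2 (EE z))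
    (hC : centralizer (EE z : Set G) ≤ EE z) (hcard : Nat.card (EE z) = 2 ^ 9)
    (π : centralizer ({z} : Set G) →* Perm (Fin 3) × Perm (Fin 6))
    (hker : ∀ h, π h = 1 ↔ (h : G) ∈ EE z) (τ : centralizer ({z} : Set G)) (hτ : π τ = (finRotate 3, 1))
    (lift : ∀ ρ, Perm.sign ρ = 1 → ∃ h, π h = (1, ρ)) (s : centralizer ({z} : Set G))
    (hs : Perm.sign (π s).1 ≠ 1) : False := by
  haveI : Fact (Nat.Prime 2) := ⟨Nat.prime_two⟩
  have hL : LS (EE z) z := by simpa using ls_of_core hz hE hC 1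
  have hn : ¬ IsMulCommutative G := fun k => by
    obtain ⟨x, -, y, -, hxy⟩ := hL.noncomm
    exact hxy (k.is_comm.comm x y)
  obtain ⟨f, hf⟩ : ∃ f : centralizer ({z} : Set G) →* ℤˣ, f s ≠ 1 :=
    ⟨Perm.sign.comp ((MonoidHom.fst _ _).comp π), by
      rw [MonoidHom.comp_apply, MonoidHom.comp_apply, MonoidHom.coe_fst]; exact hs⟩
  have hi : f.ker.index = 2 := by
    rw [index_ker, MonoidHom.range_eq_top.2, card_top, Nat.card_eq_fintype_card, Fintype.card_units_int]
    intro u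
    rcases Int.units_eq_one_or u with rfl | rfl
    exacts [⟨1, map_one _⟩, ⟨s, (Int.units_eq_one_or _).resolve_left hf⟩]
  have h1 : ∀ h ∈ centralizer ({z} : Set G), cj h (f.ker.map (centralizer {z}).subtype) =
      f.ker.map (centralizer {z}).subtype := fun h hh => by
    refine cj_eq_of_mem_normalizer (mem_normalizer_of_cj_le (cj_le_iff'.2 ?_))
    rintro _ ⟨a, ha, rfl⟩
    exact ⟨⟨h, hh⟩ * a * ⟨h, hh⟩⁻¹, (MonoidHom.normal_ker f).conj_mem a ha _, rfl⟩
  have h2 : (f.ker.map (centralizer {z}).subtype).relIndex (centralizer ({z} : Set G)) = 2 := by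
    rw [relIndex, map_subtype_subgroupOf, hi]
  have h3 : pResidual 2 G = ⊤ := Puig.res_top hn
  obtain ⟨g, hg, hne⟩ := S3300.result h3 z hz (EE z) rfl hE hC 4 (by norm_num) hcard
    (f.ker.map (centralizer {z}).subtype) (map_subtype_le _) h1 h2
  exact hne (no_s6 hL hcard π hker τ hτ lift hg)

end Cfsg.Agent.Sm
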