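import Mathlib
import Cfsg.Agent.Isaacs.CD3

/-! Characters of regular wreath products; Dade's embedding of solvable groups in M-groups. -/

set_option autoImplicit false

open scoped ComplexConjugate

namespace Cfsg.Agent.Isaacs.Wr

open Cfsg Cfsg.Agent.Char Subgroup RegularWreathProduct

variable {D Q : Type*} [Group D] [Group Q]

/-- all coordinates in `H` -/
def fs (Q : Type*) [Group Q] (H : Subgroup D) : Subgroup (D ≀ᵣ Q) where
  carrier := {w | ∀ q, w.left q ∈ H}
  one_mem' := fun _ => one_mem H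
  mul_mem' := fun ha hb q => mul_mem (ha q) (hb _)
  inv_mem' := fun ha _ => inv_mem (ha _)

/-- product subgroups of the base group -/
def bs (H : Q → Subgroup D) : Subgroup (D ≀ᵣ Q) where
  carrier := {w | w.right = 1 ∧ ∀ q, w.left q ∈ H q}
  one_mem' := ⟨rfl, fun q => one_mem (H q)⟩
  mul_mem' := fun {a b} ha hb => ⟨by simp [ha.1, hb.1], fun q => by
    simpa [ha.1] using mul_mem (ha.2 q) (hb.2 q)⟩
  inv_mem' := fun {a} ha => ⟨by simp [ha.1], fun q => by simpa [ha.1] using ha.2 q⟩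

def bsEquiv (H : Q → Subgroup D) : bs H ≃ ∀ q, H q where
  toFun w q := ⟨w.1.left q, w.2.2 q⟩
  invFun f := ⟨⟨fun q => f q, 1⟩, rfl, fun q => (f q).2⟩
  left_inv w := Subtype.ext (RegularWreathProduct.ext rfl w.2.1.symm)
  right_inv _ := rfl

def ev (H : Q → Subgroup D) (q : Q) : bs H →* H q where
  toFun w := bsEquiv H w q
  map_one' := rfl
  map_mul' a b := Subtype.ext (by simp [bsEquiv, a.2.1])

theorem bs_top : bs (fun _ : Q => (⊤ : Subgroup D)) = (rightHom : D ≀ᵣ Q →* Q).ker := by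
  ext w; exact ⟨fun h => h.1, fun h => ⟨h, fun _ => mem_top _⟩⟩

instance : (bs (fun _ : Q => (⊤ : Subgroup D))).Normal := bs_top (D := D) (Q := Q) ▸ inferInstance

theorem bs_le (H : Q → Subgroup D) : bs H ≤ bs fun _ => ⊤ := fun _ h => ⟨h.1, fun _ => mem_top _⟩

variable [Fintype Q] [Finite D]

noncomputable def pr (φ : Q → D → ℂ) (w : D ≀ᵣ Q) : ℂ := ∏ q, φ q (w.left q)

omit [Finite D] in
theorem pr_one (φ : Q → D → ℂ) : pr φ 1 = ∏ q, φ q 1 := rfl

omit [Finite D] in
theorem card_bs (H : Q → Subgroup D) : Nat.card (bs H) = ∏ q, Nat.card (H q) := by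
  rw [Nat.card_congr (bsEquiv H), Nat.card_pi]

theorem inn_pr (H : Q → Subgroup D) (α β : Q → D → ℂ) :
    inn (bs H) (pr α) (pr β) = ∏ q, inn (H q) (α q) (β q) := by
  classical
  have := Fintype.ofFinite D
  have := Fintype.ofFinite (bs H)
  have h0 : (Nat.card (bs H) : ℂ) ≠ 0 := Nat.cast_ne_zero.mpr Nat.card_pos.ne'
  refine mul_left_cancel₀ h0 ?_
  rw [card_mul_inn, card_bs, Nat.cast_prod, ← Finset.prod_mul_distrib]
  simp only [card_mul_inn]
  rw [Fintype.prod_sum]
  refine Fintype.sum_equiv (bsEquiv H) _ _ fun w => ?_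
  simp only [pr, map_prod, ← Finset.prod_mul_distrib]; rfl

omit [Finite D] in
theorem chr_pr {H : Q → Subgroup D} {φ : Q → D → ℂ} (h : ∀ q, Chr (H q) (φ q)) : Chr (bs H) (pr φ) := by
  have := isChar_prod Finset.univ fun q _ => isChar_comp (ev H q) (h q)
  rw [Chr]; convert this using 1
  funext w; rw [Finset.prod_apply]; rfl

theorem irr_pr {H : Q → Subgroup D} {φ : Q → D → ℂ} (h : ∀ q, Irr (H q) (φ q)) : Irr (bs H) (pr φ) :=
  (chr_pr fun q => (h q).chr).irr (by rw [inn_pr]; exact Finset.prod_eq_one fun q _ => (h q).inn_self)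

theorem exists_pr {θ : D ≀ᵣ Q → ℂ} (h : Irr (bs fun _ => ⊤) θ) :
    ∃ φ : Q → D → ℂ, (∀ q, Irr ⊤ (φ q)) ∧ Eqv (bs fun _ => ⊤) θ (pr φ) := by
  classical
  have := Fintype.ofFinite D
  have := Fintype.ofFinite (bs fun _ : Q => (⊤ : Subgroup D))
  by_contra hc
  have h0 : inn (bs fun _ => ⊤) θ (pr fun _ => regChar D) = 0 := by
    have e : (pr fun _ : Q => regChar D) = ∑ φ : Q → IrrCharacter D,
        (∏ q, (φ q : D → ℂ) 1) • pr fun q => (φ q : D → ℂ) := by
      funext w
      simp only [pr, ← sum_irr_one_mul, Finset.sum_apply, Pi.smul_apply, smul_eq_mul, ← Finset.prod_mul_distrib]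
      rw [Fintype.prod_sum]
    rw [e, inn_sum_right]
    refine Finset.sum_eq_zero fun φ _ => ?_
    have hφ : ∀ q, Irr ⊤ (φ q : D → ℂ) := fun q => irr_top.mpr (φ q).2
    rw [inn_smul_right, h.inn_eq_zero (irr_pr hφ) fun e => hc ⟨_, hφ, e⟩, mul_zero]
  have h1 := card_mul_inn (H := bs fun _ : Q => (⊤ : Subgroup D)) (θ := θ) (φ := pr fun _ => regChar D)
  rw [h0, mul_zero, Finset.sum_eq_single 1 (fun w _ hw => ?_) (by simp)] at h1
  · refine mul_ne_zero h.one_ne ?_ h1.symm
    simp [pr_one, regChar_one, Nat.card_pos.ne']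
  · obtain ⟨q, hq⟩ : ∃ q, w.1.left q ≠ 1 := by
      by_contra! hq
      exact hw (Subtype.ext (RegularWreathProduct.ext (funext hq) w.2.1))
    rw [pr, Finset.prod_eq_zero (f := fun q => regChar D (w.1.left q)) (Finset.mem_univ q) (regChar_of_ne hq), map_zero, mul_zero]

theorem ind_pr {H : Q → Subgroup D} {l φ : Q → D → ℂ} (hl : ∀ q, Chr (H q) (l q)) (h : ∀ q, Irr ⊤ (φ q))
    (e : ∀ q, Eqv ⊤ (ind (H q) ⊤ (l q)) (φ q)) : Eqv (bs fun _ => ⊤) (ind (bs H) (bs fun _ => ⊤) (pr l)) (pr φ) := by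
  refine ((chr_pr hl).indc (bs_le H)).eqv_of_deg (irr_pr h) ?_ ?_
  · rw [inn_ind_left (bs_le H) (irr_pr h).inv, inn_pr]
    refine Finset.prod_ne_zero_iff.mpr fun q _ => ?_
    rw [← inn_ind_left le_top (h q).inv, (e q).inn_left]; exact (h q).inn_self_ne
  · rw [ind_one, pr_one, pr_one]
    simp only [← (e _).one, ind_one, Finset.prod_mul_distrib, relIndex_top_right]
    congr 1
    rw [← Nat.cast_prod, Nat.cast_inj]
    have h1 := Subgroup.card_mul_index ((bs H).subgroupOf (bs fun _ => ⊤))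
    rw [Core.card_subgroupOf_of_le (bs_le H), card_bs, card_bs] at h1
    refine Nat.eq_of_mul_eq_mul_left (Finset.prod_pos fun q _ => Nat.card_pos (α := H q)) (h1.trans ?_)
    rw [← Finset.prod_mul_distrib]
    exact Finset.prod_congr rfl fun q _ => by rw [Subgroup.card_mul_index, card_top]

omit [Finite D] in
theorem chr_fs {H : Subgroup D} {l : D → ℂ} (hl : Chr H l) (h1 : l 1 = 1) : Chr (fs Q H) (pr fun _ => l) := by
  obtain ⟨lam, e⟩ := isChar_linear_of_degree_one hl h1
  let μ : fs Q H →* ℂˣ :=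
    { toFun := fun w => ∏ q, lam ⟨w.1.left q, w.2 q⟩
      map_one' := Finset.prod_eq_one fun q _ => map_one lam
      map_mul' := fun a b => by
        rw [← Equiv.prod_comp (Equiv.mulLeft a.1.right⁻¹) fun q => lam ⟨b.1.left q, b.2 q⟩, ← Finset.prod_mul_distrib]
        exact Finset.prod_congr rfl fun q _ => map_mul lam ⟨_, a.2 q⟩ ⟨_, b.2 _⟩ }
  rw [Chr]; convert isChar_linear μ using 1
  funext w
  simp only [μ, pr, MonoidHom.coe_mk, OneHom.coe_mk, Units.coe_prod]
  exact Finset.prod_congr rfl fun q _ => congrFun e ⟨_, w.2 q⟩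

theorem mono_wreath (hD : Mono D) (hp : (Nat.card Q).Prime) : Mono (D ≀ᵣ Q) := fun χ hχ => by
  set B : Subgroup (D ≀ᵣ Q) := bs fun _ => ⊤ with hB
  obtain ⟨θ, hθ, e⟩ := hχ.exists_under (le_top (a := B))
  obtain ⟨φ, hφ, e1⟩ := exists_pr hθ
  rw [e1.inn_right] at e
  replace hθ := irr_pr hφ
  choose H l a b c using fun q => hD _ (hφ q)
  have hi : B.index = Nat.card Q := by
    rw [hB, bs_top, index_ker, MonoidHom.range_eq_top.mpr fun q => ⟨inl q, rfl⟩, card_top]
  have hm := relIndex_mul_index hθ.inv.le_stab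
  rw [hi] at hm
  rcases (Nat.dvd_prime hp).mp (Dvd.intro_left _ hm) with h | h
  · rw [index_eq_one] at h
    have hc : ∀ q, φ q = φ 1 := fun q => by
      have e2 : Eqv B (pr fun x => φ (q * x)) (pr φ) := fun w hw => by
        rw [← (mem_stab.mp (h.ge (mem_top (inl q)))).2 w hw, cj_apply, pr, pr, ← Equiv.prod_comp (Equiv.mulLeft q⁻¹)]
        simp [hw.1]
      have := (hθ.congr e2.symm).inn_of_eqv e2
      rw [inn_pr] at this
      have := Finset.prod_ne_zero_iff.mp (this.trans_ne one_ne_zero) 1 (Finset.mem_univ _)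
      rw [mul_one] at this
      exact eqv_top.mp ((hφ q).eqv (hφ 1) this)
    have hμ := chr_fs (Q := Q) (a 1) (b 1)
    have e3 : Eqv B (ind (fs Q (H 1)) ⊤ (pr fun _ => l 1)) (pr φ) := by
      refine (ind_res_mul (K := B) hμ.inv le_top le_top fun g _ => ⟨⟨g.left, 1⟩, ⟨rfl, fun _ => mem_top _⟩, inl g.right,
        fun _ => one_mem _, by ext <;> simp⟩).trans ?_
      rw [← ind_inf, show fs Q (H 1) ⊓ B = bs fun _ => H 1 from
        Subgroup.ext fun w => ⟨fun h => ⟨h.2.1, h.1⟩, fun h => ⟨h.2, h.1, fun _ => mem_top _⟩⟩]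
      exact ind_pr (fun _ => a 1) hφ fun q => hc q ▸ c 1
    obtain ⟨β, f, g, i⟩ := Irr.exists_mul norm_top le_top hχ (hμ.indc le_top) (hθ.congr e3.symm) (by rwa [e3.inn_right])
    have := Fact.mk hp
    have := isCyclic_of_prime_card (α := Q) rfl
    have hβ : β 1 = 1 := f.one_of_ker (g.mono (by
      rw [bs_top, commutator_le]
      intro x _ y _
      rw [MonoidHom.mem_ker, map_commutatorElement, commutatorElement_eq_one_iff_mul_comm]
      exact mul_comm' _ _))
    refine ⟨_, β * pr fun _ => l 1, (f.chr.res le_top).mul hμ, by simp [hβ, pr_one, b], ?_⟩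
    rw [ind_mul' f.inv]; exact i.symm
  · rw [h, Nat.mul_eq_right hp.ne_zero, relIndex_eq_one] at hm
    obtain ⟨ψ, f, g, i⟩ := Irr.exists_ind_of_stab norm_top le_rfl le_top hθ (inf_le_left.trans hm) hχ e
    refine ⟨bs H, pr l, chr_pr a, by simp [pr_one, b], ?_⟩
    rw [← ind_ind (bs_le H) le_top, ind_congr (ind_pr a hφ c), ← ind_congr (f.eqv hθ g)]; exact i

omit [Fintype Q] [Finite D] in
/-- Kaloujnine–Krasner embedding -/
theorem exists_embed {G : Type*} [Group G] (N : Subgroup G) [N.Normal] (f : N →* D) (hf : Function.Injective f) :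
    ∃ e : G →* D ≀ᵣ (G ⧸ N), Function.Injective e := by
  have m : ∀ (g : G) (x : G ⧸ N), x.out⁻¹ * g * ((g : G ⧸ N)⁻¹ * x).out ∈ N := fun g x => by
    rw [← QuotientGroup.eq_one_iff]; simp
  refine ⟨MonoidHom.mk' (fun g => ⟨fun x => f ⟨_, m g x⟩, g⟩) fun a b => ?_, (injective_iff_map_eq_one _).mpr fun g hg => ?_⟩
  · refine RegularWreathProduct.ext (funext fun x => ?_) rfl
    simp only [mul_left, Pi.mul_apply, ← map_mul]
    congr 1
    ext; simp [mul_assoc]
  · have h1 : (g : G ⧸ N) = 1 := congrArg right hg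
    have h2 := congrArg Subtype.val ((injective_iff_map_eq_one f).mp hf _ (congrFun (congrArg left hg) 1))
    simpa [h1, mul_assoc, inv_mul_eq_one] using h2

theorem exists_prime_index {G : Type*} [Group G] [Finite G] [Nontrivial G] (hs : Group.IsSolvable G) :
    ∃ N : Subgroup G, N.Normal ∧ N.index.Prime := by
  obtain ⟨N, hN, h⟩ := (eq_top_or_exists_le_coatom (commutator G)).resolve_left (Group.IsSolvable.commutator_lt_top_of_nontrivial G).ne
  have hn : N.Normal := Core.normal_of_le_normalizer (norm_of_comm_le le_top h)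
  have : IsSimpleGroup (G ⧸ N) := by
    have : Nontrivial (G ⧸ N) := QuotientGroup.nontrivial_iff.mpr hN.1
    refine ⟨fun M _ => ?_⟩
    rcases (hN.le_iff.mp (show N ≤ M.comap (QuotientGroup.mk' N) from fun x hx => by
      rw [mem_comap, QuotientGroup.mk'_apply, (QuotientGroup.eq_one_iff x).mpr hx]; exact one_mem _)) with e | e
    · right; rw [← map_comap_eq_self_of_surjective (QuotientGroup.mk'_surjective N) M, e]
      exact map_top_of_surjective _ (QuotientGroup.mk'_surjective N)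
    · left; rw [← map_comap_eq_self_of_surjective (QuotientGroup.mk'_surjective N) M, e, Subgroup.map_eq_bot_iff, QuotientGroup.ker_mk']
  have : IsMulCommutative (G ⧸ N) := (Subgroup.Normal.quotient_commutative_iff_commutator_le).mpr h
  refine ⟨N, hn, ?_⟩
  letI : CommGroup (G ⧸ N) := { (inferInstance : Group (G ⧸ N)) with mul_comm := mul_comm' }
  exact IsSimpleGroup.prime_card

theorem dade_embed.{u} (G : Type u) [Group G] [Finite G] (hs : Group.IsSolvable G) :
    ∃ (M : Type u) (_ : Group M) (_ : Finite M), Mono M ∧ ∃ f : G →* M, Function.Injective f := by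
  revert hs
  refine Core.induction_on_card (P := fun G _ _ => Group.IsSolvable G →
    ∃ (M : Type u) (_ : Group M) (_ : Finite M), Mono M ∧ ∃ f : G →* M, Function.Injective f) (fun G _ _ ih hs => ?_) G
  rcases subsingleton_or_nontrivial G with h | h
  · refine ⟨G, _, inferInstance, fun χ hχ => ?_, MonoidHom.id G, fun _ _ => id⟩
    obtain ⟨H, ψ, -, a, b, c⟩ := hχ.monomial inferInstance
    exact ⟨H, ψ, a.chr, b, c⟩
  · obtain ⟨N, hn, hp⟩ := exists_prime_index hs
    obtain ⟨M, _, _, a, f, b⟩ := ih N (by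
      rw [← N.card_mul_index]; exact lt_mul_of_one_lt_right Nat.card_pos hp.one_lt) inferInstance
    have := Fintype.ofFinite (G ⧸ N)
    exact ⟨M ≀ᵣ (G ⧸ N), _, inferInstance, mono_wreath a hp, exists_embed N f b⟩

end Cfsg.Agent.Isaacs.Wr
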