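import Mathlib
import Cfsg.Agent.LocalEven.PRed

set_option autoImplicit false

namespace Cfsg.Agent.Isaacs.YMin

open Subgroup

section Defs
variable {X : Type*} [Group X]

/-- `t` is a product of two conjugates of nontrivial elements of `Y`, in general position. -/
def Pr (Y : Subgroup X) (t : X) : Prop :=
  ∃ a b y y' : X, y ∈ Y ∧ y ≠ 1 ∧ y' ∈ Y ∧ y' ≠ 1 ∧ a⁻¹ * b ∉ normalizer (Y : Set X) ∧
    t = (a * y * a⁻¹) * (b * y' * b⁻¹)

structure Good (p : ℕ) (Y : Subgroup X) : Prop where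
  t1 : ∀ x y : X, y ∈ Y → y ≠ 1 → x * y * x⁻¹ ∈ normalizer (Y : Set X) → x ∈ normalizer (Y : Set X)
  t2 : ∀ h : X, (¬ ∃ k, orderOf h = p ^ k) → Pr Y h ∨ (h ∈ center X ∧ ∃ y ∈ Y, Pr Y (h * y))

theorem Pr.conj {Y : Subgroup X} {t : X} (h : Pr Y t) (g : X) : Pr Y (g * t * g⁻¹) := by
  obtain ⟨a, b, y, y', h1, h2, h3, h4, h5, rfl⟩ := h
  refine ⟨g * a, g * b, y, y', h1, h2, h3, h4, ?_, by group⟩
  have : (g * a)⁻¹ * (g * b) = a⁻¹ * b := by group
  rwa [this]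

theorem Pr.of_conj {Y : Subgroup X} {t : X} (g : X) (h : Pr Y (g * t * g⁻¹)) : Pr Y t := by
  have := h.conj g⁻¹
  simpa [mul_assoc] using this

end Defs

variable {G X : Type*} [Group G] [Group X]

structure Setup (Y A : Subgroup G) (π : G →* X) : Prop where
  comm : ∀ y ∈ Y, ∀ y' ∈ Y, y * y' = y' * y
  surj : Function.Surjective π
  ker : ∀ g, π g = 1 ↔ g ∈ A
  clA : A = normalClosure ((Y ⊓ A : Subgroup G) : Set G)
  AN : A ≤ normalizer (Y : Set G)
  clY : normalClosure (Y : Set G) = ⊤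
  ne : normalizer (Y : Set G) ≠ ⊤
  max : ∀ K : Subgroup G, Y ≤ K → K ≠ ⊤ → K ≤ normalizer (Y : Set G)
  nn : normalizer ((Y.map π : Subgroup X) : Set X) ≠ ⊤
  t1 : ∀ x y : X, y ∈ Y.map π → y ≠ 1 → x * y * x⁻¹ ∈ normalizer ((Y.map π : Subgroup X) : Set X) →
    x ∈ normalizer ((Y.map π : Subgroup X) : Set X)

namespace Setup
variable {Y A : Subgroup G} {π : G →* X} (H : Setup Y A π)
include H

theorem normalA : A.Normal := by
  have : A = π.ker := by ext g; rw [MonoidHom.mem_ker, H.ker]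
  rw [this]; infer_instance

theorem mem_N_iff (g : G) :
    π g ∈ normalizer ((Y.map π : Subgroup X) : Set X) ↔ g ∈ normalizer (Y : Set G) := by
  constructor
  · intro h
    refine H.max ((normalizer ((Y.map π : Subgroup X) : Set X)).comap π) ?_ ?_ h
    · intro y hy
      exact le_normalizer (mem_map_of_mem π hy)
    · intro ht
      apply H.nn
      rw [eq_top_iff]
      intro x _
      obtain ⟨g, rfl⟩ := H.surj x
      have : g ∈ (normalizer ((Y.map π : Subgroup X) : Set X)).comap π := by rw [ht]; trivial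
      exact this
  · intro h
    exact le_normalizer_map π (mem_map_of_mem π h)

theorem gen {K : Subgroup G} (hK : Y ≤ K) {g y : G} (hy : y ∈ Y) (hyA : y ∉ A)
    (hg : g ∉ normalizer (Y : Set G)) (h : g * y * g⁻¹ ∈ K) : K = ⊤ := by
  by_contra hne
  apply hg
  rw [← H.mem_N_iff]
  refine H.t1 _ (π y) (mem_map_of_mem π hy) (fun e => hyA ((H.ker y).1 e)) ?_
  have := (H.mem_N_iff _).2 (H.max K hK hne h)
  simpa using this

theorem exists_y : ∃ y ∈ Y, y ∉ A := by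
  by_contra hc
  push Not at hc
  have := H.normalA
  have h1 : normalClosure (Y : Set G) ≤ A := normalClosure_le_normal hc
  rw [H.clY] at h1
  exact H.ne (top_le_iff.1 (h1.trans H.AN))

theorem exists_g : ∃ g, g ∉ normalizer (Y : Set G) := by
  by_contra hc
  push Not at hc
  exact H.ne (eq_top_iff.2 fun g _ => hc g)

/-- `Y ∩ Y^g` is central. -/
theorem center_of {g z : G} (hg : g ∉ normalizer (Y : Set G)) (hz : z ∈ Y) (hz' : g⁻¹ * z * g ∈ Y) :
    z ∈ center G := by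
  obtain ⟨y, hy, hyA⟩ := H.exists_y
  have : centralizer ({z} : Set G) = ⊤ := by
    refine H.gen ?_ hy hyA hg ?_
    · intro w hw
      rw [mem_centralizer_singleton_iff]
      exact H.comm w hw z hz
    · rw [mem_centralizer_singleton_iff]
      have := H.comm y hy _ hz'
      calc g * y * g⁻¹ * z = g * (y * (g⁻¹ * z * g)) * g⁻¹ := by group
        _ = z * (g * y * g⁻¹) := by rw [this]; group
  rw [mem_center_iff]
  intro w
  have hw : w ∈ centralizer ({z} : Set G) := by rw [this]; trivial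
  exact mem_centralizer_singleton_iff.1 hw

theorem conj_mem {a y : G} (ha : a ∈ A) (hy : y ∈ Y) : a * y * a⁻¹ ∈ Y :=
  (mem_normalizer_iff.1 (H.AN ha) y).1 hy

theorem comm_mem {a y : G} (ha : a ∈ A) (hy : y ∈ Y) : y * a * y⁻¹ * a⁻¹ ∈ Y := by
  have := Y.mul_mem hy (H.conj_mem ha (Y.inv_mem hy))
  simpa [mul_assoc] using this

theorem comm_mem' {g a y : G} (ha : a ∈ A) (hy : g⁻¹ * y * g ∈ Y) :
    g⁻¹ * (y * a * y⁻¹ * a⁻¹) * g ∈ Y := by
  have h1 : g⁻¹ * a * g⁻¹⁻¹ ∈ A := H.normalA.conj_mem a ha g⁻¹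
  have := H.comm_mem h1 hy
  have e : g⁻¹ * y * g * (g⁻¹ * a * g⁻¹⁻¹) * (g⁻¹ * y * g)⁻¹ * (g⁻¹ * a * g⁻¹⁻¹)⁻¹ =
      g⁻¹ * (y * a * y⁻¹ * a⁻¹) * g := by group
  rwa [e] at this

/-- `A = B B^g`. -/
theorem decomp {g : G} (hg : g ∉ normalizer (Y : Set G)) {c : G} (hc : c ∈ A) :
    ∃ b b', b ∈ Y ∧ b ∈ A ∧ g⁻¹ * b' * g ∈ Y ∧ b' ∈ A ∧ c = b * b' := by
  have hA := H.normalA
  let W : Subgroup G :=
    { carrier := {c | ∃ b b', b ∈ Y ∧ b ∈ A ∧ g⁻¹ * b' * g ∈ Y ∧ b' ∈ A ∧ c = b * b'}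
      one_mem' := ⟨1, 1, Y.one_mem, A.one_mem, by simp, A.one_mem, by simp⟩
      mul_mem' := by
        rintro _ _ ⟨b, b', h1, h2, h3, h4, rfl⟩ ⟨d, d', k1, k2, k3, k4, rfl⟩
        refine ⟨b * (b' * d * b'⁻¹), b' * d', Y.mul_mem h1 (H.conj_mem h4 k1),
          A.mul_mem h2 (hA.conj_mem d k2 b'), ?_, A.mul_mem h4 k4, by group⟩
        have := Y.mul_mem h3 k3
        simpa [mul_assoc] using this
      inv_mem' := by
        rintro _ ⟨b, b', h1, h2, h3, h4, rfl⟩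
        refine ⟨b'⁻¹ * b⁻¹ * b'⁻¹⁻¹, b'⁻¹, H.conj_mem (A.inv_mem h4) (Y.inv_mem h1),
          hA.conj_mem _ (A.inv_mem h2) _, ?_, A.inv_mem h4, by group⟩
        have := Y.inv_mem h3
        simpa [mul_assoc] using this }
  have hWA : W ≤ A := by
    rintro _ ⟨b, b', h1, h2, h3, h4, rfl⟩
    exact A.mul_mem h2 h4
  have hl : ∀ b, b ∈ Y → b ∈ A → b ∈ W := fun b h1 h2 => ⟨b, 1, h1, h2, by simp, A.one_mem, by simp⟩
  have hr : ∀ b, g⁻¹ * b * g ∈ Y → b ∈ A → b ∈ W := fun b h1 h2 =>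
    ⟨1, b, Y.one_mem, A.one_mem, h1, h2, by simp⟩
  let K : Subgroup G :=
    { carrier := {x | (∀ w ∈ W, x * w * x⁻¹ ∈ W) ∧ ∀ w ∈ W, x⁻¹ * w * x ∈ W}
      one_mem' := by simp
      mul_mem' := by
        rintro x y ⟨h1, h2⟩ ⟨k1, k2⟩
        refine ⟨fun w hw => ?_, fun w hw => ?_⟩
        · have := h1 _ (k1 w hw)
          simpa [mul_assoc] using this
        · have := k2 _ (h2 w hw)
          simpa [mul_assoc] using this
      inv_mem' := by
        rintro x ⟨h1, h2⟩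
        exact ⟨by simpa using h2, by simpa using h1⟩ }
  have k1 : ∀ y ∈ Y, ∀ w ∈ W, y * w * y⁻¹ ∈ W := by
    intro y hy w hw
    have h1 := H.comm_mem (hWA hw) hy
    have h2 : y * w * y⁻¹ * w⁻¹ ∈ A := A.mul_mem (hA.conj_mem w (hWA hw) y) (A.inv_mem (hWA hw))
    have := W.mul_mem (hl _ h1 h2) hw
    simpa using this
  have k2 : ∀ y, g⁻¹ * y * g ∈ Y → ∀ w ∈ W, y * w * y⁻¹ ∈ W := by
    intro y hy w hw
    have h1 := H.comm_mem' (hWA hw) hy
    have h2 : y * w * y⁻¹ * w⁻¹ ∈ A := A.mul_mem (hA.conj_mem w (hWA hw) y) (A.inv_mem (hWA hw))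
    have := W.mul_mem (hr _ h1 h2) hw
    simpa using this
  obtain ⟨y, hy, hyA⟩ := H.exists_y
  have hK : K = ⊤ := by
    refine H.gen (fun z hz => ⟨k1 z hz, ?_⟩) hy hyA hg ⟨k2 _ (by simpa [mul_assoc] using hy), ?_⟩
    · simpa using k1 _ (Y.inv_mem hz)
    · have := k2 (g * y * g⁻¹)⁻¹ (by simpa [mul_assoc] using hy)
      simpa using this
  have hW : W.Normal := ⟨fun w hw x => by
    have : x ∈ K := by rw [hK]; trivial
    exact this.1 w hw⟩
  have : A ≤ W := by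
    rw [H.clA]
    exact normalClosure_le_normal fun b hb => hl b hb.1 hb.2
  exact this hc

end Setup

/-- `x` and `c` commute modulo `Y ∩ Z(G)`. -/
def R (Y : Subgroup G) (x c : G) : Prop := x * c * x⁻¹ * c⁻¹ ∈ Y ⊓ center G

instance normalZ (Y : Subgroup G) : (Y ⊓ center G).Normal :=
  ⟨fun z hz g => by rw [mem_center_iff.1 hz.2 g]; simpa using hz⟩

theorem R_iff {Y : Subgroup G} {x c : G} :
    R Y x c ↔ Commute (x : G ⧸ (Y ⊓ center G)) (c : G ⧸ (Y ⊓ center G)) := by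
  rw [R, ← QuotientGroup.eq_one_iff, ← commutatorElement_eq_one_iff_commute]
  simp [commutatorElement_def]

theorem R.mul {Y : Subgroup G} {x y c : G} (h1 : R Y x c) (h2 : R Y y c) : R Y (x * y) c := by
  rw [R_iff] at *
  exact h1.mul_left h2

theorem R.inv {Y : Subgroup G} {x c : G} (h1 : R Y x c) : R Y x⁻¹ c := by
  rw [R_iff] at *
  exact h1.inv_left

theorem R.mul_right {Y : Subgroup G} {x c d : G} (h1 : R Y x c) (h2 : R Y x d) : R Y x (c * d) := by
  rw [R_iff] at *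
  exact h1.mul_right h2

theorem R.inv_right {Y : Subgroup G} {x c : G} (h1 : R Y x c) : R Y x c⁻¹ := by
  rw [R_iff] at *
  exact h1.inv_right

theorem R.symm {Y : Subgroup G} {x c : G} (h1 : R Y x c) : R Y c x := by
  rw [R_iff] at *
  exact h1.symm

theorem R.of_comm {Y : Subgroup G} {x c : G} (h : x * c = c * x) : R Y x c := by
  rw [R, h]; simp

theorem R.conj {Y : Subgroup G} {x c : G} (h : R Y x c) (g : G) :
    R Y (g * x * g⁻¹) (g * c * g⁻¹) := by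
  have := (normalZ Y).conj_mem _ h g
  rw [R]
  convert this using 1
  group

namespace Setup
variable {Y A : Subgroup G} {π : G →* X} (H : Setup Y A π)
include H

theorem comm' {g b d : G} (hb : g⁻¹ * b * g ∈ Y) (hd : g⁻¹ * d * g ∈ Y) : b * d = d * b := by
  have := H.comm _ hb _ hd
  calc b * d = g * ((g⁻¹ * b * g) * (g⁻¹ * d * g)) * g⁻¹ := by group
    _ = d * b := by rw [this]; group

theorem R_A {a c : G} (ha : a ∈ A) (hc : c ∈ A) : R Y a c := by
  obtain ⟨g, hg⟩ := H.exists_g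
  obtain ⟨b, b', h1, h2, h3, h4, rfl⟩ := H.decomp hg ha
  obtain ⟨d, d', k1, k2, k3, k4, rfl⟩ := H.decomp hg hc
  have key : ∀ b d', b ∈ Y → b ∈ A → g⁻¹ * d' * g ∈ Y → d' ∈ A → R Y b d' := by
    intro b d' h1 h2 k3 k4
    have e1 := H.comm_mem k4 h1
    have e2 := Y.inv_mem (H.comm_mem' h2 k3)
    have e3 : (g⁻¹ * (d' * b * d'⁻¹ * b⁻¹) * g)⁻¹ = g⁻¹ * (b * d' * b⁻¹ * d'⁻¹) * g := by group
    rw [e3] at e2
    exact ⟨e1, H.center_of hg e1 e2⟩
  refine R.mul (R.mul_right (R.of_comm (H.comm _ h1 _ k1)) (key _ _ h1 h2 k3 k4))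
    (R.mul_right (key _ _ k1 k2 h3 h4).symm (R.of_comm (H.comm' h3 k3)))

theorem key1 {y c : G} (hy : y ∈ Y) (hyA : y ∉ A) (hc : c ∈ A) (h : R Y y c) : c ∈ Y := by
  obtain ⟨g, hg⟩ := H.exists_g
  obtain ⟨b, b', h1, h2, h3, h4, rfl⟩ := H.decomp hg hc
  refine Y.mul_mem h1 ?_
  have r1 : R Y y b' := by
    have := (R.of_comm (H.comm _ hy _ h1)).inv_right.mul_right h
    simpa using this
  let K : Subgroup G :=
    { carrier := {x | R Y (g * x * g⁻¹) b'}
      one_mem' := R.of_comm (by simp)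
      mul_mem' := by
        intro x z h1 h2
        have := R.mul h1 h2
        simpa [mul_assoc] using this
      inv_mem' := by
        intro x h1
        have := R.inv h1
        simpa [mul_assoc] using this }
  have hK : K = ⊤ := by
    refine H.gen (g := g⁻¹) (fun z hz => ?_) hy hyA (fun e => hg (by simpa using e)) ?_
    · exact R.of_comm (H.comm' (by simpa [mul_assoc] using hz) h3)
    · show R Y _ b'
      simpa [mul_assoc] using r1
  have hall : ∀ x, R Y x b' := by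
    intro x
    have : g⁻¹ * x * g ∈ K := by rw [hK]; trivial
    have h' : R Y (g * (g⁻¹ * x * g) * g⁻¹) b' := this
    simpa [mul_assoc] using h'
  set d := g⁻¹ * b' * g with hd
  have hall' : ∀ x, R Y x d := by
    intro x
    have := (hall (g * x * g⁻¹)).conj g⁻¹
    simpa [mul_assoc, hd] using this
  have hn : (centralizer ({d} : Set G)).Normal := ⟨fun w hw x => by
    rw [mem_centralizer_singleton_iff] at hw ⊢
    have e1 := mem_center_iff.1 (hall' x⁻¹).2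
    have e2 : x⁻¹ * d * x = (x⁻¹ * d * x⁻¹⁻¹ * d⁻¹) * d := by group
    calc x * w * x⁻¹ * d = x * (w * (x⁻¹ * d * x)) * x⁻¹ := by group
      _ = x * ((x⁻¹ * d * x) * w) * x⁻¹ := by
          rw [e2, ← mul_assoc w, e1 w, mul_assoc _ w d, hw]; group
      _ = d * (x * w * x⁻¹) := by group⟩
  have htop : centralizer ({d} : Set G) = ⊤ := by
    rw [eq_top_iff, ← H.clY]
    exact normalClosure_le_normal fun z hz =>
      mem_centralizer_singleton_iff.2 (H.comm z hz d h3)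
  have e : g * d = d * g := by
    have : g ∈ centralizer ({d} : Set G) := by rw [htop]; trivial
    exact mem_centralizer_singleton_iff.1 this
  have : b' = d := by
    calc b' = g * d * g⁻¹ := by rw [hd]; group
      _ = d := by rw [e]; group
  rw [this]; exact h3

theorem key2 {g y y' c : G} (hg : g ∉ normalizer (Y : Set G)) (hy : y ∈ Y) (hyA : y ∉ A)
    (hy' : y' ∈ Y) (hyA' : y' ∉ A) (hc : c ∈ A) (h : R Y (y * (g * y' * g⁻¹)) c) :
    c ∈ Y ⊓ center G := by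
  set u := g * y' * g⁻¹ with hu
  have e1 : g⁻¹ * (u * c * u⁻¹ * c⁻¹) * g ∈ Y := H.comm_mem' hc (by simpa [hu, mul_assoc] using hy')
  have e2 : y⁻¹ * c * y⁻¹⁻¹ * c⁻¹ ∈ Y := H.comm_mem hc (Y.inv_mem hy)
  have e3 : u * c * u⁻¹ * c⁻¹ ∈ Y := by
    have hz := mem_center_iff.1 h.2
    have : u * c * u⁻¹ * c⁻¹ = y⁻¹ * (y * u * c * (y * u)⁻¹ * c⁻¹) * y * (y⁻¹ * c * y⁻¹⁻¹ * c⁻¹) := by
      group
    rw [this]
    exact Y.mul_mem (Y.mul_mem (Y.mul_mem (Y.inv_mem hy) h.1) hy) e2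
  have r1 : R Y u c := ⟨e3, H.center_of hg e3 e1⟩
  have r2 : R Y y c := by
    have := h.mul r1.inv
    simpa using this
  have c1 : c ∈ Y := H.key1 hy hyA hc r2
  have c2 : g⁻¹ * c * g⁻¹⁻¹ ∈ Y := by
    refine H.key1 hy' hyA' (H.normalA.conj_mem c hc g⁻¹) ?_
    have := r1.conj g⁻¹
    simpa [hu, mul_assoc] using this
  exact ⟨c1, H.center_of hg c1 (by simpa using c2)⟩

theorem of_Pr {h c : G} (hP : Pr (Y.map π) (π h)) (hc : c ∈ A) (hR : R Y h c) :
    c ∈ Y ⊓ center G := by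
  obtain ⟨a, b, _, _, ⟨y, hy, rfl⟩, h2, ⟨y', hy', rfl⟩, h4, h5, e⟩ := hP
  obtain ⟨a, rfl⟩ := H.surj a
  obtain ⟨b, rfl⟩ := H.surj b
  have hg : a⁻¹ * b ∉ normalizer (Y : Set G) := by
    rw [← H.mem_N_iff]; simpa using h5
  have hA : h⁻¹ * ((a * y * a⁻¹) * (b * y' * b⁻¹)) ∈ A := by
    rw [← H.ker]; simp [e, mul_assoc]
  have r1 := (hR.mul (H.R_A hA hc)).conj a⁻¹
  have e1 : a⁻¹ * (h * (h⁻¹ * ((a * y * a⁻¹) * (b * y' * b⁻¹)))) * a⁻¹⁻¹ =
      y * ((a⁻¹ * b) * y' * (a⁻¹ * b)⁻¹) := by group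
  rw [e1] at r1
  have := H.key2 hg hy (fun e => h2 ((H.ker _).2 e)) hy' (fun e => h4 ((H.ker _).2 e))
    (H.normalA.conj_mem c hc a⁻¹) r1
  have := (normalZ Y).conj_mem _ this a
  simpa [mul_assoc] using this

theorem of_central {h y c : G} (hz : π h ∈ center X) (hy : y ∈ Y) (hP : Pr (Y.map π) (π (h * y)))
    (hc : c ∈ A) (hR : R Y h c) : c ∈ Y ⊓ center G := by
  have hA := H.normalA
  have c1 : y * c * y⁻¹ ∈ A := hA.conj_mem c hc y
  have a1 : (y * h * y⁻¹)⁻¹ * h ∈ A := by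
    rw [← H.ker]
    have := mem_center_iff.1 hz (π y)
    simp only [map_mul, map_inv, this]
    group
  have r1 : R Y h (y * c * y⁻¹) := by
    have := (hR.conj y).mul (H.R_A a1 c1)
    rwa [mul_inv_cancel_left] at this
  have r2 : R Y h (y * c * y⁻¹ * c⁻¹) := r1.mul_right hR.inv_right
  have r3 : R Y y (y * c * y⁻¹ * c⁻¹) := R.of_comm (H.comm _ hy _ (H.comm_mem hc hy))
  have r4 : R Y y c := H.of_Pr hP (A.mul_mem c1 (A.inv_mem hc)) (r2.mul r3)
  exact H.of_Pr hP hc (hR.mul r4)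

end Setup

end Cfsg.Agent.Isaacs.YMin
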