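import Mathlib
import Cfsg.Agent.Isaacs.YMin
import Cfsg.Agent.RankOne.SzSolv
import Cfsg.Agent.RankOne.SzLie
import Cfsg.Agent.Classical.Borel2

set_option autoImplicit false

namespace Cfsg.Agent.Isaacs.YMin

open Subgroup

section Inv
variable {X : Type*} [Group X]

theorem one_of_odd_sq {s : X} (ho : Odd (orderOf s)) (h : s * s = 1) : s = 1 := by
  have h2 : orderOf s ∣ 2 := orderOf_dvd_of_pow_eq_one (by rw [pow_two, h])
  rcases (Nat.dvd_prime Nat.prime_two).1 h2 with e | e
  · exact orderOf_eq_one_iff.1 e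
  · rw [e] at ho; exact absurd ho (by decide)

theorem two_pow_of_sq {s : X} (h : s * s = 1) : ∃ k, orderOf s = 2 ^ k := by
  have h2 : orderOf s ∣ 2 := orderOf_dvd_of_pow_eq_one (by rw [pow_two, h])
  rcases (Nat.dvd_prime Nat.prime_two).1 h2 with e | e
  · exact ⟨0, e⟩
  · exact ⟨1, e⟩

theorem inv_zpow_of {y s : X} (h : y * s * y⁻¹ = s⁻¹) {u : X} (hu : u ∈ zpowers s) :
    y * u * y⁻¹ = u⁻¹ := by
  obtain ⟨k, rfl⟩ := hu
  show y * s ^ k * y⁻¹ = (s ^ k)⁻¹
  rw [← conj_zpow, h, inv_zpow]

theorem Pr_of_inv {Y : Subgroup X} (hY : ∀ y ∈ Y, y * y = 1) {y s : X} (hy : y ∈ Y) (hy1 : y ≠ 1)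
    (ho : Odd (orderOf s)) (hs : s ≠ 1) (h : y * s * y⁻¹ = s⁻¹) : Pr Y s := by
  obtain ⟨k, hk⟩ := ho
  have e1 : y * s ^ k * y⁻¹ = (s ^ k)⁻¹ := inv_zpow_of h (npow_mem_zpowers s k)
  have e2 : s ^ k * s ^ k * s = 1 := by
    rw [← pow_add, ← pow_succ, ← two_mul, ← hk, pow_orderOf_eq_one]
  have e3 : y⁻¹ = y := inv_eq_of_mul_eq_one_right (hY y hy)
  have e4 : s = y * (s ^ k * y * (s ^ k)⁻¹) := by
    calc s = (s ^ k)⁻¹ * (s ^ k)⁻¹ * (s ^ k * s ^ k * s) := by group
      _ = (y * s ^ k * y⁻¹) * (s ^ k)⁻¹ := by rw [e2, e1, mul_one]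
      _ = _ := by rw [e3]; group
  refine ⟨1, s ^ k, y, y, hy, hy1, hy, hy1, fun hn => hs ?_, by simpa using e4⟩
  rw [inv_one, one_mul] at hn
  have : s ∈ Y := by
    rw [e4]
    exact Y.mul_mem hy ((mem_normalizer_iff.1 hn y).1 hy)
  exact one_of_odd_sq ⟨k, hk⟩ (hY s this)

theorem good_two [Finite X] {Y : Subgroup X} (hc : Nat.card Y = 2)
    (hz : ∀ z ∈ center X, z * z = 1 → z = 1) (hcl : normalClosure (Y : Set X) = ⊤)
    (hne : normalizer (Y : Set X) ≠ ⊤)
    (hmax : ∀ K : Subgroup X, Y ≤ K → K ≠ ⊤ → K ≤ normalizer (Y : Set X)) : Good 2 Y := by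
  obtain ⟨y, hy1, hy⟩ : ∃ y : Y, y ≠ 1 ∧ ∀ z : Y, z ≠ 1 → z = y := by
    obtain ⟨y, h1, h2⟩ := (Nat.card_eq_two_iff' (1 : Y)).1 hc
    exact ⟨y, h1, h2⟩
  obtain ⟨y, hyY⟩ := y
  have hy1' : y ≠ 1 := fun e => hy1 (Subtype.ext e)
  have hmem : ∀ z ∈ Y, z = 1 ∨ z = y := by
    intro z hz
    by_cases e : z = 1
    · exact Or.inl e
    · exact Or.inr (congrArg Subtype.val (hy ⟨z, hz⟩ fun e' => e (congrArg Subtype.val e')))
  have hyy : y * y = 1 := by
    rcases hmem _ (Y.mul_mem hyY hyY) with e | e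
    · exact e
    · exact absurd (mul_eq_left.1 e) hy1'
  have hY : ∀ z ∈ Y, z * z = 1 := by
    intro z hz
    rcases hmem z hz with rfl | rfl
    · simp
    · exact hyy
  have hyi : y⁻¹ = y := inv_eq_of_mul_eq_one_right hyy
  have hN : ∀ x, x ∈ normalizer (Y : Set X) ↔ x * y * x⁻¹ = y := by
    intro x
    constructor
    · intro hx
      rcases hmem _ ((mem_normalizer_iff.1 hx y).1 hyY) with e | e
      · exact absurd (conj_eq_one_iff.1 e) hy1'
      · exact e
    · intro hx
      refine mem_normalizer_fintype ?_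
      intro z hz
      rcases hmem z hz with rfl | rfl
      · simp
      · rw [hx]; exact hz
  obtain ⟨w, hw⟩ : ∃ w, w * y * w⁻¹ ∉ normalizer (Y : Set X) := by
    by_contra hcon
    push Not at hcon
    apply hne
    rw [eq_top_iff, ← hcl, normalClosure, closure_le]
    intro x hx
    obtain ⟨z, hz, hc⟩ := Group.mem_conjugatesOfSet_iff.1 hx
    obtain ⟨c, rfl⟩ := isConj_iff.1 hc
    rcases hmem z hz with rfl | rfl
    · simp
    · exact hcon c
  set s := y * (w * y * w⁻¹) with hs
  have hinv : y * s * y⁻¹ = s⁻¹ := by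
    rw [hs, hyi, ← mul_assoc y y, hyy]
    simp only [mul_inv_rev, inv_inv, hyi]
    group
  let K : Subgroup X :=
    { carrier := {x | x ∈ zpowers s ∨ y * x ∈ zpowers s}
      one_mem' := Or.inl (one_mem _)
      mul_mem' := by
        rintro a b (ha | ha) (hb | hb)
        · exact Or.inl (mul_mem ha hb)
        · right
          have e : y * (a * b) = (y * a * y⁻¹) * (y * b) := by group
          rw [e, inv_zpow_of hinv ha]
          exact mul_mem (inv_mem ha) hb
        · right
          rw [← mul_assoc]; exact mul_mem ha hb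
        · left
          have e : a * b = (y * (y * a) * y⁻¹) * (y * b) := by
            rw [← mul_assoc y y, hyy]; group
          rw [e, inv_zpow_of hinv ha]
          exact mul_mem (inv_mem ha) hb
      inv_mem' := by
        rintro a (ha | ha)
        · exact Or.inl (inv_mem ha)
        · right
          have e : y * a⁻¹ = y * (y * a)⁻¹ * y⁻¹ := by
            rw [mul_inv_rev, hyi, mul_assoc, mul_assoc, hyy, mul_one]
          rw [e, inv_zpow_of hinv (inv_mem ha), inv_inv]
          exact ha }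
  have hK : K = ⊤ := by
    by_contra hc
    refine hw (hmax K ?_ hc (Or.inr (mem_zpowers s)))
    intro z hz
    rcases hmem z hz with rfl | rfl
    · exact K.one_mem
    · right; rw [hyy]; exact one_mem _
  have hall : ∀ x, x ∈ zpowers s ∨ y * x ∈ zpowers s := fun x => by
    have : x ∈ K := by rw [hK]; trivial
    exact this
  have hsq : ∀ u ∈ zpowers s, u * u = 1 → u = 1 := by
    intro u hu h2
    refine hz u ?_ h2
    have c1 : y * u = u * y := by
      have := inv_zpow_of hinv hu
      rw [inv_eq_of_mul_eq_one_right h2] at this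
      exact mul_inv_eq_iff_eq_mul.1 this
    have c2 : ∀ v ∈ zpowers s, v * u = u * v := by
      rintro _ ⟨k, rfl⟩
      obtain ⟨l, rfl⟩ := hu
      exact zpow_mul_comm s k l
    rw [mem_center_iff]
    intro x
    rcases hall x with e | e
    · exact c2 x e
    · have := c2 _ e
      apply mul_left_cancel (a := y)
      rw [← mul_assoc, this, ← mul_assoc, ← mul_assoc, c1]
  have hodd : ∀ u ∈ zpowers s, Odd (orderOf u) := by
    intro u hu
    rw [← Nat.not_even_iff_odd]
    rintro ⟨k, hk⟩
    have hpos := orderOf_pos u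
    have := hsq (u ^ k) (pow_mem hu k) (by rw [← pow_add, ← hk, pow_orderOf_eq_one])
    have := Nat.le_of_dvd (by omega) (orderOf_dvd_of_pow_eq_one this)
    omega
  have hC : ∀ u ∈ zpowers s, u * y * u⁻¹ = y → u = 1 := by
    intro u hu h
    apply hsq u hu
    have := inv_zpow_of hinv hu
    calc u * u = u * (y⁻¹ * (y * u * y⁻¹) * y)  := by group
      _ = (u * y * u⁻¹)⁻¹ * y := by rw [this]; group
      _ = 1 := by rw [h]; group
  constructor
  · intro x z hz hz1 h
    rcases hmem z hz with rfl | rfl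
    · exact absurd rfl hz1
    rw [hN] at h ⊢
    rcases hall (x * z * x⁻¹) with e | e
    · exact absurd (conj_eq_one_iff.1 (hC _ e h)) hz1
    · have := hC _ e (by
        calc z * (x * z * x⁻¹) * z * (z * (x * z * x⁻¹))⁻¹ =
            z * (x * z * x⁻¹ * z * (x * z * x⁻¹)⁻¹) * z⁻¹ := by group
          _ = z := by rw [h]; group)
      rw [← hyi.symm.trans (inv_eq_of_mul_eq_one_right this)]
  · intro h hh
    left
    rcases hall h with e | e
    · refine Pr_of_inv hY hyY hy1' (hodd h e) ?_ (inv_zpow_of hinv e)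
      rintro rfl
      exact hh ⟨0, by simp⟩
    · exfalso
      apply hh
      apply two_pow_of_sq
      have := inv_zpow_of hinv e
      calc h * h = (y * (y * h) * y⁻¹) * (y * h) := by rw [← mul_assoc y y, hyy]; group
        _ = 1 := by rw [this]; group

end Inv

section Suz
open Cfsg.Agent.RankOne.Sz
variable {G Ω F : Type*} [Group G] [MulAction G Ω] [Field F] [Fintype F] {m : ℕ}

theorem good_sz [Finite G] (Z0 : Model G Ω F m) {Y : Subgroup G} (hY : ∀ y ∈ Y, y * y = 1)
    (hc : Nat.card Y = Fintype.card F) : Good 2 Y := by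
  have hp : IsPGroup 2 Y := fun y => ⟨1, Subtype.ext (by simpa [pow_two] using hY y y.2)⟩
  obtain ⟨Z, hZ⟩ := Z0.exists_model_of_isPGroup hp
  have h1 : ∀ y ∈ Y, ∃ b, y = Z.S 0 b := fun y hy =>
    Z.exists_S_zero_of_involution (Z.Q_le_B (hZ hy)) (hY y hy)
  have h2 : ∀ b, Z.S 0 b ∈ Y := by
    choose f hf using h1
    let φ : Y → F := fun y => f y y.2
    have hinj : Function.Injective φ := by
      intro y z e
      apply Subtype.ext
      rw [hf y y.2, hf z z.2]
      exact congrArg _ e
    have hbij : Function.Bijective φ :=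
      hinj.bijective_of_nat_card_le (by rw [hc, Nat.card_eq_fintype_card])
    intro b
    obtain ⟨y, rfl⟩ := hbij.2 b
    have := hf y y.2
    show Z.S 0 (f y y.2) ∈ Y
    rw [← this]; exact y.2
  have hN : ∀ g, g ∈ normalizer (Y : Set G) ↔ g • Z.a = Z.a := by
    intro g
    constructor
    · intro hg
      exact Z.mem_B_of_conj_mem_Q (hZ (h2 1)) Z.S_zero_one_ne (hZ ((mem_normalizer_iff.1 hg _).1 (h2 1)))
    · intro hg
      refine mem_normalizer_fintype ?_
      intro y hy
      obtain ⟨b, rfl⟩ := h1 y hy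
      obtain ⟨κ, e, -⟩ := Z.B_conj_S_zero hg b
      rw [e]; exact h2 _
  constructor
  · intro x y hy hy1 h
    rw [hN] at h ⊢
    exact Z.mem_B_of_conj_fix (hZ hy) hy1 h
  · intro h hh
    left
    have h4 : h ^ 4 ≠ 1 := by
      intro e
      have : orderOf h ∣ 2 ^ 2 := orderOf_dvd_of_pow_eq_one e
      obtain ⟨k, -, hk⟩ := (Nat.dvd_prime_pow Nat.prime_two).1 this
      exact hh ⟨k, hk⟩
    have ho : Odd (orderOf h) :=
      (Z.tor_odd h4).of_dvd_nat (Subgroup.orderOf_dvd_natCard _ (Model.self_mem_cent h))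
    have he : 2 ∣ Nat.card (normalizer (centralizer ({h} : Set G) : Set G)) := by
      by_cases hf : ∀ c : Ω, h • c ≠ c
      · rw [Z.card_normalizer_torus hf]; exact Dvd.dvd.mul_right (by decide) _
      · push Not at hf
        obtain ⟨c, hc⟩ := hf
        rw [Z.tor_card_norm_fix h4 hc]; exact dvd_mul_right _ _
    haveI : Fact (Nat.Prime 2) := ⟨Nat.prime_two⟩
    obtain ⟨s, hs⟩ := exists_prime_orderOf_dvd_card' 2 he
    have hs1 : (s : G) ≠ 1 := by
      intro e
      rw [show s = 1 from Subtype.ext e] at hs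
      simp at hs
    have hs2 : (s : G) * s = 1 := by
      have := pow_orderOf_eq_one s
      rw [hs, pow_two] at this
      exact congrArg Subtype.val this
    have hi := Z.inverts_of_mem_norm h4 hs1 hs2 s.2
    obtain ⟨c, hc⟩ := isConj_iff.1 (Z.isConj_involution hs1 hs2)
    refine Pr.of_conj c⁻¹ (Pr_of_inv hY (h2 1) Z.S_zero_one_ne ?_ ?_ ?_)
    · have : orderOf (c⁻¹ * h * c⁻¹⁻¹) = orderOf h := (MulAut.conj c⁻¹).orderOf_eq h
      rwa [this]
    · intro e
      rw [conj_eq_one_iff.1 e] at h4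
      simp at h4
    · have e : Z.S 0 1 = c⁻¹ * s * c := by rw [← hc]; group
      rw [e]
      calc _ = c⁻¹ * (s * h * (s : G)⁻¹) * c := by group
        _ = _ := by rw [inv_eq_of_mul_eq_one_right hs2, hi]; group

end Suz

section SL
open Cfsg.Agent.Classical.SL2Basic Cfsg.Agent.Classical.Borel2 Cfsg.Agent.Classical.P1
open scoped MatrixGroups
variable {F : Type*} [Field F] [Finite F] {p : ℕ} [Fact p.Prime] [CharP F p]

include p in
theorem mem_norm_USL (g : SL(2, F)) : g ∈ normalizer ((USL F : Subgroup SL(2, F)) : Set SL(2, F)) ↔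
    g 1 0 = 0 := by
  have := (isRootSylow_SL (F := F) p).normalizer_eq
  rw [coe_sylSL] at this
  rw [this, MulAction.mem_stabilizer_iff, smul_inf_eq_inf_iff']

omit [Finite F] in
theorem upper_ne_one {b : F} (hb : b ≠ 0) : upper b ≠ 1 := fun e =>
  hb (upper_injective (e.trans upper_zero.symm))

include p in
theorem pr_of_01 {h : SL(2, F)} (h1 : h 0 1 ≠ 0) (h2 : tr h ≠ 2) : Pr (USL F) h := by
  set c := (h 1 1 - 1) / h 0 1 with hc
  set d := (tr h - 2) / h 0 1 with hd
  have hd0 : d ≠ 0 := div_ne_zero (sub_ne_zero.2 h2) h1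
  have hdet := det_eq h
  have e : lower (-c) * h * (lower (-c))⁻¹ = upper (h 0 1) * lower d := by
    apply sl2_ext <;>
      simp [upper, lower, mul_apply, inv_apply00, inv_apply01, inv_apply10, inv_apply11, hc, hd, tr] <;>
      field_simp <;> first | ring1 | linear_combination (-1 : F) * hdet | linear_combination hdet
  refine Pr.of_conj (lower (-c)) ?_
  rw [e]
  refine ⟨1, wSL F, upper (h 0 1), upper (-d), mem_USL.2 ⟨_, rfl⟩, upper_ne_one h1,
    mem_USL.2 ⟨_, rfl⟩, upper_ne_one (neg_ne_zero.2 hd0), ?_, ?_⟩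
  · rw [mem_norm_USL (p := p)]
    simp [wSL]
  · rw [wSL_conj_upper]; simp

theorem good_sl : Good p (USL F) := by
  have hR := isRootSylow_SL (F := F) p
  constructor
  · intro x y hy hy1 h
    have := hR.normalizer_eq
    rw [coe_sylSL] at this
    rw [this, MulAction.mem_stabilizer_iff] at h ⊢
    rw [mul_smul, mul_smul, smul_eq_iff_eq_inv_smul] at h
    have := hR.uniq y hy hy1 _ h
    rw [inv_smul_eq_iff] at this
    exact this.symm
  · intro h hh
    have h2 : tr h ≠ 2 := by
      intro e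
      apply hh
      have hc := cayley h
      rw [e] at hc
      have hn : ((h : Matrix (Fin 2) (Fin 2) F) - 1) ^ 2 = 0 := by
        rw [pow_two, sub_mul, mul_sub, hc, two_smul]; simp; abel
      have hp2 : 2 ≤ p := (Fact.out : p.Prime).two_le
      have hn' : ((h : Matrix (Fin 2) (Fin 2) F) - 1) ^ p = 0 := pow_eq_zero_of_le hp2 hn
      rw [sub_pow_char_of_commute _ (Commute.one_right _), one_pow, sub_eq_zero] at hn'
      have : h ^ p = 1 := Subtype.ext (by simpa using hn')
      rcases (Nat.dvd_prime Fact.out).1 (orderOf_dvd_of_pow_eq_one this) with e | e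
      · exact ⟨0, by simpa using e⟩
      · exact ⟨1, by simpa using e⟩
    by_cases h01 : h 0 1 = 0
    · by_cases h10 : h 1 0 = 0
      · by_cases hd : h 0 0 = h 1 1
        · right
          rcases eq_of_scalar h01 h10 hd with e | e
          · rw [e, tr_one] at h2; exact absurd rfl h2
          · refine ⟨mem_center_iff.2 (Or.inr e), upper 1, mem_USL.2 ⟨_, rfl⟩, pr_of_01 (p := p) ?_ ?_⟩
            · rw [e]; simp [upper, mul_apply]
            · rw [e] at h2 ⊢
              convert h2 using 1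
              simp [upper, mul_apply, tr]
        · left
          refine Pr.of_conj (upper 1) (pr_of_01 (p := p) ?_ (by rwa [tr_conj]))
          simp [upper, mul_apply, inv_apply00, inv_apply01, inv_apply10, inv_apply11, h01, h10]
          intro e
          apply hd
          linear_combination -e
      · left
        refine Pr.of_conj (wSL F) (pr_of_01 (p := p) ?_ (by rwa [tr_conj]))
        simpa [wSL, mul_apply, inv_apply00, inv_apply01, inv_apply10, inv_apply11] using h10
    · exact Or.inl (pr_of_01 (p := p) h01 h2)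

end SL

end Cfsg.Agent.Isaacs.YMin
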