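import Mathlib
import Cfsg.Agent.Isaacs.YMin2

set_option autoImplicit false

namespace Cfsg.Agent.Isaacs.YMin

open Subgroup

variable {G X : Type*} [Group G] [Group X] {p : ℕ}

structure Pre (p : ℕ) (Y : Subgroup G) : Prop where
  elem : IsElementaryAbelian p Y
  clA : pCore p G = normalClosure ((Y ⊓ pCore p G : Subgroup G) : Set G)
  AN : pCore p G ≤ normalizer (Y : Set G)
  clY : normalClosure (Y : Set G) = ⊤
  ne : normalizer (Y : Set G) ≠ ⊤
  max : ∀ K : Subgroup G, Y ≤ K → K ≠ ⊤ → K ≤ normalizer (Y : Set G)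

theorem bot_of_normal {π : G →* X} (hs : Function.Surjective π) (hk : π.ker = pCore p G)
    (N : Subgroup X) [N.Normal] (hN : IsPGroup p N) : N = ⊥ := by
  have h1 : IsPGroup p (N.comap π) :=
    hN.comap_of_ker_isPGroup π (by rw [hk]; exact LocalEven.isPGroup_pCore)
  have h2 := LocalEven.le_pCore inferInstance h1
  rw [eq_bot_iff]
  intro x hx
  obtain ⟨g, rfl⟩ := hs x
  have : g ∈ π.ker := by rw [hk]; exact h2 hx
  exact this

namespace Pre
variable {Y : Subgroup G} (H : Pre p Y) {π : G →* X} (hs : Function.Surjective π)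
  (hk : π.ker = pCore p G)
include H

theorem pow_eq {y : X} (hy : y ∈ Y.map π) : y ^ p = 1 := by
  obtain ⟨y, hy, rfl⟩ := hy
  rw [← map_pow, H.elem.2 y hy, map_one]

theorem isPGroup : IsPGroup p (Y.map π) := fun y =>
  ⟨1, Subtype.ext (by simpa using H.pow_eq y.2)⟩

include hk in
theorem ne_bot : Y.map π ≠ ⊥ := by
  intro h
  rw [Subgroup.map_eq_bot_iff, hk] at h
  have h1 : normalClosure (Y : Set G) ≤ pCore p G := normalClosure_le_normal h
  rw [H.clY] at h1
  exact H.ne (top_le_iff.1 (h1.trans H.AN))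

include hs hk in
theorem nn : normalizer ((Y.map π : Subgroup X) : Set X) ≠ ⊤ := by
  intro h
  haveI := normalizer_eq_top_iff.1 h
  exact H.ne_bot hk (bot_of_normal hs hk _ H.isPGroup)

include hs hk in
theorem main (hG : Good p (Y.map π)) {h c : G} (hh : ¬ ∃ k, orderOf h = p ^ k) [Fact p.Prime]
    (hc : c ∈ pCore p G) (hR : R Y h c) : c ∈ Y ⊓ center G := by
  have S : Setup Y (pCore p G) π :=
    { comm := fun y hy z hz => congrArg Subtype.val (H.elem.1.is_comm.comm (⟨y, hy⟩ : Y) ⟨z, hz⟩)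
      surj := hs
      ker := fun g => by rw [← hk, MonoidHom.mem_ker]
      clA := H.clA
      AN := H.AN
      clY := H.clY
      ne := H.ne
      max := H.max
      nn := H.nn hs hk
      t1 := hG.t1 }
  have hh' : ¬ ∃ k, orderOf (π h) = p ^ k := by
    rintro ⟨k, e⟩
    have h1 : h ^ p ^ k ∈ pCore p G := by
      rw [← hk, MonoidHom.mem_ker, map_pow, ← e, pow_orderOf_eq_one]
    obtain ⟨l, hl⟩ := LocalEven.isPGroup_pCore (p := p) ⟨_, h1⟩
    have h2 : h ^ p ^ (k + l) = 1 := by
      rw [pow_add, pow_mul]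
      exact congrArg Subtype.val hl
    obtain ⟨j, -, hj⟩ := (Nat.dvd_prime_pow Fact.out).1 (orderOf_dvd_of_pow_eq_one h2)
    exact hh ⟨j, hj⟩
  rcases hG.t2 _ hh' with h1 | ⟨h1, _, ⟨y, hy, rfl⟩, h2⟩
  · exact S.of_Pr h1 hc hR
  · exact S.of_central h1 hy (by rwa [map_mul]) hc hR

end Pre

theorem Pre.good_of_two [Finite X] {Y : Subgroup G} (H : Pre 2 Y) {π : G →* X}
    (hs : Function.Surjective π) (hk : π.ker = pCore 2 G) (hc : Nat.card (Y.map π) = 2) :
    Good 2 (Y.map π) := by
  refine good_two hc ?_ ?_ (H.nn hs hk) ?_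
  · intro z hz h2
    haveI : (zpowers z).Normal := ⟨fun w hw g => by
      have : w ∈ center X := (zpowers_le.2 hz) hw
      rw [mem_center_iff.1 this g]; simpa using hw⟩
    have := bot_of_normal hs hk (zpowers z) (by
      rintro ⟨_, k, rfl⟩
      refine ⟨1, Subtype.ext ?_⟩
      show (z ^ k) ^ 2 ^ 1 = 1
      rw [pow_one, ← zpow_natCast, ← zpow_mul, mul_comm, zpow_mul, zpow_natCast, pow_two, h2,
        one_zpow])
    exact zpowers_eq_bot.1 this
  · have := map_normalClosure (Y : Set G) π hs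
    rw [H.clY, map_top_of_surjective π hs] at this
    rw [coe_map, ← this]
  · intro K hK hne
    have h1 := H.max (K.comap π) (map_le_iff_le_comap.1 hK) (by
      intro e
      apply hne
      rw [← map_comap_eq_self_of_surjective hs K, e, map_top_of_surjective π hs])
    rw [← map_comap_eq_self_of_surjective hs K]
    exact (map_mono h1).trans (le_normalizer_map π)

theorem card_map_eq {Y : Subgroup G} (π : G →* X) : Nat.card (Y.map π) = π.ker.relIndex Y := by
  rw [relIndex_ker]

theorem Pre.final [Finite G] [Fact p.Prime] {Y : Subgroup G} (H : Pre p Y)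
    (hX : (∃ (F : Type) (_ : Field F) (_ : Fintype F),
        Fintype.card F = (pCore p G).relIndex Y ∧
          Nonempty (G ⧸ pCore p G ≃* Matrix.SpecialLinearGroup (Fin 2) F)) ∨
      (p = 2 ∧ ∃ (F : Type) (_ : Field F) (_ : Fintype F) (m : ℕ),
        Fintype.card F = 2 ^ (2 * m + 1) ∧
          Fintype.card F = (pCore p G).relIndex Y ∧
            Nonempty (G ⧸ pCore p G ≃* ↥(Lie.Sz F (2 ^ (m + 1))))) ∨
      (p = 2 ∧ ∃ r : ℕ, r.Prime ∧ r ≠ 2 ∧ Nonempty (G ⧸ pCore p G ≃* DihedralGroup r)))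
    {h c : G} (hh : ¬ ∃ k, orderOf h = p ^ k)
    (hc : c ∈ pCore p G) (hR : R Y h c) : c ∈ Y ⊓ center G := by
  have hs : Function.Surjective (QuotientGroup.mk' (pCore p G)) := QuotientGroup.mk'_surjective _
  have hk : (QuotientGroup.mk' (pCore p G)).ker = pCore p G := QuotientGroup.ker_mk' _
  have hcard : Nat.card (Y.map (QuotientGroup.mk' (pCore p G))) = (pCore p G).relIndex Y := by
    rw [card_map_eq, hk]
  rcases hX with ⟨F, _, _, hF, ⟨e⟩⟩ | ⟨rfl, F, _, _, m, hF, hF', ⟨e⟩⟩ | ⟨rfl, r, hr, hr2, ⟨e⟩⟩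
  · obtain ⟨n, hn⟩ := (H.isPGroup (π := QuotientGroup.mk' (pCore p G))).exists_card_eq
    rw [hcard, ← hF] at hn
    haveI : CharP F p := charP_of_card_eq_prime_pow hn
    let π1 : G →* Matrix.SpecialLinearGroup (Fin 2) F :=
      e.toMonoidHom.comp (QuotientGroup.mk' (pCore p G))
    have hk1 : π1.ker = pCore p G := by
      ext g; simp [π1]
    obtain ⟨P, hP⟩ := (H.isPGroup (π := π1)).exists_le_sylow
    obtain ⟨c', hc'⟩ := MulAction.exists_smul_eq (Matrix.SpecialLinearGroup (Fin 2) F) P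
      (Classical.Borel2.sylSL F p)
    let π2 : G →* Matrix.SpecialLinearGroup (Fin 2) F := (MulAut.conj c').toMonoidHom.comp π1
    have hk2 : π2.ker = pCore p G := by
      ext g; simp [π1, π2]
    have hs2 : Function.Surjective π2 :=
      (MulAut.conj c').surjective.comp (e.surjective.comp hs)
    have hle : Y.map π2 ≤ Classical.Borel2.USL F := by
      rintro _ ⟨y, hy, rfl⟩
      rw [← Classical.Borel2.coe_sylSL p, ← hc', Sylow.coe_subgroup_smul]
      exact ⟨π1 y, hP (mem_map_of_mem π1 hy), rfl⟩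
    have heq : Y.map π2 = Classical.Borel2.USL F := by
      refine eq_of_le_of_card_ge hle ?_
      rw [Classical.Borel2.card_USL, card_map_eq, hk2, ← hF, Nat.card_eq_fintype_card]
    exact H.main hs2 hk2 (by rw [heq]; exact good_sl) hh hc hR
  · rcases Nat.eq_zero_or_pos m with rfl | hm
    · exact H.main hs hk (H.good_of_two hs hk (by rw [hcard, ← hF', hF]; rfl)) hh hc hR
    · obtain ⟨_, ⟨Z⟩⟩ := RankOne.Sz.exists_model_of_equiv_lie hF hm e
      refine H.main hs hk (good_sz Z (fun y hy => ?_) (by rw [hcard, hF'])) hh hc hR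
      rw [← pow_two]; exact H.pow_eq hy
  · refine H.main hs hk (H.good_of_two hs hk ?_) hh hc hR
    obtain ⟨n, hn⟩ := (H.isPGroup (π := QuotientGroup.mk' (pCore 2 G))).exists_card_eq
    have h1 := card_subgroup_dvd_card (Y.map (QuotientGroup.mk' (pCore 2 G)))
    rw [Nat.card_congr e.toEquiv, DihedralGroup.nat_card, hn] at h1
    have h0 : n ≠ 0 := by
      rintro rfl
      exact H.ne_bot hk (card_eq_one.1 hn)
    have h2 : n ≤ 1 := by
      by_contra hcon
      have : 2 ^ 2 ∣ 2 * r := (pow_dvd_pow 2 (by omega)).trans h1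
      have : 2 ∣ r := by omega
      exact hr2 ((Nat.prime_dvd_prime_iff_eq Nat.prime_two hr).1 this).symm
    rw [hn, show n = 1 by omega]; rfl

end Cfsg.Agent.Isaacs.YMin
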