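import Mathlib
import Cfsg.Agent.Isaacs.Rel4
import Cfsg.Agent.Inv.Four

/-! Transfer and extremal conjugation tools. -/

set_option autoImplicit false

namespace Cfsg.Agent.Z4

open Subgroup Cfsg.Agent.PGrp Cfsg.Agent.Core
open scoped commutatorElement Pointwise

variable {G : Type*} [Group G]

theorem comm_of_sq {H N : Subgroup G} (h : ∀ a ∈ H, a * a ∈ N) : ∀ a ∈ H, ∀ b ∈ H, a * b * a⁻¹ * b⁻¹ ∈ N := fun a ha b hb => by
  have : a * b * a⁻¹ * b⁻¹ = a * a * (a⁻¹ * b * (a⁻¹ * b)) * (b * b)⁻¹ := by group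
  exact this ▸ mul_mem (mul_mem (h a ha) (h _ (mul_mem (inv_mem ha) hb))) (inv_mem (h b hb))

theorem conj_sq {u : G} (hu : u * u = 1) (g : G) : g * u * g⁻¹ * (g * u * g⁻¹) = 1 := by
  calc _ = g * (u * u) * g⁻¹ := by group
    _ = 1 := by rw [hu]; group

theorem conj_ne {u v : G} (h : u ≠ v) (g : G) : g * u * g⁻¹ ≠ g * v * g⁻¹ := fun e => h (by simpa using e)

theorem conj_ne_one {u : G} (h : u ≠ 1) (g : G) : g * u * g⁻¹ ≠ 1 := fun e => h (by simpa [mul_inv_eq_one] using e)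

variable [Finite G]

theorem gtt {H N : Subgroup G} (hH : Odd H.index) (hN : ∀ a ∈ H, ∀ b ∈ H, a * b * a⁻¹ * b⁻¹ ∈ N) {u v c d : G}
    (huv : u⁻¹ * v ∈ commutator G) (hu : u * u = 1) (hv : v * v = 1) (hc : c ∈ H) (hd : d ∈ H)
    (hc2 : c * c ∈ N) (hd2 : d * d ∈ N) (h1 : ∀ g, g * u * g⁻¹ ∈ H → c⁻¹ * (g * u * g⁻¹) ∈ N)
    (h2 : ∀ g, g * v * g⁻¹ ∈ H → d⁻¹ * (g * v * g⁻¹) ∈ N) : c⁻¹ * d ∈ N := by
  have hn : (N.subgroupOf H).Normal := ⟨fun n hn g => by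
    have := mul_mem (hN g g.2 n n.2) (mem_subgroupOf.mp hn)
    rwa [inv_mul_cancel_right] at this⟩
  let _ : CommGroup (H ⧸ N.subgroupOf H) := { (inferInstance : Group (H ⧸ N.subgroupOf H)) with
    mul_comm := fun a b => by
      obtain ⟨a, rfl⟩ := QuotientGroup.mk_surjective a
      obtain ⟨b, rfl⟩ := QuotientGroup.mk_surjective b
      rw [← QuotientGroup.mk_mul, ← QuotientGroup.mk_mul, QuotientGroup.eq]
      have := hN _ (inv_mem b.2) _ (inv_mem a.2)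
      simpa [mem_subgroupOf, mul_assoc] using this }
  have key : ∀ {u c : G} (hc : c ∈ H), u * u = 1 → c * c ∈ N → (∀ g, g * u * g⁻¹ ∈ H → c⁻¹ * (g * u * g⁻¹) ∈ N) →
      MonoidHom.transfer (QuotientGroup.mk' (N.subgroupOf H)) u = ((⟨c, hc⟩ : H) : H ⧸ N.subgroupOf H) := by
    intro u c hc hu hc2 h
    have hcc : ((⟨c, hc⟩ : H) : H ⧸ N.subgroupOf H) ^ 2 = 1 := by
      rw [pow_two, ← QuotientGroup.mk_mul, QuotientGroup.eq_one_iff]; exact hc2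
    rw [← pow_two] at hu
    rw [Transfer.transfer_eq_pow_of_forall _ u ((⟨c, hc⟩ : H) : H ⧸ N.subgroupOf H)]
    · obtain ⟨m, hm⟩ := hH
      rw [hm, pow_succ, pow_mul, hcc, one_pow, one_mul]
    · intro k g hg hk hk0
      have hk2 : k ≤ 2 := by
        by_contra hlt
        exact hk 2 two_pos (by omega) (by rw [hu]; simp)
      interval_cases k
      · rw [pow_one (_ : H ⧸ N.subgroupOf H), QuotientGroup.mk'_apply, eq_comm, QuotientGroup.eq]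
        simpa [mem_subgroupOf] using h g⁻¹ (by simpa using hg)
      · rw [hcc, QuotientGroup.mk'_apply, QuotientGroup.eq_one_iff, mem_subgroupOf]
        simp [hu]
  have h3 := Abelianization.commutator_subset_ker (MonoidHom.transfer (QuotientGroup.mk' (N.subgroupOf H))) huv
  rw [MonoidHom.mem_ker, map_mul, map_inv, key hc hu hc2 h1, key hd hv hd2 h2, inv_mul_eq_one, QuotientGroup.eq] at h3
  exact h3

theorem tta {A T N : Subgroup G} (hA : commutator A = ⊤) (hT : IsSylowOf 2 T A)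
    (hN : ∀ a ∈ T, ∀ b ∈ T, a * b * a⁻¹ * b⁻¹ ∈ N) {u c : G} (huA : u ∈ A) (hu : u * u = 1) (hc : c ∈ T)
    (hc2 : c * c ∈ N) (hcN : c ∉ N) : ∃ g ∈ A, g * u * g⁻¹ ∈ T ∧ c⁻¹ * (g * u * g⁻¹) ∉ N := by
  by_contra! e
  have := gtt (H := T.subgroupOf A) (N := N.subgroupOf A) (Nat.odd_iff.mpr (Nat.two_dvd_ne_zero.mp hT.not_dvd))
    (fun a ha b hb => hN a ha b hb) (u := ⟨u, huA⟩) (v := 1) (c := ⟨c, hT.le hc⟩) (d := 1) (hA ▸ mem_top _)
    (Subtype.ext hu) (one_mul _) hc (one_mem _) hc2 (by simp) (fun g hg => e g g.2 hg) (by simp)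
  exact hcN (by simpa [mem_subgroupOf] using this)

theorem ext {K T P : Subgroup G} (hT : IsSylowOf 2 T K) {z s g : G} (hz : ∀ x ∈ T, x * z = z * x) (hg : g ∈ K)
    (e : g * s * g⁻¹ = z) (hP : IsPGroup 2 P) (hPK : P ≤ K) (hPs : ∀ x ∈ P, x * s = s * x) :
    ∃ h ∈ K, h * s * h⁻¹ = z ∧ ∀ x ∈ P, h * x * h⁻¹ ∈ T := by
  have : Fact (Nat.Prime 2) := ⟨Nat.prime_two⟩
  obtain ⟨c, ⟨hc, hc'⟩, h⟩ := (hT.of_le (L := K ⊓ centralizer {z}) (le_inf hT.le fun x hx =>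
    mem_centralizer_singleton_iff.mpr (hz x hx)) inf_le_left).exists_conj_le (Q := MulAut.conj g • P) (hP.map _) (by
      rintro _ ⟨x, hx, rfl⟩
      refine ⟨K.mul_mem (K.mul_mem hg (hPK hx)) (K.inv_mem hg), mem_centralizer_singleton_iff.mpr ?_⟩
      rw [← e]
      exact (Commute.map (hPs x hx) (MulAut.conj g)).eq)
  refine ⟨c * g, mul_mem hc hg, ?_, fun x hx => ?_⟩
  · calc _ = c * (g * s * g⁻¹) * c⁻¹ := by group
      _ = z := by rw [e, mem_centralizer_singleton_iff.mp hc', mul_inv_cancel_right]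
  · have := h (smul_mem_pointwise_smul _ _ _ (smul_mem_pointwise_smul _ (MulAut.conj g) _ hx))
    simpa [mul_assoc] using this

theorem nr {K T : Subgroup G} (hT : IsSylowOf 2 T K) {z s g φ : G} (hz : ∀ x ∈ T, x * z = z * x) (hzz : z * z = 1)
    (hz1 : z ≠ 1) (hg : g ∈ K) (e : g * s * g⁻¹ = z) (hs : s ≠ z) (hφ : φ ∈ K) (hc : Commute φ s) {j : ℕ}
    (hj : φ ^ 2 ^ j = z) (hsq : ∀ x ∈ T, x ^ 2 ^ j * x ^ 2 ^ j = 1 → x ^ 2 ^ j = 1 ∨ x ^ 2 ^ j = z) : False := by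
  obtain ⟨h, -, h1, h2⟩ := ext hT hz hg e (P := zpowers φ) (IsPGroup.of_card_dvd_pow (n := j + 1) (by
    rw [Nat.card_zpowers]
    exact orderOf_dvd_of_pow_eq_one (by rw [pow_succ, pow_mul, hj, pow_two, hzz]))) (zpowers_le.mpr hφ) fun x hx => by
      obtain ⟨k, rfl⟩ := mem_zpowers_iff.mp hx
      exact (hc.zpow_left k).eq
  have := hsq _ (h2 φ (mem_zpowers φ))
  rw [conj_pow, hj] at this
  exact (this (conj_sq hzz h)).elim (conj_ne_one hz1 h) fun e' => conj_ne hs h (h1.trans e'.symm)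

omit [Finite G] in
theorem swap {K T : Subgroup G} (hT : IsSylowOf 2 T K) {z u h : G} (hz : ∀ x ∈ T, x * z = z * x)
    (hu : ∀ x ∈ T, x * u = u * x) (hzz : z * z = 1) (hz1 : z ≠ 1) (hh : h ∈ K) (e1 : h * z * h⁻¹ = z)
    (e2 : h * u * h⁻¹ = u * z) : False := by
  have k1 : ∀ {a b : G}, a * z * a⁻¹ = z → b * u * b⁻¹ = u * z → a * b * u * (a * b)⁻¹ = a * u * a⁻¹ * z :=
    fun {a b} h1 h2 => by
      calc _ = a * (b * u * b⁻¹) * a⁻¹ := by group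
        _ = a * u * a⁻¹ * (a * z * a⁻¹) := by rw [h2]; group
        _ = _ := by rw [h1]
  have k2 : ∀ {a b : G}, b * u * b⁻¹ = u → a * b * u * (a * b)⁻¹ = a * u * a⁻¹ := fun {a b} h2 => by
    calc _ = a * (b * u * b⁻¹) * a⁻¹ := by group
      _ = _ := by rw [h2]
  let L : Subgroup G :=
    { carrier := {g | g * z * g⁻¹ = z ∧ (g * u * g⁻¹ = u ∨ g * u * g⁻¹ = u * z)}
      one_mem' := by simp
      mul_mem' := by
        rintro a b ⟨h1, h2⟩ ⟨h3, h4 | h4⟩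
        · exact ⟨by rw [mul_inv_rev, ← mul_assoc, mul_assoc a, mul_assoc a, h3, h1], by rwa [k2 h4]⟩
        · refine ⟨by rw [mul_inv_rev, ← mul_assoc, mul_assoc a, mul_assoc a, h3, h1], ?_⟩
          rw [k1 h1 h4]
          rcases h2 with h2 | h2 <;> simp [h2, mul_assoc, hzz]
      inv_mem' := by
        rintro a ⟨h1, h2⟩
        have k3 : ∀ {z : G}, a * z * a⁻¹ = z → a⁻¹ * z * a⁻¹⁻¹ = z := fun {z} h => by
          calc _ = a⁻¹ * (a * z * a⁻¹) * a⁻¹⁻¹ := by rw [h]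
            _ = _ := by group
        have h3 := k3 h1
        refine ⟨h3, h2.imp k3 fun h => ?_⟩
        calc a⁻¹ * u * a⁻¹⁻¹ = a⁻¹ * (u * (z * z)) * a⁻¹⁻¹ := by rw [hzz, mul_one]
          _ = a⁻¹ * (u * z) * a⁻¹⁻¹ * (a⁻¹ * z * a⁻¹⁻¹) := by group
          _ = a⁻¹ * (a * u * a⁻¹) * a⁻¹⁻¹ * z := by rw [h3, h]
          _ = u * z := by group }
  have hne : u * z ≠ u := by simpa using hz1
  have h1 : (centralizer {u}).relIndex (K ⊓ L) = 2 := relIndex_eq_two_iff.mpr ⟨h, ⟨hh, e1, .inr e2⟩, by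
    rintro b ⟨-, h1, h2⟩
    simp only [mem_centralizer_singleton_iff, ← mul_inv_eq_iff_eq_mul, k1 h1 e2]
    rcases h2 with h2 | h2 <;> rw [h2]
    · exact .inr ⟨rfl, hne⟩
    · exact .inl ⟨by rw [mul_assoc, hzz, mul_one], hne⟩⟩
  refine (hT.of_le (L := K ⊓ L) (le_inf hT.le fun x hx => ⟨mul_inv_eq_iff_eq_mul.mpr (hz x hx),
    .inl (mul_inv_eq_iff_eq_mul.mpr (hu x hx))⟩) inf_le_left).not_dvd ?_
  exact h1 ▸ relIndex_dvd_of_le_left _ fun x hx => mem_centralizer_singleton_iff.mpr (hu x hx)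

end Cfsg.Agent.Z4
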