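import Mathlib
import Cfsg.Agent.Isaacs.Z4a

/-! An involution acting with cyclic fixed points of order four: the case without normal four-group. -/

set_option autoImplicit false

namespace Cfsg.Agent.Z4

open Subgroup Cfsg.Agent.PGrp Cfsg.Agent.Core Cfsg.Agent.Rel4
open scoped commutatorElement Pointwise

variable {G : Type*} [Group G]

structure Hyp (A : Subgroup G) (S : Sylow 2 G) (t y : G) : Prop where
  nA : A.Normal
  perf : commutator A = ⊤
  tt : t * t = 1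
  tA : t ∉ A
  tS : t ∈ (S : Subgroup G)
  two : ∀ g, g ∉ A → t * g ∈ A
  yS : y ∈ (S : Subgroup G)
  yA : y ∈ A
  y4 : orderOf y = 2 ^ (1 + 1)
  ty : Commute t y
  cen : ∀ x ∈ (S : Subgroup G), x ∈ A → Commute t x → x ∈ zpowers y
  four : ∀ g : G, ∀ x ∈ A, ∀ x' ∈ A, x * x = 1 → x' * x' = 1 → x ≠ 1 → x' ≠ 1 → Commute x x' →
    Commute (g * t * g⁻¹) x → Commute (g * t * g⁻¹) x' → x = x'

variable {A : Subgroup G} {S : Sylow 2 G} {t y : G}

theorem Hyp.inv (h : Hyp A S t y) {x : G} (hS : x ∈ (S : Subgroup G)) (hA : x ∈ A) (hc : Commute t x) (h2 : x * x = 1)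
    (h1 : x ≠ 1) : x = y * y := by
  rw [(eq_one_or_eq_of_sq_eq_one h.y4 (h.cen x hS hA hc) (by rwa [pow_two])).resolve_left h1]; simp [pow_two]

theorem Hyp.zz (h : Hyp A S t y) : y * y * (y * y) = 1 := by
  have := pow_orderOf_eq_one y
  rw [h.y4] at this
  simpa [pow_succ, mul_assoc] using this

theorem Hyp.z1 (h : Hyp A S t y) : y * y ≠ 1 := fun e => by
  have := orderOf_dvd_of_pow_eq_one (x := y) (n := 2) (by rwa [pow_two])
  rw [h.y4] at this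
  omega

theorem Hyp.ti (h : Hyp A S t y) : t⁻¹ = t := inv_eq_of_mul_eq_one_right h.tt

theorem Hyp.idx (h : Hyp A S t y) (H : Subgroup A) : H.index ≠ 2 := fun e => by
  have : (⊤ : Subgroup A) ≤ H := h.perf ▸ commutator_le.mpr fun a _ b _ => by
    simp only [commutatorElement_def, mul_mem_iff_of_index_two e, inv_mem_iff]
    tauto
  rw [top_le_iff.mp this, index_top] at e
  omega

theorem Hyp.le_comm (h : Hyp A S t y) {x : G} (hx : x ∈ A) : x ∈ commutator G := by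
  have : (⊤ : Subgroup A).map A.subtype ≤ commutator G := by
    rw [← h.perf, commutator_def, map_commutator]; exact commutator_mono le_top le_top
  exact this ⟨⟨x, hx⟩, trivial, rfl⟩

/-- The index two subgroup generated by `a ^ 2` and `s`. -/
def dih (a s : G) (hs : s * s = 1) (h : s * a ^ 2 * s⁻¹ = (a ^ 2)⁻¹) : Subgroup G where
  carrier := {x | ∃ i : ℤ, x = (a ^ 2) ^ i ∨ x = (a ^ 2) ^ i * s}
  one_mem' := ⟨0, .inl (by simp)⟩
  mul_mem' := by
    have k : ∀ i : ℤ, s * (a ^ 2) ^ i = (a ^ 2) ^ (-i) * s := fun i => by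
      rw [← mul_inv_eq_iff_eq_mul, ← conj_zpow, h, inv_zpow']
    rintro _ _ ⟨i, rfl | rfl⟩ ⟨j, rfl | rfl⟩
    · exact ⟨i + j, .inl (by group)⟩
    · exact ⟨i + j, .inr (by group)⟩
    · exact ⟨i - j, .inr (by rw [mul_assoc, k]; group)⟩
    · exact ⟨i - j, .inl (by rw [mul_assoc, ← mul_assoc s, k, mul_assoc, hs]; group)⟩
  inv_mem' := by
    have k : ∀ i : ℤ, s * (a ^ 2) ^ i = (a ^ 2) ^ (-i) * s := fun i => by
      rw [← mul_inv_eq_iff_eq_mul, ← conj_zpow, h, inv_zpow']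
    rintro _ ⟨i, rfl | rfl⟩
    · exact ⟨-i, .inl (by group)⟩
    · exact ⟨i, .inr (by rw [mul_inv_rev, inv_eq_of_mul_eq_one_right hs, ← zpow_neg, k, neg_neg])⟩

theorem Hyp.caseI [Finite G] (h : Hyp A S t y) {a : G} {n : ℕ} (hD : D A S a n) {s : G} (hs : s ∈ (S : Subgroup G) ⊓ A)
    (h2 : s * s = 1) (hsa : s ∉ zpowers a) : False := by
  have := h.nA
  have hs1 : s ≠ 1 := fun e => hsa (e ▸ one_mem _)
  have hs2 := Inv.two_of_mul_self hs1 h2
  have hzA := pow_mem hD.memA (2 ^ (n + 1))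
  have hzz := hD.z_sq
  rw [pow_two] at hzz
  have hz := h.inv (pow_mem hD.memS _) hzA (mul_inv_eq_iff_eq_mul.mp (hD.z_comm h.tS)) hzz hD.z_ne
  have hza : a ^ 2 ^ (n + 1) ∈ zpowers a := npow_mem_zpowers a _
  rcases hD.y_cases h.tS with e | e
  · obtain ⟨φ, h3, h4⟩ := hD.root h.tS h.tt e hs h2 hsa fun c => hsa ((h.inv hs.1 hs.2 c h2 hs1).trans hz.symm ▸ hza)
    exact hD.no_root h.idx hs hs2 hsa h3 h4
  have hw : a ^ 2 ^ n * a ^ 2 ^ n = y * y := by rw [← hz, ← pow_add, ← two_mul, ← pow_succ']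
  have hya : y ∉ zpowers a := fun hy => by
    obtain ⟨i, rfl⟩ := mem_zpowers_iff.mp hy
    rw [← zpow_natCast, ← zpow_add, ← zpow_add] at hw
    obtain ⟨c, hc⟩ := dvd_of_zpow_eq_zpow hD.ord hw
    obtain rfl : i = (1 + 2 * c) * 2 ^ n := by
      push_cast at hc
      have : 2 * i = 2 * ((1 + 2 * c) * 2 ^ n) := by linear_combination hc
      omega
    have h3 := mul_inv_eq_iff_eq_mul.mpr h.ty.eq
    rw [mul_comm (1 + 2 * c), zpow_mul, ← conj_zpow, show a ^ (2 : ℤ) ^ n = a ^ 2 ^ n by norm_cast, e, inv_zpow,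
      inv_eq_iff_mul_eq_one] at h3
    exact h.z1 (by rwa [mul_comm (1 + 2 * c), zpow_mul, show a ^ (2 : ℤ) ^ n = a ^ 2 ^ n by norm_cast])
  obtain ⟨j, hj⟩ := mem_zpowers_iff.mp (hD.two _ hs.1 _ (inv_mem h.yS) hs.2 (inv_mem h.yA) hsa (mt inv_mem_iff.mp hya))
  obtain rfl : s = a ^ j * y := by rw [hj]; group
  have nz : ∀ g ∈ (S : Subgroup G), g ∈ normalizer ((zpowers a : Subgroup G) : Set G) := fun g hg =>
    mem_normalizer_of_conj_mem fun x hx => by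
      obtain ⟨k, hk⟩ := hD.norm g hg
      obtain ⟨i, rfl⟩ := mem_zpowers_iff.mp hx
      exact conj_zpow_of_conj_eq hk i ▸ zpow_mem_zpowers _ _
  have cs : ∀ g ∈ (S : Subgroup G), Commute (g ^ 2) a → g * a ^ 2 ^ n * g⁻¹ = (a ^ 2 ^ n)⁻¹ →
      g * a * g⁻¹ = a ^ (-1 : ℤ) ∨ (1 ≤ n ∧ g * a * g⁻¹ = a ^ (2 ^ (n + 1) - 1 : ℤ)) := fun g hg hc e => by
    have key : ∀ k : ℤ, g * a * g⁻¹ = a ^ k → 4 ∣ k + 1 := fun k hk => by
      rw [← zpow_natCast, conj_zpow_of_conj_eq hk, ← zpow_neg] at e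
      obtain ⟨c, hc⟩ := dvd_of_zpow_eq_zpow hD.ord e
      push_cast at hc
      have : (2 : ℤ) ^ n * (k + 1) = 2 ^ n * (4 * -c) := by linear_combination -hc
      exact ⟨_, mul_left_cancel₀ (by positivity) this⟩
    rcases conj_cases_two hD.ord (nz g hg) hc with h1 | h1 | h1 | h1
    · exact absurd (key 1 (by simpa using h1)) (by decide)
    · rcases n with _ | n
      · exact .inl (h1.trans (zpow_eq_zpow_of_dvd hD.ord (by decide)))
      · obtain ⟨c, hc⟩ := key _ h1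
        have : (4 : ℤ) * (c - 2 ^ n) = 2 := by linear_combination -hc
        omega
    · exact .inl (by simpa using h1)
    · rcases n with _ | n
      · exact absurd (key _ h1) (by decide)
      · exact .inr ⟨by omega, h1⟩
  obtain ⟨c, hc⟩ := hD.inv y h.yS h.yA hya
  have hyw : y * a ^ 2 ^ n * y⁻¹ = (a ^ 2 ^ n)⁻¹ := by
    rw [← zpow_natCast, conj_zpow_of_conj_eq hc, ← zpow_neg]
    exact zpow_eq_zpow_of_dvd hD.ord ⟨-c, by push_cast; ring⟩
  have hsq : ∀ {l : ℤ}, y * a * y⁻¹ = a ^ l → ((2 ^ (n + 2) : ℕ) : ℤ) ∣ 0 - (j + l * j + 2 ^ (n + 1)) := fun {l} hl => by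
    refine dvd_of_zpow_eq_zpow hD.ord ?_
    rw [← pow_two, zpow_mul_sq_of_conj_eq hl, pow_two, ← hz] at h2
    rw [zpow_add, zpow_zero]; exact_mod_cast h2
  obtain ⟨hn, hl⟩ := (cs y h.yS (by rw [pow_two, ← hz]; exact (Commute.refl a).pow_left _) hyw).resolve_left fun hl => by
    obtain ⟨c, hc⟩ := hsq hl
    push_cast at hc
    have : (2 : ℤ) ^ (n + 1) * (1 + 2 * c) = 0 := by linear_combination -hc
    have := (mul_eq_zero.mp this).resolve_left (by positivity)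
    omega
  obtain ⟨j, rfl⟩ : ∃ i, j = 2 * i + 1 := by
    obtain ⟨c, hc⟩ := hsq hl
    push_cast at hc
    have : (2 : ℤ) ^ (n + 1) * (j + 1) = 2 ^ (n + 1) * (2 * -c) := by linear_combination -hc
    have := mul_left_cancel₀ (by positivity) this
    exact ⟨-c - 1, by omega⟩
  obtain ⟨n, rfl⟩ : ∃ m, n = m + 1 := ⟨n - 1, by omega⟩
  have hty : t * y * t⁻¹ = y := mul_inv_eq_iff_eq_mul.mpr h.ty.eq
  rcases cs t h.tS (by rw [pow_two, h.tt]; exact Commute.one_left a) e with hk | ⟨-, hk⟩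
  swap
  · refine hD.no_root h.idx hs hs2 hsa (φ := t⁻¹ * y) (Commute.mul_right (Commute.zpow_right ?_ _)
      (h.ty.inv_left.mul_left (Commute.refl y))) ?_
    · refine mul_inv_eq_iff_eq_mul.mp ?_
      calc t⁻¹ * y * a * (t⁻¹ * y)⁻¹ = t⁻¹ * (y * a * y⁻¹) * t := by group
        _ = a := by rw [hl, ← hk]; group
    · rw [h.ti, h.ty.mul_pow, pow_two, h.tt, one_mul, pow_two, hz]
  set s := a ^ (2 * j + 1) * y with hsd
  have hsl : s * a * s⁻¹ = a ^ (2 ^ (n + 1 + 1) - 1 : ℤ) := conj_zpow_mul_of_conj_eq hl _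
  have hs4 : s * a ^ 2 * s⁻¹ = (a ^ 2)⁻¹ := by
    rw [← zpow_natCast, conj_zpow_of_conj_eq hsl, ← zpow_neg]
    exact zpow_eq_zpow_of_dvd hD.ord ⟨-1, by push_cast; ring⟩
  have hts : t * s * t⁻¹ = a ^ (-2 * (2 * j + 1)) * s := by
    calc _ = t * a ^ (2 * j + 1) * t⁻¹ * (t * y * t⁻¹) := by rw [hsd]; group
      _ = _ := by rw [conj_zpow_of_conj_eq hk, hty, hsd]; group
  have hT : ∀ x ∈ (S : Subgroup G), x ∈ A → ∃ i : ℤ, x = a ^ i ∨ x = a ^ i * s := fun x h1 h3 => by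
    by_cases h4 : x ∈ zpowers a
    · obtain ⟨i, hi⟩ := mem_zpowers_iff.mp h4
      exact ⟨i, .inl hi.symm⟩
    · obtain ⟨i, hi⟩ := mem_zpowers_iff.mp (hD.two _ h1 _ hs.1 h3 hs.2 h4 hsa)
      exact ⟨i, .inr (by rw [hi, mul_assoc, h2, mul_one])⟩
  have hS : ∀ x ∈ (S : Subgroup G), x ∉ A → ∃ i : ℤ, x = t * a ^ i ∨ x = t * (a ^ i * s) := fun x h1 h3 => by
    obtain ⟨i, hi⟩ := hT _ (mul_mem h.tS h1) (h.two x h3)
    exact ⟨i, hi.imp (fun e => by rw [← e, ← mul_assoc, h.tt, one_mul]) fun e => by rw [← e, ← mul_assoc, h.tt, one_mul]⟩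
  let N := dih a s h2 hs4
  have ev : ∀ i : ℤ, a ^ (2 * i) ∈ N := fun i => ⟨i, .inl (by rw [zpow_mul]; norm_cast)⟩
  have ev' : ∀ i : ℤ, a ^ (2 * i) * s ∈ N := fun i => ⟨i, .inr (by rw [zpow_mul]; norm_cast)⟩
  have q1 : ∀ i : ℤ, t * a ^ i * (t * a ^ i) = 1 := fun i => by
    calc _ = t * a ^ i * t⁻¹ * a ^ i := by rw [h.ti]; group
      _ = 1 := by rw [conj_zpow_of_conj_eq hk]; group
  have q2 : ∀ i : ℤ, t * (a ^ i * s) * (t * (a ^ i * s)) = a ^ (2 * ((2 ^ (n + 1) - 1) * i - (2 * j + 1))) := fun i => by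
    calc _ = t * a ^ i * t⁻¹ * (t * s * t⁻¹) * (t * t) * a ^ i * s := by group
      _ = a ^ (-1 * i) * a ^ (-2 * (2 * j + 1)) * (s * a ^ i * s⁻¹) * (s * s) := by
        rw [conj_zpow_of_conj_eq hk, hts, h.tt]; group
      _ = _ := by rw [conj_zpow_of_conj_eq hsl, h2, mul_one, ← zpow_add, ← zpow_add]; congr 1; ring
  have hsqN : ∀ x ∈ (S : Subgroup G), x * x ∈ N := fun x hx => by
    by_cases h3 : x ∈ A
    · obtain ⟨i, rfl | rfl⟩ := hT x hx h3
      · simpa [two_mul, zpow_add] using ev i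
      · rw [← pow_two, zpow_mul_sq_of_conj_eq hsl, pow_two, h2, mul_one]
        convert ev (2 ^ (n + 1) * i) using 2; ring
    · obtain ⟨i, rfl | rfl⟩ := hS x hx h3
      · exact q1 i ▸ one_mem _
      · exact q2 i ▸ ev _
  have haN : a ∉ N := by
    rintro ⟨i, hi | hi⟩
    · rw [← zpow_natCast, ← zpow_mul] at hi
      obtain ⟨c, hc⟩ := dvd_of_zpow_eq_zpow hD.ord ((zpow_one a).trans hi)
      push_cast at hc
      have : 2 * (i - 2 ^ (n + 2) * c) = 1 := by linear_combination hc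
      omega
    · exact hsa ((mul_mem_cancel_left (zpow_mem (npow_mem_zpowers a 2) i)).mp (hi ▸ mem_zpowers a))
  -- the involution `φ`
  let i₀ : ℤ := 2 ^ (n + 1) - (2 * j + 1)
  set φ := t * (a ^ i₀ * s) with hφ
  have hφS : φ ∈ (S : Subgroup G) := mul_mem h.tS (mul_mem (zpow_mem hD.memS _) hs.1)
  have hφ2 : φ * φ = 1 := by
    rw [q2, ← zpow_zero a]
    exact zpow_eq_zpow_of_dvd hD.ord ⟨1 + j - 2 ^ n, by push_cast; simp only [i₀]; ring⟩
  have hφa : Commute φ (a ^ 2) := mul_inv_eq_iff_eq_mul.mp (by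
    calc φ * a ^ 2 * φ⁻¹ = t * (a ^ i₀ * (s * a ^ 2 * s⁻¹) * (a ^ i₀)⁻¹) * t⁻¹ := by rw [hφ]; group
      _ = t * a ^ (-2 : ℤ) * t⁻¹ := by rw [hs4]; group
      _ = a ^ 2 := by rw [conj_zpow_of_conj_eq hk]; group)
  have hφs : Commute φ s := mul_inv_eq_iff_eq_mul.mp (by
    calc φ * s * φ⁻¹ = t * (a ^ i₀ * (s * a ^ (-i₀) * s⁻¹)) * t⁻¹ * (t * s * t⁻¹) := by rw [hφ]; group
      _ = a ^ (-1 * (i₀ + (2 ^ (n + 1 + 1) - 1) * -i₀) + -2 * (2 * j + 1)) * s := by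
        rw [conj_zpow_of_conj_eq hsl, ← zpow_add, conj_zpow_of_conj_eq hk, hts, zpow_add, mul_assoc]
      _ = a ^ (0 : ℤ) * s := by
        congr 1
        exact zpow_eq_zpow_of_dvd hD.ord ⟨1 + j - 2 ^ n, by push_cast; simp only [i₀]; ring⟩
      _ = s := by simp)
  have hφN : ∀ d ∈ N, Commute φ d := by
    rintro _ ⟨i, rfl | rfl⟩
    · exact hφa.zpow_right i
    · exact (hφa.zpow_right i).mul_right hφs
  have hNS : ∀ d ∈ N, d ∈ (S : Subgroup G) ⊓ A := by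
    rintro _ ⟨i, rfl | rfl⟩
    · exact zpow_mem (pow_mem (mem_inf.mpr ⟨hD.memS, hD.memA⟩) _) _
    · exact mul_mem (zpow_mem (pow_mem (mem_inf.mpr ⟨hD.memS, hD.memA⟩) _) _) hs
  have hzc : ∀ x ∈ (S : Subgroup G), Commute x (a ^ 2 ^ (n + 1 + 1)) := fun x hx => mul_inv_eq_iff_eq_mul.mp (hD.z_comm hx)
  have hsz : s ≠ a ^ 2 ^ (n + 1 + 1) := fun e => hsa (e ▸ hza)
  have no1 : ∀ g : G, ∀ d ∈ N, g * t * g⁻¹ ≠ φ * d := fun g d hd e => by
    have h3 := conj_sq h.tt g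
    rw [e, ← pow_two, (hφN d hd).mul_pow, pow_two, hφ2, one_mul, pow_two] at h3
    have h4 := hNS d hd
    have h5 : Commute (g * t * g⁻¹) (a ^ 2 ^ (n + 1 + 1)) := e ▸ hzc _ (mul_mem hφS h4.1)
    by_cases h6 : d = 1 ∨ d = a ^ 2 ^ (n + 1 + 1)
    · refine hsz (h.four g _ hs.2 _ hzA h2 hzz hs1 hD.z_ne (hzc _ hs.1) (e ▸ hφs.mul_left ?_) h5)
      rcases h6 with rfl | rfl
      · exact Commute.one_left _
      · exact (hzc _ hs.1).symm
    · exact h6 (.inr (h.four g _ h4.2 _ hzA h3 hzz (fun e => h6 (.inl e)) hD.z_ne (hzc _ h4.1)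
        (e ▸ (hφN d hd).mul_left (Commute.refl d)) h5))
  have htφ : t⁻¹ * φ = a ^ i₀ * s := by rw [hφ]; group
  have two : ∀ x ∈ (S : Subgroup G), x ∉ A → t⁻¹ * x ∈ N ∨ φ⁻¹ * x ∈ N := fun x h1 h3 => by
    have hsN : s ∈ N := by simpa using ev' 0
    obtain ⟨i, rfl | rfl⟩ := hS x h1 h3 <;> rcases Int.even_or_odd' i with ⟨i, rfl | rfl⟩
    · exact .inl (by simpa using ev i)
    · refine .inr ?_
      convert mul_mem (inv_mem hsN) (ev (i + j + 1 - 2 ^ n)) using 1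
      rw [hφ, show 2 * (i + j + 1 - 2 ^ n) = -i₀ + (2 * i + 1) by simp only [i₀]; ring]; group
    · exact .inl (by simpa using ev' i)
    · refine .inr ?_
      convert mul_mem (inv_mem hsN) (ev' (i + j + 1 - 2 ^ n)) using 1
      rw [hφ, show 2 * (i + j + 1 - 2 ^ n) = -i₀ + (2 * i + 1) by simp only [i₀]; ring]; group
  have hφA : φ ∉ A := fun e => h.tA ((mul_mem_cancel_right (mul_mem (zpow_mem hD.memA _) hs.2)).mp e)
  have cA : ∀ {x : G}, x ∉ A → ∀ g : G, g * x * g⁻¹ ∉ A := fun hx g e => hx (by simpa [mul_assoc] using this.conj_mem _ e g⁻¹)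
  have : Fact (Nat.Prime 2) := ⟨Nat.prime_two⟩
  have key := gtt (N := N) (Nat.odd_iff.mpr (Nat.two_dvd_ne_zero.mp S.not_dvd_index)) (comm_of_sq hsqN) (u := t) (v := φ)
    (h.le_comm (htφ ▸ mul_mem (zpow_mem hD.memA _) hs.2)) h.tt hφ2 h.tS hφS (hsqN _ h.tS) (hsqN _ hφS)
    (fun g hg => (two _ hg (cA h.tA g)).resolve_right fun e => no1 g _ e (by group))
    fun g hg => (two _ hg (cA hφA g)).resolve_left (by
      rintro ⟨i, hi | hi⟩
      · refine no1 (g⁻¹ * a ^ (-i)) 1 (one_mem _) ?_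
        have h3 : t * a ^ (-i) * t⁻¹ = a ^ i := by rw [conj_zpow_of_conj_eq hk]; group
        calc _ = g⁻¹ * (t * (t⁻¹ * a ^ (-i) * t⁻¹⁻¹) * a ^ i) * g := by group
          _ = g⁻¹ * (t * (a ^ 2) ^ i) * g := by rw [h.ti, h3]; group
          _ = _ := by rw [← hi]; group
      · have h3 := conj_sq hφ2 g
        rw [show g * φ * g⁻¹ = t * (a ^ (2 * i) * s) by rw [zpow_mul, ← zpow_natCast] at *; rw [← mul_inv_cancel_left t (g * φ * g⁻¹), hi]; rfl,
          q2, ← zpow_zero a] at h3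
        obtain ⟨c, hc⟩ := dvd_of_zpow_eq_zpow hD.ord h3
        push_cast at hc
        have : 4 * (i - 2 ^ (n + 1) * i + j - 2 ^ (n + 1) * c) = -2 := by linear_combination hc
        omega)
  rw [htφ] at key
  refine haN ?_
  convert mul_mem (ev (j + 1 - 2 ^ n)) (mul_mem key (ev' 0)) using 1
  rw [show 2 * (j + 1 - 2 ^ n) = 1 - i₀ by simp only [i₀]; ring]
  simp [mul_assoc, h2, zpow_sub]

end Cfsg.Agent.Z4
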