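import Mathlib
import Cfsg.Agent.Isaacs.Z4b

/-! An involution acting with cyclic fixed points of order four: abelian subgroup of index two. -/

set_option autoImplicit false

namespace Cfsg.Agent.Z4

open Subgroup Cfsg.Agent.PGrp Cfsg.Agent.Core Cfsg.Agent.Rel4
open scoped commutatorElement Pointwise

variable {G : Type*} [Group G]

theorem mem_sup_two {N : Subgroup G} {ρ x : G} (h : ρ ∈ normalizer (N : Set G)) (h2 : ρ * ρ ∈ N)
    (hx : x ∈ N ⊔ zpowers ρ) : x ∈ N ∨ x * ρ⁻¹ ∈ N := by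
  obtain ⟨n, hn, k, rfl⟩ := (mem_sup_zpowers h).mp hx
  rw [← pow_two] at h2
  rcases Int.even_or_odd' k with ⟨k, rfl | rfl⟩
  · exact .inl (mul_mem hn (by simpa [zpow_mul] using zpow_mem h2 k))
  · exact .inr (by simpa [zpow_add, zpow_mul, mul_assoc] using mul_mem hn (zpow_mem h2 k))

theorem dvd_odd {k : ℕ} {j x : ℤ} (h : (2 : ℤ) ^ k ∣ (2 * j + 1) * x) : (2 : ℤ) ^ k ∣ x :=
  (IsCoprime.pow_left (⟨-j, 1, by ring⟩ : IsCoprime (2 : ℤ) (2 * j + 1))).dvd_of_dvd_mul_left h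

structure Hyp2 (A : Subgroup G) (S : Sylow 2 G) (t y u : G) : Prop extends Hyp A S t y where
  uS : u ∈ (S : Subgroup G)
  uA : u ∈ A
  uu : u * u = 1
  u1 : u ≠ 1
  uz : u ≠ y * y
  zc : ∀ g ∈ (S : Subgroup G), g * (y * y) = y * y * g
  uc : ∀ g ∈ (S : Subgroup G), g * u * g⁻¹ = u ∨ g * u * g⁻¹ = u * (y * y)

variable {A : Subgroup G} {S : Sylow 2 G} {t y u : G}

theorem Hyp2.tu (h : Hyp2 A S t y u) : t * u * t⁻¹ = u * (y * y) :=
  (h.uc t h.tS).resolve_left fun e => h.uz (h.inv h.uS h.uA (mul_inv_eq_iff_eq_mul.mp e) h.uu h.u1)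

theorem Hyp.syl [Finite G] (h : Hyp A S t y) : IsSylowOf 2 ((S : Subgroup G) ⊓ A) A :=
  have := h.nA
  have : Fact (Nat.Prime 2) := ⟨Nat.prime_two⟩
  isSylowOf_sylow_inf_normal S A

theorem Hyp2.fuse [Finite G] (h : Hyp2 A S t y u) {N : Subgroup G}
    (hN : ∀ a ∈ (S : Subgroup G) ⊓ A, ∀ b ∈ (S : Subgroup G) ⊓ A, a * b * a⁻¹ * b⁻¹ ∈ N)
    (h1 : ∀ x ∈ N, x * x = 1 → x = 1 ∨ x = y * y)
    (h2 : ∀ x ∈ (S : Subgroup G) ⊓ A, x * x = 1 → x ∈ N ∨ u⁻¹ * x ∈ N) : ∃ g ∈ A, g * u * g⁻¹ = y * y := by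
  obtain ⟨g, hg, h3, h4⟩ := tta h.perf h.syl hN h.uA h.uu ⟨h.uS, h.uA⟩ (h.uu ▸ one_mem _)
    fun e => (h1 u e h.uu).elim h.u1 h.uz
  exact ⟨g, hg, (h1 _ ((h2 _ h3 (conj_sq h.uu g)).resolve_right h4) (conj_sq h.uu g)).resolve_left (conj_ne_one h.u1 g)⟩

theorem Hyp2.kill [Finite G] (h : Hyp2 A S t y u) {N : Subgroup G} (hyu : Commute y u)
    (hN : ∀ a ∈ (S : Subgroup G) ⊓ A, a * a ∈ N) (h1 : ∀ x ∈ N, x * x = 1 → x = 1 ∨ x = y * y)
    (h2 : ∀ x ∈ (S : Subgroup G) ⊓ A, x * x = 1 → x ∈ N ∨ u⁻¹ * x ∈ N) : False := by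
  obtain ⟨g, hg, e⟩ := h.fuse (comm_of_sq hN) h1 h2
  exact nr h.syl (fun x hx => h.zc x hx.1) h.zz h.z1 hg e h.uz h.yA hyu (j := 1) (by simp [pow_two])
    fun x hx => h1 _ (by simpa [pow_two] using hN x hx)

theorem Hyp2.fin [Finite G] (h : Hyp2 A S t y u) (hyu : Commute y u) {b r : G} {k : ℕ} (hb : orderOf b = 2 ^ (k + 2))
    (hbT : b ∈ (S : Subgroup G) ⊓ A) (hrT : r ∈ (S : Subgroup G) ⊓ A) (htb : t * b * t⁻¹ = b ^ (-1 : ℤ)) (hbu : Commute b u)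
    (hz : y * y ∈ zpowers b) (htr : t * r * t⁻¹ = b * r)
    (hT : ∀ x ∈ (S : Subgroup G) ⊓ A, ∃ i : ℤ, x = b ^ i ∨ x = b ^ i * u ∨ x = b ^ i * r ∨ x = b ^ i * (u * r))
    (hr2 : ∃ i : ℤ, r * r = b ^ i ∨ r * r = b ^ i * u) (hrB : ∀ i : ℤ, r ≠ b ^ i ∧ r ≠ b ^ i * u)
    (hrc : Commute r b → ¬ Commute r u) : False := by
  have hzb : y * y = b ^ (2 ^ (k + 1) : ℤ) := by
    exact_mod_cast (eq_one_or_eq_of_sq_eq_one hb hz (by rw [pow_two, h.zz])).resolve_left h.z1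
  have h1 : ∀ x ∈ zpowers b, x * x = 1 → x = 1 ∨ x = y * y := fun x hx e => by
    rw [hzb]; exact_mod_cast eq_one_or_eq_of_sq_eq_one hb hx (by rwa [pow_two])
  have huN : u ∉ zpowers b := fun e => (h1 u e h.uu).elim h.u1 h.uz
  have hui : u⁻¹ = u := inv_eq_of_mul_eq_one_right h.uu
  have cu : ∀ i : ℤ, u * b ^ i = b ^ i * u := fun i => (hbu.zpow_left i).eq.symm
  have squ : ∀ i : ℤ, b ^ i * u * (b ^ i * u) = b ^ (2 * i) := fun i => by
    rw [mul_assoc, ← mul_assoc u, cu, mul_assoc, h.uu]; group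
  obtain ⟨d, hd⟩ : ∃ d : ℤ, r * u * r⁻¹ = b ^ (2 ^ (k + 1) * d) * u := by
    rcases h.uc r hrT.1 with e | e
    · exact ⟨0, by simpa using e⟩
    · exact ⟨1, by rw [e, hzb, cu, mul_one]⟩
  have e0 : r * b * r⁻¹ = b⁻¹ * (t * (r * r) * t⁻¹) * (r * r)⁻¹ := by
    calc _ = b⁻¹ * (b * r * (b * r)) * (r * r)⁻¹ := by group
      _ = _ := by rw [← htr]; group
  have sqr : ∀ {l : ℤ}, r * b * r⁻¹ = b ^ l → ∀ i : ℤ, b ^ i * r * (b ^ i * r) = b ^ (i + l * i) * (r * r) ∧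
      b ^ i * (u * r) * (b ^ i * (u * r)) = b ^ (i + l * i + 2 ^ (k + 1) * d) * (r * r) := fun {l} hl i => by
    refine ⟨by rw [← pow_two, zpow_mul_sq_of_conj_eq hl, pow_two], ?_⟩
    calc _ = b ^ i * (u * (r * b ^ i * r⁻¹ * (r * u * r⁻¹))) * (r * r) := by group
      _ = _ := by rw [conj_zpow_of_conj_eq hl, hd, ← mul_assoc (b ^ (l * i)), ← zpow_add, ← mul_assoc u, cu, mul_assoc _ u u, h.uu]; group
  have nz : ∀ {l : ℤ} {ρ : G}, ρ * b * ρ⁻¹ = b ^ l → ρ ∈ normalizer ((zpowers b : Subgroup G) : Set G) := fun hl =>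
    mem_normalizer_of_conj_mem fun x hx => by
      obtain ⟨i, rfl⟩ := mem_zpowers_iff.mp hx
      exact conj_zpow_of_conj_eq hl i ▸ zpow_mem_zpowers _ _
  have zc := fun x (hx : x ∈ (S : Subgroup G) ⊓ A) => h.zc x hx.1
  obtain ⟨i, hi | hi⟩ := hr2
  swap
  · have hl : r * b * r⁻¹ = b ^ (-1 - 2 * i + 2 ^ (k + 1)) := by
      calc _ = b⁻¹ * (t * b ^ i * t⁻¹ * (t * u * t⁻¹)) * (b ^ i * u)⁻¹ := by rw [e0, hi]; group
        _ = _ := by rw [conj_zpow_of_conj_eq htb, h.tu, hzb, cu]; group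
    have sq : ∀ x ∈ (S : Subgroup G) ⊓ A, (x ∈ zpowers b ∨ u⁻¹ * x ∈ zpowers b) ∧ x * x ∈ zpowers b ∨
        ∃ m : ℤ, x * x = b ^ (2 * m + i) * u := fun x hx => by
      obtain ⟨j, rfl | rfl | rfl | rfl⟩ := hT x hx
      · exact .inl ⟨.inl (zpow_mem_zpowers _ _), mul_mem (zpow_mem_zpowers _ _) (zpow_mem_zpowers _ _)⟩
      · exact .inl ⟨.inr (by rw [← cu]; simp), squ j ▸ zpow_mem_zpowers _ _⟩
      · exact .inr ⟨(2 ^ k - i) * j, by rw [(sqr hl j).1, hi, ← mul_assoc, ← zpow_add]; congr 2; ring⟩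
      · exact .inr ⟨(2 ^ k - i) * j + 2 ^ k * d, by rw [(sqr hl j).2, hi, ← mul_assoc, ← zpow_add]; congr 2; ring⟩
    have hc : ∀ x ∈ (S : Subgroup G) ⊓ A, ∃ n ∈ zpowers b, ∃ m : ℤ, x = n * r ^ m := fun x hx => by
      have e : u = b ^ (-i) * r ^ (2 : ℤ) := by rw [zpow_two, hi]; group
      obtain ⟨j, rfl | rfl | rfl | rfl⟩ := hT x hx
      · exact ⟨_, zpow_mem_zpowers b j, 0, by simp⟩
      · exact ⟨_, zpow_mem_zpowers b (j - i), 2, by rw [e]; group⟩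
      · exact ⟨_, zpow_mem_zpowers b j, 1, by simp⟩
      · exact ⟨_, zpow_mem_zpowers b (j - i), 3, by rw [e]; group⟩
    obtain ⟨g, hg, e⟩ := h.fuse (N := zpowers b) (fun x hx x' hx' => by
      obtain ⟨n, hn, m, rfl⟩ := hc x hx
      obtain ⟨n', hn', m', rfl⟩ := hc x' hx'
      convert mul_mem (mul_mem (mul_mem hn (conj_mem_of_mem_normalizer (zpow_mem (nz hl) m) hn'))
        (conj_mem_of_mem_normalizer (zpow_mem (nz hl) m') (inv_mem hn))) (inv_mem hn') using 1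
      group) h1 fun x hx e => (sq x hx).elim And.left fun ⟨m, hm⟩ => absurd
        ((mul_mem_cancel_left (zpow_mem_zpowers b _)).mp (hm ▸ e ▸ one_mem _)) huN
    rcases Int.even_or_odd' i with ⟨i, rfl | rfl⟩
    · obtain ⟨k, rfl⟩ : ∃ m, k = m + 1 := by
        rcases k with _ | k
        · have h3 : Commute r b := mul_inv_eq_iff_eq_mul.mp (by
            rw [hl, ← zpow_one b, ← zpow_mul]
            exact zpow_eq_zpow_of_dvd hb ⟨i, by push_cast; ring⟩)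
          refine absurd ?_ (hrc h3)
          have h4 : u = b ^ (-(2 * i)) * (r * r) := by rw [hi]; group
          exact h4 ▸ (h3.zpow_right _).mul_right ((Commute.refl r).mul_right (Commute.refl r))
        · exact ⟨k, rfl⟩
      refine nr h.syl zc h.zz h.z1 hg e h.uz (φ := b ^ 2 ^ k) (pow_mem hbT.2 _) (hbu.pow_left _) (j := 2)
        (by rw [hzb, ← pow_mul, ← pow_add]; norm_cast) fun x hx => h1 _ ?_
      rw [show x ^ 2 ^ 2 = x * x * (x * x) by simp [pow_succ, mul_assoc]]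
      rcases sq x hx with ⟨-, h3⟩ | ⟨m, hm⟩
      · exact mul_mem h3 h3
      · rw [hm, squ]; exact zpow_mem_zpowers _ _
    · refine nr h.syl zc h.zz h.z1 hg e h.uz h.yA hyu (j := 1) (by simp [pow_two]) fun x hx => ?_
      rw [pow_one, pow_two]
      rcases sq x hx with ⟨-, h3⟩ | ⟨m, hm⟩
      · exact h1 _ h3
      · intro h3
        rw [hm, squ, ← zpow_zero b] at h3
        obtain ⟨c, hc⟩ := dvd_of_zpow_eq_zpow hb h3
        push_cast at hc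
        have : 4 * (m + i + 2 ^ k * c) = -2 := by linear_combination -hc
        omega
  have hl : r * b * r⁻¹ = b ^ (-1 - 2 * i) := by rw [e0, hi, conj_zpow_of_conj_eq htb]; group
  have hl' : u * r * b * (u * r)⁻¹ = b ^ (-1 - 2 * i) := by
    calc _ = u * (r * b * r⁻¹) * u⁻¹ := by group
      _ = _ := by rw [hl, cu]; group
  have sq : ∀ x ∈ (S : Subgroup G) ⊓ A, x * x ∈ zpowers b := fun x hx => by
    obtain ⟨j, rfl | rfl | rfl | rfl⟩ := hT x hx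
    · exact mul_mem (zpow_mem_zpowers _ _) (zpow_mem_zpowers _ _)
    · exact squ j ▸ zpow_mem_zpowers _ _
    · rw [(sqr hl j).1, hi]; exact mul_mem (zpow_mem_zpowers _ _) (zpow_mem_zpowers _ _)
    · rw [(sqr hl j).2, hi]; exact mul_mem (zpow_mem_zpowers _ _) (zpow_mem_zpowers _ _)
  have nz1 : ∀ s, Commute y s → s ≠ y * y → ∀ g ∈ A, g * s * g⁻¹ ≠ y * y := fun s hc hs g hg e =>
    nr h.syl zc h.zz h.z1 hg e hs h.yA hc (j := 1) (by simp [pow_two]) fun x hx => h1 _ (by simpa [pow_two] using sq x hx)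
  have zA : ∀ s, Commute y s → s ≠ y * y → ∀ g, g * s * g⁻¹ ≠ y * y := fun s hc hs g e => by
    by_cases hg : g ∈ A
    · exact nz1 s hc hs g hg e
    · refine nz1 s hc hs _ (h.two g hg) ?_
      calc _ = t * (g * s * g⁻¹) * t⁻¹ := by group
        _ = _ := by rw [e, h.zc t h.tS]; group
  have key : ∀ ρ ∈ (S : Subgroup G) ⊓ A, ρ * b * ρ⁻¹ = b ^ (-1 - 2 * i) → (∀ j : ℤ, u * ρ⁻¹ ≠ b ^ j) →
      (∀ x ∈ (S : Subgroup G) ⊓ A, ∃ i : ℤ, x = b ^ i ∨ x = b ^ i * u ∨ x = b ^ i * ρ ∨ x = b ^ i * (u * ρ)) →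
      ∃ g ∈ A, ∃ j : ℤ, g * u * g⁻¹ = b ^ j * ρ := fun ρ hρ hl hρB hT => by
    obtain ⟨g, hg, h3, h4⟩ := tta h.perf h.syl (N := zpowers b ⊔ zpowers ρ)
      (comm_of_sq fun x hx => mem_sup_left (sq x hx)) h.uA h.uu ⟨h.uS, h.uA⟩ (h.uu ▸ one_mem _) fun e =>
        (mem_sup_two (nz hl) (sq ρ hρ) e).elim huN fun ⟨j, hj⟩ => hρB j hj.symm
    obtain ⟨j, e | e | e | e⟩ := hT _ h3
    · exact ((h1 _ (e ▸ zpow_mem_zpowers b j) (conj_sq h.uu g)).elim (conj_ne_one h.u1 g) (zA u hyu h.uz g)).elim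
    · exact absurd (by rw [e, ← cu]; simpa using mem_sup_left (zpow_mem_zpowers b j)) h4
    · exact ⟨g, hg, j, e⟩
    · refine absurd ?_ h4
      rw [e, ← mul_assoc (b ^ j), ← cu]
      simpa [mul_assoc] using mul_mem (mem_sup_left (zpow_mem_zpowers b j)) (mem_sup_right (mem_zpowers ρ))
  obtain ⟨g₁, hg₁, j₁, e₁⟩ := key r hrT hl (fun j e => (hrB (-j)).2 (by rw [zpow_neg, ← e]; group)) hT
  obtain ⟨g₂, -, j₂, e₂⟩ := key (u * r) (mul_mem ⟨h.uS, h.uA⟩ hrT) hl'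
    (fun j e => (hrB (-j)).1 (by
      calc r = u⁻¹ * (u * (u * r)⁻¹)⁻¹ * u := by group
        _ = _ := by rw [e, ← zpow_neg, mul_assoc, ← cu]; group))
    fun x hx => (hT x hx).imp fun j => Or.imp_right (Or.imp_right fun e => by
      rwa [← mul_assoc u u, h.uu, one_mul, or_comm])
  have h3 := conj_sq h.uu g₁
  have h4 := conj_sq h3 t
  rw [e₁, show t * (b ^ j₁ * r) * t⁻¹ = b ^ (1 - j₁) * r by
    calc _ = t * b ^ j₁ * t⁻¹ * (t * r * t⁻¹) := by group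
      _ = _ := by rw [conj_zpow_of_conj_eq htb, htr]; group, (sqr hl _).1] at h4
  rw [e₁, (sqr hl _).1] at h3
  have hinv : r * b * r⁻¹ = b ^ (-1 : ℤ) := by
    have := dvd_of_zpow_eq_zpow hb (mul_right_cancel (h3.trans h4.symm))
    push_cast at this
    rw [show 1 - j₁ + (-1 - 2 * i) * (1 - j₁) - (j₁ + (-1 - 2 * i) * j₁) = (2 * (j₁ - 1) + 1) * (-1 - (-1 - 2 * i)) by ring] at this
    exact hl.trans (zpow_eq_zpow_of_dvd hb (by exact_mod_cast dvd_odd this))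
  have hrr : r * r = 1 := by
    have := conj_sq h.uu g₁
    rw [e₁, (sqr hinv _).1] at this
    simpa using this
  have hru : r * u * r⁻¹ = u := by
    have := conj_sq h.uu g₂
    rw [e₂, (sqr hinv _).2, hrr] at this
    rw [hd, show b ^ (2 ^ (k + 1) * d) = 1 by simpa using this, one_mul]
  have hur : u * r = r * u := (mul_inv_eq_iff_eq_mul.mp hru).symm
  have cb : ∀ (m j : ℤ) (v : G), Commute b v → b ^ m * (b ^ j * (v * r)) * (b ^ m)⁻¹ = b ^ (j + 2 * m) * (v * r) :=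
    fun m j v hv => by
      calc _ = b ^ m * b ^ j * (v * (r * b ^ (-m) * r⁻¹)) * r := by group
        _ = _ := by rw [conj_zpow_of_conj_eq hinv, ← (hv.zpow_left _).eq]; group
  have cj : ∀ v : G, Commute b v → ∀ c : ℤ, t * v * t⁻¹ = b ^ (2 * c) * v → ∀ j : ℤ, IsConj (v * r) (b ^ j * (v * r)) :=
    fun v hv c hc j => by
      rcases Int.even_or_odd' j with ⟨j, rfl | rfl⟩
      · exact isConj_iff.mpr ⟨b ^ j, by simpa using cb j 0 v hv⟩
      · refine isConj_iff.mpr ⟨b ^ (j - c) * t, ?_⟩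
        calc _ = b ^ (j - c) * (t * v * t⁻¹ * (t * r * t⁻¹)) * (b ^ (j - c))⁻¹ := by group
          _ = b ^ (j - c) * (b ^ (2 * c + 1) * (v * r)) * (b ^ (j - c))⁻¹ := by
            rw [hc, htr, mul_assoc _ v, ← mul_assoc v, ← hv.eq]; group
          _ = _ := by rw [cb _ _ v hv]; congr 2; ring
  have cj1 := cj 1 (Commute.one_right b) 0 (by simp)
  have cj2 := cj u hbu (2 ^ k) (by rw [h.tu, hzb, cu]; congr 2; ring)
  simp only [one_mul] at cj1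
  have invB : ∀ j : ℤ, b ^ j * u * (b ^ j * u) = 1 → b ^ j * u = u ∨ b ^ j * u = u * (y * y) := fun j e => by
    rw [squ, two_mul, zpow_add] at e
    rcases h1 _ (zpow_mem_zpowers b j) e with e | e <;> rw [e]
    · exact .inl (one_mul _)
    · exact .inr (h.zc u h.uS).symm
  have hyz : Commute y (u * (y * y)) := hyu.mul_right ((Commute.refl y).mul_right (Commute.refl y))
  have huz : u * (y * y) ≠ y * y := by simpa using h.u1
  have iso : ∀ g : G, g * (y * y) * g⁻¹ ∈ (S : Subgroup G) ⊓ A → g * (y * y) * g⁻¹ = y * y := fun g hg => by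
    have h5 := conj_sq h.zz g
    have h6 : ∀ s, Commute y s → s ≠ y * y → ¬ IsConj s (g * (y * y) * g⁻¹) := fun s hc hs e => by
      obtain ⟨c, hc'⟩ := isConj_iff.mp e
      exact zA s hc hs (g⁻¹ * c) (by rw [mul_inv_rev, ← mul_assoc, mul_assoc g⁻¹, mul_assoc g⁻¹, hc']; group)
    obtain ⟨j, e | e | e | e⟩ := hT _ hg
    · exact (h1 _ (e ▸ zpow_mem_zpowers b j) h5).resolve_left (conj_ne_one h.z1 g)
    · rcases invB j (e ▸ h5) with e' | e'
      · exact (h6 _ hyu h.uz (by rw [e, e'])).elim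
      · exact (h6 _ hyz huz (by rw [e, e'])).elim
    · exact (h6 _ hyu h.uz (e ▸ (isConj_iff.mpr ⟨g₁, e₁⟩).trans ((cj1 j₁).symm.trans (cj1 j)))).elim
    · exact (h6 _ hyu h.uz (e ▸ (isConj_iff.mpr ⟨g₂, e₂⟩).trans ((cj2 j₂).symm.trans (cj2 j)))).elim
  have ucen : ∀ x ∈ (S : Subgroup G) ⊓ A, x * u = u * x := fun x hx => by
    have hr : Commute r u := hur.symm
    obtain ⟨j, rfl | rfl | rfl | rfl⟩ := hT x hx
    · exact (hbu.zpow_left j).eq
    · exact ((hbu.zpow_left j).mul_left (Commute.refl u)).eq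
    · exact ((hbu.zpow_left j).mul_left hr).eq
    · exact ((hbu.zpow_left j).mul_left ((Commute.refl u).mul_left hr)).eq
  have hsT : b ^ j₁ * r ∈ (S : Subgroup G) ⊓ A := mul_mem (zpow_mem hbT _) hrT
  obtain ⟨p, hp, e₃, e₄⟩ := ext h.syl ucen (inv_mem hg₁) (s := b ^ j₁ * r) (by rw [← e₁]; group)
    (P := (S : Subgroup G) ⊓ A ⊓ centralizer {b ^ j₁ * r}) (S.isPGroup'.to_le (inf_le_left.trans inf_le_left))
    (inf_le_left.trans inf_le_right) fun x hx => mem_centralizer_singleton_iff.mp hx.2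
  have e₅ := iso p (e₄ _ ⟨mul_mem ⟨h.yS, h.yA⟩ ⟨h.yS, h.yA⟩, mem_centralizer_singleton_iff.mpr (zc _ hsT).symm⟩)
  have h7 := conj_sq h.uu p
  have fin : ∀ (j : ℤ) (v : G), Commute b v → p * u * p⁻¹ ≠ b ^ j * (v * r) := fun j v hv e => by
    have h8 := cb (2 ^ k) j v hv
    rw [zpow_add, show 2 * 2 ^ k = (2 : ℤ) ^ (k + 1) by ring, ← hzb, zc _ (zpow_mem hbT _), mul_assoc (y * y), ← e] at h8
    refine swap h.syl zc ucen h.zz h.z1 (h := p⁻¹ * b ^ (2 ^ k : ℤ) * p)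
      (mul_mem (mul_mem (inv_mem hp) (A.zpow_mem hbT.2 _)) hp) ?_ ?_
    · calc _ = p⁻¹ * (b ^ (2 ^ k : ℤ) * (p * (y * y) * p⁻¹) * (b ^ (2 ^ k : ℤ))⁻¹) * p := by group
        _ = p⁻¹ * (p * (y * y) * p⁻¹) * p := by rw [e₅, zc _ (zpow_mem hbT _)]; group
        _ = _ := by group
    · calc _ = p⁻¹ * (b ^ (2 ^ k : ℤ) * (p * u * p⁻¹) * (b ^ (2 ^ k : ℤ))⁻¹) * p := by group
        _ = p⁻¹ * (p * (y * y) * p⁻¹ * (p * u * p⁻¹)) * p := by rw [h8, e₅]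
        _ = y * y * u := by group
        _ = _ := (h.zc u h.uS).symm
  obtain ⟨j, e | e | e | e⟩ := hT _ (e₄ u ⟨⟨h.uS, h.uA⟩, mem_centralizer_singleton_iff.mpr (ucen _ hsT).symm⟩)
  · exact (h1 _ (e ▸ zpow_mem_zpowers b j) h7).elim (conj_ne_one h.u1 p) (zA u hyu h.uz p)
  · rcases invB j (e ▸ h7) with e' | e'
    · exact conj_ne (fun e' => (hrB (-j₁)).2 (by rw [e']; group)) p (e.trans (e'.trans e₃.symm))
    · refine conj_ne (u := u * (y * y)) (fun e' => (hrB (-j₁ + 2 ^ (k + 1))).2 ?_) p (Eq.trans ?_ e₃.symm)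
      · rw [zpow_add, ← hzb, mul_assoc, ← h.zc u h.uS, e']; group
      · calc _ = p * u * p⁻¹ * (p * (y * y) * p⁻¹) := by group
          _ = u := by rw [e, e', e₅, mul_assoc, h.zz, mul_one]
  · exact fin j 1 (Commute.one_right b) (by simpa using e)
  · exact fin j u hbu e

end Cfsg.Agent.Z4
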