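import Mathlib
import Cfsg.Agent.Isaacs.Z4c
import Cfsg.Agent.Inv.Homoc2
import Cfsg.Agent.Inv.Tri4
import Cfsg.Agent.S0205

/-! An involution acting with cyclic fixed points of order four: the case with a normal four-group. -/

set_option autoImplicit false

namespace Cfsg.Agent.Z4

open Subgroup Cfsg.Agent.PGrp Cfsg.Agent.Core Cfsg.Agent.Rel4
open scoped commutatorElement Pointwise

variable {G : Type*} [Group G]

theorem triv (h : commutator G = ⊤) {Q : Type*} [Group Q] (hQ : Group.IsSolvable Q) (f : G →* Q) : f.ker = ⊤ := by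
  rw [MonoidHom.ker_eq_top_iff, ← MonoidHom.range_eq_bot_iff]
  by_contra e
  refine (Group.IsSolvable.commutator_lt_of_ne_bot e).ne ?_
  rw [MonoidHom.range_eq_map, ← map_commutator, ← commutator_def, h]

variable {A : Subgroup G} {S : Sylow 2 G} {t y u : G} [Finite G]

theorem Hyp.homo (h : Hyp A S t y) {c : G} (hc : orderOf c = 2 ^ 2) (hcy : Commute c y) (hd : zpowers c ⊓ zpowers y = ⊥) :
    zpowers c ⊔ zpowers y ≠ (S : Subgroup G) ⊓ A := fun hT => by
  have : Fact (Nat.Prime 2) := ⟨Nat.prime_two⟩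
  obtain ⟨e⟩ := Inv.nonempty_equiv_homocyclic hc h.y4 hcy hd
  let P := h.syl.toSylow
  have e' : (P : Subgroup A) ≃* _ := ((subgroupOfEquivOfLe inf_le_right).trans (MulEquiv.subgroupCongr hT.symm)).trans e
  obtain ⟨h1, h2⟩ := Inv.homoc_facts e'
  rcases Inv.relIndex_cz_cases P h1 h2 with h3 | h3
  · have h4 := MonoidHom.not_dvd_card_ker_transferSylow P (relIndex_eq_one.1 h3)
    have := P.isPGroup'.isNilpotent
    rw [triv h.perf inferInstance, card_top] at h4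
    exact h4 ((h.y4 ▸ dvd_pow_self 2 (by norm_num)).trans (orderOf_dvd_natCard A h.yA))
  · obtain ⟨K, hK, h4, h5⟩ := Inv.exists_normal_of_homoc P le_rfl e' h3
    refine h4 ?_
    rw [← QuotientGroup.ker_mk' K]
    exact triv h.perf (S0205.result (Nat.odd_iff.mpr (Nat.two_dvd_ne_zero.mp fun e =>
      P.not_dvd_index (e.trans (index_dvd_of_le h5))))) _

theorem Hyp2.false (h : Hyp2 A S t y u) : False := by
  have : Fact (Nat.Prime 2) := ⟨Nat.prime_two⟩
  have hAn := h.nA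
  have hS := S.isPGroup'
  have hui : u⁻¹ = u := inv_eq_of_mul_eq_one_right h.uu
  have hzu : Commute (y * y) u := (h.zc u h.uS).symm
  have hyT : y ∈ (S : Subgroup G) ⊓ A := ⟨h.yS, h.yA⟩
  have huT : u ∈ (S : Subgroup G) ⊓ A := ⟨h.uS, h.uA⟩
  have cT : ∀ g ∈ (S : Subgroup G), ∀ x ∈ (S : Subgroup G) ⊓ A, g * x * g⁻¹ ∈ (S : Subgroup G) ⊓ A := fun g hg x hx =>
    mem_inf.mpr ⟨mul_mem (mul_mem hg hx.1) (inv_mem hg), hAn.conj_mem _ hx.2 g⟩
  have nT : (S : Subgroup G) ≤ normalizer (((S : Subgroup G) ⊓ A :) : Set G) := fun g hg =>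
    mem_normalizer_of_conj_mem (cT g hg)
  have cz : ∀ g ∈ (S : Subgroup G), g * (y * y) * g⁻¹ = y * y := fun g hg => mul_inv_eq_iff_eq_mul.mpr (h.zc g hg)
  have h4 := Inv.isKleinFour_closure (Inv.two_of_mul_self h.z1 h.zz) (Inv.two_of_mul_self h.u1 h.uu) hzu h.uz.symm
  obtain ⟨B, hEB, hBT, hSB, hBc, hCB⟩ := exists_self_centralizing_ge (P := S) (S := (S : Subgroup G) ⊓ A)
    (E := closure {y * y, u}) hS.isNilpotent inf_le_left nT
    ((closure_le _).mpr (Set.insert_subset (mul_mem hyT hyT) (Set.singleton_subset_iff.mpr huT)))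
    (fun g hg => mem_normalizer_of_conj_mem fun x hx => by
      have h1 : y * y ∈ closure {y * y, u} := subset_closure (by simp)
      have h2 : u ∈ closure {y * y, u} := subset_closure (by simp)
      have h3 : g * u * g⁻¹ ∈ closure {y * y, u} := by
        rcases h.uc g hg with e | e <;> rw [e]
        exacts [h2, mul_mem h2 h1]
      rcases (Inv.mem_closure_commute_iff h.zz h.uu hzu).mp hx with rfl | rfl | rfl | rfl
      · simp
      · rwa [cz g hg]
      · exact h3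
      · rw [← conj_mul, cz g hg]; exact mul_mem h1 h3) IsKleinFour.isMulCommutative
  have hzB : y * y ∈ B := hEB (subset_closure (by simp))
  have huB : u ∈ B := hEB (subset_closure (by simp))
  have cB : ∀ {a b}, a ∈ B → b ∈ B → Commute a b := fun ha hb => congrArg Subtype.val (hBc.1.1 ⟨_, ha⟩ ⟨_, hb⟩)
  have sB : ∀ x ∈ (S : Subgroup G) ⊓ A, (∀ b ∈ B, Commute b x) → x ∈ B := fun x hx e => hCB ▸ ⟨hx, e⟩
  have tB : ∀ {x}, x ∈ B → t * x * t⁻¹ ∈ B := conj_mem_of_mem_normalizer (hSB h.tS)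
  have tt : ∀ x, t * (t * x * t⁻¹) * t⁻¹ = x := fun x => by
    calc _ = (t * t) * x * (t * t)⁻¹ := by group
      _ = x := by rw [h.tt]; group
  have td : ∀ x, t * (t * x * t⁻¹ * x⁻¹) * t⁻¹ = (t * x * t⁻¹ * x⁻¹)⁻¹ := fun x => by
    calc _ = t * (t * x * t⁻¹) * t⁻¹ * (t * x * t⁻¹)⁻¹ := by group
      _ = _ := by rw [tt]; group
  have cen : ∀ x ∈ (S : Subgroup G) ⊓ A, t * x * t⁻¹ = x → x ∈ zpowers y := fun x hx e =>
    h.cen x hx.1 hx.2 (mul_inv_eq_iff_eq_mul.mp e)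
  have hy1 : ∀ x ∈ zpowers y, x * x = 1 → x = 1 ∨ x = y * y := fun x hx e => by
    simpa [pow_two] using eq_one_or_eq_of_sq_eq_one h.y4 hx (by rwa [pow_two])
  let I : Subgroup G :=
    { carrier := {x | x ∈ B ∧ t * x * t⁻¹ = x⁻¹}
      one_mem' := by simp
      mul_mem' := fun {a b} ha hb => ⟨mul_mem ha.1 hb.1, by
        rw [← conj_mul, ha.2, hb.2, ← mul_inv_rev, (cB ha.1 hb.1).eq]⟩
      inv_mem' := fun {a} ha => ⟨inv_mem ha.1, by rw [← conj_inv, ha.2]⟩ }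
  have hIB : I ≤ B := fun _ h => h.1
  have invI : ∀ x ∈ I, x * x = 1 → x ≠ 1 → x = y * y := fun x hx e e' => h.inv (hBT hx.1).1 (hBT hx.1).2
    (mul_inv_eq_iff_eq_mul.mp (hx.2.trans (inv_eq_of_mul_eq_one_right e))) e e'
  obtain ⟨b, hb⟩ := exists_zpowers_eq_of_isCyclic (C := I) (by
    by_contra hc
    obtain ⟨V, h1, h2, -⟩ := Inv.exists_normal_four_of_comm (hS.to_le (hIB.trans (hBT.trans inf_le_left))) le_rfl
      le_normalizer ⟨⟨fun a b => Subtype.ext (cB a.2.1 b.2.1)⟩⟩ hc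
    obtain ⟨x, hx, x', hx', h3, h4, h5⟩ := Inv.four_exists_pair h2
    exact h5 ((invI x (h1 hx) (Inv.four_mul_self h2 hx) h3).trans (invI x' (h1 hx') (Inv.four_mul_self h2 hx') h4).symm))
  have dI : ∀ x, t * x * t⁻¹ * x⁻¹ ∈ B → t * x * t⁻¹ * x⁻¹ ∈ zpowers b := fun x hx => hb ▸ ⟨hx, td x⟩
  have hzI : y * y ∈ zpowers b := hb ▸ ⟨hzB, (cz t h.tS).trans (inv_eq_of_mul_eq_one_right h.zz).symm⟩
  have hbI : b ∈ I := hb ▸ mem_zpowers b
  have y2 : ∀ i : ℤ, y ^ (2 * i) = (y * y) ^ i := fun i => by rw [zpow_mul, zpow_two]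
  have zi : ∀ i : ℤ, (y * y) ^ i * (y * y) ^ i = 1 := fun i => by rw [← (Commute.refl _).mul_zpow, h.zz, one_zpow]
  have h1 : y ∉ B → ∀ x ∈ B, t * x * t⁻¹ = x → x * x = 1 := fun hyB x hx e => by
    obtain ⟨i, rfl⟩ := mem_zpowers_iff.mp (cen x (hBT hx) e)
    rcases Int.even_or_odd' i with ⟨i, rfl | rfl⟩
    · rw [y2, zi]
    · exact absurd ((mul_mem_cancel_left (zpow_mem hzB i)).mp (by rwa [zpow_add, y2, zpow_one] at hx)) hyB
  have yuI : y ∈ B → y * u ∈ I := fun hy => ⟨mul_mem hy huB, by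
    rw [← conj_mul, mul_inv_eq_iff_eq_mul.mpr h.ty.eq, h.tu, eq_inv_iff_mul_eq_one, ← hzu.eq, mul_assoc, mul_assoc,
      ← mul_assoc u, ← (cB hy huB).eq, mul_assoc y u, h.uu, mul_one, ← mul_assoc, mul_assoc y, h.zz.symm]; group⟩
  have yu2 : y ∈ B → y * u * (y * u) = y * y := fun hy => by
    rw [← pow_two, (cB hy huB).mul_pow, pow_two, pow_two, h.uu, mul_one]
  obtain ⟨m, hm⟩ := exists_orderOf_eq_pow_of_mem hS (hBT hbI.1).1
  rcases m with _ | _ | k
  · rw [pow_zero, orderOf_eq_one_iff] at hm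
    exact h.z1 (by simpa [hm] using hzI)
  · have h2 : ∀ x ∈ I, x * x = 1 := fun x hx => by
      obtain ⟨i, rfl⟩ := mem_zpowers_iff.mp (hb ▸ hx : x ∈ zpowers b)
      have := pow_orderOf_eq_one b
      rw [← (Commute.refl _).mul_zpow, ← pow_two, show 2 = orderOf b from hm.symm, this, one_zpow]
    have hyB : y ∉ B := fun hy => h.z1 ((yu2 hy).symm.trans (h2 _ (yuI hy)))
    have h3 : ∀ x ∈ I, x ∈ zpowers (y * y) := fun x hx => by
      by_cases e : x = 1
      · exact e ▸ one_mem _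
      · exact invI x hx (h2 x hx) e ▸ mem_zpowers _
    have h5 : ∀ x ∈ B, x ∈ zpowers (y * y) ∨ u⁻¹ * x ∈ zpowers (y * y) := fun x hx => by
      have h6 : t * (x * (t * x * t⁻¹)) * t⁻¹ = x * (t * x * t⁻¹) := by rw [← conj_mul, tt, (cB hx (tB hx)).eq]
      rcases hy1 _ (cen _ (hBT (mul_mem hx (tB hx))) h6) (h1 hyB _ (mul_mem hx (tB hx)) h6) with e | e
      · exact .inl (h3 x ⟨hx, eq_inv_of_mul_eq_one_right e⟩)
      · refine .inr (h3 _ ⟨mul_mem (inv_mem huB) hx, eq_inv_of_mul_eq_one_right ?_⟩)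
        rw [hui, ← conj_mul, h.tu, (cB (mul_mem huB hzB) (tB hx)).eq, mul_assoc, ← mul_assoc x, e, ← hzu.eq,
          ← mul_assoc (y * y), h.zz, one_mul, h.uu]
    have h6 : ∀ x ∈ (S : Subgroup G) ⊓ A, x * u * x⁻¹ = u → x ∈ B := fun x hx e => sB x hx fun c hc => by
      have h7 : ∀ c ∈ zpowers (y * y), Commute c x := fun c hc => by
        obtain ⟨i, rfl⟩ := mem_zpowers_iff.mp hc
        exact Commute.zpow_left (h.zc x hx.1).symm i
      rcases h5 c hc with e' | e'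
      · exact h7 c e'
      · simpa using (Commute.symm (mul_inv_eq_iff_eq_mul.mp e)).mul_left (h7 _ e')
    have hyu := (h.uc y h.yS).resolve_left fun e => hyB (h6 y hyT e)
    have hle : zpowers (y * y) ≤ zpowers y := zpowers_le.mpr (mul_mem (mem_zpowers y) (mem_zpowers y))
    have hT : ∀ x ∈ (S : Subgroup G) ⊓ A, x ∈ zpowers y ∨ u⁻¹ * x ∈ zpowers y := fun x hx => by
      rcases h.uc x hx.1 with e | e
      · exact (h5 x (h6 x hx e)).imp (@hle _) (@hle _)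
      · refine (h5 _ (h6 _ (mul_mem hx hyT) ?_)).imp (fun e => (mul_mem_cancel_right (mem_zpowers y)).mp (hle e))
          fun e => (mul_mem_cancel_right (mem_zpowers y)).mp (hle (by rwa [mul_assoc]))
        calc _ = x * (y * u * y⁻¹) * x⁻¹ := by group
          _ = x * u * x⁻¹ * (x * (y * y) * x⁻¹) := by rw [hyu]; group
          _ = u := by rw [e, cz x hx.1, mul_assoc, h.zz, mul_one]
    have hun : u ∈ normalizer ((zpowers y : Subgroup G) : Set G) := mem_normalizer_of_conj_mem fun x hx => by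
      obtain ⟨i, rfl⟩ := mem_zpowers_iff.mp hx
      have : u * y * u⁻¹ = (y * y)⁻¹ * y := by
        calc _ = u * (y * u * y⁻¹)⁻¹ * y := by group
          _ = _ := by rw [hyu, ← hzu.eq]; group
      rw [← conj_zpow, this]
      exact zpow_mem (mul_mem (inv_mem (hle (mem_zpowers _))) (mem_zpowers y)) i
    have sq : ∀ x ∈ (S : Subgroup G) ⊓ A, x * x ∈ zpowers y := fun x hx => by
      rcases hT x hx with e | e
      · exact mul_mem e e
      · convert mul_mem (conj_mem_of_mem_normalizer hun e) e using 1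
        calc x * x = x * (u * u)⁻¹ * x := by rw [h.uu]; group
          _ = _ := by group
    obtain ⟨g, -, e⟩ := h.fuse (comm_of_sq sq) hy1 fun x hx _ => hT x hx
    have h7 : Commute (t * y) u := mul_inv_eq_iff_eq_mul.mp (by
      calc _ = t * (y * u * y⁻¹) * t⁻¹ := by group
        _ = t * u * t⁻¹ * (t * (y * y) * t⁻¹) := by rw [hyu]; group
        _ = u := by rw [h.tu, cz t h.tS, mul_assoc, h.zz, mul_one])
    have h8 : (t * y) ^ 2 = y * y := by rw [h.ty.mul_pow, pow_two, h.tt, one_mul, pow_two]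
    refine nr (isSylowOf_top S) h.zc h.zz h.z1 trivial e h.uz trivial h7 (j := 1) h8 fun x hx => hy1 _ ?_
    by_cases hx' : x ∈ A
    · simpa [pow_two] using sq x ⟨hx, hx'⟩
    · have h9 : (t * y)⁻¹ * x ∈ (S : Subgroup G) ⊓ A := mem_inf.mpr ⟨mul_mem (inv_mem (mul_mem h.tS h.yS)) hx, by
        rw [mul_inv_rev, h.ti, mul_assoc]; exact mul_mem (inv_mem h.yA) (h.two x hx')⟩
      have h10 : ∀ c ∈ zpowers y, Commute (t * y) c := fun c hc => by
        obtain ⟨i, rfl⟩ := mem_zpowers_iff.mp hc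
        exact (h.ty.mul_left (Commute.refl y)).zpow_right i
      have h11 : Commute (t * y) ((t * y)⁻¹ * x) := (hT _ h9).elim (h10 _) fun e => by
        simpa using h7.mul_right (h10 _ e)
      rw [← mul_inv_cancel_left (t * y) x, pow_one, h11.mul_pow, h8, pow_two]
      exact mul_mem (hle (mem_zpowers _)) (sq _ h9)
  have hzb : ∀ b, zpowers b = I → orderOf b = 2 ^ (k + 2) → b ^ 2 ^ (k + 1) = y * y := fun b hb' hm =>
    ((eq_one_or_eq_of_sq_eq_one hm (hb' ▸ hb ▸ hzI) (by rw [pow_two, h.zz])).resolve_left h.z1).symm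
  have hyB : y ∈ B := by
    by_contra hyB
    have h2 : b ^ 2 ^ k * b ^ 2 ^ k = y * y := by rw [← pow_add, ← two_mul, ← pow_succ', hzb b hb hm]
    have h3 := pow_mem hbI (2 ^ k)
    have := h1 hyB _ (mul_mem h3.1 huB) (by
      rw [← conj_mul, h3.2, h.tu, ← hzu.eq, ← h2]; group)
    rw [← pow_two, (cB h3.1 huB).mul_pow, pow_two, pow_two, h.uu, mul_one, h2] at this
    exact h.z1 this
  have hyu := cB hyB huB
  have gen : ∀ v ∈ I, (¬ ∃ v' ∈ I, v = v' * v') → zpowers v = I ∧ orderOf v = 2 ^ (k + 2) := fun v hv e => by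
    obtain ⟨i, rfl⟩ := mem_zpowers_iff.mp (hb ▸ hv : v ∈ zpowers b)
    rcases Int.even_or_odd' i with ⟨i, rfl | rfl⟩
    · exact absurd ⟨_, zpow_mem hbI i, by group⟩ e
    have h2 : zpowers (b ^ (2 * i + 1)) = zpowers b := le_antisymm (zpowers_le.mpr (zpow_mem_zpowers _ _))
      (zpowers_le.mpr (mem_zpowers_zpow_iff.mpr (by
        rw [hm, ← Int.isCoprime_iff_gcd_eq_one]
        exact_mod_cast IsCoprime.pow_right (⟨1, -i, by ring⟩ : IsCoprime (2 * i + 1) (2 : ℤ)))))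
    exact ⟨h2.trans hb, by rw [← Nat.card_zpowers, h2, Nat.card_zpowers, hm]⟩
  have dI' : ∀ x, t * x * t⁻¹ * x⁻¹ ∈ B → t * x * t⁻¹ * x⁻¹ ∈ I := fun x hx => ⟨hx, td x⟩
  have dB : ∀ x ∈ B, t * x * t⁻¹ * x⁻¹ ∈ B := fun x hx => mul_mem (tB hx) (inv_mem hx)
  by_cases hα : ∃ c ∈ B, ¬ ∃ v ∈ I, t * c * t⁻¹ * c⁻¹ = v * v
  · obtain ⟨c, hc, e⟩ := hα
    obtain ⟨h2, h3⟩ := gen _ (dI' c (dB c hc)) e
    have h5 : ∀ x ∈ (S : Subgroup G) ⊓ A, t * x * t⁻¹ * x⁻¹ ∈ B → ∃ n i : ℤ, x = c ^ n * y ^ i := fun x hx e => by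
      obtain ⟨n, hn⟩ := mem_zpowers_iff.mp (h2 ▸ dI' x e : _ ∈ zpowers _)
      obtain ⟨i, hi⟩ := mem_zpowers_iff.mp (cen _ (mul_mem (inv_mem (zpow_mem (hBT hc) n)) hx) (by
        calc _ = ((t * c * t⁻¹) ^ n)⁻¹ * (t * x * t⁻¹ * x⁻¹) * x := by rw [conj_zpow]; group
          _ = _ := by rw [← hn, (cB (tB hc) (inv_mem hc)).mul_zpow]; group))
      exact ⟨n, i, by rw [hi]; group⟩
    have h6 : ∀ x ∈ (S : Subgroup G) ⊓ A, ∃ n i : ℤ, x = c ^ n * y ^ i := fun x hx => h5 x hx (dB x (by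
      by_contra e
      obtain ⟨r, h6, h7, -, h8⟩ := exists_central_mod hS inf_le_left nT hSB fun e' => e (e' hx)
      obtain ⟨n, i, rfl⟩ := h5 r h6 (commutator_symm_mem (h8 t h.tS))
      exact h7 (mul_mem (zpow_mem hc n) (zpow_mem hyB i))))
    have hcy := cB hc hyB
    by_cases hz : y * y ∈ zpowers c
    · obtain ⟨m, hm⟩ := exists_orderOf_eq_pow_of_mem hS (hBT hc).1
      obtain ⟨m, rfl⟩ : ∃ n, m = n + 1 := by
        rcases m with _ | m
        · rw [pow_zero, orderOf_eq_one_iff] at hm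
          exact (h.z1 (by simpa [hm] using hz)).elim
        · exact ⟨m, rfl⟩
      have h7 : ∀ x ∈ zpowers c, x * x = 1 → x = 1 ∨ x = y * y := fun x hx e => by
        rw [(eq_one_or_eq_of_sq_eq_one hm hz (by rw [pow_two, h.zz])).resolve_left h.z1]
        exact eq_one_or_eq_of_sq_eq_one hm hx (by rwa [pow_two])
      have h8 : ∀ n i : ℤ, c ^ n * y ^ (2 * i) ∈ zpowers c := fun n i =>
        mul_mem (zpow_mem_zpowers _ _) (y2 i ▸ zpow_mem hz i)
      refine h.kill (N := zpowers c) hyu (fun x hx => ?_) h7 fun x hx _ => ?_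
      · obtain ⟨n, i, rfl⟩ := h6 x hx
        convert h8 (2 * n) i using 1
        rw [← pow_two, (hcy.zpow_zpow n i).mul_pow]; group
      · obtain ⟨n, i, rfl⟩ := h6 x hx
        obtain ⟨n', i', e⟩ := h6 u huT
        rcases Int.even_or_odd' i with ⟨i, rfl | rfl⟩
        · exact .inl (h8 n i)
        rcases Int.even_or_odd' i' with ⟨i', rfl | rfl⟩
        · exact ((h7 u (e ▸ h8 n' i') h.uu).elim h.u1 h.uz).elim
        · refine .inr ?_
          convert h8 (n - n') (i - i') using 1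
          rw [e, mul_inv_rev, mul_assoc, ← mul_assoc _ (c ^ n), ← zpow_neg, ← zpow_neg, ← zpow_add, ← mul_assoc,
            ← (hcy.zpow_zpow _ _).eq]; group
    · obtain ⟨i, hi⟩ := mem_zpowers_iff.mp (cen _ (hBT (mul_mem hc (tB hc))) (by rw [← conj_mul, tt, (cB hc (tB hc)).eq]))
      have h7 : c ^ 2 * (t * c * t⁻¹ * c⁻¹) = y ^ i := by rw [hi, (cB (tB hc) (inv_mem hc)).eq]; group
      have h8 := hzb _ h2 h3
      have h9 : c ^ 2 ^ (k + 2) * (y * y) = (y * y) ^ (i * 2 ^ k) := by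
        rw [← h8, pow_succ', pow_mul, ← (cB (pow_mem hc 2) (dB c hc)).mul_pow, h7, h8, ← y2, ← zpow_natCast, ← zpow_mul]
        congr 1; push_cast; ring
      rcases hy1 _ (y2 _ ▸ zpow_mem_zpowers y _) (zi (i * 2 ^ k)) with e' | e'
      · rw [e', mul_eq_one_iff_eq_inv] at h9
        exact hz (inv_mem_iff.mp (h9 ▸ npow_mem_zpowers c _))
      rcases k with _ | k
      · refine h.homo (c := c) (orderOf_eq_prime_pow (n := 1) (fun e => ?_) (by rw [e'] at h9; simpa using h9)) hcy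
          (eq_bot_iff.mpr fun x hx => ?_) (le_antisymm (sup_le (zpowers_le.mpr (hBT hc)) (zpowers_le.mpr hyT)) fun x hx => ?_)
        · rw [pow_one] at e
          rw [e, one_mul] at h7
          have h10 := td c
          rw [h7, ← conj_zpow, mul_inv_eq_iff_eq_mul.mpr h.ty.eq, eq_inv_iff_mul_eq_one, ← pow_two] at h10
          rw [h7] at h8
          exact h.z1 (h8.symm.trans h10)
        · obtain ⟨j, rfl⟩ := mem_zpowers_iff.mp hx.2
          rcases Int.even_or_odd' j with ⟨j, rfl | rfl⟩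
          · exact (hy1 _ hx.2 (by rw [y2, zi])).resolve_right fun e => hz (e ▸ hx.1)
          · refine absurd ?_ hz
            have := (zpowers c).mul_mem hx.1 hx.1
            rwa [← zpow_add, show 2 * j + 1 + (2 * j + 1) = 2 * j + 2 * j + 2 by ring, zpow_add, zpow_add, y2, zi, one_mul,
              zpow_two] at this
        · obtain ⟨n, i, rfl⟩ := h6 x hx
          exact mul_mem (mem_sup_left (zpow_mem_zpowers _ _)) (mem_sup_right (zpow_mem_zpowers _ _))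
      · refine h.z1 (e'.symm.trans ?_)
        rw [show i * 2 ^ (k + 1) = i * 2 ^ k + i * 2 ^ k by ring, zpow_add, zi]
  push Not at hα
  have ev : ∀ x ∈ (S : Subgroup G) ⊓ A, (∃ v ∈ I, t * x * t⁻¹ * x⁻¹ = v * v) → x ∈ I ∨ x * u ∈ I := by
    rintro x hx ⟨v, hv, e⟩
    obtain ⟨i, hi⟩ := mem_zpowers_iff.mp (cen _ (mul_mem (hBT hv.1) hx) (by
      rw [← conj_mul, hv.2, mul_inv_eq_iff_eq_mul.mp e]; group))
    obtain rfl : x = v⁻¹ * y ^ i := by rw [hi]; group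
    have h2 : ∀ i : ℤ, v⁻¹ * y ^ (2 * i) ∈ I := fun i => mul_mem (inv_mem hv) (y2 i ▸ zpow_mem (hb ▸ hzI) i)
    rcases Int.even_or_odd' i with ⟨i, rfl | rfl⟩
    · exact .inl (h2 i)
    · exact .inr (by convert mul_mem (h2 i) (yuI hyB) using 1; group)
  have evB : ∀ x ∈ (S : Subgroup G) ⊓ A, (∃ v ∈ I, t * x * t⁻¹ * x⁻¹ = v * v) → x ∈ B := fun x hx e =>
    (ev x hx e).elim (@hIB _) fun e => (mul_mem_cancel_right huB).mp (hIB e)
  have hB : ∀ x ∈ B, x ∈ I ∨ x * u ∈ I := fun x hx => ev x (hBT hx) (hα x hx)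
  by_cases hTB : (S : Subgroup G) ⊓ A ≤ B
  · refine h.kill (N := I) hyu (fun x hx => ?_) (fun x hx e => or_iff_not_imp_left.mpr (invI x hx e))
      fun x hx _ => (hB x (hTB hx)).imp_right fun e => by rwa [hui, (cB huB (hTB hx)).eq]
    rcases hB x (hTB hx) with e | e
    · exact mul_mem e e
    · convert mul_mem e e using 1
      rw [← pow_two, ← pow_two, (cB (hTB hx) huB).mul_pow, pow_two u, h.uu, mul_one]
  obtain ⟨r, hr, hrB, hr2, hrc⟩ := exists_central_mod hS inf_le_left nT hSB hTB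
  have hdr : t * r * t⁻¹ * r⁻¹ ∈ B := commutator_symm_mem (hrc t h.tS)
  obtain ⟨h2, h3⟩ := gen _ (dI' r hdr) fun e => hrB (evB r hr e)
  have cen2 : ∀ x ∈ (S : Subgroup G) ⊓ A, ∀ v, zpowers v = I → Commute v x → Commute u x → x ∈ B :=
    fun x hx v hv e1 e2 => sB x hx fun c hc => by
      have h5 : ∀ c ∈ I, Commute c x := fun c hc => by
        obtain ⟨i, rfl⟩ := mem_zpowers_iff.mp (hv ▸ hc : c ∈ zpowers v)
        exact e1.zpow_left i
      exact (hB c hc).elim (h5 c) fun e => by simpa [mul_assoc, h.uu] using (h5 _ e).mul_left e2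
  have hF : ∀ x ∈ (S : Subgroup G) ⊓ A, t * x * t⁻¹ * x⁻¹ ∈ B → x ∈ B ∨ x * r⁻¹ ∈ B := fun x hx e => by
    by_contra! e'
    obtain ⟨h5, h6⟩ := gen _ (dI' x e) fun e => e'.1 (evB x hx e)
    have hp := mul_mem hx (inv_mem hr)
    have h7 : t * (x * r⁻¹) * t⁻¹ * (x * r⁻¹)⁻¹ =
        (t * x * t⁻¹ * x⁻¹) * (x * r⁻¹ * (t * r * t⁻¹ * r⁻¹)⁻¹ * (x * r⁻¹)⁻¹) := by group
    have h8 : t * (x * r⁻¹) * t⁻¹ * (x * r⁻¹)⁻¹ ∈ B :=
      h7 ▸ mul_mem e (conj_mem_of_mem_normalizer (hSB hp.1) (inv_mem hdr))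
    obtain ⟨h9, h10⟩ := gen _ (dI' _ h8) fun e => e'.2 (evB _ hp e)
    have h11 := hzb _ h9 h10
    rw [h7, (cB e (conj_mem_of_mem_normalizer (hSB hp.1) (inv_mem hdr))).mul_pow, hzb _ h5 h6, conj_pow, inv_pow,
      hzb _ h2 h3, mul_eq_left] at h11
    exact conj_ne_one (inv_ne_one.mpr h.z1) _ h11
  have hT : ∀ x ∈ (S : Subgroup G) ⊓ A, x ∈ B ∨ x * r⁻¹ ∈ B := by
    have hle := commutator_sup_zpowers_le hSB (hSB hr.1) hrc
    by_contra! e
    obtain ⟨x, hx, e⟩ := e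
    obtain ⟨x, h5, h6, -, h7⟩ := exists_central_mod hS inf_le_left nT (le_normalizer_of_commutator_le le_sup_left hle)
      fun e' => (mem_sup_two (hSB hr.1) (pow_two r ▸ hr2) (e' hx)).elim e.1 e.2
    have h8 : t * x * t⁻¹ * x⁻¹ ∈ B ⊔ zpowers r := commutator_symm_mem (h7 t h.tS)
    have h9 : t * x * t⁻¹ * x⁻¹ ∈ (S : Subgroup G) ⊓ A := mul_mem (cT t h.tS x h5) (inv_mem h5)
    have h10 : t * x * t⁻¹ * x⁻¹ ∉ B := fun e => h6 ((hF x h5 e).elim mem_sup_left fun e =>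
      (mul_mem_cancel_right (inv_mem (mem_sup_right (mem_zpowers r)))).mp (mem_sup_left e))
    have h11 := commutator_symm_mem (hle (commutator_mem_commutator h8 h.tS))
    obtain ⟨h12, -⟩ := gen _ (dI' _ h11) fun e => h10 (evB _ h9 e)
    refine h10 (cen2 _ h9 _ h12 (by rw [td x]; exact (Commute.refl _).inv_left.mul_left (Commute.refl _).inv_left)
      (Commute.symm (mul_inv_eq_iff_eq_mul.mp ?_)))
    have k1 : ∀ g ∈ (S : Subgroup G), g * u * g⁻¹ = g⁻¹ * u * g := fun g hg => by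
      rcases h.uc g hg with e | e
      · calc _ = u := e
          _ = g⁻¹ * (g * u * g⁻¹) * g := by group
          _ = _ := by rw [e]
      · calc _ = u * (y * y) := e
          _ = g⁻¹ * (g * u * g⁻¹ * (g * (y * y) * g⁻¹)) * g := by group
          _ = _ := by rw [e, cz g hg, mul_assoc u, h.zz, mul_one]
    calc _ = t * x * t⁻¹ * x⁻¹ * u * (x * t * x⁻¹ * t⁻¹) := by group
      _ = (t * x) * ((x * t)⁻¹ * u * (x * t)) * (t * x)⁻¹ := by group
      _ = u := by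
        rw [← k1 _ (mul_mem h5.1 h.tS), show x * t * u * (x * t)⁻¹ = x * (t * u * t⁻¹) * x⁻¹ by group, h.tu,
          show t * x * (x * (u * (y * y)) * x⁻¹) * (t * x)⁻¹ =
            t * (x * (x * u * x⁻¹) * x⁻¹ * (x * (x * (y * y) * x⁻¹) * x⁻¹)) * t⁻¹ by group, cz x h5.1, cz x h5.1,
          k1 x h5.1, show x * (x⁻¹ * u * x) * x⁻¹ = u by group, ← conj_mul, h.tu, cz t h.tS, mul_assoc, h.zz, mul_one]
  have fB : ∀ x ∈ B, ∃ i : ℤ, x = (t * r * t⁻¹ * r⁻¹) ^ i ∨ x = (t * r * t⁻¹ * r⁻¹) ^ i * u := fun x hx => by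
    rcases hB x hx with e | e <;> obtain ⟨i, hi⟩ := mem_zpowers_iff.mp (h2 ▸ e : _ ∈ zpowers _)
    · exact ⟨i, .inl hi.symm⟩
    · exact ⟨i, .inr (by rw [hi, mul_assoc, h.uu, mul_one])⟩
  refine h.fin hyu h3 (hBT hdr) hr (by rw [td, zpow_neg_one]) (cB hdr huB) (h2 ▸ hb ▸ hzI) (by group) (fun x hx => ?_)
    (fB _ (pow_two r ▸ hr2)) (fun i => ⟨fun e => hrB (e ▸ zpow_mem hdr i), fun e => hrB (e ▸ mul_mem (zpow_mem hdr i) huB)⟩)
    fun e1 e2 => hrB (cen2 r hr _ h2 e1.symm e2.symm)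
  rcases hT x hx with e | e <;> obtain ⟨i, hi | hi⟩ := fB _ e
  · exact ⟨i, .inl hi⟩
  · exact ⟨i, .inr (.inl hi)⟩
  · exact ⟨i, .inr (.inr (.inl (mul_inv_eq_iff_eq_mul.mp hi)))⟩
  · exact ⟨i, .inr (.inr (.inr ((mul_inv_eq_iff_eq_mul.mp hi).trans (mul_assoc _ _ _))))⟩

end Cfsg.Agent.Z4
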